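import Cfsg.Agent.H4.CPiExtension
import Cfsg.Agent.H10.PSolvable
import Cfsg.Agent.H1.Cores

/-!
Hall subgroups of `π`-separable groups, given the odd order theorem.
-/

set_option autoImplicit false
set_option linter.style.haveILetI false

open Subgroup

namespace H72

universe u

/-- The chain condition. -/
def PiSep (π : Set ℕ) (G : Type u) [Group G] : Prop :=
  ∃ (n : ℕ) (H : Fin (n + 1) → Subgroup G), H 0 = ⊥ ∧ H (Fin.last n) = ⊤ ∧ Monotone H ∧ (∀ i, (H i).Normal) ∧
      ∀ i : Fin n, (∀ q : ℕ, q.Prime → q ∣ (H i.castSucc).relIndex (H i.succ) → q ∈ π) ∨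
        (∀ q : ℕ, q.Prime → q ∣ (H i.castSucc).relIndex (H i.succ) → q ∉ π)

variable {G : Type u} [Group G] [Finite G] {π : Set ℕ}

theorem relIndex_map_dvd_of_le {G' : Type u} [Group G'] (f : G →* G') {H K : Subgroup G} [H.Normal]
    (h : H ≤ K) : (H.map f).relIndex (K.map f) ∣ H.relIndex K := by
  rw [Subgroup.relIndex_map_map, show K ⊔ f.ker = K ⊔ (H ⊔ f.ker) by rw [← sup_assoc, sup_eq_left.mpr h],
    Subgroup.relIndex_sup_right]
  exact Subgroup.relIndex_dvd_of_le_left _ le_sup_left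

theorem PiSep.quotient (h : PiSep π G) (N : Subgroup G) [N.Normal] : PiSep π (G ⧸ N) := by
  obtain ⟨n, H, h0, hn, hmono, hnor, hstep⟩ := h
  refine ⟨n, fun i => (H i).map (QuotientGroup.mk' N), by simp only [h0, Subgroup.map_bot],
    by simp only [hn]; exact Subgroup.map_top_of_surjective _ (QuotientGroup.mk'_surjective N),
    fun i j hij => Subgroup.map_mono (hmono hij),
    fun i => (hnor i).map _ (QuotientGroup.mk'_surjective N), fun i => ?_⟩
  haveI := hnor i.castSucc
  have hd := relIndex_map_dvd_of_le (QuotientGroup.mk' N) (hmono (Fin.castSucc_lt_succ (i := i)).le)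
  exact (hstep i).imp (fun h q hq hqd => h q hq (hqd.trans hd)) (fun h q hq hqd => h q hq (hqd.trans hd))

theorem PiSep.exists_normal (h : PiSep π G) [Nontrivial G] :
    ∃ N : Subgroup G, N.Normal ∧ N ≠ ⊥ ∧
      ((∀ q : ℕ, q.Prime → q ∣ Nat.card N → q ∈ π) ∨ (∀ q : ℕ, q.Prime → q ∣ Nat.card N → q ∉ π)) := by
  classical
  obtain ⟨n, H, h0, hn, -, hnor, hstep⟩ := h
  obtain ⟨i, hi, hi'⟩ : ∃ i : Fin n, H i.castSucc = ⊥ ∧ H i.succ ≠ ⊥ := by
    by_contra hcon
    push Not at hcon
    have hall : ∀ j : Fin (n + 1), H j = ⊥ := fun j => Fin.induction h0 (fun i hi => hcon i hi) j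
    exact bot_ne_top ((hall _).symm.trans hn)
  refine ⟨H i.succ, hnor _, hi', ?_⟩
  have e : (H i.castSucc).relIndex (H i.succ) = Nat.card (H i.succ) := by rw [hi, Subgroup.relIndex_bot_left]
  have h2 := hstep i
  rwa [e] at h2

/-- A Hall subgroup of the quotient by a normal `π`-subgroup lifts. -/
theorem piHall_comap {N : Subgroup G} [N.Normal] (hN : ∀ q : ℕ, q.Prime → q ∣ Nat.card N → q ∈ π)
    {K : Subgroup (G ⧸ N)} (hK : Cfsg.IsPiHall π K) : Cfsg.IsPiHall π (K.comap (QuotientGroup.mk' N)) := by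
  refine ⟨fun q hq hd => ?_, fun q hq hqπ hd => hK.2 q hq hqπ ?_⟩
  · rw [H1.card_comap_mk'] at hd
    rcases hq.dvd_mul.mp hd with h1 | h1
    all_goals first | exact hN q hq h1 | exact hK.1 q hq h1
  · rwa [Subgroup.index_comap_of_surjective _ (QuotientGroup.mk'_surjective N)] at hd

/-- Existence and dominance of Hall subgroups in `π`-separable groups. -/
theorem piSep_hall (hFT : ∀ (H : Type u) [Group H] [Finite H], Odd (Nat.card H) → Group.IsSolvable H) :
    ∀ (n : ℕ) (G : Type u) [Group G] [Finite G], Nat.card G ≤ n → PiSep π G →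
      (∃ K : Subgroup G, Cfsg.IsPiHall π K) ∧
      ∀ (K U : Subgroup G), Cfsg.IsPiHall π K → (∀ q : ℕ, q.Prime → q ∣ Nat.card U → q ∈ π) →
        ∃ g : G, U.map (MulAut.conj g).toMonoidHom ≤ K := by
  classical
  intro n
  induction n with
  | zero => intro G _ _ hn; exact absurd (Nat.card_pos (α := G)) (by omega)
  | succ n ih =>
  intro G _ _ hn hsep
  rcases subsingleton_or_nontrivial G with hG | hG
  · refine ⟨⟨⊤, fun q hq hd => ?_, fun q hq _ hd => ?_⟩, fun K U _ _ => ⟨1, fun x _ => ?_⟩⟩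
    · rw [Subgroup.card_top, Nat.card_eq_one_iff_unique.mpr ⟨hG, inferInstance⟩, Nat.dvd_one] at hd
      exact absurd hd hq.ne_one
    · rw [Subgroup.index_top, Nat.dvd_one] at hd
      exact absurd hd hq.ne_one
    · rw [Subsingleton.elim x 1]
      exact one_mem _
  obtain ⟨N, hNn, hN1, hN⟩ := hsep.exists_normal
  haveI := hNn
  set f := QuotientGroup.mk' N with hf
  have hfs : Function.Surjective f := QuotientGroup.mk'_surjective N
  have hcard : Nat.card (G ⧸ N) ≤ n := by
    have := H10.card_quotient_lt N hN1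
    omega
  obtain ⟨⟨Kb, hKb⟩, hdom⟩ := ih (G ⧸ N) hcard (hsep.quotient N)
  have hUmap : ∀ U : Subgroup G, (∀ q : ℕ, q.Prime → q ∣ Nat.card U → q ∈ π) →
      ∀ q : ℕ, q.Prime → q ∣ Nat.card (U.map f) → q ∈ π :=
    fun U hU q hq hd => hU q hq (hd.trans (Subgroup.card_map_dvd _ _))
  have hmove : ∀ (K U : Subgroup G), Cfsg.IsPiHall π K → (∀ q : ℕ, q.Prime → q ∣ Nat.card U → q ∈ π) →
      ∃ g : G, U.map (MulAut.conj g).toMonoidHom ≤ K ⊔ N := by
    intro K U hK hU
    obtain ⟨gb, hgb⟩ := hdom (K.map f) (U.map f) (H4.map_piHall hK) (hUmap U hU)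
    obtain ⟨g, rfl⟩ := hfs gb
    refine ⟨g, ?_⟩
    rintro _ ⟨u, hu, rfl⟩
    have h1 : f (g * u * g⁻¹) ∈ K.map f := by
      rw [map_mul, map_mul, map_inv]
      exact hgb ⟨f u, ⟨u, hu, rfl⟩, rfl⟩
    have h2 : g * u * g⁻¹ ∈ (K.map f).comap f := h1
    rwa [Subgroup.comap_map_eq, hf, QuotientGroup.ker_mk'] at h2
  rcases hN with hN | hN
  · -- `N` is a `π`-group
    refine ⟨⟨_, piHall_comap hN hKb⟩, fun K U hK hU => ?_⟩
    obtain ⟨g, hg⟩ := hmove K U hK hU
    refine ⟨g, hg.trans (sup_le le_rfl ?_)⟩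
    -- `N` lies in every Hall subgroup
    have h2 : ∀ q : ℕ, q.Prime → ¬ q ∣ K.relIndex N := by
      intro q hq hd
      by_cases hqπ : q ∈ π
      · refine (H4.inf_piHall (A := N) hK).2.2 q hq hqπ ?_
        rwa [Subgroup.inf_relIndex_right]
      · exact hqπ (hN q hq (hd.trans (Subgroup.relIndex_dvd_card K N)))
    have h3 : K.relIndex N = 1 := Nat.eq_one_iff_not_exists_prime_dvd.mpr h2
    exact Subgroup.relIndex_eq_one.mp h3
  · -- `N` is a `π'`-group
    have hcopN : ∀ U : Subgroup G, (∀ q : ℕ, q.Prime → q ∣ Nat.card U → q ∈ π) →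
        (Nat.card N).Coprime (Nat.card U) := fun U hU => Nat.coprime_of_dvd fun q hq h1 h2 => hN q hq h1 (hU q hq h2)
    have hdisj : ∀ U : Subgroup G, (∀ q : ℕ, q.Prime → q ∣ Nat.card U → q ∈ π) → N ⊓ U = ⊥ := fun U hU =>
      Subgroup.inf_eq_bot_of_coprime (hcopN U hU)
    constructor
    · -- existence: a complement in the preimage
      set X := Kb.comap f with hX
      have hNX : N ≤ X := by
        intro x hx
        show f x ∈ Kb
        rw [(QuotientGroup.eq_one_iff x).mpr hx |> (fun h => (show f x = 1 from h))]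
        exact one_mem _
      have hidx : (N.subgroupOf X).index = Nat.card Kb := by
        have h1 := H1.card_comap_mk' N Kb
        rw [← hf, ← hX, ← H4.card_mul_relIndex_eq hNX] at h1
        show N.relIndex X = _
        refine Nat.eq_of_mul_eq_mul_left (Nat.card_pos (α := N)) (h1.trans ?_)
        first | rfl | exact mul_comm _ _
      obtain ⟨C, hC⟩ := Subgroup.exists_right_complement'_of_coprime (N := N.subgroupOf X) (by
        rw [hidx, Nat.card_congr (Subgroup.subgroupOfEquivOfLe hNX).toEquiv]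
        exact Nat.coprime_of_dvd fun q hq h1 h2 => hN q hq h1 (hKb.1 q hq h2))
      have hCc : Nat.card C = Nat.card Kb := by rw [← hidx, hC.symm.index_eq_card]
      refine ⟨C.map X.subtype, fun q hq hd => ?_, fun q hq hqπ hd => ?_⟩
      · rw [Subgroup.card_map_of_injective X.subtype_injective, hCc] at hd
        exact hKb.1 q hq hd
      · rw [← Subgroup.relIndex_mul_index (Subgroup.map_subtype_le C : C.map X.subtype ≤ X),
          Subgroup.relIndex, show (C.map X.subtype).subgroupOf X = C from Subgroup.comap_map_eq_self_of_injective X.subtype_injective C,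
          hC.index_eq_card,
          Nat.card_congr (Subgroup.subgroupOfEquivOfLe hNX).toEquiv] at hd
        rcases hq.dvd_mul.mp hd with h1 | h1
        · exact hN q hq h1 hqπ
        · refine hKb.2 q hq hqπ ?_
          rwa [hX, Subgroup.index_comap_of_surjective _ hfs] at h1
    · intro K U hK hU
      obtain ⟨g, hg⟩ := hmove K U hK hU
      set U₁ := U.map (MulAut.conj g).toMonoidHom with hU₁
      have hU₁π : ∀ q : ℕ, q.Prime → q ∣ Nat.card U₁ → q ∈ π := fun q hq hd => hU q hq (by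
        rwa [hU₁, Subgroup.card_map_of_injective (f := (MulAut.conj g).toMonoidHom) (MulAut.conj g).injective] at hd)
      set M := U₁ ⊔ N with hM
      set K₁ := K ⊓ M with hK₁
      have hK₁π : ∀ q : ℕ, q.Prime → q ∣ Nat.card K₁ → q ∈ π := fun q hq hd =>
        hK.1 q hq (hd.trans (Subgroup.card_dvd_of_le inf_le_left))
      have hsup : N ⊔ K₁ = M := by
        refine le_antisymm (sup_le le_sup_right inf_le_right) (sup_le ?_ le_sup_left)
        intro u hu
        have h1 : u ∈ K ⊔ N := hg hu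
        rw [← SetLike.mem_coe, Subgroup.mul_normal] at h1
        obtain ⟨k, hk, m, hm, hkm⟩ := h1
        have hkM : k ∈ M := by
          rw [show k = u * m⁻¹ by rw [← hkm]; simp]
          exact mul_mem (Subgroup.mem_sup_left hu) (Subgroup.mem_sup_right (inv_mem hm))
        rw [← hkm]
        exact mul_mem (Subgroup.mem_sup_right ⟨hk, hkM⟩) (Subgroup.mem_sup_left hm)
      have hcompl : ∀ V : Subgroup G, (∀ q : ℕ, q.Prime → q ∣ Nat.card V → q ∈ π) → N ⊔ V = M →
          IsComplement' (N.subgroupOf M) (V.subgroupOf M) := by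
        intro V hV hVM
        have hNM : N ≤ M := le_sup_right
        have hVM' : V ≤ M := hVM ▸ le_sup_right
        refine Subgroup.isComplement'_of_disjoint_and_mul_eq_univ (disjoint_iff.mpr ?_) ?_
        · rw [show N.subgroupOf M ⊓ V.subgroupOf M = (N ⊓ V).subgroupOf M from rfl]
          rw [hdisj V hV, Subgroup.bot_subgroupOf]
        · rw [← Subgroup.normal_mul, ← Subgroup.subgroupOf_sup hNM hVM', hVM, Subgroup.subgroupOf_self,
            Subgroup.coe_top]
      have hcU := hcompl U₁ hU₁π (by rw [hM, sup_comm])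
      have hcK := hcompl K₁ hK₁π hsup
      obtain ⟨m, hm⟩ := H4.complements_conj_of_coprime hFT (N.subgroupOf M) (by
        rw [hcU.symm.index_eq_card, Nat.card_congr (Subgroup.subgroupOfEquivOfLe (le_sup_right : N ≤ M)).toEquiv,
          Nat.card_congr (Subgroup.subgroupOfEquivOfLe (le_sup_left : U₁ ≤ M)).toEquiv]
        exact hcopN U₁ hU₁π) _ _ hcU hcK
      refine ⟨(m : G) * g, ?_⟩
      rintro _ ⟨u, hu, rfl⟩
      have hu₁ : g * u * g⁻¹ ∈ U₁ := ⟨u, hu, rfl⟩
      have h1 : (MulAut.conj m • ⟨g * u * g⁻¹, Subgroup.mem_sup_left hu₁⟩ : M) ∈ K₁.subgroupOf M := by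
        rw [← hm]
        exact Subgroup.smul_mem_pointwise_smul _ _ _ (Subgroup.mem_subgroupOf.mpr hu₁)
      have h2 : (m : G) * (g * u * g⁻¹) * (m : G)⁻¹ ∈ K₁ := Subgroup.mem_subgroupOf.mp h1
      show (m : G) * g * u * ((m : G) * g)⁻¹ ∈ K
      rw [show (m : G) * g * u * ((m : G) * g)⁻¹ = (m : G) * (g * u * g⁻¹) * (m : G)⁻¹ by group]
      exact h2.1

/-- Hall's theorem for `π`-separable groups, given the odd order theorem. -/
theorem piSep_hall_theorem (hFT : ∀ (H : Type u) [Group H] [Finite H], Odd (Nat.card H) → Group.IsSolvable H)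
    (hsep : PiSep π G) :
    (∃ K : Subgroup G, Cfsg.IsPiHall π K) ∧
      (∀ K L : Subgroup G, Cfsg.IsPiHall π K → Cfsg.IsPiHall π L → ∃ g : G, L = K.map (MulAut.conj g).toMonoidHom) ∧
      ∀ U : Subgroup G, (∀ q : ℕ, q.Prime → q ∣ Nat.card U → q ∈ π) → ∃ K : Subgroup G, Cfsg.IsPiHall π K ∧ U ≤ K := by
  obtain ⟨⟨K, hK⟩, hdom⟩ := piSep_hall hFT (Nat.card G) G le_rfl hsep
  refine ⟨⟨K, hK⟩, fun K L hK hL => ?_, fun U hU => ?_⟩
  · obtain ⟨g, hg⟩ := hdom L K hL hK.1
    obtain ⟨g', hg'⟩ := hdom K L hK hL.1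
    refine ⟨g, (Subgroup.eq_of_le_of_card_ge hg ?_).symm⟩
    rw [Subgroup.card_map_of_injective (f := (MulAut.conj g).toMonoidHom) (MulAut.conj g).injective]
    have h1 := Subgroup.card_le_of_le hg'
    rwa [Subgroup.card_map_of_injective (f := (MulAut.conj g').toMonoidHom) (MulAut.conj g').injective] at h1
  · obtain ⟨g, hg⟩ := hdom K U hK hU
    refine ⟨K.map (MulAut.conj g⁻¹).toMonoidHom, H4.piHall_map_equiv π (MulAut.conj g⁻¹) hK, fun u hu => ?_⟩
    exact ⟨g * u * g⁻¹, hg ⟨u, hu, rfl⟩, by simp [mul_assoc]⟩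

end H72
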