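/-
`P ∩ O_{p',p}(G)` for a Sylow subgroup `P`: Frattini factorisation and fusion control.
-/
import Cfsg.Prelude.Def_Local
import Cfsg.Agent.H10.PSolvable
import Cfsg.Agent.H16.CoprimeCoset

set_option autoImplicit false
open Cfsg

namespace H72

variable {G : Type*} [Group G] {p : ℕ}

/-- `S ∩ O_{p',p}(G)` -/
def sylCore (S : Sylow p G) : Subgroup G := (S : Subgroup G) ⊓ Cfsg.pPrimePCore p G

theorem inf_pPrimeCore_eq_bot [Finite G] [Fact p.Prime] {Q : Subgroup G} (hQ : IsPGroup p Q) :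
    Q ⊓ Cfsg.pPrimeCore p G = ⊥ :=
  H10.inf_eq_bot_of_isPGroup_coprime hQ H10.pPrimeCore_coprime

theorem pPrimePCore_le_sup [Finite G] [Fact p.Prime] (S : Sylow p G) :
    Cfsg.pPrimePCore p G ≤ Cfsg.pPrimeCore p G ⊔ sylCore S := by
  intro x hx
  have hsur := QuotientGroup.mk'_surjective (Cfsg.pPrimeCore p G)
  have hle := H10.pCore_le_sylow (p := p) (G := G ⧸ Cfsg.pPrimeCore p G) (S.mapSurjective hsur)
  obtain ⟨y, hy, hyx⟩ := hle (Subgroup.mem_comap.mp hx)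
  have hd : x * y⁻¹ ∈ Cfsg.pPrimeCore p G := by
    rw [← QuotientGroup.ker_mk' (Cfsg.pPrimeCore p G), MonoidHom.mem_ker, map_mul, map_inv, hyx,
      mul_inv_cancel]
  have hyH : y ∈ Cfsg.pPrimePCore p G := by
    have h1 := mul_mem (inv_mem (H10.pPrimeCore_le_pPrimePCore hd)) hx
    simpa using h1
  have h2 := Subgroup.mul_mem_sup (T := sylCore S) hd ⟨hy, hyH⟩
  simpa using h2

/-- `S ∩ O_{p',p}(G)` is a Sylow subgroup of `O_{p',p}(G)`. -/
theorem sylCore_sylow [Finite G] [Fact p.Prime] (S : Sylow p G) :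
    ¬ p ∣ (sylCore S).relIndex (Cfsg.pPrimePCore p G) := by
  intro h
  have hsup : Cfsg.pPrimeCore p G ⊔ sylCore S = Cfsg.pPrimePCore p G :=
    le_antisymm (sup_le H10.pPrimeCore_le_pPrimePCore inf_le_right) (pPrimePCore_le_sup S)
  have h1 := H10.card_sup_dvd_mul (Cfsg.pPrimeCore p G) (sylCore S)
  rw [hsup, ← Subgroup.relIndex_bot_left, ← Subgroup.relIndex_mul_relIndex _ _ _ bot_le
    (show sylCore S ≤ Cfsg.pPrimePCore p G from inf_le_right), Subgroup.relIndex_bot_left,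
    mul_comm (Nat.card ↥(Cfsg.pPrimeCore p G))] at h1
  exact H10.coprime_iff_not_dvd.mp H10.pPrimeCore_coprime
    (h.trans (Nat.dvd_of_mul_dvd_mul_left Nat.card_pos h1))

theorem normalizer_sylCore_sup [Finite G] [Fact p.Prime] (S : Sylow p G) :
    Subgroup.normalizer (sylCore S : Set G) ⊔ Cfsg.pPrimeCore p G = ⊤ := by
  have : (Cfsg.pPrimePCore p G).Normal := H10.pPrimePCore_normal
  have hp : IsPGroup p ((sylCore S).subgroupOf (Cfsg.pPrimePCore p G)) :=
    IsPGroup.of_equiv (S.2.to_le inf_le_left) (Subgroup.subgroupOfEquivOfLe inf_le_right).symm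
  have h := Sylow.normalizer_sup_eq_top (hp.toSylow (sylCore_sylow S))
  erw [IsPGroup.toSylow_coe, Subgroup.subgroupOf_map_subtype,
    inf_of_le_left (show sylCore S ≤ Cfsg.pPrimePCore p G from inf_le_right)] at h
  refine top_le_iff.mp (h.ge.trans (sup_le le_sup_left ?_))
  exact (pPrimePCore_le_sup S).trans (sup_le le_sup_right (Subgroup.le_normalizer.trans le_sup_left))

theorem sylow_le_normalizer_sylCore (S : Sylow p G) :
    (S : Subgroup G) ≤ Subgroup.normalizer (sylCore S : Set G) := by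
  intro s hs
  have : (Cfsg.pPrimePCore p G).Normal := H10.pPrimePCore_normal
  rw [Subgroup.mem_normalizer_iff]
  intro h
  constructor
  · intro hh
    obtain ⟨h1, h2⟩ := Subgroup.mem_inf.mp hh
    exact Subgroup.mem_inf.mpr ⟨mul_mem (mul_mem hs h1) (inv_mem hs), this.conj_mem _ h2 _⟩
  · intro hh
    obtain ⟨h1, h2⟩ := Subgroup.mem_inf.mp hh
    have e : h = s⁻¹ * (s * h * s⁻¹) * s⁻¹⁻¹ := by group
    rw [e]
    exact Subgroup.mem_inf.mpr ⟨mul_mem (mul_mem (inv_mem hs) h1) (inv_mem (inv_mem hs)), this.conj_mem _ h2 _⟩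

/-- Elements of `O_{p'}(G)` normalising `S ∩ O_{p',p}(G)` centralise it. -/
theorem pPrimeCore_inf_normalizer_le [Finite G] [Fact p.Prime] (S : Sylow p G) :
    Cfsg.pPrimeCore p G ⊓ Subgroup.normalizer (sylCore S : Set G) ≤
      Subgroup.centralizer (sylCore S : Set G) := by
  rintro d ⟨hd, hn⟩
  refine Subgroup.mem_centralizer_iff.mpr fun h hh => ?_
  have h1 : d * h * d⁻¹ * h⁻¹ ∈ sylCore S :=
    mul_mem ((Subgroup.mem_normalizer_iff.mp hn h).mp hh) (inv_mem hh)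
  have h2 : d * h * d⁻¹ * h⁻¹ ∈ Cfsg.pPrimeCore p G := by
    have : d * h * d⁻¹ * h⁻¹ = d * (h * d⁻¹ * h⁻¹) := by group
    rw [this]
    exact mul_mem hd (H10.pPrimeCore_normal.conj_mem _ (inv_mem hd) h)
  have h3 := Subgroup.mem_bot.mp ((inf_pPrimeCore_eq_bot (S.2.to_le inf_le_left)) ▸
    Subgroup.mem_inf.mpr ⟨h1, h2⟩ : d * h * d⁻¹ * h⁻¹ ∈ (⊥ : Subgroup G))
  rw [mul_inv_eq_one, mul_inv_eq_iff_eq_mul] at h3
  exact h3.symm

/-- A `p`-element of `N = N_G(S ∩ O_{p',p})` and an `O_{p'}`-conjugate of it in `N`. -/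
theorem pPrimeCore_conj_factor [Finite G] [Fact p.Prime] (S : Sylow p G) (y : G)
    (hy : y ∈ Subgroup.normalizer (sylCore S : Set G)) (hyp : ∃ k : ℕ, orderOf y = p ^ k)
    (d : G) (hd : d ∈ Cfsg.pPrimeCore p G)
    (hdy : d⁻¹ * y * d ∈ Subgroup.normalizer (sylCore S : Set G)) :
    ∃ d₁ ∈ Cfsg.pPrimeCore p G ⊓ Subgroup.centralizer ({y} : Set G),
      ∃ d₂ ∈ Cfsg.pPrimeCore p G ⊓ Subgroup.centralizer (sylCore S : Set G), d = d₁ * d₂ := by
  set N := Subgroup.normalizer (sylCore S : Set G) with hN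
  obtain ⟨k, hk⟩ := hyp
  let x : N := ⟨y, hy⟩
  let K : Subgroup N := (Cfsg.pPrimeCore p G).subgroupOf N
  have hKc : (Nat.card K).Coprime p :=
    Nat.Coprime.of_dvd_left (Subgroup.card_comap_dvd_of_injective _ N.subtype
      N.subtype_injective) H10.pPrimeCore_coprime
  have hx : Nat.Coprime (orderOf x) (Nat.card K) := by
    rw [show orderOf x = p ^ k from (Subgroup.orderOf_coe x).symm.trans hk]
    exact (hKc.symm).pow_left k
  have hk0 : d⁻¹ * y * d * y⁻¹ ∈ Cfsg.pPrimeCore p G := by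
    have : d⁻¹ * y * d * y⁻¹ = d⁻¹ * (y * d * y⁻¹) := by group
    rw [this]
    exact mul_mem (inv_mem hd) (H10.pPrimeCore_normal.conj_mem _ hd y)
  obtain ⟨c, hc, w, hw, hwx, he⟩ := H16.coset_conj_to_centralizer K x hx
    ⟨d⁻¹ * y * d * y⁻¹, mul_mem hdy (inv_mem hy)⟩ hk0
  have he' : (c : G) * ((w : G) * y) * (c : G)⁻¹ = d⁻¹ * y * d := by
    have := congrArg Subtype.val he
    simpa [x, mul_assoc] using this
  have hw1 : w = 1 := by
    have hdp : (d⁻¹ * y * d) ^ p ^ k = 1 := by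
      have hy1 : y ^ p ^ k = 1 := hk ▸ pow_orderOf_eq_one y
      have : d⁻¹ * y * d = d⁻¹ * y * d⁻¹⁻¹ := by rw [inv_inv]
      rw [this, conj_pow, hy1]; group
    have h0 : (w : G) ^ p ^ k = 1 := by
      have hwy : Commute (w : G) y := congrArg Subtype.val hwx
      rw [← he', conj_pow, hwy.mul_pow, ← hk, pow_orderOf_eq_one, hk, mul_one] at hdp
      simpa using hdp
    have h1 : orderOf w ∣ p ^ k := orderOf_dvd_of_pow_eq_one (Subtype.ext (by simpa using h0))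
    have h2 : orderOf w ∣ Nat.card K := Subgroup.orderOf_dvd_natCard K hw
    exact orderOf_eq_one_iff.mp
      (Nat.eq_one_of_dvd_coprimes (hKc.pow_right k) h2 h1)
  subst hw1
  simp only [OneMemClass.coe_one, one_mul] at he'
  refine ⟨d * (c : G), Subgroup.mem_inf.mpr ⟨mul_mem hd hc, Subgroup.mem_centralizer_singleton_iff.mpr ?_⟩,
    (c : G)⁻¹, Subgroup.mem_inf.mpr ⟨inv_mem hc, inv_mem (pPrimeCore_inf_normalizer_le S ⟨hc, c.2⟩)⟩, by group⟩
  calc d * (c : G) * y = d * ((c : G) * y * (c : G)⁻¹) * (c : G) := by group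
    _ = d * (d⁻¹ * y * d) * (c : G) := by rw [he']
    _ = y * (d * (c : G)) := by group

/-- `N_G(S ∩ O_{p',p})` controls fusion of elements of `S`. -/
theorem normalizer_sylCore_fusion [Finite G] [Fact p.Prime] (S : Sylow p G) (x y : G)
    (hx : x ∈ (S : Subgroup G)) (hy : y ∈ (S : Subgroup G)) (h : IsConj x y) :
    ∃ n ∈ Subgroup.normalizer (sylCore S : Set G), n * x * n⁻¹ = y := by
  obtain ⟨g, rfl⟩ := isConj_iff.mp h
  have := H10.pPrimeCore_normal (G := G) (p := p)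
  obtain ⟨n, hn, d, hd, rfl⟩ := Subgroup.mem_sup_of_normal_right.mp
    ((normalizer_sylCore_sup S).ge (Subgroup.mem_top g))
  set N := Subgroup.normalizer (sylCore S : Set G)
  have hxN : x ∈ N := sylow_le_normalizer_sylCore S hx
  have hdx : d * x * d⁻¹ ∈ N := by
    have : d * x * d⁻¹ = n⁻¹ * (n * d * x * (n * d)⁻¹) * n := by group
    rw [this]
    exact mul_mem (mul_mem (inv_mem hn) (sylow_le_normalizer_sylCore S hy)) hn
  have hxp : ∃ k : ℕ, orderOf x = p ^ k := by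
    obtain ⟨k, hk⟩ := IsPGroup.iff_orderOf.mp S.2 ⟨x, hx⟩
    exact ⟨k, (Subgroup.orderOf_coe _).trans hk⟩
  obtain ⟨d₁, hd₁, d₂, hd₂, e⟩ := pPrimeCore_conj_factor S x hxN hxp d⁻¹ (inv_mem hd)
    (by simpa using hdx)
  refine ⟨n * d₂⁻¹, mul_mem hn (inv_mem ?_), ?_⟩
  · refine Subgroup.mem_normalizer_iff.mpr fun h => ?_
    have hcc := Subgroup.mem_centralizer_iff.mp hd₂.2
    constructor
    · intro hh; rwa [← hcc h hh, mul_inv_cancel_right]
    · intro hh
      have : d₂ * (d₂ * h * d₂⁻¹) = d₂ * h * d₂⁻¹ * d₂ := (hcc _ hh).symm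
      rw [inv_mul_cancel_right] at this
      rwa [mul_left_cancel this] at hh
  · have hd₁' := Subgroup.mem_centralizer_singleton_iff.mp hd₁.2
    have ed : d = d₂⁻¹ * d₁⁻¹ := by rw [← mul_inv_rev, ← e, inv_inv]
    have e1 : d₁⁻¹ * x * d₁ = x := by rw [mul_assoc, ← hd₁']; group
    calc n * d₂⁻¹ * x * (n * d₂⁻¹)⁻¹ = n * d₂⁻¹ * (d₁⁻¹ * x * d₁) * (n * d₂⁻¹)⁻¹ := by rw [e1]
      _ = n * d * x * (n * d)⁻¹ := by rw [ed]; group

end H72
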