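/-
A `p'`-subgroup invariant under an element with small centralizer on `O_p` is trivial.
-/
import Mathlib
import Cfsg.Agent.CompBasic
import Cfsg.Agent.H1.Cores
import Cfsg.Agent.H80.Detect

set_option autoImplicit false
set_option linter.style.haveILetI false

namespace H72

open Subgroup

/-- If `b` has order dividing `p` and is fixed point free on the `p'`-group `Q`, and its orbit
products on `V` are trivial, then every fixed point of `b` is fixed by `Q`. -/
theorem fixed_of_orbit_prod {G : Type*} [Group G] [Finite G] {p : ℕ} [Fact p.Prime] {V : Type*} [CommGroup V]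
    (ψ : G →* MulAut V) (Q : Subgroup G) (hQ : ¬ p ∣ Nat.card Q) (b : G)
    (hbQ : ∀ q ∈ Q, b * q * b⁻¹ ∈ Q) (hbp : b ^ p = 1) (hfpf : ∀ q ∈ Q, b * q = q * b → q = 1)
    (hV : ∀ x : V, x ^ p = 1) (hs : ∀ x : V, ∏ i ∈ Finset.range p, ψ (b ^ i) x = 1)
    (v : V) (hv : ψ b v = v) : ∀ q ∈ Q, ψ q v = v := by
  classical
  haveI : Fintype Q := Fintype.ofFinite Q
  have hp := (Fact.out : p.Prime)
  set Φ := ∏ q : Q, ψ (q : G) v with hΦ
  have hbiv : ∀ i : ℕ, ψ (b ^ i) v = v := by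
    intro i
    induction i with
    | zero => simp
    | succ i ih => rw [pow_succ', map_mul, MulAut.mul_apply, ih, hv]
  have hbi : ∀ (i : ℕ) (q : G), q ∈ Q → b ^ i * q * (b ^ i)⁻¹ ∈ Q := by
    intro i
    induction i with
    | zero => intro q hq; simpa using hq
    | succ i ih =>
      intro q hq
      rw [show b ^ (i + 1) * q * (b ^ (i + 1))⁻¹ = b * (b ^ i * q * (b ^ i)⁻¹) * b⁻¹ by rw [pow_succ']; group]
      exact hbQ _ (ih q hq)
  have hterm : ∀ (i : ℕ) (q : G), ψ (b ^ i) (ψ q v) = ψ (b ^ i * q * (b ^ i)⁻¹) v := by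
    intro i q
    conv_rhs => rw [map_mul, map_mul, map_inv, MulAut.mul_apply, MulAut.mul_apply]
    have : (ψ (b ^ i))⁻¹ v = v := by
      conv_lhs => rw [← hbiv i]
      exact MulAut.inv_apply_self _ _ _
    rw [this]
  have hsum : ∀ i ∈ Finset.range p, ∏ q : Q, ψ (q : G)⁻¹ (ψ (b ^ i) (ψ (q : G) v)) =
      if i = 0 then v ^ Nat.card Q else Φ := by
    intro i hi
    by_cases h0 : i = 0
    · subst h0
      rw [if_pos rfl]
      simp [MulAut.inv_apply_self, Finset.prod_const, Nat.card_eq_fintype_card]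
    rw [if_neg h0]
    let f : Q → Q := fun q => ⟨(q : G)⁻¹ * (b ^ i * q * (b ^ i)⁻¹), Q.mul_mem (Q.inv_mem q.2) (hbi i _ q.2)⟩
    have hf : Function.Bijective f := by
      refine Finite.injective_iff_bijective.mp fun q₁ q₂ h => ?_
      have h' : (q₁ : G)⁻¹ * (b ^ i * q₁ * (b ^ i)⁻¹) = (q₂ : G)⁻¹ * (b ^ i * q₂ * (b ^ i)⁻¹) :=
        congrArg Subtype.val h
      have h1 : Commute (b ^ i) ((q₂ : G) * (q₁ : G)⁻¹) := by
        show b ^ i * ((q₂ : G) * (q₁ : G)⁻¹) = (q₂ : G) * (q₁ : G)⁻¹ * b ^ i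
        calc b ^ i * ((q₂ : G) * (q₁ : G)⁻¹)
            = (q₂ : G) * ((q₂ : G)⁻¹ * (b ^ i * q₂ * (b ^ i)⁻¹)) * (b ^ i * q₁ * (b ^ i)⁻¹)⁻¹ * b ^ i := by group
          _ = (q₂ : G) * ((q₁ : G)⁻¹ * (b ^ i * q₁ * (b ^ i)⁻¹)) * (b ^ i * q₁ * (b ^ i)⁻¹)⁻¹ * b ^ i := by rw [h']
          _ = (q₂ : G) * (q₁ : G)⁻¹ * b ^ i := by group
      -- `b` is a power of `b ^ i`
      have hip : i.Coprime p := Nat.Coprime.symm (hp.coprime_iff_not_dvd.mpr fun hd => by
        have := Nat.le_of_dvd (Nat.pos_of_ne_zero h0) hd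
        have := Finset.mem_range.mp hi
        omega)
      obtain ⟨m, hm⟩ := Nat.exists_mul_mod_eq_one_of_coprime hip hp.one_lt |> fun ⟨m, hm⟩ =>
        (⟨m, hm.2⟩ : ∃ m, i * m % p = 1)
      have hb : b = (b ^ i) ^ m := by
        rw [← pow_mul]
        conv_rhs => rw [← Nat.mod_add_div (i * m) p, hm, pow_add, pow_mul, hbp, one_pow, mul_one, pow_one]
      have h2 : b * ((q₂ : G) * (q₁ : G)⁻¹) = (q₂ : G) * (q₁ : G)⁻¹ * b := by
        rw [hb]; exact (h1.pow_left m).eq
      exact Subtype.ext (mul_inv_eq_one.mp (hfpf _ (Q.mul_mem q₂.2 (Q.inv_mem q₁.2)) h2)).symm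
    refine (Finset.prod_congr rfl fun q _ => ?_).trans (Equiv.prod_comp (Equiv.ofBijective f hf) fun q : Q => ψ (q : G) v)
    rw [hterm, ← MulAut.mul_apply, ← map_mul]
    rfl
  have h1 : ∏ i ∈ Finset.range p, (∏ q : Q, ψ (q : G)⁻¹ (ψ (b ^ i) (ψ (q : G) v))) = 1 := by
    rw [Finset.prod_comm]
    exact Finset.prod_eq_one fun q _ => by rw [← map_prod, hs, map_one]
  rw [Finset.prod_congr rfl hsum] at h1
  obtain ⟨p', hp'⟩ : ∃ p', p = p' + 1 := ⟨p - 1, by have := hp.pos; omega⟩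
  rw [hp', Finset.prod_range_succ'] at h1
  simp only [Nat.succ_ne_zero, if_false, if_true, Finset.prod_const, Finset.card_range] at h1
  have hΦp : Φ ^ p' * Φ = 1 := by rw [← pow_succ, ← hp']; exact hV Φ
  have h2 : v ^ Nat.card Q = Φ := mul_left_cancel (h1.trans hΦp.symm)
  intro q hq
  have hfix : ψ q Φ = Φ := by
    rw [hΦ, map_prod]
    refine (Finset.prod_congr rfl fun r _ => ?_).trans (Equiv.prod_comp (Equiv.mulLeft (⟨q, hq⟩ : Q)) fun r : Q => ψ (r : G) v)
    rw [← MulAut.mul_apply, ← map_mul]; rfl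
  have h3 : (ψ q v) ^ Nat.card Q = v ^ Nat.card Q := by rw [← map_pow, h2, hfix]
  have hcop : (Nat.card Q).Coprime p := ((Fact.out : p.Prime).coprime_iff_not_dvd.mpr hQ).symm
  have h4 : (ψ q v / v) ^ Nat.card Q = 1 := by rw [div_pow, h3, div_self']
  exact div_eq_one.mp (orderOf_eq_one_iff.mp (Nat.eq_one_of_dvd_coprimes hcop
    (orderOf_dvd_of_pow_eq_one h4) (orderOf_dvd_of_pow_eq_one (hV _))))

/-- An element of order dividing `p` fixes a non-trivial point of an invariant nontrivial subgroup. -/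
theorem exists_fixed_ne_one {G : Type*} [Group G] {p : ℕ} [Fact p.Prime] {V : Type*} [CommGroup V] [Finite V]
    (ψ : G →* MulAut V) (b : G) (hbp : b ^ p = 1) (hV : ∀ x : V, x ^ p = 1) (K : Subgroup V)
    (hK : ∀ x ∈ K, ψ b x ∈ K) (hne : K ≠ ⊥) : ∃ k ∈ K, k ≠ 1 ∧ ψ b k = k := by
  have hpow : ∀ i : ℕ, ∀ x ∈ K, ψ (b ^ i) x ∈ K := by
    intro i
    induction i with
    | zero => intro x hx; simpa using hx
    | succ i ih => intro x hx; rw [pow_succ', map_mul, MulAut.mul_apply]; exact hK _ (ih x hx)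
  have hz : ∀ c : zpowers (ψ b), ∀ x ∈ K, (c : MulAut V) x ∈ K := by
    rintro ⟨c, hc⟩ x hx
    have hfo : IsOfFinOrder (ψ b) := isOfFinOrder_iff_pow_eq_one.mpr
      ⟨p, (Fact.out : p.Prime).pos, by rw [← map_pow, hbp, map_one]⟩
    obtain ⟨i, rfl⟩ := Submonoid.mem_powers_iff _ _ |>.mp (hfo.mem_powers_iff_mem_zpowers.mpr hc)
    show (ψ b ^ i) x ∈ K
    rw [← map_pow]; exact hpow i x hx
  letI : MulAction (zpowers (ψ b)) K :=
    { smul := fun c x => ⟨(c : MulAut V) x, hz c x x.2⟩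
      one_smul := fun x => Subtype.ext rfl
      mul_smul := fun c d x => Subtype.ext rfl }
  have hp' : IsPGroup p (zpowers (ψ b)) := by
    rintro ⟨_, i, rfl⟩
    refine ⟨1, Subtype.ext ?_⟩
    show (ψ b ^ i) ^ p ^ 1 = 1
    rw [pow_one, ← zpow_natCast, ← zpow_mul, mul_comm, zpow_mul, zpow_natCast, ← map_pow, hbp, map_one, one_zpow]
  have hKp : IsPGroup p K := fun x => ⟨1, Subtype.ext (by rw [SubmonoidClass.coe_pow, pow_one]; exact hV _)⟩
  haveI : Nontrivial K := (nontrivial_iff_ne_bot K).mpr hne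
  obtain ⟨m, hm, hcard⟩ := hKp.nontrivial_iff_card.mp inferInstance
  obtain ⟨k, hk, hk1⟩ := hp'.exists_fixed_point_of_prime_dvd_card_of_fixed_point K (hcard ▸ dvd_pow_self p hm.ne')
    (show (1 : K) ∈ MulAction.fixedPoints (zpowers (ψ b)) K from fun c => Subtype.ext (map_one (c : MulAut V)))
  exact ⟨k, k.2, fun h => hk1 (Subtype.ext h.symm), congrArg Subtype.val (hk ⟨ψ b, mem_zpowers _⟩)⟩

/-- If every fixed point of `b` is fixed by `Q`, then `Q` acts trivially. -/
theorem trivial_of_fixed {G : Type*} [Group G] [Finite G] {p : ℕ} [Fact p.Prime] {V : Type*} [CommGroup V] [Finite V]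
    (ψ : G →* MulAut V) (Q : Subgroup G) (hQ : ¬ p ∣ Nat.card Q) (b : G)
    (hbQ : ∀ q ∈ Q, b * q * b⁻¹ ∈ Q) (hbp : b ^ p = 1) (hV : ∀ x : V, x ^ p = 1)
    (hfix : ∀ v : V, ψ b v = v → ∀ q ∈ Q, ψ q v = v) : ∀ v : V, ∀ q ∈ Q, ψ q v = v := by
  classical
  haveI : Fintype Q := Fintype.ofFinite Q
  set n := Nat.card Q with hn
  let φ : V →* V :=
    { toFun := fun x => ∏ q : Q, ψ (q : G) x
      map_one' := by simp
      map_mul' := fun x y => by simp [Finset.prod_mul_distrib] }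
  have hφ : ∀ x, φ x = ∏ q : Q, ψ (q : G) x := fun _ => rfl
  have hφfix : ∀ x, ∀ q ∈ Q, ψ q (φ x) = φ x := by
    intro x q hq
    rw [hφ, map_prod]
    refine (Finset.prod_congr rfl fun r _ => ?_).trans (Equiv.prod_comp (Equiv.mulLeft (⟨q, hq⟩ : Q)) fun r : Q => ψ (r : G) x)
    rw [← MulAut.mul_apply, ← map_mul]; rfl
  have hφfixed : ∀ x, (∀ q ∈ Q, ψ q x = x) → φ x = x ^ n := by
    intro x hx
    rw [hφ, Finset.prod_congr rfl (fun (q : Q) _ => hx q q.2), Finset.prod_const, Finset.card_univ, hn,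
      Nat.card_eq_fintype_card]
  let κ : V →* V :=
    { toFun := fun x => x ^ n / φ x
      map_one' := by simp
      map_mul' := fun x y => by rw [mul_pow, map_mul, mul_div_mul_comm] }
  set K := κ.range with hK
  have hφb : ∀ x, ψ b (φ x) = φ (ψ b x) := by
    intro x
    rw [hφ, hφ, map_prod]
    let e : Q → Q := fun q => ⟨b * q * b⁻¹, hbQ q q.2⟩
    have he : Function.Bijective e := Finite.injective_iff_bijective.mp fun q₁ q₂ h => Subtype.ext
      (mul_left_cancel (mul_right_cancel (congrArg Subtype.val h)))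
    refine (Finset.prod_congr rfl fun q _ => ?_).trans (Equiv.prod_comp (Equiv.ofBijective e he) fun q : Q => ψ (q : G) (ψ b x))
    show _ = ψ (b * (q : G) * b⁻¹) (ψ b x)
    rw [map_mul, map_mul, map_inv, MulAut.mul_apply, MulAut.mul_apply, MulAut.inv_apply_self]
  have hKb : ∀ y ∈ K, ψ b y ∈ K := by
    rintro _ ⟨x, rfl⟩
    exact ⟨ψ b x, by show (ψ b x) ^ n / φ (ψ b x) = ψ b (x ^ n / φ x); rw [map_div, map_pow, hφb]⟩
  have hcop : n.Coprime p := ((Fact.out : p.Prime).coprime_iff_not_dvd.mpr hQ).symm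
  have hpow : ∀ x : V, x ^ n = 1 → x = 1 := fun x hx => orderOf_eq_one_iff.mp
    (Nat.eq_one_of_dvd_coprimes hcop (orderOf_dvd_of_pow_eq_one hx) (orderOf_dvd_of_pow_eq_one (hV x)))
  have hKbot : K = ⊥ := by
    by_contra hne
    obtain ⟨k, hk, hk1, hkb⟩ := exists_fixed_ne_one ψ b hbp hV K hKb hne
    obtain ⟨x, rfl⟩ := hk
    apply hk1
    refine hpow _ ?_
    rw [← hφfixed _ (hfix _ hkb)]
    show φ (x ^ n / φ x) = 1
    rw [map_div, map_pow, hφfixed _ (hφfix x), div_self']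
  intro v q hq
  have h1 : v ^ n = φ v := div_eq_one.mp (show v ^ n / φ v = 1 from mem_bot.mp (hKbot ▸ (⟨v, rfl⟩ : κ v ∈ K)))
  have h2 : (ψ q v / v) ^ n = 1 := by rw [div_pow, ← map_pow, h1, hφfix v q hq, div_self']
  exact div_eq_one.mp (hpow _ h2)

variable {G : Type*} [Group G] [Finite G] {p : ℕ} [Fact p.Prime]

/-- The main step. -/
theorem invariant_pprime_eq_bot (hp : p ≠ 2)
    (hcs : centralizer (Cfsg.pCore p G : Set G) ≤ Cfsg.pCore p G)
    (B : Subgroup G) (hBc : Nat.card B = p ^ 2) (hBab : ∀ x ∈ B, ∀ y ∈ B, x * y = y * x)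
    (b₀ : G) (hb₀ : b₀ ∈ B) (hb₀p : b₀ ^ p = 1)
    (hΩ : ∀ x ∈ Cfsg.pCore p G, x ^ p = 1 → x * b₀ = b₀ * x → x ∈ B)
    (Q : Subgroup G) (hQ : ¬ p ∣ Nat.card Q) (hinv : ∀ b ∈ B, ∀ x ∈ Q, b * x * b⁻¹ ∈ Q) : Q = ⊥ := by
  classical
  have hp' := (Fact.out : p.Prime)
  haveI := H1.pCore_normal' p G
  set R := Cfsg.pCore p G with hR
  have hRp : IsPGroup p R := H1.isPGroup_pCore p G
  have hQR : Q ⊓ R = ⊥ := by
    rw [inf_comm]; exact Cfsg.Comp.inf_eq_bot_of_isPGroup hRp hQ
  have hQord : ∀ q ∈ Q, ¬ p ∣ orderOf q := fun q hq hd => hQ (hd.trans (Subgroup.orderOf_dvd_natCard Q hq))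
  -- `Q` centralizes `B ⊓ R`
  have hBR : ∀ q ∈ Q, ∀ w ∈ B, w ∈ R → q * w = w * q := by
    intro q hq w hwB hwR
    have h1 : q * w * q⁻¹ * w⁻¹ ∈ R := R.mul_mem ((H1.pCore_normal' p G).conj_mem w hwR q) (R.inv_mem hwR)
    have h2 : q * w * q⁻¹ * w⁻¹ ∈ Q := by
      rw [show q * w * q⁻¹ * w⁻¹ = q * (w * q⁻¹ * w⁻¹) by group]
      exact Q.mul_mem hq (hinv w hwB _ (Q.inv_mem hq))
    have h3 : q * w * q⁻¹ * w⁻¹ = 1 := mem_bot.mp (hQR ▸ ⟨h2, h1⟩)
    exact mul_inv_eq_iff_eq_mul.mp (mul_inv_eq_one.mp h3)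
  -- `b₀` acts without fixed points
  have hfpf : ∀ q ∈ Q, b₀ * q = q * b₀ → q = 1 := by
    intro q hq hc
    set S := R ⊓ centralizer ({b₀} : Set G) with hS
    have hqc : q ∈ centralizer ({b₀} : Set G) := mem_centralizer_singleton_iff.mpr hc.symm
    have hqS : zpowers q ≤ normalizer (S : Set G) := by
      rw [zpowers_le, mem_normalizer_iff_map_conj_eq]
      refine eq_of_le_of_card_ge ?_ (card_map_of_injective (MulAut.conj q).injective).ge
      rintro _ ⟨x, hx, rfl⟩
      exact ⟨(H1.pCore_normal' p G).conj_mem x hx.1 q,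
        (centralizer ({b₀} : Set G)).mul_mem ((centralizer ({b₀} : Set G)).mul_mem hqc hx.2)
          ((centralizer ({b₀} : Set G)).inv_mem hqc)⟩
    have hcop : (Nat.card (zpowers q)).Coprime p := by
      rw [Nat.card_zpowers]; exact (hp'.coprime_iff_not_dvd.mpr (hQord q hq)).symm
    have h1 := H83.le_centralizer_of_fixes_omega hp (hRp.to_le inf_le_left) hqS hcop (by
      rintro x hx hxp _ ⟨i, rfl⟩
      exact ((show Commute q x from hBR q hq x (hΩ x hx.1 hxp (mem_centralizer_singleton_iff.mp hx.2)) hx.1).zpow_left i).eq)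
    have hbp : IsPGroup p (zpowers b₀) := by
      rintro ⟨_, i, rfl⟩
      refine ⟨1, Subtype.ext ?_⟩
      show (b₀ ^ i) ^ p ^ 1 = 1
      rw [pow_one, ← zpow_natCast, ← zpow_mul, mul_comm, zpow_mul, zpow_natCast, hb₀p, one_zpow]
    have h2 := Cfsg.Comp.pxq_lemma hbp (hQord q hq) (by
        rintro _ ⟨i, rfl⟩
        exact ((show Commute q b₀ from hc.symm).zpow_right i).eq) R hRp
      (zpowers_le.mpr (by rw [normalizer_eq_top]; exact mem_top _)) (by rw [normalizer_eq_top]; exact mem_top _)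
      (fun r hr hrc => (mem_centralizer_iff.mp (h1 (mem_zpowers q)) r ⟨hr, mem_centralizer_singleton_iff.mpr
        (mem_centralizer_iff.mp hrc b₀ (mem_zpowers b₀)).symm⟩).symm)
    have hqR : q ∈ R := hcs (mem_centralizer_iff.mpr fun r hr => (h2 r hr).symm)
    exact mem_bot.mp (hQR ▸ ⟨hq, hqR⟩)
  by_contra hQne
  have hb₀R : b₀ ∉ R := fun h => hQne ((eq_bot_iff_forall Q).mpr fun q hq =>
    hfpf q hq (hBR q hq b₀ hb₀ h).symm)
  have hBRcard : Nat.card ↥(B ⊓ R) ≤ p := by
    obtain ⟨i, hi, hi'⟩ := (Nat.dvd_prime_pow hp').mp (hBc ▸ card_dvd_of_le (inf_le_left : B ⊓ R ≤ B))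
    rcases (by omega : i ≤ 1 ∨ i = 2) with h | h
    · rw [hi']; exact le_of_le_of_eq (Nat.pow_le_pow_right hp'.pos h) (pow_one p)
    · exfalso
      have := eq_of_le_of_card_ge (inf_le_left : B ⊓ R ≤ B) (by rw [hi', h, hBc])
      exact hb₀R (this.ge hb₀).2
  -- the detecting subgroup
  obtain ⟨D, hDR, hDn, hDexp, hDcl, hdet⟩ := H80.exists_detecting hp hRp
  haveI hDnormal : D.Normal := normalizer_eq_top_iff.mp (top_le_iff.mp (by rwa [normalizer_eq_top] at hDn))
  have hCD : ∀ x ∈ D, x * b₀ = b₀ * x → x ∈ B ⊓ R := fun x hx hc =>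
    ⟨hΩ x (hDR hx) (hDexp x hx) hc, hDR hx⟩
  haveI : (centralizer (D : Set G)).Normal := inferInstanceAs (Subgroup.centralizer _).Normal
  set Z := D ⊓ centralizer (D : Set G) with hZ
  haveI hZn : Z.Normal := inferInstance
  letI : CommGroup Z :=
    { (inferInstance : Group Z) with
      mul_comm := fun x y => Subtype.ext (mem_centralizer_iff.mp y.2.2 x x.2.1) }
  let ψZ : G →* MulAut Z := MulAut.conjNormal
  have hψZ : ∀ (g : G) (x : Z), (ψZ g x : G) = g * x * g⁻¹ := fun g x => MulAut.conjNormal_apply g x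
  have hbQ : ∀ q ∈ Q, b₀ * q * b₀⁻¹ ∈ Q := hinv b₀ hb₀
  have hZexp : ∀ x : Z, x ^ p = 1 := fun x => Subtype.ext (by rw [SubmonoidClass.coe_pow]; exact hDexp x x.2.1)
  have hQZ : ∀ q ∈ Q, ∀ z ∈ Z, q * z = z * q := by
    intro q hq z hz
    have h := trivial_of_fixed ψZ Q hQ b₀ hbQ hb₀p hZexp (fun v hv r hr => by
      have hv' : (v : G) * b₀ = b₀ * v := by
        have := congrArg Subtype.val hv
        rw [hψZ] at this
        exact (mul_inv_eq_iff_eq_mul.mp this).symm
      have hvB := hCD v v.2.1 hv'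
      refine Subtype.ext ?_
      rw [hψZ, hBR r hr v hvB.1 hvB.2, mul_inv_cancel_right]) ⟨z, hz⟩ q hq
    have h' := congrArg Subtype.val h
    rw [hψZ] at h'
    exact mul_inv_eq_iff_eq_mul.mp h'
  -- `D / Z`
  set Z0 := Z.subgroupOf D with hZ0
  haveI : Z0.Normal := inferInstance
  letI : CommGroup (D ⧸ Z0) :=
    { (inferInstance : Group (D ⧸ Z0)) with
      mul_comm := by
        intro x y
        induction x using QuotientGroup.induction_on
        rename_i x
        induction y using QuotientGroup.induction_on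
        rename_i y
        rw [← QuotientGroup.mk_mul, ← QuotientGroup.mk_mul, QuotientGroup.eq]
        refine mem_subgroupOf.mpr ⟨((x * y)⁻¹ * (y * x)).2, mem_centralizer_iff.mpr fun z hz => ?_⟩
        have h := hDcl _ (D.inv_mem y.2) _ (D.inv_mem x.2) z hz
        simp only [inv_inv] at h
        simp only [Subgroup.coe_mul, InvMemClass.coe_inv, mul_inv_rev]
        rw [show (y : G)⁻¹ * (x : G)⁻¹ * ((y : G) * x) = (y : G)⁻¹ * (x : G)⁻¹ * y * x by group]
        exact h.symm }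
  have hVexp : ∀ x : D ⧸ Z0, x ^ p = 1 := by
    intro x
    induction x using QuotientGroup.induction_on
    rename_i x
    rw [← QuotientGroup.mk_pow, show x ^ p = 1 from Subtype.ext (by rw [SubmonoidClass.coe_pow]; exact hDexp x x.2)]
    rfl
  let χ : G →* MulAut D := MulAut.conjNormal
  have hχ : ∀ (g : G) (x : D), (χ g x : G) = g * x * g⁻¹ := fun g x => MulAut.conjNormal_apply g x
  have hχmap : ∀ g, Z0.map (χ g).toMonoidHom = Z0 := by
    intro g
    refine eq_of_le_of_card_ge ?_ (card_map_of_injective (χ g).injective).ge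
    rintro _ ⟨x, hx, rfl⟩
    show ((χ g x : D) : G) ∈ Z
    rw [hχ]
    exact hZn.conj_mem _ hx g
  let ψ : G →* MulAut (D ⧸ Z0) :=
    { toFun := fun g => QuotientGroup.congr Z0 Z0 (χ g) (hχmap g)
      map_one' := by
        ext v; induction v using QuotientGroup.induction_on
        rename_i n
        show ((χ 1 n : D) : D ⧸ Z0) = _
        rw [map_one]; rfl
      map_mul' := fun g g' => by
        ext v; induction v using QuotientGroup.induction_on
        rename_i n
        show ((χ (g * g') n : D) : D ⧸ Z0) = _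
        rw [map_mul]; rfl }
  have hψ : ∀ (g : G) (x : D), ψ g (x : D ⧸ Z0) = ((χ g x : D) : D ⧸ Z0) := fun _ _ => rfl
  -- the map `x ↦ [b₀, x]` on `Z`
  let fZ : Z →* Z :=
    { toFun := fun x => ψZ b₀ x / x
      map_one' := by rw [map_one, div_one]
      map_mul' := fun x y => by rw [map_mul, mul_div_mul_comm] }
  have hker : Nat.card fZ.ker ≤ p := by
    refine le_trans (Nat.card_le_card_of_injective (fun x : fZ.ker => (⟨((x : Z) : G), ?_⟩ : ↥(B ⊓ R)))
      fun x y h => Subtype.ext (Subtype.ext (congrArg (fun t : ↥(B ⊓ R) => (t : G)) h))) hBRcard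
    refine hCD _ (x : Z).2.1 ?_
    have h1 : ψZ b₀ (x : Z) = x := div_eq_one.mp x.2
    have := congrArg Subtype.val h1
    rw [hψZ] at this
    exact (mul_inv_eq_iff_eq_mul.mp this).symm
  have hidx : Nat.card (Z ⧸ fZ.range) ≤ p := by
    refine le_trans (le_of_eq ?_) hker
    have h1 := card_eq_card_quotient_mul_card_subgroup fZ.range
    have h2 := card_eq_card_quotient_mul_card_subgroup fZ.ker
    rw [Nat.card_congr (QuotientGroup.quotientKerEquivRange fZ).toEquiv] at h2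
    rw [h2, mul_comm] at h1
    exact Nat.eq_of_mul_eq_mul_right Nat.card_pos h1.symm
  let Fx : Subgroup (D ⧸ Z0) :=
    { carrier := {v | ψ b₀ v = v}
      one_mem' := map_one _
      mul_mem' := fun {x y} (hx : ψ b₀ x = x) (hy : ψ b₀ y = y) => by
        show ψ b₀ (x * y) = x * y
        rw [map_mul, hx, hy]
      inv_mem' := fun {x} (hx : ψ b₀ x = x) => by show ψ b₀ x⁻¹ = x⁻¹; rw [map_inv, hx] }
  -- the fixed points on `D / Z` form a group of order at most `p`
  have hFxc : Nat.card Fx ≤ p := by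
    have hmk : ∀ v : Fx, ∃ d : D, (d : D ⧸ Z0) = v.1 ∧ (b₀ * (d : G) * b₀⁻¹ * (d : G)⁻¹) ∈ Z := by
      intro v
      obtain ⟨d, hd⟩ := QuotientGroup.mk_surjective (v : D ⧸ Z0)
      refine ⟨d, hd, ?_⟩
      have h1 : ((χ b₀ d : D) : D ⧸ Z0) = d := by rw [← hψ, hd]; exact v.2
      have h2 := mem_subgroupOf.mp (QuotientGroup.eq.mp h1.symm)
      simp only [Subgroup.coe_mul, InvMemClass.coe_inv, hχ] at h2
      simpa [mul_assoc] using hZn.conj_mem _ h2 (d : G)
    choose dd hdd hddZ using hmk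
    refine le_trans (Nat.card_le_card_of_injective
      (fun v : Fx => ((⟨_, hddZ v⟩ : Z) : Z ⧸ fZ.range)) ?_) hidx
    intro v w hvw
    obtain ⟨z, hz⟩ := QuotientGroup.eq.mp hvw
    set a := b₀ * (dd v : G) * b₀⁻¹ * (dd v : G)⁻¹ with ha
    set c := b₀ * (dd w : G) * b₀⁻¹ * (dd w : G)⁻¹ with hc
    have hz' : b₀ * (z : G) * b₀⁻¹ * (z : G)⁻¹ = a⁻¹ * c := by
      have h := congrArg Subtype.val hz
      have : fZ z = ψZ b₀ z / z := rfl
      rw [this, div_eq_mul_inv, Subgroup.coe_mul, InvMemClass.coe_inv, hψZ] at h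
      rw [h]; rfl
    have hzc : ∀ d ∈ D, d * (z : G) = (z : G) * d := fun d hd => mem_centralizer_iff.mp z.2.2 d hd
    set y := (dd w : G) * ((dd v : G) * z)⁻¹ with hy
    have hyD : y ∈ D := D.mul_mem (dd w).2 (D.inv_mem (D.mul_mem (dd v).2 z.2.1))
    have hyc : y * b₀ = b₀ * y := by
      have e1 : b₀ * ((dd v : G) * z) * b₀⁻¹ = c * ((dd v : G) * z) := by
        have haZ : a ∈ Z := hddZ v
        have hcc : ∀ d ∈ D, d * c = c * d := fun d hd => mem_centralizer_iff.mp (hddZ w).2 d hd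
        have haD : a ∈ D := haZ.1
        calc b₀ * ((dd v : G) * z) * b₀⁻¹ = (a * (dd v : G)) * ((b₀ * (z : G) * b₀⁻¹ * (z : G)⁻¹) * z) := by
              rw [ha]; group
          _ = a * ((dd v : G) * a⁻¹) * c * z := by rw [hz']; group
          _ = a * (a⁻¹ * (dd v : G)) * c * z := by
              rw [mem_centralizer_iff.mp (Z.inv_mem haZ).2 (dd v : G) (dd v).2]
          _ = c * ((dd v : G) * z) := by rw [mul_inv_cancel_left, hcc _ (dd v).2]; group
      have e2 : b₀ * (dd w : G) * b₀⁻¹ = c * (dd w : G) := by rw [hc]; group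
      have e3 : b₀ * y * b₀⁻¹ = y := by
        calc b₀ * y * b₀⁻¹ = (b₀ * (dd w : G) * b₀⁻¹) * (b₀ * ((dd v : G) * z) * b₀⁻¹)⁻¹ := by rw [hy]; group
          _ = c * y * c⁻¹ := by rw [e1, e2, hy]; group
          _ = y := by rw [← mem_centralizer_iff.mp (hddZ w).2 y hyD, mul_inv_cancel_right]
      exact (mul_inv_eq_iff_eq_mul.mp e3).symm
    have hyZ : y ∈ Z := by
      by_cases hy1 : y = 1
      · rw [hy1]; exact one_mem Z
      have hYB := hCD y hyD hyc
      -- a nontrivial fixed point inside `Z`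
      have hZne : Z ≠ ⊥ := by
        intro hbot
        have hDb : D ≤ centralizer (D : Set G) := fun x hx => mem_centralizer_iff.mpr fun u hu => by
          have hm : u * x * u⁻¹ * x⁻¹ ∈ Z :=
            ⟨D.mul_mem (D.mul_mem (D.mul_mem hu hx) (D.inv_mem hu)) (D.inv_mem hx),
              mem_centralizer_iff.mpr fun t ht => (hDcl u hu x hx t ht).symm⟩
          rw [hbot, mem_bot] at hm
          exact mul_inv_eq_iff_eq_mul.mp (mul_inv_eq_one.mp hm)
        have : D = ⊥ := le_bot_iff.mp (hbot ▸ le_inf le_rfl hDb)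
        exact hy1 (mem_bot.mp (this ▸ hyD))
      obtain ⟨k, -, hk1, hkf⟩ := exists_fixed_ne_one ψZ b₀ hb₀p hZexp (⊤ : Subgroup Z) (fun _ _ => mem_top _)
        (fun h => hZne ((eq_bot_iff_forall Z).mpr fun x hx => congrArg Subtype.val
          (mem_bot.mp (h.le (mem_top (⟨x, hx⟩ : Z))))))
      have hkB : (k : G) ∈ B ⊓ R := hCD k k.2.1 (by
        have := congrArg Subtype.val hkf
        rw [hψZ] at this
        exact (mul_inv_eq_iff_eq_mul.mp this).symm)
      have hk' : zpowers (k : G) = B ⊓ R := eq_of_le_of_card_ge (zpowers_le.mpr hkB) (by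
        rw [Nat.card_zpowers, orderOf_eq_prime (show (k : G) ^ p = 1 from hDexp k k.2.1) (fun h => hk1 (Subtype.ext h))]
        exact hBRcard)
      rw [← hk'] at hYB
      exact (zpowers_le.mpr k.2) hYB
    have h5 : (v : D ⧸ Z0) = (w : D ⧸ Z0) := by
      rw [← hdd v, ← hdd w, QuotientGroup.eq, mem_subgroupOf, Subgroup.coe_mul, InvMemClass.coe_inv]
      have e : (dd v : G)⁻¹ * (dd w : G) = ((dd v : G)⁻¹ * y * (dd v : G)) * z := by rw [hy]; group
      rw [e]
      refine Z.mul_mem ?_ z.2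
      simpa using hZn.conj_mem y hyZ (dd v : G)⁻¹
    exact Subtype.ext h5
  -- no nontrivial point of `D / Z` is fixed by `Q`
  have hnoQ : ∀ v : D ⧸ Z0, ψ b₀ v = v → v ≠ 1 → ¬ ∀ q ∈ Q, ψ q v = v := by
    intro v hvb hv1 hvQ
    have hle : zpowers v ≤ Fx := zpowers_le.mpr hvb
    have heq : zpowers v = Fx := eq_of_le_of_card_ge hle (by
      rw [Nat.card_zpowers, orderOf_eq_prime (hVexp v) hv1]; exact hFxc)
    have htriv := trivial_of_fixed ψ Q hQ b₀ hbQ hb₀p hVexp (fun u hu q hq => by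
      obtain ⟨i, rfl⟩ : u ∈ zpowers v := heq ▸ hu
      show ψ q (v ^ i) = v ^ i
      rw [map_zpow, hvQ q hq])
    have hQD : Q ≤ centralizer (D : Set G) := by
      intro q hq
      refine mem_centralizer_iff.mpr fun d hd => ?_
      have h1 : ((χ q ⟨d, hd⟩ : D) : D ⧸ Z0) = ((⟨d, hd⟩ : D) : D ⧸ Z0) := by rw [← hψ]; exact htriv _ q hq
      have h2 := mem_subgroupOf.mp (QuotientGroup.eq.mp h1.symm)
      simp only [Subgroup.coe_mul, InvMemClass.coe_inv, hχ] at h2
      have h3 : q * d * q⁻¹ * d⁻¹ ∈ Z := by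
        simpa [mul_assoc] using hZn.conj_mem _ h2 d
      exact (Cfsg.Comp.commute_of_commutator_commute (hRp.to_le hDR) (hQord q hq) h3.1
        (hQZ q hq _ h3)).symm
    have h1 := hdet Q (by rw [normalizer_eq_top]; exact le_top) (((hp'.coprime_iff_not_dvd).mpr hQ).symm) hQD
    exact hQne (le_bot_iff.mp (hQR ▸ le_inf le_rfl (h1.trans hcs)))
  -- the orbit product
  let s : D ⧸ Z0 →* D ⧸ Z0 :=
    { toFun := fun v => ∏ i ∈ Finset.range p, ψ (b₀ ^ i) v
      map_one' := by simp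
      map_mul' := fun x y => by simp [Finset.prod_mul_distrib] }
  have hs : ∀ v, s v = ∏ i ∈ Finset.range p, ψ (b₀ ^ i) v := fun _ => rfl
  have hperiod : ∀ i : ℕ, b₀ ^ (i % p) = b₀ ^ i := fun i => (pow_eq_pow_mod i hb₀p).symm
  have hsb : ∀ v, ψ b₀ (s v) = s v := by
    intro v
    rw [hs, map_prod]
    have h1 : ∀ i, ψ b₀ (ψ (b₀ ^ i) v) = ψ (b₀ ^ (i + 1)) v := fun i => by
      rw [pow_succ', map_mul, MulAut.mul_apply]
    simp only [h1]
    obtain ⟨p', hp''⟩ : ∃ p', p = p' + 1 := ⟨p - 1, by have := hp'.pos; omega⟩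
    rw [hp'', Finset.prod_range_succ' (fun i => ψ (b₀ ^ i) v), Finset.prod_range_succ (fun i => ψ (b₀ ^ (i + 1)) v),
      ← hp'', hb₀p, pow_zero]
  -- the subgroup generated by the commutators of `D`
  set CM : Subgroup Z := Subgroup.closure {w : Z | ∃ x y : D, (w : G) = (x : G) * y * (x : G)⁻¹ * (y : G)⁻¹} with hCM
  set M : Subgroup Z := CM.map fZ with hM
  -- the commutator pairing modulo `[b₀, D']`
  let c : D → D → Z ⧸ M := fun x y =>
    ((⟨(x : G) * y * (x : G)⁻¹ * (y : G)⁻¹, ⟨D.mul_mem (D.mul_mem (D.mul_mem x.2 y.2) (D.inv_mem x.2)) (D.inv_mem y.2),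
      mem_centralizer_iff.mpr fun z hz => (hDcl x x.2 y y.2 z hz).symm⟩⟩ : Z) : Z ⧸ M)
  have hc : ∀ x y z : D, c (x * y) z = c x z * c y z := by
    intro x y z
    rw [← QuotientGroup.mk_mul]
    show ((_ : Z) : Z ⧸ M) = _
    congr 1
    refine Subtype.ext ?_
    show (x : G) * y * z * ((x : G) * y)⁻¹ * (z : G)⁻¹ = _ * _
    have h := hDcl y y.2 z z.2 x x.2
    calc (x : G) * y * z * ((x : G) * y)⁻¹ * (z : G)⁻¹
        = (x : G) * ((y : G) * z * (y : G)⁻¹ * (z : G)⁻¹) * ((z : G) * (x : G)⁻¹ * (z : G)⁻¹) := by group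
      _ = ((y : G) * z * (y : G)⁻¹ * (z : G)⁻¹) * ((x : G) * z * (x : G)⁻¹ * (z : G)⁻¹) := by rw [← h]; group
      _ = _ := (hDcl y y.2 z z.2 _ (D.mul_mem (D.mul_mem (D.mul_mem x.2 z.2) (D.inv_mem x.2)) (D.inv_mem z.2)))
  have hcanti : ∀ x y : D, c x y = (c y x)⁻¹ := by
    intro x y
    rw [← QuotientGroup.mk_inv]
    show ((_ : Z) : Z ⧸ M) = _
    congr 1
    refine Subtype.ext ?_
    show (x : G) * y * (x : G)⁻¹ * (y : G)⁻¹ = ((y : G) * x * (y : G)⁻¹ * (x : G)⁻¹)⁻¹
    group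
  have hc2 : ∀ x y z : D, c x (y * z) = c x y * c x z := fun x y z => by
    rw [hcanti x, hc, mul_inv, ← hcanti x, ← hcanti x]
  have hfQ : ∀ g ∈ (Q : Set G) ∪ {b₀}, ∀ x y : D, c (χ g x) (χ g y) = c x y := by
    intro g hg x y
    set w : Z := ⟨(x : G) * y * (x : G)⁻¹ * (y : G)⁻¹, ⟨D.mul_mem (D.mul_mem (D.mul_mem x.2 y.2) (D.inv_mem x.2)) (D.inv_mem y.2),
      mem_centralizer_iff.mpr fun z hz => (hDcl x x.2 y y.2 z hz).symm⟩⟩
    have e : (⟨((χ g x : D) : G) * (χ g y : D) * ((χ g x : D) : G)⁻¹ * ((χ g y : D) : G)⁻¹,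
        ⟨D.mul_mem (D.mul_mem (D.mul_mem (χ g x).2 (χ g y).2) (D.inv_mem (χ g x).2)) (D.inv_mem (χ g y).2),
        mem_centralizer_iff.mpr fun z hz => (hDcl _ (χ g x).2 _ (χ g y).2 z hz).symm⟩⟩ : Z) = ψZ g w :=
      Subtype.ext (by
        show ((χ g x : D) : G) * (χ g y : D) * ((χ g x : D) : G)⁻¹ * ((χ g y : D) : G)⁻¹ = _
        rw [hψZ, hχ, hχ]
        show _ = g * ((x : G) * y * (x : G)⁻¹ * (y : G)⁻¹) * g⁻¹
        group)
    show ((_ : Z) : Z ⧸ M) = _
    rw [e]
    rcases hg with hg | hg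
    · congr 1
      exact Subtype.ext (by rw [hψZ, hQZ g hg w w.2, mul_inv_cancel_right])
    · rw [Set.mem_singleton_iff] at hg
      subst hg
      refine (QuotientGroup.eq.mpr ?_).symm
      refine Subgroup.mem_map.mpr ⟨w, Subgroup.subset_closure ⟨x, y, rfl⟩, ?_⟩
      show ψZ g w / w = w⁻¹ * ψZ g w
      rw [div_eq_mul_inv, mul_comm]
  have hc1 : ∀ y : D, c 1 y = 1 := fun y => by
    have h := hc 1 1 y
    rw [one_mul] at h
    exact mul_eq_left.mp h.symm
  let R₁' : Subgroup D :=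
    { carrier := {x | ∀ y, c x y = 1}
      one_mem' := hc1
      mul_mem' := fun {x y} hx hy z => by rw [hc, hx z, hy z, mul_one]
      inv_mem' := fun {x} hx z => by
        have h := hc x⁻¹ x z
        rw [inv_mul_cancel, hc1, hx z, mul_one] at h
        exact h.symm }
  have hZR : Z0 ≤ R₁' := by
    intro x hx y
    rw [← QuotientGroup.mk_one]
    show ((_ : Z) : Z ⧸ M) = _
    congr 1
    refine Subtype.ext ?_
    show (x : G) * y * (x : G)⁻¹ * (y : G)⁻¹ = 1
    rw [← mem_centralizer_iff.mp (mem_subgroupOf.mp hx).2 (y : G) y.2, mul_inv_cancel_right, mul_inv_cancel]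
  have hcmk : ∀ x x' : D, (x : D ⧸ Z0) = x' → ∀ y, c y x = c y x' := by
    intro x x' h y
    have h1 := hZR (QuotientGroup.eq.mp h)
    have h2 : c (x⁻¹ * x') y = 1 := h1 y
    rw [hcanti y x, hcanti y x']
    have h3 := hc x (x⁻¹ * x') y
    rw [mul_inv_cancel_left, h2, mul_one] at h3
    rw [h3]
  -- `s` maps into the radical
  have hs1 : ∀ v, ∃ r ∈ R₁', (r : D ⧸ Z0) = s v := by
    by_contra hne
    push Not at hne
    obtain ⟨v₀, hv₀⟩ := hne
    obtain ⟨x₀, rfl⟩ := QuotientGroup.mk_surjective v₀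
    obtain ⟨r₀, hr₀⟩ := QuotientGroup.mk_surjective (s x₀)
    have hr₀ne : r₀ ∉ R₁' := fun h => hv₀ r₀ h hr₀
    have hr1 : (r₀ : D ⧸ Z0) ≠ 1 := fun h => hr₀ne (hZR ((QuotientGroup.eq_one_iff r₀).mp h))
    have hzp : zpowers (r₀ : D ⧸ Z0) = Fx :=
      eq_of_le_of_card_ge (zpowers_le.mpr (show ψ b₀ (r₀ : D ⧸ Z0) = r₀ by rw [hr₀]; exact hsb _)) (by
        rw [Nat.card_zpowers, orderOf_eq_prime (hVexp _) hr1]; exact hFxc)
    have hkey : ∀ x : D, (∀ r ∈ R₁', (r : D ⧸ Z0) ≠ s x) → c x r₀ = 1 := by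
      intro x hx
      obtain ⟨r, hr⟩ := QuotientGroup.mk_surjective (s x)
      have hr1 : (r : D ⧸ Z0) ≠ 1 := fun h => hx r (hZR ((QuotientGroup.eq_one_iff r).mp h)) hr
      have hzp' : zpowers (r : D ⧸ Z0) = Fx :=
        eq_of_le_of_card_ge (zpowers_le.mpr (show ψ b₀ (r : D ⧸ Z0) = r by rw [hr]; exact hsb _)) (by
          rw [Nat.card_zpowers, orderOf_eq_prime (hVexp _) hr1]; exact hFxc)
      -- `c x (s x) = 1`
      have hsx : c x r = 1 := by
        let cx : D →* Z ⧸ M :=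
          { toFun := fun y => c x y
            map_one' := by
              have h := hc2 x 1 1
              rw [one_mul] at h
              exact mul_eq_left.mp h.symm
            map_mul' := hc2 x }
        let cx' : D ⧸ Z0 →* Z ⧸ M := QuotientGroup.lift Z0 cx (fun y hy => by
          show c x y = 1
          rw [hcanti, hZR hy x, inv_one])
        have hF : cx' (s x) = ∏ i ∈ Finset.range p, c x (χ (b₀ ^ i) x) := by
          rw [hs, map_prod]; rfl
        have e1 : c x r = ∏ i ∈ Finset.range p, c x (χ (b₀ ^ i) x) := by rw [← hF, ← hr]; rfl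
        have hbpow : ∀ (i : ℕ) (u w : D), c (χ (b₀ ^ i) u) (χ (b₀ ^ i) w) = c u w := by
          intro i
          induction i with
          | zero => intro u w; rw [pow_zero, map_one]; rfl
          | succ i ih =>
            intro u w
            rw [pow_succ', map_mul, MulAut.mul_apply, MulAut.mul_apply, hfQ b₀ (Or.inr rfl), ih]
        have e2 : c x r = (c x r)⁻¹ := by
          rw [e1, ← Finset.prod_inv_distrib]
          refine Finset.prod_nbij' (fun i => (p - i) % p) (fun i => (p - i) % p) ?_ ?_ ?_ ?_ ?_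
          · intro i _; exact Finset.mem_range.mpr (Nat.mod_lt _ hp'.pos)
          · intro i _; exact Finset.mem_range.mpr (Nat.mod_lt _ hp'.pos)
          · intro i hi
            have := Finset.mem_range.mp hi
            rcases Nat.eq_zero_or_pos i with h | h
            · subst h; simp
            · show (p - (p - i) % p) % p = i
              rw [Nat.mod_eq_of_lt (by omega : p - i < p), show p - (p - i) = i by omega, Nat.mod_eq_of_lt this]
          · intro i hi
            have := Finset.mem_range.mp hi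
            rcases Nat.eq_zero_or_pos i with h | h
            · subst h; simp
            · show (p - (p - i) % p) % p = i
              rw [Nat.mod_eq_of_lt (by omega : p - i < p), show p - (p - i) = i by omega, Nat.mod_eq_of_lt this]
          · intro i hi
            have := Finset.mem_range.mp hi
            rw [hperiod, ← hcanti]
            conv_rhs => rw [← hbpow i]
            rw [← MulAut.mul_apply, ← map_mul, ← pow_add, show i + (p - i) = p by omega, hb₀p, map_one,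
              MulAut.one_apply]
        have e3 : c x r * c x r = 1 := by
          nth_rewrite 2 [e2]
          rw [mul_inv_cancel]
        have e4 : c x r ^ p = 1 := by
          have h4 : ∀ n : ℕ, c x r ^ n = c x (r ^ n) := fun n => (map_pow cx r n).symm
          rw [h4, show r ^ p = 1 from Subtype.ext (by rw [SubmonoidClass.coe_pow]; exact hDexp r r.2)]
          exact map_one cx
        obtain ⟨m, hm⟩ := hp'.odd_of_ne_two hp
        rwa [hm, pow_succ, pow_mul, pow_two, e3, one_pow, one_mul] at e4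
      have hmem : (r₀ : D ⧸ Z0) ∈ zpowers (r : D ⧸ Z0) := hzp'.symm ▸ hzp ▸ mem_zpowers _
      obtain ⟨j, hj⟩ := hmem
      have hj' : ((r ^ j : D) : D ⧸ Z0) = r₀ := hj
      rw [← hcmk _ _ hj' x]
      have hker : r ∈ ({ carrier := {y | c x y = 1}
                         one_mem' := by
                           show c x 1 = 1
                           have h := hc2 x 1 1
                           rw [one_mul] at h
                           exact mul_eq_left.mp h.symm
                         mul_mem' := fun {u w} (hu : c x u = 1) (hw : c x w = 1) => by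
                           show c x (u * w) = 1
                           rw [hc2, hu, hw, mul_one]
                         inv_mem' := fun {u} (hu : c x u = 1) => by
                           show c x u⁻¹ = 1
                           have h := hc2 x u⁻¹ u
                           rw [inv_mul_cancel, hu, mul_one] at h
                           have h0 := hc2 x 1 1
                           rw [one_mul] at h0
                           rw [← h]
                           exact mul_eq_left.mp h0.symm } : Subgroup D) := hsx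
      exact zpow_mem hker j
    refine hr₀ne fun y => ?_
    rw [hcanti, inv_eq_one]
    by_cases hy : ∀ r ∈ R₁', (r : D ⧸ Z0) ≠ s y
    · exact hkey y hy
    · push Not at hy
      obtain ⟨r, hr, hrs⟩ := hy
      have hxy : ∀ r' ∈ R₁', (r' : D ⧸ Z0) ≠ s (x₀ * y : D) := by
        intro r' hr' h
        refine hv₀ (r' * r⁻¹) (R₁'.mul_mem hr' (R₁'.inv_mem hr)) ?_
        rw [QuotientGroup.mk_mul, QuotientGroup.mk_inv, h, hrs, QuotientGroup.mk_mul, map_mul, mul_inv_cancel_right]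
      have h2 := hkey (x₀ * y) hxy
      rw [hc, hkey x₀ hv₀, one_mul] at h2
      exact h2
  -- the quotient by the radical
  set N := R₁'.map (QuotientGroup.mk' Z0) with hN
  have hNinv : ∀ g ∈ (Q : Set G) ∪ {b₀}, ∀ x ∈ N, ψ g x ∈ N := by
    rintro g hg _ ⟨r, hr, rfl⟩
    refine ⟨χ g r, fun y => ?_, rfl⟩
    obtain ⟨y', rfl⟩ := (χ g).surjective y
    rw [hfQ g hg, hr y']
  set G₀ := Q ⊔ zpowers b₀ with hG₀
  have hNinv' : ∀ g ∈ G₀, N.map (ψ g).toMonoidHom = N := by
    have hle : G₀ ≤ (Subgroup.closure ((Q : Set G) ∪ {b₀})) := by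
      rw [Subgroup.closure_union, closure_eq, ← zpowers_eq_closure]
    intro g hg
    have hg' := hle hg
    clear hg
    induction hg' using closure_induction with
    | mem g hg =>
      exact eq_of_le_of_card_ge (by rintro _ ⟨x, hx, rfl⟩; exact hNinv g hg x hx)
        (card_map_of_injective (ψ g).injective).ge
    | one => rw [map_one]; exact map_id N
    | mul g h _ _ ihg ihh =>
      rw [map_mul]
      show N.map ((ψ g).toMonoidHom.comp (ψ h).toMonoidHom) = N
      rw [← map_map, ihh, ihg]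
    | inv g _ ih =>
      conv_lhs => rw [← ih]
      rw [map_map]
      convert map_id N
      ext x
      simp
  let ψW : G₀ →* MulAut ((D ⧸ Z0) ⧸ N) :=
    { toFun := fun g => QuotientGroup.congr N N (ψ g) (hNinv' g g.2)
      map_one' := by
        ext v; induction v using QuotientGroup.induction_on
        rename_i n
        show (ψ ((1 : G₀) : G) n : (D ⧸ Z0) ⧸ N) = _
        rw [OneMemClass.coe_one, map_one]; rfl
      map_mul' := fun g g' => by
        ext v; induction v using QuotientGroup.induction_on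
        rename_i n
        show (ψ ((g * g' : G₀) : G) n : (D ⧸ Z0) ⧸ N) = _
        rw [Subgroup.coe_mul, map_mul]; rfl }
  have hψW : ∀ (g : G₀) (x : D ⧸ Z0), ψW g (x : (D ⧸ Z0) ⧸ N) = ((ψ g x : D ⧸ Z0) : (D ⧸ Z0) ⧸ N) := fun _ _ => rfl
  set bW : G₀ := ⟨b₀, mem_sup_right (mem_zpowers b₀)⟩ with hbW
  set QW := Q.subgroupOf G₀ with hQW
  have hQWc : ¬ p ∣ Nat.card QW := by rwa [hQW, Nat.card_congr (subgroupOfEquivOfLe le_sup_left).toEquiv]
  have hbWQ : ∀ q ∈ QW, bW * q * bW⁻¹ ∈ QW := fun q hq => mem_subgroupOf.mpr (hbQ _ (mem_subgroupOf.mp hq))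
  have hbWp : bW ^ p = 1 := Subtype.ext hb₀p
  have hWexp : ∀ x : (D ⧸ Z0) ⧸ N, x ^ p = 1 := by
    intro x
    induction x using QuotientGroup.induction_on
    rename_i x
    rw [← QuotientGroup.mk_pow, hVexp, QuotientGroup.mk_one]
  have htriv := trivial_of_fixed ψW QW hQWc bW hbWQ hbWp hWexp
    (fixed_of_orbit_prod ψW QW hQWc bW hbWQ hbWp (fun q hq h => Subtype.ext (hfpf q (mem_subgroupOf.mp hq) (congrArg Subtype.val h))) hWexp (by
      intro x
      induction x using QuotientGroup.induction_on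
      rename_i x
      have h1 : ∏ i ∈ Finset.range p, ψW (bW ^ i) (x : (D ⧸ Z0) ⧸ N) = ((s x : D ⧸ Z0) : (D ⧸ Z0) ⧸ N) := by
        rw [hs, ← QuotientGroup.mk'_apply N (∏ i ∈ Finset.range p, ψ (b₀ ^ i) x), map_prod]
        rfl
      rw [h1, QuotientGroup.eq_one_iff]
      obtain ⟨r, hr, hrs⟩ := hs1 x
      exact ⟨r, hr, hrs⟩))
  haveI : Fintype Q := Fintype.ofFinite Q
  have hcop : (Nat.card Q).Coprime p := ((hp'.coprime_iff_not_dvd).mpr hQ).symm
  have hpowV : ∀ x : D ⧸ Z0, x ^ Nat.card Q ∈ N → x ∈ N := by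
    intro x hx
    obtain ⟨m, hm⟩ := Nat.exists_mul_mod_eq_one_of_coprime hcop hp'.one_lt |> fun ⟨m, hm⟩ =>
      (⟨m, hm.2⟩ : ∃ m, Nat.card Q * m % p = 1)
    have hx' : x = (x ^ Nat.card Q) ^ m := by
      rw [← pow_mul]
      conv_rhs => rw [← Nat.mod_add_div (Nat.card Q * m) p, hm, pow_add, pow_mul, hVexp, one_pow, mul_one, pow_one]
    rw [hx']; exact N.pow_mem hx m
  -- the `Q`-fixed points of `D / Z` are trivial
  have hfixQ : ∀ x : D ⧸ Z0, (∀ q ∈ Q, ψ q x = x) → x = 1 := by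
    intro x hx
    let K : Subgroup (D ⧸ Z0) :=
      { carrier := {u | ∀ q ∈ Q, ψ q u = u}
        one_mem' := fun q _ => map_one _
        mul_mem' := fun {u w} hu hw q hq => by rw [map_mul, hu q hq, hw q hq]
        inv_mem' := fun {u} hu q hq => by rw [map_inv, hu q hq] }
    by_contra hx1
    obtain ⟨k, hk, hk1, hkb⟩ := exists_fixed_ne_one ψ b₀ hb₀p hVexp K (fun u hu q hq => by
      have h' : b₀⁻¹ * q * b₀ ∈ Q := by simpa using hinv b₀⁻¹ (B.inv_mem hb₀) q hq
      have := congrArg (ψ b₀) (hu _ h')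
      rw [← MulAut.mul_apply, ← map_mul, show b₀ * (b₀⁻¹ * q * b₀) = q * b₀ by group, map_mul, MulAut.mul_apply] at this
      exact this) (fun hb => hx1 (mem_bot.mp (hb ▸ (hx : x ∈ K))))
    exact hnoQ k hkb hk1 hk
  have hNtop : N = ⊤ := by
    refine eq_top_iff.mpr fun x _ => hpowV x ?_
    rw [← QuotientGroup.eq_one_iff, QuotientGroup.mk_pow]
    have h1 : ∏ q : Q, ψ (q : G) x = 1 := hfixQ _ fun q hq => by
      rw [map_prod]
      refine (Finset.prod_congr rfl fun r _ => ?_).trans (Equiv.prod_comp (Equiv.mulLeft (⟨q, hq⟩ : Q)) fun r : Q => ψ (r : G) x)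
      rw [← MulAut.mul_apply, ← map_mul]; rfl
    have h2 := congrArg (QuotientGroup.mk' N) h1
    rw [map_prod, map_one] at h2
    rw [← h2, Finset.prod_congr rfl (fun (q : Q) _ =>
        (show QuotientGroup.mk' N (ψ (q : G) x) = (x : (D ⧸ Z0) ⧸ N) from
          (hψW ⟨q, mem_sup_left q.2⟩ x).symm.trans (htriv _ ⟨q, mem_sup_left q.2⟩ (mem_subgroupOf.mpr q.2)))),
      Finset.prod_const, Finset.card_univ, Nat.card_eq_fintype_card]
  -- hence the commutators of `D` lie in `[b₀, D']`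
  have hR₁ : ∀ x : D, x ∈ R₁' := by
    intro x
    obtain ⟨r, hr, hrx⟩ := (hNtop.ge (mem_top ((x : D ⧸ Z0))) : (x : D ⧸ Z0) ∈ N)
    have h1 := R₁'.mul_mem hr (hZR (QuotientGroup.eq.mp hrx))
    rwa [mul_inv_cancel_left] at h1
  have hCMinv : ∀ w ∈ CM, ψZ b₀ w ∈ CM := by
    have : CM.map (ψZ b₀).toMonoidHom ≤ CM := by
      rw [hCM, MonoidHom.map_closure, Subgroup.closure_le]
      rintro _ ⟨w, ⟨x, y, hw⟩, rfl⟩
      refine Subgroup.subset_closure ⟨χ b₀ x, χ b₀ y, ?_⟩
      show ((ψZ b₀ w : Z) : G) = _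
      rw [hψZ, hw, hχ, hχ]; group
    exact fun w hw => this ⟨w, hw, rfl⟩
  have hCMle : CM ≤ M := by
    rw [hCM, Subgroup.closure_le]
    rintro w ⟨x, y, hw⟩
    have h := hR₁ x y
    refine (QuotientGroup.eq_one_iff w).mp (Eq.trans ?_ h)
    show (w : Z ⧸ M) = c x y
    congr 1
    exact Subtype.ext hw
  have hCMbot : CM = ⊥ := by
    by_contra hne
    obtain ⟨k, hk, hk1, hkb⟩ := exists_fixed_ne_one ψZ b₀ hb₀p hZexp CM hCMinv hne
    -- `fZ` maps `CM` onto `CM`, so it is injective there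
    have hto : ∀ w : CM, fZ (w : Z) ∈ CM := fun w => CM.div_mem (hCMinv _ w.2) w.2
    have hsur : Function.Surjective (fun w : CM => (⟨fZ (w : Z), hto w⟩ : CM)) := by
      rintro ⟨w, hw⟩
      obtain ⟨u, hu, rfl⟩ := hCMle hw
      exact ⟨⟨u, hu⟩, rfl⟩
    have hinj := (Finite.injective_iff_surjective).mpr hsur
    refine hk1 (congrArg Subtype.val (@hinj ⟨k, hk⟩ ⟨1, one_mem _⟩ (Subtype.ext ?_)))
    show fZ k = fZ 1
    rw [map_one]
    exact div_eq_one.mpr hkb
  -- so `D` is abelian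
  have hDab : D ≤ Z := fun x hx => ⟨hx, mem_centralizer_iff.mpr fun y hy => by
    have hmem : y * x * y⁻¹ * x⁻¹ ∈ Z :=
      ⟨D.mul_mem (D.mul_mem (D.mul_mem hy hx) (D.inv_mem hy)) (D.inv_mem hx),
        mem_centralizer_iff.mpr fun t ht => (hDcl y hy x hx t ht).symm⟩
    have h1 : (⟨_, hmem⟩ : Z) ∈ CM := Subgroup.subset_closure ⟨⟨y, hy⟩, ⟨x, hx⟩, rfl⟩
    rw [hCMbot, mem_bot] at h1
    exact mul_inv_eq_iff_eq_mul.mp (mul_inv_eq_one.mp (congrArg Subtype.val h1))⟩
  have hQD : Q ≤ centralizer (D : Set G) := fun q hq =>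
    mem_centralizer_iff.mpr fun d hd => (hQZ q hq d (hDab hd)).symm
  have h1 := hdet Q (by rw [normalizer_eq_top]; exact le_top) (((hp'.coprime_iff_not_dvd).mpr hQ).symm) hQD
  exact hQne (le_bot_iff.mp (hQR ▸ le_inf le_rfl (h1.trans hcs)))

end H72
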