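/-
Balance for two commuting elements of order `p` with solvable centralizers.
-/
import Cfsg.Agent.H7.Signalizer

set_option autoImplicit false
open Cfsg Cfsg.Comp

namespace H72

variable {G : Type*} [Group G] [Finite G] {p : ℕ} [Fact p.Prime]

theorem centralizerPPrimeCore_inf_le {a b : G} (ha : a ^ p = 1) (hab : a * b = b * a)
    (hb : Group.IsSolvable ↥(Subgroup.centralizer ({b} : Set G))) :
    centralizerPPrimeCore p a ⊓ Subgroup.centralizer {b} ≤ centralizerPPrimeCore p b := by
  set C := Subgroup.centralizer ({b} : Set G)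
  set W := centralizerPPrimeCore p a ⊓ C
  have hn : Subgroup.centralizer ({a} : Set G) ≤
      Subgroup.normalizer (centralizerPPrimeCore p a : Set G) :=
    Subgroup.le_normalizer.trans (Cfsg.Comp.le_normalizer_map_subtype _)
  have haC : a ∈ C := Subgroup.mem_centralizer_singleton_iff.mpr hab
  refine (Subgroup.map_subgroupOf_eq_of_le (inf_le_right : W ≤ C)).ge.trans (Subgroup.map_mono ?_)
  refine H7.le_pPrimeCore_of_solvable (a := (⟨a, haC⟩ : C)) (Subtype.ext ha) ?_ ?_ ?_
  · intro w hw
    refine Subgroup.mem_centralizer_singleton_iff.mpr (Subtype.ext ?_)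
    exact Subgroup.mem_centralizer_singleton_iff.mp (Subgroup.map_subtype_le _ hw.1)
  · intro c hc
    have hca : (c : G) ∈ Subgroup.centralizer ({a} : Set G) :=
      Subgroup.mem_centralizer_singleton_iff.mpr
        (congrArg Subtype.val (Subgroup.mem_centralizer_singleton_iff.mp hc))
    have h1 : (c : G) ∈ Subgroup.normalizer (W : Set G) :=
      Cfsg.Comp.inf_le_normalizer (T := Subgroup.centralizer ({a} : Set G) ⊓ C)
        (inf_le_left.trans hn) (inf_le_right.trans Subgroup.le_normalizer) ⟨hca, c.2⟩
    exact Subgroup.le_normalizer_comap C.subtype h1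
  · rw [Cfsg.Comp.card_subgroupOf inf_le_right]
    intro hd
    refine not_dvd_card_pPrimeCore (G := ↥(Subgroup.centralizer ({a} : Set G))) p ?_
    rw [← Subgroup.card_map_of_injective (Subgroup.centralizer ({a} : Set G)).subtype_injective]
    exact hd.trans (Subgroup.card_dvd_of_le inf_le_left)

end H72
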