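/-
A cyclic group of order `p` permuting `p` elements of an elementary abelian `p`-group with product outside an
invariant subgroup `K`: the index of `K` is at least `p ^ p`.
-/
import Mathlib

set_option autoImplicit false

namespace H72

theorem pow_le_index_add {W : Type*} [AddCommGroup W] [Finite W] {p : ℕ} [Fact p.Prime]
    [Module (ZMod p) W] (τ₀ : W →+ W) (hp₀ : ∀ v, τ₀^[p] v = v) (K : AddSubgroup W)
    (hK : ∀ v ∈ K, τ₀ v ∈ K) (x : W) (hx₀ : (∑ i ∈ Finset.range p, τ₀^[i] x) ∉ K) :
    p ^ p ≤ K.index := by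
  classical
  let τ : Module.End (ZMod p) W := AddMonoidHom.toZModLinearMap p τ₀
  have hτj : ∀ (j : ℕ) (v : W), (τ ^ j) v = τ₀^[j] v := fun j v => by
    rw [Module.End.pow_apply]; rfl
  have hτp : τ ^ p = 1 := LinearMap.ext fun v => by rw [hτj, hp₀]; rfl
  have hx : (∑ i ∈ Finset.range p, (τ ^ i) x) ∉ K := by simpa only [hτj] using hx₀
  have hpoly : (Polynomial.X - 1 : Polynomial (ZMod p)) ^ (p - 1)
      = ∑ i ∈ Finset.range p, Polynomial.X ^ i := by
    have h1 : (Polynomial.X - 1 : Polynomial (ZMod p)) ≠ 0 := by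
      simpa using Polynomial.X_sub_C_ne_zero (1 : ZMod p)
    refine mul_right_cancel₀ h1 ?_
    rw [geom_sum_mul, ← pow_succ, Nat.sub_add_cancel (Fact.out : p.Prime).one_le, sub_pow_char, one_pow]
  set D : Module.End (ZMod p) W := τ - 1 with hD
  have hDN : D ^ (p - 1) = ∑ i ∈ Finset.range p, τ ^ i := by
    have h := congrArg (Polynomial.aeval τ) hpoly
    simp only [map_pow, map_sub, map_one, map_sum, Polynomial.aeval_X] at h
    exact h
  have hDp : D ^ p = 0 := by
    have h1 : (Polynomial.X - 1 : Polynomial (ZMod p)) ^ p = Polynomial.X ^ p - 1 := by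
      rw [sub_pow_char, one_pow]
    have h := congrArg (Polynomial.aeval τ) h1
    simp only [map_pow, map_sub, map_one, Polynomial.aeval_X, hτp, sub_self] at h
    exact h
  have hx' : (D ^ (p - 1)) x ∉ K := by rw [hDN, LinearMap.sum_apply]; exact hx
  have hKD : ∀ v : W, v ∈ K → D v ∈ K := by
    intro v hv
    rw [hD, LinearMap.sub_apply, Module.End.one_apply]
    exact K.sub_mem (hK _ hv) hv
  have hpowK : ∀ (n : ℕ) (v : W), v ∈ K → (D ^ n) v ∈ K := by
    intro n
    induction n with
    | zero => intro v hv; exact hv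
    | succ n ih => intro v hv; rw [pow_succ', Module.End.mul_apply]; exact hKD _ (ih v hv)
  let Φ : (Fin p → ZMod p) → W ⧸ K := fun c =>
    QuotientAddGroup.mk (∑ j : Fin p, c j • (D ^ (j : ℕ)) x)
  have hinj : Function.Injective Φ := by
    intro v w h
    by_contra hne
    obtain ⟨j₀, hj₀, hmin⟩ : ∃ j₀ : Fin p, v j₀ ≠ w j₀ ∧ ∀ j < j₀, v j = w j := by
      have hex : ∃ j : Fin p, v j ≠ w j := Function.ne_iff.mp hne
      exact ⟨Fin.find _ hex, Fin.find_spec hex, fun j hj => not_not.mp (Fin.find_min hex hj)⟩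
    have h' := QuotientAddGroup.eq.mp h
    have hmem : (∑ j : Fin p, (w j - v j) • (D ^ (j : ℕ)) x) ∈ K := by
      simp only [sub_smul, Finset.sum_sub_distrib]
      rwa [sub_eq_add_neg, add_comm]
    have hm := hpowK (p - 1 - j₀) _ hmem
    rw [map_sum, Finset.sum_eq_single j₀] at hm
    rotate_left
    · intro j _ hj
      rcases lt_or_gt_of_ne hj with hlt | hgt
      · rw [hmin j hlt, sub_self, zero_smul, map_zero]
      · rw [map_smul, ← Module.End.mul_apply, ← pow_add]
        have hle : p ≤ p - 1 - (j₀ : ℕ) + (j : ℕ) := by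
          have := j₀.2; have : (j₀ : ℕ) < j := hgt; omega
        rw [pow_eq_zero_of_le hle hDp]
        simp
    · intro h; exact absurd (Finset.mem_univ _) h
    rw [map_smul, ← Module.End.mul_apply, ← pow_add,
      show p - 1 - (j₀ : ℕ) + (j₀ : ℕ) = p - 1 by have := j₀.2; omega] at hm
    have hc : w j₀ - v j₀ ≠ 0 := sub_ne_zero.mpr (Ne.symm hj₀)
    have hcl : ∀ (c : ℕ) (u : W), u ∈ K → (c : ZMod p) • u ∈ K := by
      intro c u hu
      rw [Nat.cast_smul_eq_nsmul]; exact K.nsmul_mem hu c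
    have hfin := hcl (w j₀ - v j₀)⁻¹.val _ hm
    rw [ZMod.natCast_zmod_val, inv_smul_smul₀ hc] at hfin
    exact hx' hfin
  have h1 := Nat.card_le_card_of_injective Φ hinj
  rw [Nat.card_eq_fintype_card, Fintype.card_fun, ZMod.card, Fintype.card_fin, ← AddSubgroup.index_eq_card] at h1
  exact h1

theorem pow_le_index_of_norm_notMem {V : Type*} [CommGroup V] [Finite V] {p : ℕ} [Fact p.Prime]
    (hp : ∀ v : V, v ^ p = 1) (σ : MulAut V) (hσ : σ ^ p = 1) (K : Subgroup V)
    (hK : ∀ v ∈ K, σ v ∈ K) (x : V) (hx : ∏ i ∈ Finset.range p, (σ ^ i) x ∉ K) :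
    p ^ p ≤ K.index := by
  letI hmod : Module (ZMod p) (Additive V) := AddCommGroup.zmodModule fun v =>
    Additive.toMul.injective (by simpa using hp (Additive.toMul v))
  have hit : ∀ (j : ℕ) (v : Additive V), (MonoidHom.toAdditive σ.toMonoidHom)^[j] v
      = Additive.ofMul ((σ ^ j) (Additive.toMul v)) := by
    intro j
    induction j with
    | zero => intro v; rfl
    | succ j ih =>
      intro v
      rw [Function.iterate_succ_apply, ih, pow_succ, MulAut.mul_apply]
      rfl
  refine pow_le_index_add (W := Additive V) (p := p) (MonoidHom.toAdditive σ.toMonoidHom)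
    (fun v => by rw [hit, hσ]; rfl) (Subgroup.toAddSubgroup K) (fun v hv => hK _ hv) (Additive.ofMul x)
    (fun h => hx ?_)
  rw [Finset.sum_congr rfl (fun i _ => hit i _), ← ofMul_prod] at h
  exact h

end H72
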