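import Mathlib

set_option autoImplicit false

namespace H72

variable {G : Type*} [Group G]

theorem mem_normalizer_of_map_eq {g : G} {A : Subgroup G} :
    A.map (MulAut.conj g).toMonoidHom = A ↔ g ∈ Subgroup.normalizer (A : Set G) := by
  rw [Subgroup.mem_normalizer_iff]
  constructor
  · intro h a
    conv_rhs => rw [← h]
    constructor
    · exact fun ha => ⟨a, ha, by simp⟩
    · rintro ⟨b, hb, e⟩
      have : b = a := (MulAut.conj g).injective (by simpa using e)
      rwa [← this]
  · intro h
    ext x
    constructor
    · rintro ⟨b, hb, rfl⟩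
      exact (h b).mp hb
    · intro hx
      exact ⟨g⁻¹ * x * g, (h _).mpr (by simpa [mul_assoc] using hx), by simp [mul_assoc]⟩

theorem mem_normalizer_of_map_le [Finite G] {g : G} {A : Subgroup G}
    (h : A.map (MulAut.conj g).toMonoidHom ≤ A) : g ∈ Subgroup.normalizer (A : Set G) :=
  mem_normalizer_of_map_eq.mp
    (Subgroup.eq_of_le_of_card_ge h (Subgroup.card_map_of_injective (MulAut.conj g).injective).ge)

end H72
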