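import Mathlib
import Cfsg.Agent.CompBasic

/-!
Fixed points of a group on an abelian normal subgroup form a direct factor of the fixed points of a
Sylow subgroup.
-/

set_option autoImplicit false
set_option linter.style.haveILetI false

open Subgroup

namespace H72

variable {G : Type*} [Group G] [Finite G] {p : ℕ} [Fact p.Prime]

/-- The norm from `S` to `H` splits `C_A(H)` off `C_A(S)`. -/
theorem exists_factor_fixed (A H S : Subgroup G) [IsMulCommutative A]
    (hA : IsPGroup p A) (hHA : H ≤ normalizer (A : Set G)) (hSH : S ≤ H) (hidx : ¬ p ∣ S.relIndex H) :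
    ∃ K : Subgroup G, K ≤ A ⊓ centralizer (S : Set G) ∧ (A ⊓ centralizer (H : Set G)) ⊓ K = ⊥ ∧
      (A ⊓ centralizer (H : Set G)) ⊔ K = A ⊓ centralizer (S : Set G) := by
  classical
  set Z := A ⊓ centralizer (S : Set G) with hZ
  set W := A ⊓ centralizer (H : Set G) with hW
  have hWZ : W ≤ Z := inf_le_inf_left _ (centralizer_le hSH)
  letI : CommGroup A :=
    { (inferInstance : Group A) with mul_comm := fun x y => IsMulCommutative.is_comm.comm x y }
  letI : Fintype (↥H ⧸ S.subgroupOf H) := Fintype.ofFinite _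
  let τ : ↥H ⧸ S.subgroupOf H → Z → A := fun q z =>
    Quotient.liftOn' q
      (fun h => (⟨(h : G) * z * (h : G)⁻¹, (mem_normalizer_iff.mp (hHA h.2) z).mp z.2.1⟩ : A))
      (fun a b hab => Subtype.ext (by
        rw [QuotientGroup.leftRel_apply, mem_subgroupOf] at hab
        have h1 := mem_centralizer_iff.mp z.2.2 _ hab
        simp only [Subgroup.coe_mul, Subgroup.coe_inv] at h1
        show (a : G) * (z : G) * (a : G)⁻¹ = (b : G) * (z : G) * (b : G)⁻¹
        calc (a : G) * (z : G) * (a : G)⁻¹ = (a : G) * ((z : G) * ((a : G)⁻¹ * b)) * (b : G)⁻¹ := by group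
          _ = (a : G) * (((a : G)⁻¹ * b) * z) * (b : G)⁻¹ := by rw [h1]
          _ = (b : G) * (z : G) * (b : G)⁻¹ := by group))
  have hτ : ∀ (h : H) (z : Z), (τ (h : ↥H ⧸ S.subgroupOf H) z : G) = (h : G) * z * (h : G)⁻¹ := fun _ _ => rfl
  let ν : Z →* A :=
    { toFun := fun z => ∏ q : ↥H ⧸ S.subgroupOf H, τ q z
      map_one' := Finset.prod_eq_one fun q _ => by
        induction q using QuotientGroup.induction_on with
        | _ h => exact Subtype.ext (by rw [hτ]; simp)
      map_mul' := fun x y => by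
        rw [← Finset.prod_mul_distrib]
        refine Finset.prod_congr rfl fun q _ => ?_
        induction q using QuotientGroup.induction_on with
        | _ h => exact Subtype.ext (by rw [hτ, Subgroup.coe_mul, Subgroup.coe_mul, hτ, hτ]; group) }
  have hν : ∀ z, ν z = ∏ q : ↥H ⧸ S.subgroupOf H, τ q z := fun _ => rfl
  have hνW : ∀ z, (ν z : G) ∈ W := by
    intro z
    refine ⟨(ν z).2, mem_centralizer_iff.mpr fun h hh => ?_⟩
    let c : A →* A := ((MulAut.conj h).toMonoidHom.comp A.subtype).codRestrict A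
      fun a => (mem_normalizer_iff.mp (hHA hh) a).mp a.2
    have hc : c (ν z) = ν z := by
      rw [hν, map_prod]
      refine Fintype.prod_equiv (MulAction.toPerm (⟨h, hh⟩ : H)) _ _ fun q => ?_
      induction q using QuotientGroup.induction_on with
      | _ k =>
        refine Subtype.ext ?_
        show h * (τ (k : ↥H ⧸ S.subgroupOf H) z : G) * h⁻¹ = (τ ((⟨h, hh⟩ * k : H) : ↥H ⧸ S.subgroupOf H) z : G)
        rw [hτ, hτ, Subgroup.coe_mul]
        group
    exact mul_inv_eq_iff_eq_mul.mp (congrArg Subtype.val hc)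
  set n := Fintype.card (↥H ⧸ S.subgroupOf H) with hn
  have hνfix : ∀ z : Z, (z : G) ∈ W → (ν z : G) = (z : G) ^ n := by
    intro z hz
    have hconst : ∀ q, τ q z = ⟨z, z.2.1⟩ := by
      intro q
      induction q using QuotientGroup.induction_on with
      | _ h =>
        refine Subtype.ext ?_
        rw [hτ, mem_centralizer_iff.mp hz.2 (h : G) h.2, mul_inv_cancel_right]
    rw [hν, Finset.prod_congr rfl (fun q _ => hconst q), Finset.prod_const, SubmonoidClass.coe_pow]
    rfl
  have hnp : ¬ p ∣ n := by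
    rw [hn, ← Nat.card_eq_fintype_card]; exact hidx
  have hcop : (Nat.card W).Coprime n := by
    obtain ⟨k, hk⟩ := IsPGroup.iff_card.mp (hA.to_le (inf_le_left : W ≤ A))
    rw [hk]
    exact ((Fact.out : p.Prime).coprime_iff_not_dvd.mpr hnp).pow_left k
  refine ⟨ν.ker.map Z.subtype, map_subtype_le _, ?_, ?_⟩
  · rw [eq_bot_iff]
    rintro _ ⟨hw, ⟨z, hz, rfl⟩⟩
    have h1 := hνfix z hw
    rw [MonoidHom.mem_ker.mp hz, OneMemClass.coe_one] at h1
    have h2 : (⟨(z : G), hw⟩ : W) ^ n = 1 := Subtype.ext h1.symm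
    have h3 : (powCoprime hcop) ⟨(z : G), hw⟩ = (powCoprime hcop) 1 := by
      show (⟨(z : G), hw⟩ : W) ^ n = (1 : W) ^ n
      rw [h2, one_pow]
    exact mem_bot.mpr (congrArg Subtype.val ((powCoprime hcop).injective h3))
  · refine le_antisymm (sup_le hWZ (map_subtype_le _)) fun z hz => ?_
    obtain ⟨w, hw⟩ := (powCoprime hcop).surjective ⟨_, hνW ⟨z, hz⟩⟩
    have hw' : (w : G) ^ n = (ν ⟨z, hz⟩ : G) := congrArg Subtype.val hw
    have hk : (⟨(w : G), hWZ w.2⟩ : Z)⁻¹ * ⟨z, hz⟩ ∈ ν.ker := by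
      rw [MonoidHom.mem_ker, map_mul, map_inv]
      refine Subtype.ext ?_
      rw [Subgroup.coe_mul, Subgroup.coe_inv, hνfix _ w.2]
      show ((w : G) ^ n)⁻¹ * (ν ⟨z, hz⟩ : G) = 1
      rw [hw', inv_mul_cancel]
    have h1 : (w : G)⁻¹ * z ∈ ν.ker.map Z.subtype := ⟨_, hk, rfl⟩
    rw [show z = (w : G) * ((w : G)⁻¹ * z) by group]
    exact mul_mem (mem_sup_left w.2) (mem_sup_right h1)

end H72
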