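import Mathlib
import Cfsg.Prelude.Def_CaseTheorems
import Cfsg.Agent.CompBasic
import Cfsg.Agent.H1.Cores
import Cfsg.Agent.H85.Basic

/-!
A four-group normal in a Sylow `2`-subgroup lies in `O₂` of the centralizers of its involutions, in
groups of characteristic `2` type.
-/

set_option autoImplicit false
set_option linter.style.haveILetI false

open Subgroup

namespace H72

variable {G : Type*} [Group G] [Finite G]

/-- `O₂` of the centralizer of `u`, inside `G`. -/
noncomputable def invCore (u : G) : Subgroup G :=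
  (Cfsg.pCore 2 ↥(normalizer ((zpowers u : Subgroup G) : Set G))).map
    (normalizer ((zpowers u : Subgroup G) : Set G)).subtype

theorem normalizer_zpowers_involution {u : G} (hu : u * u = 1) (g : G) :
    g ∈ normalizer ((zpowers u : Subgroup G) : Set G) ↔ g * u = u * g := by
  constructor
  · intro hg
    by_cases hu1 : u = 1
    · subst hu1; simp
    have h1 : g * u * g⁻¹ ∈ zpowers u := (mem_normalizer_iff.mp hg u).mp (mem_zpowers u)
    obtain ⟨i, hi⟩ := mem_zpowers_iff.mp h1
    have h2 : u ^ i = 1 ∨ u ^ i = u := by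
      rcases Int.even_or_odd i with ⟨j, rfl⟩ | ⟨j, rfl⟩
      · left; rw [← two_mul, zpow_mul, show u ^ (2 : ℤ) = 1 by rw [zpow_two, hu], one_zpow]
      · right; rw [zpow_add_one, zpow_mul, show u ^ (2 : ℤ) = 1 by rw [zpow_two, hu], one_zpow, one_mul]
    rcases h2 with h | h <;> rw [h] at hi
    · exact absurd (mul_inv_eq_one.mp hi.symm) (fun h' => hu1 (mul_left_cancel (h'.trans (mul_one g).symm)))
    · exact mul_inv_eq_iff_eq_mul.mp hi.symm
  · intro hg
    refine H85.mem_normalizer_of_conj fun x hx => ?_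
    obtain ⟨i, rfl⟩ := mem_zpowers_iff.mp hx
    rw [← conj_zpow, hg, mul_inv_cancel_right]
    exact zpow_mem (mem_zpowers u) i

theorem invCore_le_of_sylow {u : G} {P : Sylow 2 G} (hP : (P : Subgroup G) ≤ normalizer ((zpowers u : Subgroup G) : Set G)) :
    invCore u ≤ (P : Subgroup G) := by
  haveI : Fact (Nat.Prime 2) := ⟨Nat.prime_two⟩
  rintro _ ⟨x, hx, rfl⟩
  exact H1.pCore_le_sylow (P.subtype hP) hx

theorem conj_mem_invCore {u : G} {m x : G} (hm : m ∈ normalizer ((zpowers u : Subgroup G) : Set G))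
    (hx : x ∈ invCore u) : m * x * m⁻¹ ∈ invCore u := by
  obtain ⟨y, hy, rfl⟩ := hx
  exact ⟨⟨m, hm⟩ * y * ⟨m, hm⟩⁻¹, (H1.pCore_normal' 2 _).conj_mem y hy _, rfl⟩

/-- An element of `C(u)` centralizing `O₂(C(u))` lies in it. -/
theorem mem_invCore_of_centralizes (h2 : Cfsg.IsCharacteristicTwoType G) {u : G} (hu : orderOf u = 2)
    {x : G} (hxM : x ∈ normalizer ((zpowers u : Subgroup G) : Set G))
    (hx : ∀ q ∈ invCore u, q * x = x * q) : x ∈ invCore u := by
  haveI : Fact (Nat.Prime 2) := ⟨Nat.prime_two⟩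
  have hp : IsPGroup 2 (zpowers u) := IsPGroup.of_card (n := 1) (by rw [Nat.card_zpowers, hu, pow_one])
  have hne : zpowers u ≠ ⊥ := fun h => by
    rw [zpowers_eq_bot] at h
    rw [h, orderOf_one] at hu
    exact absurd hu (by omega)
  refine ⟨⟨x, hxM⟩, h2.2 _ hp hne (mem_centralizer_iff.mpr fun q hq => Subtype.ext ?_), rfl⟩
  exact hx _ ⟨q, hq, rfl⟩

/-- A four-group normalized by a Sylow `2`-subgroup of `G` inside `C(u)`, `u ∈ U`, lies in `O₂(C(u))`. -/
theorem four_le_invCore (h2 : Cfsg.IsCharacteristicTwoType G) (U : Subgroup G) (hU4 : IsKleinFour ↥U)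
    {u : G} (hu : u ∈ U) (hu1 : u ≠ 1) (P : Sylow 2 G) (hPu : ∀ x ∈ (P : Subgroup G), x * u = u * x)
    (hPU : (P : Subgroup G) ≤ normalizer (U : Set G)) : U ≤ invCore u := by
  classical
  haveI := hU4
  haveI : Fact (Nat.Prime 2) := ⟨Nat.prime_two⟩
  have hsq : ∀ v ∈ U, v * v = 1 := fun v hv => congrArg Subtype.val (IsKleinFour.mul_self (⟨v, hv⟩ : U))
  have hcomm : ∀ v ∈ U, ∀ w ∈ U, v * w = w * v := fun v hv w hw => by
    have h1 : (v * w)⁻¹ = v * w := inv_eq_of_mul_eq_one_right (hsq _ (U.mul_mem hv hw))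
    rw [mul_inv_rev, inv_eq_of_mul_eq_one_right (hsq v hv), inv_eq_of_mul_eq_one_right (hsq w hw)] at h1
    exact h1.symm
  have huo : orderOf u = 2 := orderOf_eq_prime (by rw [pow_two]; exact hsq u hu) hu1
  set M := normalizer ((zpowers u : Subgroup G) : Set G) with hM
  have hPM : (P : Subgroup G) ≤ M := fun x hx => (normalizer_zpowers_involution (hsq u hu) x).mpr (hPu x hx)
  have hUM : U ≤ M := fun v hv => (normalizer_zpowers_involution (hsq u hu) v).mpr (hcomm v hv u hu)
  have hQP : invCore u ≤ (P : Subgroup G) := invCore_le_of_sylow hPM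
  -- the stabilizer of the series `1 ≤ ⟨u⟩ ≤ O₂`
  let L : Subgroup M :=
    { carrier := {m | ∀ q ∈ invCore u, (m : G) * q * (m : G)⁻¹ * q⁻¹ ∈ zpowers u}
      one_mem' := fun q _ => by simp
      mul_mem' := fun {a b} ha hb q hq => by
        have h1 := hb q hq
        have h2 := ha q hq
        have h3 : (a : G) * ((b : G) * q * (b : G)⁻¹ * q⁻¹) * (a : G)⁻¹ ∈ zpowers u :=
          (mem_normalizer_iff.mp a.2 _).mp h1
        show ((a * b : M) : G) * q * ((a * b : M) : G)⁻¹ * q⁻¹ ∈ zpowers u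
        rw [Subgroup.coe_mul, show (a : G) * b * q * ((a : G) * b)⁻¹ * q⁻¹ =
          ((a : G) * ((b : G) * q * (b : G)⁻¹ * q⁻¹) * (a : G)⁻¹) * ((a : G) * q * (a : G)⁻¹ * q⁻¹) by group]
        exact mul_mem h3 h2
      inv_mem' := fun {a} ha q hq => by
        have h2 := inv_mem (ha q hq)
        have h3 : (a : G)⁻¹ * ((a : G) * q * (a : G)⁻¹ * q⁻¹)⁻¹ * (a : G) ∈ zpowers u :=
          (mem_normalizer_iff''.mp a.2 _).mp h2
        show ((a⁻¹ : M) : G) * q * ((a⁻¹ : M) : G)⁻¹ * q⁻¹ ∈ zpowers u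
        rw [Subgroup.coe_inv, show (a : G)⁻¹ * q * ((a : G)⁻¹)⁻¹ * q⁻¹ =
          (a : G)⁻¹ * ((a : G) * q * (a : G)⁻¹ * q⁻¹)⁻¹ * (a : G) by group]
        exact h3 }
  haveI : L.Normal := ⟨fun a ha m q hq => by
    have hq' : (m : G)⁻¹ * q * m ∈ invCore u := by
      have := conj_mem_invCore (inv_mem m.2) hq
      simpa using this
    have h3 : (m : G) * ((a : G) * ((m : G)⁻¹ * q * m) * (a : G)⁻¹ * ((m : G)⁻¹ * q * m)⁻¹) * (m : G)⁻¹ ∈ zpowers u :=
      (mem_normalizer_iff.mp m.2 _).mp (ha _ hq')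
    show ((m * a * m⁻¹ : M) : G) * q * ((m * a * m⁻¹ : M) : G)⁻¹ * q⁻¹ ∈ zpowers u
    convert h3 using 1
    simp only [Subgroup.coe_mul, Subgroup.coe_inv]
    group⟩
  have hQp : IsPGroup 2 (invCore u) := P.isPGroup'.to_le hQP
  have hLp : IsPGroup 2 L := by
    intro m
    refine ⟨(orderOf ((m : M) : G)).factorization 2, Subtype.ext (Subtype.ext ?_)⟩
    simp only [SubmonoidClass.coe_pow, OneMemClass.coe_one]
    set k := (orderOf ((m : M) : G)).factorization 2
    set y : G := ((m : M) : G) ^ 2 ^ k with hy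
    have hyo : ¬ 2 ∣ orderOf y := by
      rw [hy, orderOf_pow_of_dvd (pow_ne_zero _ two_ne_zero) (Nat.ordProj_dvd _ _)]
      exact Nat.not_dvd_ordCompl Nat.prime_two (orderOf_pos _).ne'
    have hyL := (L.pow_mem m.2 (2 ^ k))
    have hyM : y ∈ M := M.pow_mem (m : M).2 _
    have hyc : ∀ q ∈ invCore u, q * y = y * q := by
      intro q hq
      have h1 : y * q * y⁻¹ * q⁻¹ ∈ zpowers u := by
        have := hyL q hq
        rwa [SubmonoidClass.coe_pow] at this
      have hyu : y * u = u * y := (normalizer_zpowers_involution (hsq u hu) y).mp hyM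
      refine (Cfsg.Comp.commute_of_commutator_commute (IsPGroup.of_card (n := 1)
        (by rw [Nat.card_zpowers, huo, pow_one]) : IsPGroup 2 (zpowers u)) hyo h1 ?_).symm
      obtain ⟨i, hi⟩ := mem_zpowers_iff.mp h1
      rw [← hi]
      exact (show Commute y u from hyu).zpow_right i
    have hyQ := mem_invCore_of_centralizes h2 huo hyM hyc
    obtain ⟨j, hj⟩ := IsPGroup.iff_orderOf.mp hQp ⟨y, hyQ⟩
    rw [Subgroup.orderOf_mk] at hj
    rcases j with _ | j
    · rw [pow_zero] at hj
      exact orderOf_eq_one_iff.mp hj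
    · exact absurd (hj ▸ dvd_pow_self 2 (Nat.succ_ne_zero j)) hyo
  intro v hv
  refine ⟨⟨v, hUM hv⟩, H1.le_pCore hLp (show (⟨v, hUM hv⟩ : M) ∈ L from fun q hq => ?_), rfl⟩
  have hqP := hQP hq
  have hqv : q * v * q⁻¹ ∈ U := (mem_normalizer_iff.mp (hPU hqP) v).mp hv
  have hmem : v * q * v⁻¹ * q⁻¹ = v * (q * v⁻¹ * q⁻¹) := by group
  have hvinv : v⁻¹ = v := inv_eq_of_mul_eq_one_right (hsq v hv)
  rw [hmem, hvinv]
  by_cases hvu : v ∈ zpowers u
  · obtain ⟨i, hi⟩ := mem_zpowers_iff.mp hvu
    have : q * v * q⁻¹ = v := by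
      rw [← hi, ← conj_zpow, hPu q hqP, mul_inv_cancel_right]
    rw [this, hsq v hv]
    exact one_mem _
  · have hcases : q * v * q⁻¹ = v ∨ q * v * q⁻¹ = v * u := by
      have hv1 : v ≠ 1 := fun h => hvu (h ▸ one_mem _)
      have hvu' : v ≠ u := fun h => hvu (h ▸ mem_zpowers u)
      have huniq : ∀ w ∈ U, w = 1 ∨ w = u ∨ w = v ∨ w = v * u := by
        intro w hw
        by_contra hcon
        push Not at hcon
        obtain ⟨h1, h2', h3, h4⟩ := hcon
        have hvu1 : v * u ≠ 1 := fun h => hvu' (by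
          have := congrArg (· * u) h
          simpa [mul_assoc, hsq u hu] using this)
        have hvu2 : v * u ≠ u := fun h => hv1 (mul_eq_right.mp h)
        have hvu3 : v * u ≠ v := fun h => hu1 (mul_eq_left.mp h)
        let f : Fin 5 → U := ![1, ⟨u, hu⟩, ⟨v, hv⟩, ⟨v * u, U.mul_mem hv hu⟩, ⟨w, hw⟩]
        have hf : Function.Injective f := by
          intro a b hab
          have hab' := congrArg Subtype.val hab
          fin_cases a <;> fin_cases b <;> simp [f] at hab' ⊢ <;>
            first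
              | exact absurd hab' hu1 | exact absurd hab'.symm hu1
              | exact absurd hab' hv1 | exact absurd hab'.symm hv1
              | exact absurd hab' hvu1 | exact absurd hab'.symm hvu1
              | exact absurd hab' hvu' | exact absurd hab'.symm hvu'
              | exact absurd hab' hvu2 | exact absurd hab'.symm hvu2
              | exact absurd hab' hvu3 | exact absurd hab'.symm hvu3
              | exact absurd hab' h1 | exact absurd hab'.symm h1
              | exact absurd hab' h2' | exact absurd hab'.symm h2'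
              | exact absurd hab' h3 | exact absurd hab'.symm h3
              | exact absurd hab' h4 | exact absurd hab'.symm h4
        have h5 := Nat.card_le_card_of_injective f hf
        rw [Nat.card_fin, IsKleinFour.card_four] at h5
        omega
      rcases huniq _ hqv with h | h | h | h
      · exact absurd (mul_inv_eq_one.mp h) (fun h' => hv1 (mul_eq_left.mp h'))
      · exfalso
        apply hvu'
        have h' : q * v = q * u := (mul_inv_eq_iff_eq_mul.mp h).trans (hPu q hqP).symm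
        exact mul_left_cancel h'
      · exact Or.inl h
      · exact Or.inr h
    rcases hcases with h | h <;> rw [h]
    · rw [hsq v hv]; exact one_mem _
    · rw [← mul_assoc, hsq v hv, one_mul]; exact mem_zpowers u

end H72
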