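import Cfsg.Agent.H73.KCritical
import Cfsg.Agent.H73.KFunctor
import Cfsg.Agent.H73.NonStable
import Cfsg.Agent.H6.AutPGroup
import Cfsg.Agent.H6.SL2Section
import Cfsg.Agent.H10.PStability
import Cfsg.Agent.S0093

/-!
Glauberman's K-infinity subgroup of any `p`-subgroup containing `O_p(X)` is normal in `X`, when `X` is
`p`-constrained with abelian Sylow 2-subgroups (`p` odd).
-/

set_option autoImplicit false
set_option linter.all false

open Subgroup
open scoped commutatorElement

namespace H72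

universe u

variable {G : Type u} [Group G] [Finite G] {p : ℕ} [Fact p.Prime]

/-- With abelian Sylow 2-subgroups nothing acts quadratically and nontrivially on a chief factor. -/
theorem quad_trivial_on_chief (hp : p ≠ 2) (hab : ∀ T : Sylow 2 G, IsMulCommutative T)
    {U V : Subgroup G} (hUV : Cfsg.IsChiefFactor U V) (hU : IsPGroup p U) {g : G}
    (h2 : ⁅⁅U, zpowers g⁆, zpowers g⁆ ≤ V) : ⁅U, zpowers g⁆ ≤ V := by
  haveI : Fact (Nat.Prime 2) := ⟨Nat.prime_two⟩
  haveI := hUV.2.1
  haveI := hUV.2.2.1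
  set π := QuotientGroup.mk' V with hπ
  have hπs : Function.Surjective π := QuotientGroup.mk'_surjective V
  set P := U.map π with hP
  haveI : P.Normal := Subgroup.Normal.map inferInstance π hπs
  have hPp : IsPGroup p P := hU.map π
  have hPne : P ≠ ⊥ := by
    rw [hP, ne_eq, Subgroup.map_eq_bot_iff, hπ, QuotientGroup.ker_mk']
    exact hUV.1.not_ge
  -- the Frattini subgroup of the minimal normal subgroup `P` is trivial
  set Φ := (frattini P).map P.subtype with hΦ
  haveI : Φ.Normal := H10.map_subtype_normal inferInstance _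
  have hΦbot : Φ = ⊥ := by
    have h1 : V ≤ Φ.comap π := fun v hv => by
      show π v ∈ Φ
      rw [show π v = 1 from (QuotientGroup.eq_one_iff v).mpr hv]
      exact one_mem _
    have h3 : Φ.comap π ≤ U := by
      have : Φ ≤ P := Subgroup.map_subtype_le _
      refine (Subgroup.comap_mono this).trans ?_
      rw [hP, Subgroup.comap_map_eq, hπ, QuotientGroup.ker_mk']
      exact sup_le le_rfl hUV.1.le
    rcases hUV.2.2.2 _ inferInstance h1 h3 with h | h
    · rw [eq_bot_iff]
      intro y hy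
      obtain ⟨x, rfl⟩ := hπs y
      exact (QuotientGroup.eq_one_iff x).mpr (h.le hy)
    · exfalso
      have hΦP : Φ = P := by
        rw [hP, ← h, Subgroup.map_comap_eq_self_of_surjective hπs]
      haveI : Nontrivial P := (Subgroup.nontrivial_iff_ne_bot P).mpr hPne
      have : frattini P = ⊤ := by
        apply Subgroup.map_injective P.subtype_injective
        rw [← MonoidHom.range_eq_map, Subgroup.range_subtype]
        exact hΦP
      obtain ⟨M, hM⟩ := (IsCoatomic.eq_top_or_exists_le_coatom (⊥ : Subgroup P)).resolve_left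
        (fun hb => bot_ne_top hb)
      exact hM.1.1 (eq_top_iff.mpr (this.ge.trans (frattini_le_coatom hM.1)))
  have hV : Cfsg.IsElementaryAbelian p P := by
    have hmem : ∀ z : P, z ∈ frattini P → z = 1 := fun z hz => by
      have : (z : G ⧸ V) ∈ Φ := ⟨z, hz, rfl⟩
      rw [hΦbot] at this
      exact Subtype.ext this
    refine ⟨⟨⟨fun a b => commutatorElement_eq_one_iff_mul_comm.mp (hmem _ (H6.commutator_le_frattini hPp
      (commutator_mem_commutator (mem_top a) (mem_top b))))⟩⟩, fun a ha => ?_⟩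
    exact congrArg Subtype.val (hmem _ (H6.pow_prime_mem_frattini hPp ⟨a, ha⟩))
  have habq : ∀ T : Sylow 2 (G ⧸ V), IsMulCommutative T := by
    intro T
    obtain ⟨S, hS⟩ := Sylow.mapSurjective_surjective hπs 2 T
    subst hS
    refine ⟨⟨?_⟩⟩
    rintro ⟨x, hx⟩ ⟨y, hy⟩
    obtain ⟨s, hs, rfl⟩ := hx
    obtain ⟨t, ht, rfl⟩ := hy
    apply Subtype.ext
    show π s * π t = π t * π s
    rw [← map_mul, ← map_mul]
    exact congrArg π (congrArg Subtype.val ((hab S).is_comm.comm ⟨s, hs⟩ ⟨t, ht⟩))
  have hquad : ⁅⁅P, zpowers (π g)⁆, zpowers (π g)⁆ = ⊥ := by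
    rw [hP, ← MonoidHom.map_zpowers, ← Subgroup.map_commutator, ← Subgroup.map_commutator,
      Subgroup.map_eq_bot_iff, hπ, QuotientGroup.ker_mk']
    exact h2
  have hg := H10.isPStableOn_of_comm_sylow_two hp habq P hV (π g) hquad
  set q := QuotientGroup.mk' (centralizer (P : Set (G ⧸ V))) with hq
  set K := (Cfsg.pCore p _).comap (q.comp π) with hK
  haveI := H1.pCore_normal' p ((G ⧸ V) ⧸ centralizer (P : Set (G ⧸ V)))
  haveI : K.Normal := Subgroup.Normal.comap inferInstance _
  have hker : ∀ x : G, q (π x) = 1 → x ∈ H73.factorCentralizer U V := by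
    intro x hx u hu
    have h4 := mem_centralizer_iff.mp ((QuotientGroup.eq_one_iff (π x)).mp hx) (π u) ⟨u, hu, rfl⟩
    refine (QuotientGroup.eq_one_iff _).mp ?_
    show π ⁅u, x⁆ = 1
    rw [map_commutatorElement, commutatorElement_eq_one_iff_mul_comm]
    exact h4
  have hKle : K ≤ H73.factorCentralizer U V := H73.le_factorCentralizer_of_pPrime hUV hU fun x hx hxc =>
    hker x (H75.eq_one_of_mem_of_coprime (H1.isPGroup_pCore p _) hx
      (hxc.coprime_dvd_left (orderOf_map_dvd (q.comp π) x)))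
  exact H73.commutator_zpowers_le_iff.mpr (hKle (show g ∈ K from hg))

/-- `K_∞(R)` is normal for every `p`-subgroup `R` containing `O_p(G)`. -/
theorem kInfLower_normal_of_comm_sylow_two (hp : p ≠ 2) (hab : ∀ T : Sylow 2 G, IsMulCommutative T)
    (hC : centralizer ((Cfsg.pCore p G : Subgroup G) : Set G) ≤ Cfsg.pCore p G)
    {R : Subgroup G} (hR : IsPGroup p R) (hQR : Cfsg.pCore p G ≤ R) :
    (Cfsg.inducedFunctor Cfsg.kInfLower R).Normal := by
  by_contra hn
  set Q := Cfsg.pCore p G with hQ
  haveI := H1.pCore_normal' p G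
  have hQp : IsPGroup p Q := H1.isPGroup_pCore p G
  obtain ⟨H, hHchar, -, hH3, hH4⟩ := Cfsg.Agent.S0093.result (p := p) hQp
  haveI := hHchar
  set A := H.map Q.subtype with hA
  haveI : A.Normal := H1.map_subtype_normal_of_characteristic Q H
  have hAQ : A ≤ Q := Subgroup.map_subtype_le _
  have hzA : (H73.zc H).map Q.subtype = H73.zc A := H73.map_zc Q.subtype Q.subtype_injective H
  have hQA : ⁅Q, A⁆ ≤ H73.zc A := by
    have htop : (⊤ : Subgroup Q).map Q.subtype = Q := by
      rw [← MonoidHom.range_eq_map, Subgroup.range_subtype]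
    rw [← hzA, hA, Subgroup.commutator_comm]
    have h1 : ⁅H.map Q.subtype, (⊤ : Subgroup Q).map Q.subtype⁆ ≤ (H73.zc H).map Q.subtype := by
      rw [← Subgroup.map_commutator]
      exact Subgroup.map_mono hH3
    exact (Subgroup.commutator_mono le_rfl htop.ge).trans h1
  have hA2 : ⁅A, A⁆ ≤ H73.zc A := (Subgroup.commutator_mono hAQ le_rfl).trans hQA
  have hA5 : ∀ φ : MulAut ↥Q, (orderOf φ).Coprime p → (∀ a : ↥Q, (a : G) ∈ A → φ a = a) → φ = 1 :=
    fun φ hφ hfix => H6.eq_one_of_fixes_self_centralizing hQp hH4 φ hφ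
      fun x hx => hfix x ⟨x, hx, rfl⟩
  obtain ⟨g, -, hgQ, -, h2, hor⟩ := H73.exists_cubic hR hQR hAQ hA2 hQA (fun h => hn h.1)
  haveI hZn : (H73.zc A).Normal := H73.zc_normal inferInstance
  rcases hor with hall | ⟨U, V, hUV, hU, hne⟩
  · obtain ⟨U, V, hUV, hU, hne⟩ := H73.exists_chief_not_le hAQ hA5 hC hgQ
    exact hne (quad_trivial_on_chief hp hab hUV (hQp.to_le (hU.trans hAQ)) (hall U V hUV hU))
  · exact hne (quad_trivial_on_chief hp hab hUV (hQp.to_le (hU.trans ((H73.zc_le A).trans hAQ)))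
      ((Subgroup.commutator_mono (Subgroup.commutator_mono hU le_rfl) le_rfl).trans (h2.le.trans bot_le)))

end H72
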