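import Mathlib

/-!
A `p`-group `R` normal in `Γ`, with `Γ' ≤ R`, on whose commutator quotient `Γ` is transitive on
nontrivial elements and all whose elements outside `R'` have centralizer of order `|R : R'|`,
has class at most two, and for odd `p` all elements outside `R'` have order `p`.
-/

set_option autoImplicit false

open scoped commutatorElement

namespace H72

namespace LayerSection

theorem arith {r m s l a b : ℕ} (hr : 2 ≤ r) (hs : s < m) (hl : l < m) (hs0 : 0 < s) (hl0 : 0 < l)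
    (hab : a * b = r ^ m - 1) (ha : a ∣ r ^ s - 1) (hb : b ∣ r ^ l - 1) : False := by
  have hbound : ∀ {t c : ℕ}, t < m → 0 < t → c ∣ r ^ m - 1 → c ∣ r ^ t - 1 →
      c ≤ r ^ (m / 2) - 1 := by
    intro t c ht ht0 h1 h2
    have h3 : c ∣ r ^ Nat.gcd m t - 1 := by
      rw [← Nat.pow_sub_one_gcd_pow_sub_one]
      exact Nat.dvd_gcd h1 h2
    have hg0 : 0 < Nat.gcd m t := Nat.gcd_pos_of_pos_right _ ht0
    have hgt : Nat.gcd m t ≤ t := Nat.le_of_dvd ht0 (Nat.gcd_dvd_right m t)
    have hg2 : Nat.gcd m t ≤ m / 2 := by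
      obtain ⟨k, hk⟩ := Nat.gcd_dvd_left m t
      have hk2 : 2 ≤ k := by
        rcases k with _ | _ | k
        · simp at hk; omega
        · simp at hk; omega
        · omega
      rw [Nat.le_div_iff_mul_le (by norm_num)]
      calc Nat.gcd m t * 2 ≤ Nat.gcd m t * k := Nat.mul_le_mul_left _ hk2
        _ = m := hk.symm
    refine le_trans (Nat.le_of_dvd ?_ h3) (Nat.sub_le_sub_right (Nat.pow_le_pow_right (by omega) hg2) 1)
    have : r ≤ r ^ Nat.gcd m t := Nat.le_self_pow hg0.ne' r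
    omega
  have ha' := hbound hs hs0 ⟨b, hab.symm⟩ ha
  have hb' := hbound hl hl0 ⟨a, by rw [mul_comm]; exact hab.symm⟩ hb
  have h1 : a * b ≤ (r ^ (m / 2) - 1) * (r ^ (m / 2) - 1) := Nat.mul_le_mul ha' hb'
  have h2 : r ^ (m / 2) * r ^ (m / 2) ≤ r ^ m := by
    rw [← pow_add]; exact Nat.pow_le_pow_right (by omega) (by omega)
  have h3 : 2 ≤ r ^ (m / 2) := le_trans hr (Nat.le_self_pow (by omega) r)
  rw [hab] at h1
  obtain ⟨u, hu⟩ : ∃ u, r ^ (m / 2) = u + 1 := ⟨r ^ (m / 2) - 1, by omega⟩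
  rw [hu] at h1 h2 h3
  simp only [Nat.add_sub_cancel] at h1
  have h4 : (u + 1) * (u + 1) = u * u + 2 * u + 1 := by ring
  omega

variable {Γ : Type*} [Group Γ]

/-- The elements fixing every coset of `B` in `A`. -/
def Fix (A B : Subgroup Γ) (d : Γ) : Prop := ∀ a ∈ A, a⁻¹ * (d * a * d⁻¹) ∈ B

theorem card_map_mk' [Finite Γ] (A B : Subgroup Γ) [B.Normal] :
    Nat.card (A.map (QuotientGroup.mk' B)) = B.relIndex A := by
  rw [Subgroup.relIndex, Subgroup.index_eq_card]
  have hker : ((QuotientGroup.mk' B).comp A.subtype).ker = B.subgroupOf A := by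
    ext x; simp [Subgroup.mem_subgroupOf]
  rw [← hker, Nat.card_congr (QuotientGroup.quotientKerEquivRange _).toEquiv,
    MonoidHom.range_comp, Subgroup.range_subtype]

theorem card_orbit_dvd [Finite Γ] (D E A B : Subgroup Γ) (hBA : B ≤ A) (hED : E ≤ D)
    (hA : ∀ d ∈ D, ∀ a ∈ A, d * a * d⁻¹ ∈ A) (hB : ∀ d ∈ D, ∀ b ∈ B, d * b * d⁻¹ ∈ B)
    (hfix : ∀ d ∈ D, ∀ a ∈ A, a ∉ B → (a⁻¹ * (d * a * d⁻¹) ∈ B ↔ d ∈ E)) :
    E.relIndex D ∣ B.relIndex A - 1 := by
  classical
  let Q := ↥A ⧸ B.subgroupOf A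
  let X := {v : Q // v ≠ QuotientGroup.mk 1}
  have hwd : ∀ d : D, ∀ a a' : A, (a⁻¹ * a' : A) ∈ B.subgroupOf A →
      (QuotientGroup.mk (⟨d.1 * a.1 * d.1⁻¹, hA _ d.2 _ a.2⟩ : A) : Q) =
        QuotientGroup.mk ⟨d.1 * a'.1 * d.1⁻¹, hA _ d.2 _ a'.2⟩ := by
    intro d a a' h
    rw [QuotientGroup.eq, Subgroup.mem_subgroupOf]
    rw [Subgroup.mem_subgroupOf] at h
    simpa [mul_assoc] using hB d.1 d.2 _ h
  let act : D → Q → Q := fun d => Quotient.lift
    (fun a : A => (QuotientGroup.mk (⟨d.1 * a.1 * d.1⁻¹, hA _ d.2 _ a.2⟩ : A) : Q))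
    (fun a a' h => hwd d a a' (QuotientGroup.leftRel_apply.1 h))
  have hact : ∀ (d : D) (a : A),
      act d (QuotientGroup.mk a) = QuotientGroup.mk ⟨d.1 * a.1 * d.1⁻¹, hA _ d.2 _ a.2⟩ :=
    fun d a => rfl
  have hone : ∀ d : D, act d (QuotientGroup.mk 1) = QuotientGroup.mk 1 := fun d => by
    rw [hact]; congr 1; apply Subtype.ext; simp
  have hmulact : ∀ (d d' : D) (v : Q), act (d * d') v = act d (act d' v) := by
    intro d d' v
    induction v using QuotientGroup.induction_on with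
    | H a => rw [hact, hact, hact]; congr 1; apply Subtype.ext; simp [mul_assoc]
  have honeact : ∀ v : Q, act 1 v = v := by
    intro v
    induction v using QuotientGroup.induction_on with
    | H a => rw [hact]; congr 1; apply Subtype.ext; simp
  have hne : ∀ (d : D) (v : X), act d v.1 ≠ QuotientGroup.mk 1 := by
    intro d v h
    apply v.2
    rw [← honeact v.1, ← inv_mul_cancel d, hmulact, h, hone]
  letI : MulAction D X :=
    { smul := fun d v => ⟨act d v.1, hne d v⟩
      one_smul := fun v => Subtype.ext (honeact v.1)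
      mul_smul := fun d d' v => Subtype.ext (hmulact d d' v.1) }
  have hstab : ∀ v : X, MulAction.stabilizer D v = E.subgroupOf D := by
    rintro ⟨v, hv⟩
    induction v using QuotientGroup.induction_on with
    | H a =>
      have ha : (a : Γ) ∉ B := by
        intro h
        apply hv
        rw [QuotientGroup.eq, Subgroup.mem_subgroupOf]
        simpa using B.inv_mem h
      ext d
      rw [MulAction.mem_stabilizer_iff, Subgroup.mem_subgroupOf, Subtype.ext_iff]
      show act d (QuotientGroup.mk a) = QuotientGroup.mk a ↔ _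
      rw [hact, eq_comm, QuotientGroup.eq, Subgroup.mem_subgroupOf]
      exact hfix d.1 d.2 a.1 a.2 ha
  have hcard : Nat.card X = B.relIndex A - 1 := by
    have : Fintype Q := Fintype.ofFinite Q
    rw [Nat.card_eq_fintype_card]
    show Fintype.card {v : Q // ¬ v = QuotientGroup.mk 1} = _
    rw [Fintype.card_subtype_compl (fun v : Q => v = QuotientGroup.mk 1), Fintype.card_subtype_eq,
      ← Nat.card_eq_fintype_card]
    rfl
  haveI : Fintype (MulAction.orbitRel.Quotient D X) := Fintype.ofFinite _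
  rw [← hcard, Nat.card_congr (MulAction.selfEquivSigmaOrbits D X), Nat.card_sigma]
  refine Finset.dvd_sum fun ω _ => ?_
  rw [Nat.card_congr (MulAction.orbitEquivQuotientStabilizer D ω.out), hstab]
  exact dvd_rfl

section PGroupLayers

variable [Finite Γ] {r : ℕ} [Fact r.Prime]

theorem eq_bot_of_le_commutator (R : Subgroup Γ) (hR : IsPGroup r R) (M : Subgroup Γ)
    (hMR : M ≤ R) (h : M ≤ ⁅M, R⁆) : M = ⊥ := by
  haveI := hR.isNilpotent
  have key : ∀ n, M ≤ (Subgroup.lowerCentralSeries (⊤ : Subgroup R) n).map R.subtype := by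
    intro n
    induction n with
    | zero => simpa [← MonoidHom.range_eq_map] using hMR
    | succ n ih =>
      refine h.trans ?_
      rw [Subgroup.commutator_le]
      intro x hx y hy
      obtain ⟨x', hx', rfl⟩ := ih hx
      refine ⟨⁅x', ⟨y, hy⟩⁆, ?_, by simp [commutatorElement_def]⟩
      exact Subgroup.commutator_mem_commutator hx' (Subgroup.mem_top _)
  obtain ⟨n, hn⟩ := Subgroup.nilpotent_iff_lowerCentralSeries.1
    (inferInstance : Group.IsNilpotent R)
  simpa [hn] using key n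

variable (R : Subgroup Γ) [R.Normal] (hR : IsPGroup r R) (hRne : ⁅R, R⁆ ≠ R)
variable (hcomm : commutator Γ ≤ R)
variable (hcent : ∀ t ∈ R, t ∉ ⁅R, R⁆ →
    Nat.card (R ⊓ Subgroup.centralizer {t} : Subgroup Γ) * Nat.card (⁅R, R⁆ : Subgroup Γ) = Nat.card R)
variable (htrans : ∀ t ∈ R, t ∉ ⁅R, R⁆ → ∀ t' ∈ R, t' ∉ ⁅R, R⁆ →
    ∃ n : Γ, t'⁻¹ * (n * t * n⁻¹) ∈ ⁅R, R⁆)

include hRne hcent in
/-- A section of `R'` centralized by an element outside `R'` is smaller than `R / R'`. -/
theorem card_lt (A M : Subgroup Γ) [M.Normal] (hA : A ≤ ⁅R, R⁆) (hMA : M ≤ A)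
    (hg : ∀ g ∈ R, g ∉ ⁅R, R⁆ → ∀ a ∈ A, ⁅g, a⁆ ∈ M) :
    Nat.card A < (⁅R, R⁆).relIndex R * Nat.card M := by
  set L := ⁅R, R⁆ with hL
  have hLR : L ≤ R := Subgroup.commutator_le_self R
  obtain ⟨g, hgR, hgL⟩ : ∃ g ∈ R, g ∉ L := by
    by_contra h
    push_neg at h
    exact hRne (le_antisymm hLR h)
  set C := R ⊓ Subgroup.centralizer {g} with hCdef
  have hC : C.relIndex R = Nat.card L ∧ Nat.card C = L.relIndex R := by
    have h1 := hcent g hgR hgL
    have h2 := Subgroup.relIndex_mul_relIndex (⊥ : Subgroup Γ) C R bot_le inf_le_left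
    have h3 := Subgroup.relIndex_mul_relIndex (⊥ : Subgroup Γ) L R bot_le hLR
    simp only [Subgroup.relIndex_bot_left] at h2 h3
    have hp : 0 < Nat.card C := Nat.card_pos
    have hq : 0 < Nat.card L := Nat.card_pos
    constructor
    · exact Nat.eq_of_mul_eq_mul_left hp (h2.trans h1.symm)
    · exact Nat.eq_of_mul_eq_mul_left hq (by rw [h3, ← h1, mul_comm])
  -- the map `x ↦ [x, g]` is a bijection from `R / C` onto `L`
  let φ : (↥R ⧸ C.subgroupOf R) → L := Quotient.lift
    (fun x : R => (⟨⁅(x : Γ), g⁆, Subgroup.commutator_mem_commutator x.2 hgR⟩ : L))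
    (fun x y h => by
      have h' := QuotientGroup.leftRel_apply.1 h
      rw [Subgroup.mem_subgroupOf] at h'
      have h2 := Subgroup.mem_centralizer_singleton_iff.1 h'.2
      apply Subtype.ext
      simp only [Subgroup.coe_mul, Subgroup.coe_inv] at h2
      simp only [commutatorElement_def]
      have h3 : (y : Γ) * g * (y : Γ)⁻¹ = x * g * (x : Γ)⁻¹ := by
        calc (y : Γ) * g * (y : Γ)⁻¹ = x * (((x : Γ)⁻¹ * y) * g) * (y : Γ)⁻¹ := by group
          _ = x * (g * ((x : Γ)⁻¹ * y)) * (y : Γ)⁻¹ := by rw [h2]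
          _ = x * g * (x : Γ)⁻¹ := by group
      rw [h3])
  have hφ : ∀ x : R, ((φ (QuotientGroup.mk x) : L) : Γ) = ⁅(x : Γ), g⁆ := fun x => rfl
  have hinj : Function.Injective φ := by
    intro u v
    induction u using QuotientGroup.induction_on with
    | H x =>
      induction v using QuotientGroup.induction_on with
      | H y =>
        intro h
        have h' := congrArg Subtype.val h
        rw [hφ, hφ, commutatorElement_def, commutatorElement_def, mul_left_inj] at h'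
        rw [QuotientGroup.eq, Subgroup.mem_subgroupOf]
        refine ⟨R.mul_mem (R.inv_mem x.2) y.2, Subgroup.mem_centralizer_singleton_iff.2 ?_⟩
        simp only [Subgroup.coe_mul, Subgroup.coe_inv]
        calc (x : Γ)⁻¹ * y * g = (x : Γ)⁻¹ * (y * g * (y : Γ)⁻¹) * y := by group
          _ = (x : Γ)⁻¹ * (x * g * (x : Γ)⁻¹) * y := by rw [h']
          _ = g * ((x : Γ)⁻¹ * y) := by group
  have hbij : Function.Bijective φ :=
    hinj.bijective_of_nat_card_le (le_of_eq hC.1.symm)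
  -- the preimage of `M`
  let S : Subgroup R :=
    ((Subgroup.centralizer {QuotientGroup.mk' M g}).comap (QuotientGroup.mk' M)).subgroupOf R
  have hS : ∀ x : R, x ∈ S ↔ ⁅(x : Γ), g⁆ ∈ M := by
    intro x
    rw [Subgroup.mem_subgroupOf, Subgroup.mem_comap, Subgroup.mem_centralizer_singleton_iff,
      ← commutatorElement_eq_one_iff_mul_comm, ← map_commutatorElement, QuotientGroup.mk'_apply,
      QuotientGroup.eq_one_iff]
  have hCS : C.subgroupOf R ≤ S := by
    intro x hx
    rw [hS]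
    rw [Subgroup.mem_subgroupOf] at hx
    rw [commutatorElement_eq_one_iff_mul_comm.2 (Subgroup.mem_centralizer_singleton_iff.1 hx.2)]
    exact M.one_mem
  have hidx : (C.subgroupOf R).relIndex S = Nat.card M := by
    let ψ : (↥S ⧸ (C.subgroupOf R).subgroupOf S) → M := Quotient.lift
      (fun x : S => (⟨⁅((x : R) : Γ), g⁆, (hS _).1 x.2⟩ : M))
      (fun x y h => by
        have h' := QuotientGroup.leftRel_apply.1 h
        rw [Subgroup.mem_subgroupOf] at h'
        have h'' : (QuotientGroup.mk (x : R) : ↥R ⧸ C.subgroupOf R) = QuotientGroup.mk (y : R) :=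
          QuotientGroup.eq.2 h'
        have h3 := congrArg (fun u => ((φ u : L) : Γ)) h''
        simp only [hφ] at h3
        exact Subtype.ext h3)
    refine Nat.card_eq_of_bijective ψ ⟨?_, ?_⟩
    · intro u v
      induction u using QuotientGroup.induction_on with
      | H x =>
        induction v using QuotientGroup.induction_on with
        | H y =>
          intro h
          have h' : φ (QuotientGroup.mk (x : R)) = φ (QuotientGroup.mk (y : R)) :=
            Subtype.ext (congrArg (fun z : M => (z : Γ)) h :)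
          rw [QuotientGroup.eq, Subgroup.mem_subgroupOf]
          exact QuotientGroup.eq.1 (hinj h')
    · rintro ⟨b, hb⟩
      obtain ⟨u, hu⟩ := hbij.2 ⟨b, hA (hMA hb)⟩
      induction u using QuotientGroup.induction_on with
      | H x =>
        have hu' : ⁅(x : Γ), g⁆ = b := by rw [← hφ x, hu]
        exact ⟨QuotientGroup.mk ⟨x, (hS x).2 (hu' ▸ hb)⟩, Subtype.ext hu'⟩
  have hcardS : Nat.card S = L.relIndex R * Nat.card M := by
    have h1 := Subgroup.relIndex_mul_relIndex (⊥ : Subgroup R) (C.subgroupOf R) S bot_le hCS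
    simp only [Subgroup.relIndex_bot_left] at h1
    rw [← h1, hidx, Nat.card_congr (Subgroup.subgroupOfEquivOfLe inf_le_left).toEquiv, hC.2]
  rw [← hcardS]
  have hAR : A ≤ R := hA.trans hLR
  have hAS : A.subgroupOf R < S := by
    refine lt_of_le_of_ne (fun x hx => ?_) (fun h => ?_)
    · rw [hS, ← commutatorElement_inv]
      exact M.inv_mem (hg g hgR hgL _ (Subgroup.mem_subgroupOf.1 hx))
    · have hgS : (⟨g, hgR⟩ : R) ∈ S := by rw [hS]; simp
      rw [← h, Subgroup.mem_subgroupOf] at hgS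
      exact hgL (hA hgS)
  rw [← Nat.card_congr (Subgroup.subgroupOfEquivOfLe hAR).toEquiv]
  refine lt_of_le_of_ne (Nat.le_of_dvd Nat.card_pos (Subgroup.card_dvd_of_le hAS.le)) fun h => ?_
  exact hAS.ne (Subgroup.eq_of_le_of_card_ge hAS.le h.symm.le)

include hR hRne hcomm hcent htrans in
theorem commutator_commutator_eq_bot : ⁅⁅R, R⁆, R⁆ = ⊥ := by
  classical
  have hr : r.Prime := Fact.out
  set L := ⁅R, R⁆ with hL
  set L3 := ⁅L, R⁆ with hL3
  set L4 := ⁅L3, R⁆ with hL4
  have hLR : L ≤ R := Subgroup.commutator_le_self R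
  have hL3L : L3 ≤ L := Subgroup.commutator_le_left L R
  have hL4L3 : L4 ≤ L3 := Subgroup.commutator_le_left L3 R
  refine eq_bot_of_le_commutator R hR L3 (hL3L.trans hLR) ?_
  -- it suffices that `[L,R] ≤ L4`
  show L3 ≤ L4
  let π := QuotientGroup.mk' L4
  let W1 : Subgroup Γ := L ⊓ (Subgroup.centralizer ((R.map π : Subgroup (Γ ⧸ L4)) : Set (Γ ⧸ L4))).comap π
  have hW1mem : ∀ w, w ∈ W1 ↔ w ∈ L ∧ ∀ x ∈ R, ⁅w, x⁆ ∈ L4 := by
    intro w
    rw [Subgroup.mem_inf, Subgroup.mem_comap, Subgroup.mem_centralizer_iff]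
    refine and_congr_right fun _ => ⟨fun h x hx => ?_, fun h => ?_⟩
    · rw [← QuotientGroup.eq_one_iff (N := L4)]
      show π ⁅w, x⁆ = 1
      rw [map_commutatorElement]
      exact commutatorElement_eq_one_iff_mul_comm.2 (h (π x) (Subgroup.mem_map_of_mem π hx)).symm
    · rintro _ ⟨x, hx, rfl⟩
      refine (commutatorElement_eq_one_iff_mul_comm.1 ?_).symm
      rw [← map_commutatorElement]
      exact (QuotientGroup.eq_one_iff _).2 (h x hx)
  suffices hW : L ≤ W1 by
    rw [hL3, Subgroup.commutator_le]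
    exact fun w hw x hx => ((hW1mem w).1 (hW hw)).2 x hx
  by_contra hW
  haveI hW1n : W1.Normal := by
    haveI : (R.map π).Normal := Subgroup.Normal.map inferInstance π (QuotientGroup.mk'_surjective L4)
    exact inferInstance
  have hW1L : W1 ≤ L := inf_le_left
  have hL3W1 : L3 ≤ W1 := fun w hw => (hW1mem w).2
    ⟨hL3L hw, fun x hx => Subgroup.commutator_mem_commutator hw hx⟩
  -- a minimal normal section `W2/W1` of `L`
  obtain ⟨W2, ⟨hW2n, hW12, hW2L⟩, hW2min⟩ : ∃ W, Minimal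
      (fun W : Subgroup Γ => W.Normal ∧ W1 < W ∧ W ≤ L) W :=
    (Set.toFinite {W : Subgroup Γ | W.Normal ∧ W1 < W ∧ W ≤ L}).exists_minimal
      ⟨L, inferInstance, lt_of_le_of_ne hW1L (fun h => hW h.ge), le_rfl⟩
  haveI := hW2n
  have hRtriv : ∀ c ∈ R, ∀ w ∈ L, w⁻¹ * (c * w * c⁻¹) ∈ L3 := by
    intro c hc w hw
    have h : w⁻¹ * (c * w * c⁻¹) = ⁅w⁻¹, c⁆ := by rw [commutatorElement_def]; group
    rw [h]
    exact Subgroup.commutator_mem_commutator (L.inv_mem hw) hc
  have hcom : ∀ d n : Γ, d⁻¹ * (n⁻¹ * d * n) ∈ R := fun d n => hcomm (by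
    have h := Subgroup.commutator_mem_commutator (H₁ := (⊤ : Subgroup Γ)) (H₂ := ⊤)
      (Subgroup.mem_top d⁻¹) (Subgroup.mem_top n⁻¹)
    rw [← commutator_def] at h
    simpa [commutatorElement_def, mul_assoc] using h)
  -- kernels of the actions on `R/L` and on `W2/W1`
  let E : Subgroup Γ :=
    { carrier := {d | Fix R L d}
      one_mem' := fun a _ => by simp [L.one_mem]
      mul_mem' := fun {d e} hd he a ha => by
        have h1 := he a ha
        have hea : e * a * e⁻¹ ∈ R := Subgroup.Normal.conj_mem inferInstance a ha e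
        have h2 := hd _ hea
        have := L.mul_mem h1 h2
        convert this using 1
        group
      inv_mem' := fun {d} hd a ha => by
        have hea : d⁻¹ * a * d ∈ R := by
          simpa using Subgroup.Normal.conj_mem (inferInstance : R.Normal) a ha d⁻¹
        have h2 := L.inv_mem (hd _ hea)
        convert h2 using 1
        group }
  let D0 : Subgroup Γ :=
    { carrier := {d | Fix W2 W1 d}
      one_mem' := fun a _ => by simp [W1.one_mem]
      mul_mem' := fun {d e} hd he a ha => by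
        have h1 := he a ha
        have hea : e * a * e⁻¹ ∈ W2 := Subgroup.Normal.conj_mem inferInstance a ha e
        have h2 := hd _ hea
        have := W1.mul_mem h1 h2
        convert this using 1
        group
      inv_mem' := fun {d} hd a ha => by
        have hea : d⁻¹ * a * d ∈ W2 := by
          simpa using Subgroup.Normal.conj_mem (inferInstance : W2.Normal) a ha d⁻¹
        have h2 := W1.inv_mem (hd _ hea)
        convert h2 using 1
        group }
  have hFE : ∀ d, d ∈ E ↔ Fix R L d := fun d => Iff.rfl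
  have hFD : ∀ d, d ∈ D0 ↔ Fix W2 W1 d := fun d => Iff.rfl
  -- semiregularity on `R/L`
  have hfreeV : ∀ d : Γ, ∀ t ∈ R, t ∉ L → t⁻¹ * (d * t * d⁻¹) ∈ L → d ∈ E := by
    intro d t ht htL hd
    rw [hFE]
    intro a ha
    by_cases haL : a ∈ L
    · exact L.mul_mem (L.inv_mem haL) (Subgroup.Normal.conj_mem inferInstance a haL d)
    obtain ⟨n, hn⟩ := htrans t ht htL a ha haL
    set c := d⁻¹ * (n⁻¹ * d * n) with hc
    have hcR : c ∈ R := hcom d n
    let ρ := QuotientGroup.mk' L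
    have hab : ∀ u ∈ R, ∀ v ∈ R, ρ u * ρ v = ρ v * ρ u := fun u hu v hv => by
      rw [← commutatorElement_eq_one_iff_mul_comm, ← map_commutatorElement]
      exact (QuotientGroup.eq_one_iff _).2 (Subgroup.commutator_mem_commutator hu hv)
    have e1 : ρ a = ρ (n * t * n⁻¹) := QuotientGroup.eq.2 hn
    have e2 : ρ (d * t * d⁻¹) = ρ t := (QuotientGroup.eq.2 hd).symm
    have e3 : ρ c * ρ t * (ρ c)⁻¹ = ρ t := by rw [hab c hcR t ht, mul_inv_cancel_right]
    apply QuotientGroup.eq.1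
    show ρ a = ρ (d * a * d⁻¹)
    symm
    calc ρ (d * a * d⁻¹) = ρ d * ρ (n * t * n⁻¹) * (ρ d)⁻¹ := by
          rw [map_mul, map_mul, map_inv, e1]
      _ = ρ n * (ρ d * (ρ c * ρ t * (ρ c)⁻¹) * (ρ d)⁻¹) * (ρ n)⁻¹ := by
          simp only [← map_mul, ← map_inv]
          congr 1
          rw [hc]; group
      _ = ρ n * ρ (d * t * d⁻¹) * (ρ n)⁻¹ := by rw [e3]; simp only [← map_mul, ← map_inv]
      _ = ρ a := by rw [e2, e1]; simp only [← map_mul, ← map_inv]
  -- semiregularity on `W2/W1`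
  have hfreeW : ∀ d : Γ, ∀ w ∈ W2, w ∉ W1 → w⁻¹ * (d * w * d⁻¹) ∈ W1 → d ∈ D0 := by
    intro d w hw hwW hd
    let ρ := QuotientGroup.mk' W1
    let F : Subgroup Γ := W2 ⊓ (Subgroup.centralizer {ρ d}).comap ρ
    have hFmem : ∀ x, x ∈ F ↔ x ∈ W2 ∧ x⁻¹ * (d * x * d⁻¹) ∈ W1 := by
      intro x
      rw [Subgroup.mem_inf, Subgroup.mem_comap, Subgroup.mem_centralizer_singleton_iff]
      refine and_congr_right fun _ => ?_
      rw [← QuotientGroup.eq_one_iff (N := W1)]
      show _ ↔ ρ (x⁻¹ * (d * x * d⁻¹)) = 1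
      rw [map_mul, map_mul, map_mul, map_inv, map_inv, inv_mul_eq_one, eq_mul_inv_iff_mul_eq]
    have hFn : F.Normal := by
      refine ⟨fun x hx n => ?_⟩
      rw [hFmem] at hx ⊢
      refine ⟨Subgroup.Normal.conj_mem inferInstance x hx.1 n, ?_⟩
      set c := d⁻¹ * (n⁻¹ * d * n) with hc
      have hcR : c ∈ R := hcom d n
      have e1 : ρ (c * x * c⁻¹) = ρ x :=
        (QuotientGroup.eq.2 (hL3W1 (hRtriv c hcR x (hW2L hx.1)))).symm
      have e2 : ρ (d * x * d⁻¹) = ρ x := (QuotientGroup.eq.2 hx.2).symm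
      apply QuotientGroup.eq.1
      show ρ (n * x * n⁻¹) = ρ (d * (n * x * n⁻¹) * d⁻¹)
      calc ρ (n * x * n⁻¹) = ρ n * ρ (d * x * d⁻¹) * (ρ n)⁻¹ := by
            rw [e2]; simp only [← map_mul, ← map_inv]
        _ = ρ n * (ρ d * ρ (c * x * c⁻¹) * (ρ d)⁻¹) * (ρ n)⁻¹ := by
            rw [e1]; simp only [← map_mul, ← map_inv]
        _ = _ := by
            simp only [← map_mul, ← map_inv]
            congr 1
            rw [hc]; group
    have hW1F : W1 < F := by
      refine lt_of_le_of_ne (fun x hx => (hFmem x).2 ⟨hW12.le hx, ?_⟩) (fun h => ?_)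
      · exact W1.mul_mem (W1.inv_mem hx) (Subgroup.Normal.conj_mem inferInstance x hx d)
      · exact hwW (h ▸ (hFmem w).2 ⟨hw, hd⟩)
    have hFW2 : W2 ≤ F := hW2min ⟨hFn, hW1F, inf_le_left.trans hW2L⟩ inf_le_left
    exact fun a ha => ((hFmem a).1 (hFW2 ha)).2
  have hED0 : E ≤ D0 := by
    intro d hd a ha
    apply hL3W1
    let ρ := QuotientGroup.mk' L3
    have hcen : ∀ l ∈ L, ∀ x ∈ R, Commute (ρ l) (ρ x) := fun l hl x hx => by
      show ρ l * ρ x = ρ x * ρ l
      rw [← commutatorElement_eq_one_iff_mul_comm, ← map_commutatorElement]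
      exact (QuotientGroup.eq_one_iff _).2 (Subgroup.commutator_mem_commutator hl hx)
    have key : L ≤ (Subgroup.centralizer {ρ d}).comap ρ := by
      refine Subgroup.commutator_le.2 ?_
      intro x hx y hy
      rw [Subgroup.mem_comap, Subgroup.mem_centralizer_singleton_iff, map_commutatorElement]
      obtain ⟨l, hl, hlx⟩ : ∃ l ∈ L, d * x * d⁻¹ = x * l := ⟨_, hd x hx, by group⟩
      obtain ⟨l', hl', hly⟩ : ∃ l ∈ L, d * y * d⁻¹ = y * l := ⟨_, hd y hy, by group⟩
      have h1 : ρ d * ⁅ρ x, ρ y⁆ * (ρ d)⁻¹ = ⁅ρ x * ρ l, ρ y * ρ l'⁆ := by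
        rw [← map_mul ρ x l, ← map_mul ρ y l', ← hlx, ← hly]
        simp only [commutatorElement_def, map_mul, map_inv]
        group
      have hlr : l ∈ R := hLR hl
      have h2 : ⁅ρ x * ρ l, ρ y * ρ l'⁆ = ⁅ρ x, ρ y⁆ := by
        simp only [commutatorElement_def, mul_inv_rev]
        have c1 := (hcen l hl y hy).eq
        have c2 := (hcen l hl _ (hLR hl')).eq
        have c3 := (hcen l' hl' x hx).eq
        calc ρ x * ρ l * (ρ y * ρ l') * ((ρ l)⁻¹ * (ρ x)⁻¹) * ((ρ l')⁻¹ * (ρ y)⁻¹)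
            = ρ x * ((ρ l * ρ y) * ρ l' * (ρ l)⁻¹) * (ρ x)⁻¹ * (ρ l')⁻¹ * (ρ y)⁻¹ := by group
          _ = ρ x * ρ y * ρ l' * (ρ x)⁻¹ * (ρ l')⁻¹ * (ρ y)⁻¹ := by
              rw [c1, mul_assoc (ρ y) (ρ l) (ρ l'), c2]; group
          _ = ρ x * ρ y * ((ρ x)⁻¹ * (ρ x * ρ l')) * (ρ x)⁻¹ * (ρ l')⁻¹ * (ρ y)⁻¹ := by group
          _ = _ := by rw [← c3]; group
      exact (mul_inv_eq_iff_eq_mul.1 (h1.trans h2)).symm
    have h := key (hW2L ha)
    rw [Subgroup.mem_comap, Subgroup.mem_centralizer_singleton_iff] at h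
    rw [← QuotientGroup.eq_one_iff (N := L3)]
    show ρ (a⁻¹ * (d * a * d⁻¹)) = 1
    rw [map_mul, map_mul, map_mul, map_inv, map_inv, ← h, mul_inv_cancel_right, inv_mul_cancel]
  -- the index of `E`
  obtain ⟨t0, ht0R, ht0L⟩ : ∃ g ∈ R, g ∉ L := by
    by_contra h
    push_neg at h
    exact hRne (le_antisymm hLR h)
  set q := L.relIndex R with hq
  obtain ⟨m, hm⟩ : ∃ m, q = r ^ m := by
    obtain ⟨a, ha⟩ := IsPGroup.iff_card.1 hR
    have := Subgroup.relIndex_dvd_card L R
    rw [ha] at this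
    obtain ⟨m, _, hm⟩ := (Nat.dvd_prime_pow hr).1 this
    exact ⟨m, hm⟩
  have hEindex : E.index = q - 1 := by
    let ρ := QuotientGroup.mk' L
    let X := {v : Γ ⧸ L // v ∈ R.map ρ ∧ v ≠ 1}
    have hmemX : ∀ n : Γ, ρ (n * t0 * n⁻¹) ∈ R.map ρ ∧ ρ (n * t0 * n⁻¹) ≠ 1 := by
      refine fun n => ⟨Subgroup.mem_map_of_mem ρ (Subgroup.Normal.conj_mem inferInstance t0 ht0R n), ?_⟩
      intro h
      apply ht0L
      have h' := (QuotientGroup.eq_one_iff _).1 h
      simpa [mul_assoc] using Subgroup.Normal.conj_mem (inferInstance : L.Normal) _ h' n⁻¹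
    have hcardX : Nat.card X = q - 1 := by
      have h1 : Nat.card (R.map ρ) = q := card_map_mk' R L
      have : Fintype (R.map ρ) := Fintype.ofFinite _
      rw [← h1, Nat.card_congr (β := {v : R.map ρ // ¬ v = 1})
        { toFun := fun v => ⟨⟨v.1, v.2.1⟩, fun h => v.2.2 (congrArg Subtype.val h)⟩
          invFun := fun v => ⟨v.1.1, v.1.2, fun h => v.2 (Subtype.ext h)⟩
          left_inv := fun v => rfl
          right_inv := fun v => rfl }, Nat.card_eq_fintype_card, Nat.card_eq_fintype_card,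
        Fintype.card_subtype_compl, Fintype.card_subtype_eq]
    have hEiff : ∀ n n' : Γ, n⁻¹ * n' ∈ E ↔ ρ (n * t0 * n⁻¹) = ρ (n' * t0 * n'⁻¹) := by
      intro n n'
      have key : ρ (n * t0 * n⁻¹) = ρ (n' * t0 * n'⁻¹) ↔
          t0⁻¹ * ((n⁻¹ * n') * t0 * (n⁻¹ * n')⁻¹) ∈ L := by
        refine Iff.trans ?_ (QuotientGroup.eq)
        show _ ↔ ρ t0 = ρ _
        simp only [map_mul, map_inv]
        constructor
        · intro h
          calc ρ t0 = (ρ n)⁻¹ * (ρ n * ρ t0 * (ρ n)⁻¹) * ρ n := by group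
            _ = _ := by rw [h]; group
        · intro h
          rw [show ρ n * ρ t0 * (ρ n)⁻¹ =
            ρ n * ((ρ n)⁻¹ * ρ n' * ρ t0 * ((ρ n)⁻¹ * ρ n')⁻¹) * (ρ n)⁻¹ by rw [← h]]
          group
      rw [key]
      exact ⟨fun h => h t0 ht0R, fun h => hfreeV _ t0 ht0R ht0L h⟩
    let φ : Γ ⧸ E → X := Quotient.lift (fun n : Γ => (⟨ρ (n * t0 * n⁻¹), hmemX n⟩ : X))
      (fun n n' h => Subtype.ext ((hEiff n n').1 (QuotientGroup.leftRel_apply.1 h)))
    rw [Subgroup.index_eq_card, ← hcardX]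
    refine Nat.card_eq_of_bijective φ ⟨?_, ?_⟩
    · intro u v
      induction u using QuotientGroup.induction_on with
      | H n =>
        induction v using QuotientGroup.induction_on with
        | H n' => intro h; exact QuotientGroup.eq.2 ((hEiff n n').2 (congrArg Subtype.val h))
    · rintro ⟨_, ⟨t', ht', rfl⟩, hne⟩
      have ht'L : t' ∉ L := fun h => hne ((QuotientGroup.eq_one_iff _).2 h)
      obtain ⟨n, hn⟩ := htrans t0 ht0R ht0L t' ht' ht'L
      exact ⟨QuotientGroup.mk n, Subtype.ext (QuotientGroup.eq.2 hn).symm⟩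
  -- sizes
  have hrel : ∀ A B : Subgroup Γ, B ≤ A → B.relIndex A * Nat.card B = Nat.card A := by
    intro A B h
    have h1 := Subgroup.relIndex_mul_relIndex (⊥ : Subgroup Γ) B A bot_le h
    simp only [Subgroup.relIndex_bot_left] at h1
    rw [← h1, mul_comm]
  have hrpow : ∀ A B : Subgroup Γ, A ≤ R → ∃ k, B.relIndex A = r ^ k := by
    intro A B h
    obtain ⟨a, ha⟩ := IsPGroup.iff_card.1 (hR.to_le h)
    have := Subgroup.relIndex_dvd_card B A
    rw [ha] at this
    obtain ⟨k, _, hk⟩ := (Nat.dvd_prime_pow hr).1 this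
    exact ⟨k, hk⟩
  obtain ⟨s, hs⟩ := hrpow W2 W1 (hW2L.trans hLR)
  have hlt3 := card_lt R hRne hcent L L3 le_rfl hL3L (fun g hg _ a ha => by
    rw [← commutatorElement_inv]
    exact L3.inv_mem (Subgroup.commutator_mem_commutator ha hg))
  have hlt4 := card_lt R hRne hcent L3 L4 hL3L hL4L3 (fun g hg _ a ha => by
    rw [← commutatorElement_inv]
    exact L4.inv_mem (Subgroup.commutator_mem_commutator ha hg))
  rw [← hq] at hlt3 hlt4
  have hsm : r ^ s < r ^ m := by
    rw [← hs, ← hm]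
    have h1 : Nat.card W2 ≤ Nat.card L := Nat.le_of_dvd Nat.card_pos (Subgroup.card_dvd_of_le hW2L)
    have h2 : Nat.card L3 ≤ Nat.card W1 :=
      Nat.le_of_dvd Nat.card_pos (Subgroup.card_dvd_of_le hL3W1)
    by_contra hle
    push_neg at hle
    have := Nat.mul_le_mul hle h2
    rw [hrel W2 W1 hW12.le] at this
    omega
  have hs0 : 0 < s := by
    rcases Nat.eq_zero_or_pos s with h | h
    · exact absurd (Subgroup.relIndex_eq_one.1 (by rw [hs, h, pow_zero])) hW12.not_ge
    · exact h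
  obtain ⟨w, hwW2, hwW1⟩ : ∃ w ∈ W2, w ∉ W1 := SetLike.exists_of_lt hW12
  -- the subgroup of `R` centralized by `w` modulo `L4`
  have hπc : ∀ u ∈ L3, ∀ x ∈ R, Commute (π u) (π x) := fun u hu x hx => by
    show π u * π x = π x * π u
    rw [← commutatorElement_eq_one_iff_mul_comm, ← map_commutatorElement]
    exact (QuotientGroup.eq_one_iff _).2 (Subgroup.commutator_mem_commutator hu hx)
  have hwL : w ∈ L := hW2L hwW2
  have hψmul : ∀ x y : R, π ⁅w, ((x * y : R) : Γ)⁆ = π ⁅w, (x : Γ)⁆ * π ⁅w, (y : Γ)⁆ := by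
    intro x y
    have h1 := hπc _ (Subgroup.commutator_mem_commutator hwL y.2) x x.2
    rw [Subgroup.coe_mul]
    simp only [map_commutatorElement, map_mul]
    rw [map_commutatorElement] at h1
    calc ⁅π w, π x * π y⁆ = ⁅π w, π x⁆ * (π x * ⁅π w, π y⁆ * (π x)⁻¹) := by
          simp only [commutatorElement_def]; group
      _ = _ := by rw [← h1.eq, mul_inv_cancel_right]
  let ψ : R →* Γ ⧸ L4 := MonoidHom.mk' (fun x => π ⁅w, (x : Γ)⁆) hψmul
  set Vw := ψ.ker.map R.subtype with hVw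
  have hVmem : ∀ x, x ∈ Vw ↔ x ∈ R ∧ ⁅w, x⁆ ∈ L4 := by
    intro x
    constructor
    · rintro ⟨x', hx', rfl⟩
      exact ⟨x'.2, (QuotientGroup.eq_one_iff _).1 hx'⟩
    · rintro ⟨hxR, hx⟩
      exact ⟨⟨x, hxR⟩, (QuotientGroup.eq_one_iff _).2 hx, rfl⟩
  have hψL3 : ∀ x : R, ψ x ∈ L3.map π := fun x =>
    Subgroup.mem_map_of_mem π (Subgroup.commutator_mem_commutator hwL x.2)
  have hLV : L ≤ Vw := by
    refine Subgroup.commutator_le.2 ?_
    intro x hx y hy
    refine ⟨⁅(⟨x, hx⟩ : R), ⟨y, hy⟩⁆, ?_, by simp [commutatorElement_def]⟩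
    show ψ _ = 1
    rw [map_commutatorElement, commutatorElement_eq_one_iff_mul_comm]
    exact (hπc _ (Subgroup.commutator_mem_commutator hwL hx) ⁅w, y⁆
      (hLR (hL3L (Subgroup.commutator_mem_commutator hwL hy)))).eq
  have hVR : Vw ≤ R := fun x hx => ((hVmem x).1 hx).1
  have hVtop : ¬ R ≤ Vw := fun h => hwW1 ((hW1mem w).2 ⟨hwL, fun x hx => ((hVmem x).1 (h hx)).2⟩)
  have hVbot : ¬ Vw ≤ L := by
    intro h
    -- then `R/L` embeds in `L3/L4`
    have h1 : q ≤ Nat.card (L3.map π) := by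
      rw [hq, Subgroup.relIndex, Subgroup.index_eq_card]
      have hker : L.subgroupOf R = ψ.ker := by
        ext x
        rw [Subgroup.mem_subgroupOf]
        refine ⟨fun hx => ?_, fun hx => h ⟨x, hx, rfl⟩⟩
        obtain ⟨x', hx', hxe⟩ := hLV hx
        rwa [Subtype.ext hxe] at hx'
      rw [hker, Nat.card_congr (QuotientGroup.quotientKerEquivRange ψ).toEquiv]
      refine Nat.le_of_dvd Nat.card_pos (Subgroup.card_dvd_of_le ?_)
      rintro _ ⟨x, rfl⟩
      exact hψL3 x
    have h2 : Nat.card (L3.map π) * Nat.card L4 = Nat.card L3 := by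
      rw [← hrel L3 L4 hL4L3, card_map_mk' L3 L4]
    have := Nat.mul_le_mul_right (Nat.card L4) h1
    omega
  obtain ⟨l, hl⟩ := hrpow Vw L hVR
  have hl0 : 0 < l := by
    rcases Nat.eq_zero_or_pos l with h | h
    · exact absurd (Subgroup.relIndex_eq_one.1 (by rw [hl, h, pow_zero])) hVbot
    · exact h
  have hlm : r ^ l < r ^ m := by
    rw [← hl, ← hm, hq]
    have h1 := Subgroup.relIndex_mul_relIndex L Vw R hLV hVR
    have h2 : 1 < Vw.relIndex R := by
      have hne : Vw.relIndex R ≠ 1 := fun h => hVtop (Subgroup.relIndex_eq_one.1 h)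
      have hne0 : Vw.relIndex R ≠ 0 := Nat.card_pos.ne'
      omega
    have h3 : L.relIndex Vw ≠ 0 := Nat.card_pos.ne'
    rw [← h1]
    exact lt_mul_of_one_lt_right (Nat.pos_of_ne_zero h3) h2
  have hinvV : ∀ d ∈ D0, ∀ x ∈ Vw, d * x * d⁻¹ ∈ Vw := by
    intro d hd x hx
    obtain ⟨hxR, hx⟩ := (hVmem x).1 hx
    refine (hVmem _).2 ⟨Subgroup.Normal.conj_mem inferInstance x hxR d, ?_⟩
    obtain ⟨u, hu, hwu⟩ : ∃ u ∈ W1, d * w * d⁻¹ = w * u := ⟨_, hd w hwW2, by group⟩
    set y := d * x * d⁻¹ with hy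
    have hyR : y ∈ R := Subgroup.Normal.conj_mem inferInstance x hxR d
    rw [← QuotientGroup.eq_one_iff (N := L4)]
    show π ⁅w, y⁆ = 1
    have e1 : π ⁅d * w * d⁻¹, y⁆ = 1 := by
      have : ⁅d * w * d⁻¹, y⁆ = d * ⁅w, x⁆ * d⁻¹ := by
        rw [hy]; simp only [commutatorElement_def]; group
      rw [this]
      exact (QuotientGroup.eq_one_iff _).2 (Subgroup.Normal.conj_mem inferInstance _ hx d)
    have e2 : π ⁅u, y⁆ = 1 := (QuotientGroup.eq_one_iff _).2 (((hW1mem u).1 hu).2 y hyR)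
    rw [hwu] at e1
    have e3 : ⁅w * u, y⁆ = w * ⁅u, y⁆ * w⁻¹ * ⁅w, y⁆ := by
      simp only [commutatorElement_def]; group
    simpa [e3, e2] using e1
  have hdvd1 : D0.index ∣ r ^ s - 1 := by
    rw [← hs, ← Subgroup.relIndex_top_right]
    exact card_orbit_dvd ⊤ D0 W2 W1 hW12.le le_top
      (fun d _ a ha => Subgroup.Normal.conj_mem inferInstance a ha d)
      (fun d _ a ha => Subgroup.Normal.conj_mem inferInstance a ha d)
      (fun d _ a ha haW => ⟨fun h => hfreeW d a ha haW h, fun h => h a ha⟩)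
  have hdvd2 : E.relIndex D0 ∣ r ^ l - 1 := by
    rw [← hl]
    exact card_orbit_dvd D0 E Vw L hLV hED0 hinvV
      (fun d _ a ha => Subgroup.Normal.conj_mem inferInstance a ha d)
      (fun d _ a ha haW => ⟨fun h => hfreeV d a (hVR ha) haW h, fun h => h a (hVR ha)⟩)
  refine arith hr.two_le ((Nat.pow_lt_pow_iff_right hr.one_lt).1 hsm)
    ((Nat.pow_lt_pow_iff_right hr.one_lt).1 hlm) hs0 hl0 ?_ hdvd1 hdvd2
  rw [← hm, ← hEindex, mul_comm]
  exact Subgroup.relIndex_mul_index hED0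

omit [Finite Γ] in
theorem mul_pow_class_two {x y : Γ} (h1 : Commute ⁅y, x⁆ x) (h2 : Commute ⁅y, x⁆ y) (n : ℕ) :
    (x * y) ^ n = x ^ n * y ^ n * ⁅y, x⁆ ^ n.choose 2 := by
  set c := ⁅y, x⁆ with hc
  have hyx : ∀ k : ℕ, y ^ k * x = x * y ^ k * c ^ k := by
    intro k
    induction k with
    | zero => simp
    | succ k ih =>
      calc y ^ (k + 1) * x = y * (y ^ k * x) := by rw [pow_succ', mul_assoc]
        _ = (y * x) * y ^ k * c ^ k := by rw [ih]; group
        _ = (c * (x * y)) * y ^ k * c ^ k := by rw [hc, commutatorElement_def]; group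
        _ = x * y * y ^ k * c * c ^ k := by
            rw [((h1.mul_right h2)).eq, mul_assoc (x * y) c, ((h2.pow_right k)).eq, ← mul_assoc]
        _ = _ := by rw [pow_succ' y, pow_succ' c]; group
  induction n with
  | zero => simp
  | succ n ih =>
    rw [pow_succ, ih, Nat.choose_succ_succ, Nat.choose_one_right, pow_add]
    calc x ^ n * y ^ n * c ^ n.choose 2 * (x * y)
        = x ^ n * (y ^ n * x) * y * c ^ n.choose 2 := by
          rw [mul_assoc (x ^ n * y ^ n), (((h1.mul_right h2)).pow_left _).eq]; group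
      _ = x ^ n * x * (y ^ n * y) * c ^ n * c ^ n.choose 2 := by
          rw [hyx]
          simp only [mul_assoc]
          rw [← mul_assoc (c ^ n) y, (h2.pow_left n).eq, mul_assoc]
      _ = _ := by rw [← pow_succ, ← pow_succ]; group

include hR hRne hcomm hcent htrans in
theorem pow_eq_one (hodd : Odd r) (hexp : ∀ t ∈ R, t ^ r ∈ ⁅R, R⁆) :
    ∀ t ∈ R, t ^ r = 1 := by
  classical
  set L := ⁅R, R⁆ with hL
  have hLR : L ≤ R := Subgroup.commutator_le_self R
  have h3 := commutator_commutator_eq_bot R hR hRne hcomm hcent htrans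
  rw [← hL] at h3
  have hcen : ∀ l ∈ L, ∀ x ∈ R, Commute l x := by
    intro l hl x hx
    have h : ⁅l, x⁆ ∈ (⊥ : Subgroup Γ) := h3 ▸ Subgroup.commutator_mem_commutator hl hx
    exact commutatorElement_eq_one_iff_mul_comm.1 (by simpa using h)
  have hcommpow : ∀ x ∈ R, ∀ y ∈ R, ⁅x, y⁆ ^ r = 1 := by
    intro x hx y hy
    have hc : ⁅x, y⁆ ∈ L := Subgroup.commutator_mem_commutator hx hy
    have key : ∀ k : ℕ, ⁅x ^ k, y⁆ = ⁅x, y⁆ ^ k := by
      intro k
      induction k with
      | zero => simp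
      | succ k ih =>
        have h2 : ⁅x ^ (k + 1), y⁆ = x * ⁅x ^ k, y⁆ * x⁻¹ * ⁅x, y⁆ := by
          simp only [commutatorElement_def, pow_succ' x]; group
        rw [h2, ih, ← ((hcen _ hc x hx).pow_left k).eq, mul_inv_cancel_right, ← pow_succ]
    rw [← key r, commutatorElement_eq_one_iff_mul_comm]
    exact (hcen _ (hexp x hx) y hy).eq
  have hmul : ∀ x ∈ R, ∀ y ∈ R, (x * y) ^ r = x ^ r * y ^ r := by
    intro x hx y hy
    have hc : ⁅y, x⁆ ∈ L := Subgroup.commutator_mem_commutator hy hx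
    rw [mul_pow_class_two (hcen _ hc x hx) (hcen _ hc y hy) r]
    have hdvd : r ∣ r.choose 2 := Nat.Prime.dvd_choose_self Fact.out (by norm_num)
      (lt_of_le_of_ne (Fact.out : r.Prime).two_le (by
        obtain ⟨k, hk⟩ := hodd; omega))
    obtain ⟨k, hk⟩ := hdvd
    rw [hk, pow_mul, hcommpow y hy x hx, one_pow, mul_one]
  let f : R →* Γ := MonoidHom.mk' (fun x => (x : Γ) ^ r) fun x y => hmul x x.2 y y.2
  set F := f.ker.map R.subtype with hF
  have hFmem : ∀ x, x ∈ F ↔ x ∈ R ∧ x ^ r = 1 := by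
    intro x
    constructor
    · rintro ⟨x', hx', rfl⟩
      exact ⟨x'.2, hx'⟩
    · rintro ⟨hxR, hx⟩
      exact ⟨⟨x, hxR⟩, hx, rfl⟩
  have hLF : L ≤ F := by
    refine Subgroup.commutator_le.2 ?_
    exact fun x hx y hy => (hFmem _).2
      ⟨hLR (Subgroup.commutator_mem_commutator hx hy), hcommpow x hx y hy⟩
  by_contra hne
  push_neg at hne
  obtain ⟨t, htR, ht⟩ := hne
  have htL : t ∉ L := fun h => ht ((hFmem t).1 (hLF h)).2
  have hFL : ∀ x ∈ F, x ∈ L := by
    intro x hx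
    by_contra hxL
    obtain ⟨n, hn⟩ := htrans x ((hFmem x).1 hx).1 hxL t htR htL
    have h1 : (n * x * n⁻¹) ∈ F := (hFmem _).2
      ⟨Subgroup.Normal.conj_mem inferInstance x ((hFmem x).1 hx).1 n, by
        rw [conj_pow, ((hFmem x).1 hx).2, mul_one, mul_inv_cancel]⟩
    have h2 : t ∈ F := by
      have := F.mul_mem h1 (F.inv_mem (hLF hn))
      convert this using 1
      group
    exact ht ((hFmem t).1 h2).2
  have h1 : L.relIndex R ≤ Nat.card L := by
    rw [Subgroup.relIndex, Subgroup.index_eq_card]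
    have hker : L.subgroupOf R = f.ker := by
      ext x
      rw [Subgroup.mem_subgroupOf]
      exact ⟨fun hx => ((hFmem _).1 (hLF hx)).2, fun hx => hFL _ ⟨x, hx, rfl⟩⟩
    rw [hker, Nat.card_congr (QuotientGroup.quotientKerEquivRange f).toEquiv]
    refine Nat.le_of_dvd Nat.card_pos (Subgroup.card_dvd_of_le ?_)
    rintro _ ⟨x, rfl⟩
    exact hexp x x.2
  have h2 := card_lt R hRne hcent L ⊥ le_rfl bot_le (fun g hg _ a ha => by
    rw [Subgroup.mem_bot, commutatorElement_eq_one_iff_mul_comm]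
    exact ((hcen a ha g hg).eq).symm)
  rw [Subgroup.card_bot, mul_one] at h2
  rw [← hL] at h2
  omega

end PGroupLayers

end LayerSection

end H72
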