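import Cfsg.Agent.H6.SL2Section
import Cfsg.Agent.H5.Frobenius

/-!
Groups in which no automizer of a `p`-subgroup involves `SL(2, p)`.
-/

set_option autoImplicit false
set_option linter.all false

open Subgroup
open scoped commutatorElement

namespace H72

universe u

variable {G : Type u} [Group G] [Finite G] {p : ℕ} [Fact p.Prime]

theorem isPStableOn_of_free_aut (hp : p ≠ 2) (P : Subgroup G) [P.Normal]
    (hfree : ¬ Cfsg.Involves (Matrix.SpecialLinearGroup (Fin 2) (ZMod p)) (G ⧸ centralizer (P : Set G)))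
    (hP : IsPGroup p P) : Cfsg.IsPStableOn p P := by
  intro a ha
  set Φ := (frattini P).map P.subtype with hΦ
  haveI : Φ.Normal := H10.map_subtype_normal inferInstance _
  set φ := QuotientGroup.mk' Φ with hφ
  have hφs : Function.Surjective φ := QuotientGroup.mk'_surjective Φ
  haveI : (P.map φ).Normal := Subgroup.Normal.map inferInstance φ hφs
  have hV : Cfsg.IsElementaryAbelian p (P.map φ) := by
    refine ⟨⟨⟨?_⟩⟩, ?_⟩
    · rintro ⟨_, x, hx, rfl⟩ ⟨_, y, hy, rfl⟩
      refine Subtype.ext (commutatorElement_eq_one_iff_mul_comm.mp ?_)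
      show ⁅φ x, φ y⁆ = 1
      rw [← map_commutatorElement]
      exact (QuotientGroup.eq_one_iff _).mpr ⟨⁅⟨x, hx⟩, ⟨y, hy⟩⁆, H6.commutator_le_frattini hP
        (commutator_mem_commutator (mem_top _) (mem_top _)), rfl⟩
    · rintro _ ⟨x, hx, rfl⟩
      rw [← map_pow]
      exact (QuotientGroup.eq_one_iff _).mpr
        ⟨⟨x, hx⟩ ^ p, H6.pow_prime_mem_frattini hP ⟨x, hx⟩, rfl⟩
  have hq : ⁅⁅P.map φ, zpowers (φ a)⁆, zpowers (φ a)⁆ = ⊥ := by
    rw [← MonoidHom.map_zpowers, ← map_commutator, ← map_commutator, ha, Subgroup.map_bot]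
  obtain ⟨n₀, ρ, hρinj, hρquad⟩ := H10.exists_quotient_rep (P.map φ) hV
  have hmem : (QuotientGroup.mk (φ a) : (G ⧸ Φ) ⧸ centralizer ((P.map φ : Subgroup (G ⧸ Φ)) : Set (G ⧸ Φ))) ∈
      Cfsg.pCore p ((G ⧸ Φ) ⧸ centralizer ((P.map φ : Subgroup (G ⧸ Φ)) : Set (G ⧸ Φ))) := by
    by_contra hna
    refine hfree ?_
    let η : G ⧸ centralizer (P : Set G) →* (G ⧸ Φ) ⧸ centralizer ((P.map φ : Subgroup (G ⧸ Φ)) : Set (G ⧸ Φ)) :=
      QuotientGroup.lift _ ((QuotientGroup.mk' _).comp φ) fun x hx => (QuotientGroup.eq_one_iff (φ x)).mpr (by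
        refine mem_centralizer_iff.mpr ?_
        rintro _ ⟨y, hy, rfl⟩
        rw [← map_mul, ← map_mul, mem_centralizer_iff.mp hx y hy])
    refine H6.Involves.of_surjective (H := (⊤ : Subgroup (G ⧸ centralizer (P : Set G)))) (η.comp (Subgroup.subtype _))
      (fun z => ?_) (H6.involves_of_end hp hρinj (hρquad (φ a) hq) hna)
    obtain ⟨y, rfl⟩ := QuotientGroup.mk_surjective z
    obtain ⟨y, rfl⟩ := hφs y
    exact ⟨⟨QuotientGroup.mk y, mem_top _⟩, rfl⟩
  set C' := centralizer ((P.map φ : Subgroup (G ⧸ Φ)) : Set (G ⧸ Φ)) with hC'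
  set C := centralizer (P : Set G) with hC
  set D := (Cfsg.pCore p ((G ⧸ Φ) ⧸ C')).comap ((QuotientGroup.mk' C').comp φ) with hD
  haveI := H1.pCore_normal' p ((G ⧸ Φ) ⧸ C')
  haveI hDn : D.Normal := Subgroup.Normal.comap inferInstance _
  have hDp : IsPGroup p (D.map (QuotientGroup.mk' C)) := by
    rintro ⟨_, x, hx, rfl⟩
    obtain ⟨u, v, hxuv, ⟨k, hk⟩, hv, -, hvx⟩ := H5.exists_p_decomposition (p := p) x
    have hvD : v ∈ D := (zpowers_le.mpr hx) hvx
    have hvC' : φ v ∈ C' := by
      refine (QuotientGroup.eq_one_iff _).mp (H11.eq_one_of_mem_pGroup_coprime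
        (H1.isPGroup_pCore p _) hvD ?_)
      exact hv.coprime_dvd_left (orderOf_map_dvd ((QuotientGroup.mk' C').comp φ) v)
    have hcop : (Nat.card (zpowers v)).Coprime (Nat.card (frattini P)) := by
      obtain ⟨n, hn⟩ := IsPGroup.iff_card.mp (hP.to_subgroup (frattini P))
      rw [Nat.card_zpowers, hn]
      exact hv.pow_right n
    have hvC : zpowers v ≤ C := by
      refine H1.le_centralizer_of_frattini ?_ hcop ?_
      · rw [normalizer_eq_top_iff.mpr inferInstance]; exact le_top
      · intro b hb y hy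
        refine (QuotientGroup.eq_one_iff _).mp ?_
        show φ (b * y * b⁻¹ * y⁻¹) = 1
        have hb' : φ b ∈ C' := by
          obtain ⟨j, rfl⟩ := mem_zpowers_iff.mp hb
          rw [map_zpow]
          exact zpow_mem hvC' j
        rw [map_mul, map_mul, map_mul, map_inv, map_inv,
          ← mem_centralizer_iff.mp hb' _ (mem_map_of_mem φ hy)]
        group
    refine ⟨k, Subtype.ext ?_⟩
    show (QuotientGroup.mk' C x) ^ p ^ k = 1
    rw [hxuv, map_mul, show QuotientGroup.mk' C v = 1 from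
      (QuotientGroup.eq_one_iff v).mpr (hvC (mem_zpowers v)), mul_one, ← map_pow, hk, map_one]
  haveI := Subgroup.Normal.map hDn (QuotientGroup.mk' C) (QuotientGroup.mk'_surjective C)
  exact H1.le_pCore hDp (mem_map_of_mem (QuotientGroup.mk' C) (show a ∈ D from hmem))

/-- No automizer of a `p`-subgroup involves `SL(2, p)`. -/
def SLFree (p : ℕ) (G : Type u) [Group G] : Prop :=
  ∀ Q : Subgroup G, IsPGroup p Q → ¬ Cfsg.Involves (Matrix.SpecialLinearGroup (Fin 2) (ZMod p))
    (↥(normalizer (Q : Set G)) ⧸ (centralizer (Q : Set G)).subgroupOf (normalizer (Q : Set G)))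

/-- The hypothesis in terms of sections between centralizer and normalizer. -/
theorem slFree_of_sections
    (h : ∀ Q : Subgroup G, IsPGroup p ↥Q → ¬ ∃ (H K : Subgroup G) (_ : (K.subgroupOf H).Normal),
      centralizer (Q : Set G) ≤ K ∧ K ≤ H ∧ H ≤ normalizer (Q : Set G) ∧
      Nonempty ((↥H ⧸ K.subgroupOf H) ≃* Matrix.SpecialLinearGroup (Fin 2) (ZMod p))) :
    SLFree p G := by
  rintro Q hQ ⟨A, B, hn, ⟨e⟩⟩
  set N := normalizer (Q : Set G) with hN
  set π := QuotientGroup.mk' ((centralizer (Q : Set G)).subgroupOf N) with hπ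
  set H₀ := A.comap π with hH₀
  set H := H₀.map N.subtype with hH
  let ψ : H →* Matrix.SpecialLinearGroup (Fin 2) (ZMod p) :=
    e.toMonoidHom.comp ((QuotientGroup.mk' (B.subgroupOf A)).comp
      ((π.subgroupComap A).comp (H₀.equivMapOfInjective N.subtype N.subtype_injective).symm.toMonoidHom))
  have hψ : Function.Surjective ψ :=
    e.surjective.comp ((QuotientGroup.mk'_surjective _).comp
      ((π.subgroupComap_surjective_of_surjective A (QuotientGroup.mk'_surjective _)).comp
        (H₀.equivMapOfInjective N.subtype N.subtype_injective).symm.surjective))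
  have hsub : (ψ.ker.map H.subtype).subgroupOf H = ψ.ker := Subgroup.comap_map_eq_self_of_injective H.subtype_injective _
  have hnK : ((ψ.ker.map H.subtype).subgroupOf H).Normal := by rw [hsub]; infer_instance
  refine h Q hQ ⟨H, ψ.ker.map H.subtype, hnK, ?_, Subgroup.map_subtype_le _, Subgroup.map_subtype_le _, ?_⟩
  · intro c hc
    have hcN : c ∈ N := centralizer_le_normalizer _ hc
    have hc1 : π ⟨c, hcN⟩ = 1 := (QuotientGroup.eq_one_iff _).mpr (mem_subgroupOf.mpr hc)
    have hcH : c ∈ H := ⟨⟨c, hcN⟩, show π ⟨c, hcN⟩ ∈ A by rw [hc1]; exact one_mem _, rfl⟩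
    refine ⟨⟨c, hcH⟩, ?_, rfl⟩
    let z₀ : H₀ := ⟨⟨c, hcN⟩, show π ⟨c, hcN⟩ ∈ A by rw [hc1]; exact one_mem _⟩
    have hz : (H₀.equivMapOfInjective N.subtype N.subtype_injective).symm ⟨c, hcH⟩ = z₀ := by
      rw [MulEquiv.symm_apply_eq]
      exact Subtype.ext rfl
    have h2 : π.subgroupComap A z₀ = 1 := Subtype.ext hc1
    show e ((QuotientGroup.mk' (B.subgroupOf A)) (π.subgroupComap A
      ((H₀.equivMapOfInjective N.subtype N.subtype_injective).symm ⟨c, hcH⟩))) = 1
    rw [hz, h2, map_one, map_one]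
  · haveI := hnK
    exact ⟨(QuotientGroup.quotientMulEquivOfEq hsub).trans (QuotientGroup.quotientKerEquivOfSurjective ψ hψ)⟩

/-- The property passes to subgroups. -/
theorem SLFree.of_injective {H : Type u} [Group H] (f : H →* G) (hf : Function.Injective f)
    (h : SLFree p G) : SLFree p H := by
  intro P hP hinv
  set PG := P.map f with hPG
  set CH := (centralizer (P : Set H)).subgroupOf (normalizer (P : Set H)) with hCH
  set CG := (centralizer (PG : Set G)).subgroupOf (normalizer (PG : Set G)) with hCG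
  let f' : ↥(normalizer (P : Set H)) →* ↥(normalizer (PG : Set G)) :=
    (f.comp (normalizer (P : Set H)).subtype).codRestrict _ fun u =>
      Subgroup.le_normalizer_map f (Subgroup.mem_map_of_mem _ u.2)
  have hf' : CH ≤ CG.comap f' := by
    intro u hu
    rw [Subgroup.mem_comap, hCG, Subgroup.mem_subgroupOf, Subgroup.mem_centralizer_iff]
    rintro _ ⟨a, ha, rfl⟩
    show f a * f (u : H) = f (u : H) * f a
    rw [← map_mul, ← map_mul, Subgroup.mem_centralizer_iff.1 (Subgroup.mem_subgroupOf.1 hu) a ha]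
  let F := QuotientGroup.map CH CG f' hf'
  have hinj : Function.Injective F := by
    rw [← MonoidHom.ker_eq_bot_iff, eq_bot_iff]
    intro u hu
    obtain ⟨u, rfl⟩ := QuotientGroup.mk_surjective u
    rw [MonoidHom.mem_ker, QuotientGroup.map_mk, QuotientGroup.eq_one_iff] at hu
    rw [Subgroup.mem_bot, QuotientGroup.eq_one_iff, hCH, Subgroup.mem_subgroupOf, Subgroup.mem_centralizer_iff]
    intro a ha
    apply hf
    rw [map_mul, map_mul]
    exact Subgroup.mem_centralizer_iff.1 (Subgroup.mem_subgroupOf.1 hu) _ (Subgroup.mem_map_of_mem f ha)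
  exact h PG (hP.map _) (H6.Involves.of_injective F hinj hinv)

/-- The property passes to quotients by normal `p`-subgroups. -/
theorem SLFree.quotient (h : SLFree p G) (Z : Subgroup G) [Z.Normal] (hZp : IsPGroup p Z) :
    SLFree p (G ⧸ Z) := by
  intro Pb hPb hinv
  set π := QuotientGroup.mk' Z with hπ
  have hπs : Function.Surjective π := QuotientGroup.mk'_surjective Z
  set P := Pb.comap π with hPdef
  have hP : IsPGroup p P := hPb.comap_of_ker_isPGroup π (by rw [hπ, QuotientGroup.ker_mk']; exact hZp)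
  have hN : normalizer (P : Set G) = (normalizer (Pb : Set (G ⧸ Z))).comap π :=
    (Subgroup.comap_normalizer_eq_of_surjective Pb hπs).symm
  let f' : ↥(normalizer (P : Set G)) →* ↥(normalizer (Pb : Set (G ⧸ Z))) :=
    (π.comp (normalizer (P : Set G)).subtype).codRestrict _ fun u => by
      exact hN.le u.2
  have hf's : Function.Surjective f' := by
    rintro ⟨y, hy⟩
    obtain ⟨x, rfl⟩ := hπs y
    exact ⟨⟨x, hN ▸ hy⟩, rfl⟩
  let F : ↥(normalizer (P : Set G)) ⧸ (centralizer (P : Set G)).subgroupOf (normalizer (P : Set G)) →*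
      ↥(normalizer (Pb : Set (G ⧸ Z))) ⧸ (centralizer (Pb : Set (G ⧸ Z))).subgroupOf (normalizer (Pb : Set (G ⧸ Z))) :=
    QuotientGroup.map _ _ f' (by
      intro u hu
      rw [Subgroup.mem_comap, Subgroup.mem_subgroupOf, Subgroup.mem_centralizer_iff]
      intro a ha
      obtain ⟨x, rfl⟩ := hπs a
      show π x * π (u : G) = π (u : G) * π x
      rw [← map_mul, ← map_mul, Subgroup.mem_centralizer_iff.1 (Subgroup.mem_subgroupOf.1 hu) x ha])
  refine h P hP (H6.Involves.of_surjective (H := (⊤ : Subgroup _)) (F.comp (Subgroup.subtype _)) (fun z => ?_) hinv)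
  obtain ⟨w, rfl⟩ := QuotientGroup.mk_surjective z
  obtain ⟨v, rfl⟩ := hf's w
  exact ⟨⟨QuotientGroup.mk v, mem_top _⟩, rfl⟩

/-- The property gives `p`-stability on normalizers. -/
theorem SLFree.stable (hp : p ≠ 2) (h : SLFree p G) : Cfsg.IsNormalizerPStable p G := by
  intro P hP g hg hq
  set N := normalizer (P : Set G) with hN
  haveI := H5.centralizer_subgroupOf_normalizer_normal P
  set Q := P.subgroupOf N with hQ
  haveI : Q.Normal := Subgroup.normal_in_normalizer
  have hQp : IsPGroup p Q := hP.comap_of_injective N.subtype N.subtype_injective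
  have hPN : P ≤ N := Subgroup.le_normalizer
  have hmapQ : Q.map N.subtype = P := Subgroup.map_subgroupOf_eq_of_le hPN
  have hq' : ⁅⁅Q, zpowers (⟨g, hg⟩ : N)⁆, zpowers (⟨g, hg⟩ : N)⁆ = ⊥ := by
    apply Subgroup.map_injective N.subtype_injective
    rw [Subgroup.map_commutator, Subgroup.map_commutator, MonoidHom.map_zpowers, hmapQ, Subgroup.map_bot]
    exact hq
  have hC : centralizer (Q : Set N) = (centralizer (P : Set G)).subgroupOf N := by
    ext x
    simp only [Subgroup.mem_subgroupOf, Subgroup.mem_centralizer_iff]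
    constructor
    · intro h y hy
      exact congrArg Subtype.val (h ⟨y, hPN hy⟩ hy)
    · intro h y hy
      exact Subtype.ext (h _ hy)
  have hfr : ¬ Cfsg.Involves (Matrix.SpecialLinearGroup (Fin 2) (ZMod p)) (N ⧸ centralizer (Q : Set N)) := fun hi =>
    h P hP (H6.Involves.of_injective (QuotientGroup.quotientMulEquivOfEq hC).toMonoidHom (MulEquiv.injective _) hi)
  have h1 := isPStableOn_of_free_aut hp Q hfr hQp (⟨g, hg⟩ : N) hq'
  have h2 := H1.map_pCore_le_of_surjective p
    (QuotientGroup.quotientMulEquivOfEq hC).toMonoidHom (MulEquiv.surjective _) ⟨_, h1, rfl⟩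
  simpa using h2

end H72
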