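import Cfsg.Agent.H72.ClassCore
import Cfsg.Agent.H72.SL2Aut
import Cfsg.Agent.H77.FunctorChain
import Cfsg.Agent.H5.PResidual

/-!
When the core of the fusion system of a group is centric it is the least centric radical subgroup.
-/

set_option autoImplicit false
set_option linter.style.haveILetI false

open Cfsg Cfsg.FusionSystem

universe u

namespace H72

variable {G : Type u} [Group G] [Finite G] {p : ℕ} [Fact p.Prime]

theorem map_conj_of_mem {G : Type u} [Group G] {X : Subgroup G} {n : G}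
    (h : n ∈ Subgroup.normalizer (X : Set G)) : X.map (MulAut.conj n).toMonoidHom = X :=
  Subgroup.mem_normalizer_iff_map_conj_eq.mp h

/-- Conjugations between subgroups of a Sylow subgroup are realized in the normalizer of the core. -/
theorem core_control (S : Sylow p G) {A : Subgroup G} (hA : A ≤ (S : Subgroup G)) (g : G)
    (hg : ∀ a ∈ A, g * a * g⁻¹ ∈ (S : Subgroup G)) :
    ∃ l ∈ Subgroup.normalizer ((groupFusionSystem (S : Subgroup G)).core : Set G),
      ∀ a ∈ A, g * a * g⁻¹ = l * a * l⁻¹ := by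
  have hQn := H87.isNormal_core (groupFusionSystem (S : Subgroup G))
  let φ : A →* G := (MulAut.conj g).toMonoidHom.comp A.subtype
  have hφ : φ ∈ (groupFusionSystem (S : Subgroup G)).Hom A := ⟨hA, fun x => hg x x.2, g, fun _ => rfl⟩
  obtain ⟨ψ, hψ, hext, himg⟩ := hQn.2 A φ hφ
  obtain ⟨-, -, l, hl⟩ := hψ
  refine ⟨l, H85.mem_normalizer_of_conj fun x hx => ?_, fun a ha => ?_⟩
  · have := himg.le (H85.apply_mem_img (φ := ψ) (x := ⟨x, Subgroup.mem_sup_right hx⟩) hx)
    rwa [hl] at this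
  · have h1 := hext ⟨a, ha⟩
    rw [hl] at h1
    exact h1.symm

theorem sylow_le_normalizer_core (S : Sylow p G) :
    (S : Subgroup G) ≤ Subgroup.normalizer ((groupFusionSystem (S : Subgroup G)).core : Set G) :=
  fun _ hg => H85.normalizer_of_normalSubgroup (H87.isNormal_core _) hg

/-- The centralizer of a centric core has the centre of the core as Sylow subgroup. -/
theorem core_centralizer_sylow (S : Sylow p G)
    (hc : centralizerIn (S : Subgroup G) (groupFusionSystem (S : Subgroup G)).core ≤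
      (groupFusionSystem (S : Subgroup G)).core) :
    ∃ R : Sylow p ↥(Subgroup.centralizer ((groupFusionSystem (S : Subgroup G)).core : Set G)),
      (R : Subgroup _).map (Subgroup.centralizer ((groupFusionSystem (S : Subgroup G)).core : Set G)).subtype =
        (groupFusionSystem (S : Subgroup G)).core ⊓
          Subgroup.centralizer ((groupFusionSystem (S : Subgroup G)).core : Set G) := by
  set Q := (groupFusionSystem (S : Subgroup G)).core with hQ
  set C := Subgroup.centralizer (Q : Set G) with hC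
  have hCL : C ≤ Subgroup.normalizer (Q : Set G) := Subgroup.centralizer_le_normalizer _
  have hCn : (C.subgroupOf (Subgroup.normalizer (Q : Set G))).Normal :=
    H5.centralizer_subgroupOf_normalizer_normal Q
  obtain ⟨R, hR⟩ := H86.exists_sylow_of_normal_le hCL hCn (S.subtype (sylow_le_normalizer_core S)) rfl
  refine ⟨R, ?_⟩
  rw [hR, Subgroup.subgroupOf_map_subtype]
  exact le_antisymm (fun x hx => ⟨hc hx, hx.2⟩) (fun x hx => ⟨(H87.isNormal_core _).1 hx.1, hx.2⟩)

/-- A centric core is contained in every centric radical subgroup. -/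
theorem core_le_centricRadical (S : Sylow p G) {R : Subgroup G} (hRS : R ≤ (S : Subgroup G))
    (RR : Sylow p ↥(Subgroup.centralizer (R : Set G)))
    (hRR : (RR : Subgroup _).map (Subgroup.centralizer (R : Set G)).subtype = R ⊓ Subgroup.centralizer (R : Set G))
    (hrad : ∀ X : Subgroup G, X ≤ Subgroup.normalizer (R : Set G) →
      (∀ n ∈ Subgroup.normalizer (R : Set G), X.map (MulAut.conj n).toMonoidHom = X) →
      R ⊔ Subgroup.centralizer (R : Set G) ≤ X →
      (∃ k : ℕ, (R ⊔ Subgroup.centralizer (R : Set G)).relIndex X = p ^ k) →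
      X = R ⊔ Subgroup.centralizer (R : Set G)) :
    (groupFusionSystem (S : Subgroup G)).core ≤ R := by
  classical
  set Q := (groupFusionSystem (S : Subgroup G)).core with hQ
  have hQS : Q ≤ (S : Subgroup G) := (H87.isNormal_core _).1
  set L := Subgroup.normalizer (Q : Set G) with hL
  set N := Subgroup.normalizer (R : Set G) with hN
  revert RR hRR hrad
  set C := Subgroup.centralizer (R : Set G) with hC
  intro RR hRR hrad
  set T := N ⊓ Q with hT
  have hCN : C ≤ N := Subgroup.centralizer_le_normalizer _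
  have hRN : R ≤ N := Subgroup.le_normalizer
  have hRCn : ∀ n ∈ N, (R ⊔ C).map (MulAut.conj n).toMonoidHom = R ⊔ C := by
    intro n hn
    have hCnN : N ≤ Subgroup.normalizer (C : Set G) := (Subgroup.normal_subgroupOf_iff_le_normalizer hCN).mp
      (H5.centralizer_subgroupOf_normalizer_normal R)
    rw [Subgroup.map_sup, map_conj_of_mem hn,
      map_conj_of_mem (hCnN hn)]
  set X := T ⊔ (R ⊔ C) with hX
  have hXN : X ≤ N := sup_le inf_le_left (sup_le hRN hCN)
  have hXinv : ∀ n ∈ N, X.map (MulAut.conj n).toMonoidHom = X := by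
    intro n hn
    obtain ⟨l, hl, hl'⟩ := core_control S hRS n fun a ha =>
      hRS ((Subgroup.mem_normalizer_iff.mp hn a).mp ha)
    have hlN : l ∈ N := by
      refine H85.mem_normalizer_of_conj fun x hx => ?_
      rw [← hl' x hx]
      exact (Subgroup.mem_normalizer_iff.mp hn x).mp hx
    have hc : l⁻¹ * n ∈ C := by
      refine Subgroup.mem_centralizer_iff.mpr fun a ha => ?_
      have h1 := hl' a ha
      calc a * (l⁻¹ * n) = l⁻¹ * (l * a * l⁻¹) * n := by group
        _ = l⁻¹ * (n * a * n⁻¹) * n := by rw [h1]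
        _ = l⁻¹ * n * a := by group
    have h1 : l ∈ Subgroup.normalizer (X : Set G) := by
      rw [Subgroup.mem_normalizer_iff_map_conj_eq]
      show X.map (MulAut.conj l).toMonoidHom = X
      have e : T.map (MulAut.conj l).toMonoidHom = T := by
        rw [hT, Subgroup.map_inf _ _ _ (MulAut.conj l).injective,
          map_conj_of_mem (Subgroup.le_normalizer hlN),
          map_conj_of_mem hl]
      rw [hX, Subgroup.map_sup, e, hRCn l hlN]
    have h2 : l⁻¹ * n ∈ Subgroup.normalizer (X : Set G) :=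
      Subgroup.le_normalizer (Subgroup.mem_sup_right (Subgroup.mem_sup_right hc))
    have h3 := mul_mem h1 h2
    rw [mul_inv_cancel_left] at h3
    exact Subgroup.mem_normalizer_iff_map_conj_eq.mp h3
  have hidx : ∃ k : ℕ, (R ⊔ C).relIndex X = p ^ k := by
    have hnor : X ≤ Subgroup.normalizer ((R ⊔ C : Subgroup G) : Set G) := fun x hx =>
      Subgroup.mem_normalizer_iff_map_conj_eq.mpr (hRCn x (hXN hx))
    haveI : ((R ⊔ C).subgroupOf X).Normal := Subgroup.normal_subgroupOf_of_le_normalizer hnor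
    have hTp : IsPGroup p (T.subgroupOf X) := (S.isPGroup'.to_le (inf_le_right.trans hQS)).comap_subtype
    have htop : (T.subgroupOf X).map (QuotientGroup.mk' ((R ⊔ C).subgroupOf X)) = ⊤ := by
      rw [← Subgroup.map_top_of_surjective (QuotientGroup.mk' ((R ⊔ C).subgroupOf X))
        (QuotientGroup.mk'_surjective _), ← Subgroup.subgroupOf_self X]
      conv_rhs => rw [show X.subgroupOf X = (T ⊔ (R ⊔ C)).subgroupOf X from rfl,
        Subgroup.subgroupOf_sup le_sup_left le_sup_right]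
      rw [Subgroup.map_sup, QuotientGroup.map_mk'_self, sup_bot_eq]
    have h1 := hTp.map (QuotientGroup.mk' ((R ⊔ C).subgroupOf X))
    rw [htop] at h1
    obtain ⟨k, hk⟩ := IsPGroup.iff_card.mp (h1.of_equiv Subgroup.topEquiv)
    exact ⟨k, by rw [Subgroup.relIndex, Subgroup.index_eq_card, hk]⟩
  have hXeq := hrad X hXN hXinv le_sup_right hidx
  -- the normalizer of `R` in `Q` lies in `R`
  have hTR : ∀ x ∈ N ⊓ Q, x ∈ R := by
    intro x hx
    have h1 : x ∈ R ⊔ C := hXeq ▸ Subgroup.mem_sup_left hx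
    rw [← SetLike.mem_coe, Subgroup.coe_mul_of_right_le_normalizer_left _ _ hCN] at h1
    obtain ⟨r, hr, c, hc, rfl⟩ := h1
    refine R.mul_mem hr ?_
    have hcS : c ∈ (S : Subgroup G) := by
      have h2 := (S : Subgroup G).mul_mem ((S : Subgroup G).inv_mem (hRS hr)) (hQS hx.2)
      simpa using h2
    haveI : (RR : Subgroup C).Normal := by
      refine ⟨fun a ha b => ?_⟩
      have ha' : (a : G) ∈ R ⊓ C := hRR.le ⟨a, ha, rfl⟩
      have e : b * a * b⁻¹ = a := Subtype.ext (by
        show (b : G) * a * (b : G)⁻¹ = a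
        rw [← Subgroup.mem_centralizer_iff.mp b.2 (a : G) ha'.1, mul_inv_cancel_right])
      rw [e]; exact ha
    have hp1 : IsPGroup p ↥((Subgroup.zpowers c).subgroupOf C) :=
      (S.isPGroup'.to_le (Subgroup.zpowers_le.mpr hcS)).comap_subtype
    have hsup := RR.3 (hp1.to_sup_of_normal_right RR.2) le_sup_right
    have h3 : (⟨c, hc⟩ : C) ∈ (RR : Subgroup C) :=
      hsup.le (Subgroup.mem_sup_left (Subgroup.mem_subgroupOf.mpr (Subgroup.mem_zpowers c)))
    exact (hRR.le ⟨_, h3, rfl⟩ : c ∈ R ⊓ C).1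
  by_contra hne
  have hlt : R < R ⊔ Q := lt_of_le_of_ne le_sup_left fun e => hne (e ▸ le_sup_right)
  have hgt := H77.normalizer_inf_gt (S.isPGroup'.to_le (sup_le hRS hQS)) hlt
  refine hgt.not_ge fun y hy => ?_
  obtain ⟨hyN, hyS⟩ : y ∈ N ∧ y ∈ R ⊔ Q := by
    first
      | exact ⟨hy.1, hy.2⟩
      | exact ⟨hy.2, hy.1⟩
  rw [← SetLike.mem_coe, Subgroup.coe_mul_of_left_le_normalizer_right R Q
    (fun r hr => sylow_le_normalizer_core S (hRS hr))] at hyS
  obtain ⟨r, hr, q, hq, rfl⟩ := hyS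
  exact R.mul_mem hr (hTR q ⟨by simpa using N.mul_mem (N.inv_mem (hRN hr)) hyN, hq⟩)

/-- A centric core is radical. -/
theorem core_radical (S : Sylow p G)
    (hc : centralizerIn (S : Subgroup G) (groupFusionSystem (S : Subgroup G)).core ≤
      (groupFusionSystem (S : Subgroup G)).core)
    (X : Subgroup G) (hXL : X ≤ Subgroup.normalizer ((groupFusionSystem (S : Subgroup G)).core : Set G))
    (hXinv : ∀ n ∈ Subgroup.normalizer ((groupFusionSystem (S : Subgroup G)).core : Set G),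
      X.map (MulAut.conj n).toMonoidHom = X)
    (hle : (groupFusionSystem (S : Subgroup G)).core ⊔
      Subgroup.centralizer ((groupFusionSystem (S : Subgroup G)).core : Set G) ≤ X)
    (hidx : ∃ k : ℕ, ((groupFusionSystem (S : Subgroup G)).core ⊔
      Subgroup.centralizer ((groupFusionSystem (S : Subgroup G)).core : Set G)).relIndex X = p ^ k) :
    X = (groupFusionSystem (S : Subgroup G)).core ⊔
      Subgroup.centralizer ((groupFusionSystem (S : Subgroup G)).core : Set G) := by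
  classical
  set Q := (groupFusionSystem (S : Subgroup G)).core with hQ
  set C := Subgroup.centralizer (Q : Set G) with hC
  set L := Subgroup.normalizer (Q : Set G) with hL
  obtain ⟨RC, hRC⟩ : ∃ RC : Sylow p C, (RC : Subgroup C).map C.subtype = Q ⊓ C := core_centralizer_sylow S hc
  have hQS : Q ≤ (S : Subgroup G) := (H87.isNormal_core _).1
  have hSL : (S : Subgroup G) ≤ L := sylow_le_normalizer_core S
  have hCinv : ∀ n ∈ L, ∀ x ∈ C, n * x * n⁻¹ ∈ C := fun n hn x hx =>
    Subgroup.mem_subgroupOf.mp ((H5.centralizer_subgroupOf_normalizer_normal Q).conj_mem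
      ⟨x, Subgroup.centralizer_le_normalizer _ hx⟩ (Subgroup.mem_subgroupOf.mpr hx) ⟨n, hn⟩)
  -- `C(Q)` has a normal `p`-complement
  have hnc : Cfsg.HasNormalPComplement p C := by
    refine H5.hasNormalPComplement_of_frobenius RC fun T hT g _ _ => ?_
    refine Subgroup.mem_centralizer_iff.mpr fun t ht => Subtype.ext ?_
    have ht' : (t : G) ∈ Q ⊓ C := hRC.le ⟨t, hT ht, rfl⟩
    exact Subgroup.mem_centralizer_iff.mp g.2 (t : G) ht'.1
  set K := (Cfsg.pResidual p C).map C.subtype with hK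
  have hKp : ¬ p ∣ Nat.card K := by
    rw [hK, Subgroup.card_map_of_injective C.subtype_injective]
    exact H5.hasNormalPComplement_iff_not_dvd.mp hnc
  have hKC : K ≤ C := Subgroup.map_subtype_le _
  have hKinv : L ≤ Subgroup.normalizer (K : Set G) := by
    intro n hn
    refine H85.mem_normalizer_of_conj ?_
    rintro _ ⟨x, hx, rfl⟩
    refine ⟨⟨n * x * n⁻¹, hCinv n hn x x.2⟩, (H5.mem_pResidual_iff hnc).mpr ?_, rfl⟩
    have h1 := (H5.mem_pResidual_iff hnc).mp hx
    rwa [← Subgroup.orderOf_coe, show orderOf (n * (x : G) * n⁻¹) = orderOf (x : G) from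
      orderOf_injective (MulAut.conj n).toMonoidHom (MulAut.conj n).injective (x : G), Subgroup.orderOf_coe]
  have hCK : C ≤ Q ⊔ K := by
    intro c hc'
    have h1 : (⟨c, hc'⟩ : C) ∈ Cfsg.pResidual p C ⊔ (RC : Subgroup C) :=
      (H5.pResidual_isComplement' hnc RC).sup_eq_top ▸ Subgroup.mem_top _
    have h2 : c ∈ (Cfsg.pResidual p C ⊔ (RC : Subgroup C)).map C.subtype := ⟨_, h1, rfl⟩
    rw [Subgroup.map_sup, hRC] at h2
    exact sup_le (le_sup_right : K ≤ Q ⊔ K) (inf_le_left.trans le_sup_left) h2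
  -- the Sylow subgroup `Y` of `X`
  set Y := (S : Subgroup G) ⊓ X with hY
  have hXn : (X.subgroupOf L).Normal := Subgroup.normal_subgroupOf_of_le_normalizer fun n hn =>
    Subgroup.mem_normalizer_iff_map_conj_eq.mpr (hXinv n hn)
  obtain ⟨RX, hRX⟩ := H86.exists_sylow_of_normal_le hXL hXn (S.subtype hSL) rfl
  have hQY : Q ≤ Y := le_inf hQS (le_sup_left.trans hle)
  have hXY : X ≤ Y ⊔ K := by
    obtain ⟨k, hk⟩ := hidx
    have htop : (RX : Subgroup X) ⊔ (Q ⊔ C).subgroupOf X = ⊤ := by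
      apply Subgroup.index_eq_one.mp
      have h1 : ((RX : Subgroup X) ⊔ (Q ⊔ C).subgroupOf X).index ∣ p ^ k := hk ▸
        Subgroup.index_dvd_of_le le_sup_right
      have h2 : ((RX : Subgroup X) ⊔ (Q ⊔ C).subgroupOf X).index ∣ (RX : Subgroup X).index :=
        Subgroup.index_dvd_of_le le_sup_left
      obtain ⟨i, -, hi⟩ := (Nat.dvd_prime_pow Fact.out).mp h1
      rcases i with _ | i
      · simpa using hi
      · exact absurd ((hi ▸ dvd_pow_self p (Nat.succ_ne_zero i)).trans h2) RX.not_dvd_index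
    intro x hx
    have h1 : x ∈ ((RX : Subgroup X) ⊔ (Q ⊔ C).subgroupOf X).map X.subtype :=
      ⟨⟨x, hx⟩, htop.ge (Subgroup.mem_top _), rfl⟩
    rw [Subgroup.map_sup, hRX, Subgroup.subgroupOf_map_subtype, Subgroup.subgroupOf_map_subtype] at h1
    refine sup_le (le_sup_left : Y ≤ Y ⊔ K) (inf_le_left.trans (sup_le (hQY.trans le_sup_left) ?_)) h1
    exact hCK.trans (sup_le_sup_right hQY K)
  -- `Y` is normal in the fusion system
  have hYn : (groupFusionSystem (S : Subgroup G)).IsNormal Y := by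
    refine ⟨inf_le_left, fun A φ hφ => ?_⟩
    obtain ⟨hAS, hAimg, g₀, hg₀⟩ := hφ
    obtain ⟨g, hgL, hg⟩ := core_control S hAS g₀ fun a ha => hg₀ ⟨a, ha⟩ ▸ hAimg ⟨a, ha⟩
    set B := A.map (MulAut.conj g).toMonoidHom with hB
    have hBS : B ≤ (S : Subgroup G) := by
      rintro _ ⟨a, ha, rfl⟩
      show g * a * g⁻¹ ∈ _
      rw [← hg a ha, ← hg₀ ⟨a, ha⟩]
      exact hAimg ⟨a, ha⟩
    set T₁ := B ⊔ Y with hT₁
    have hT₁S : T₁ ≤ (S : Subgroup G) := sup_le hBS inf_le_left
    set M := T₁ ⊔ K with hM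
    set T₂ := (A ⊔ Y).map (MulAut.conj g).toMonoidHom with hT₂
    have hT₂M : T₂ ≤ M := by
      rw [hT₂, Subgroup.map_sup]
      refine sup_le (le_sup_left.trans le_sup_left) ?_
      rintro _ ⟨y, hy, rfl⟩
      have hgy : g * y * g⁻¹ ∈ X := (hXinv g hgL).le ⟨y, hy.2, rfl⟩
      exact sup_le_sup_right le_sup_right K (hXY hgy)
    have hKT : K ⊓ T₁ = ⊥ := by
      rw [inf_comm]; exact Cfsg.Comp.inf_eq_bot_of_isPGroup (S.isPGroup'.to_le hT₁S) hKp
    have hT₁K : T₁ ≤ Subgroup.normalizer (K : Set G) := hT₁S.trans (hSL.trans hKinv)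
    have hMmul : ∀ x ∈ M, ∃ k ∈ K, ∃ t ∈ T₁, x = k * t := by
      intro x hx
      rw [hM, sup_comm, ← SetLike.mem_coe, Subgroup.coe_mul_of_right_le_normalizer_left _ _ hT₁K] at hx
      obtain ⟨k, hk, t, ht, rfl⟩ := hx
      exact ⟨k, hk, t, ht, rfl⟩
    obtain ⟨TM, hTM⟩ : ∃ TM : Sylow p M, (TM : Subgroup M) = T₁.subgroupOf M := by
      obtain ⟨TM, hTM⟩ := ((S.isPGroup'.to_le hT₁S).comap_of_injective M.subtype M.subtype_injective :
        IsPGroup p (T₁.subgroupOf M)).exists_le_sylow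
      refine ⟨TM, le_antisymm (fun z hz => ?_) hTM⟩
      obtain ⟨k, hk, t, ht, hzkt⟩ := hMmul z z.2
      have htM : t ∈ M := Subgroup.mem_sup_left ht
      have hkz : (z * (⟨t, htM⟩ : M)⁻¹) ∈ (TM : Subgroup M) := mul_mem hz (inv_mem (hTM ht))
      have hk1 : k ∈ (TM : Subgroup M).map M.subtype :=
        ⟨_, hkz, by show (z : G) * t⁻¹ = k; rw [hzkt, mul_inv_cancel_right]⟩
      have hk0 : k = 1 := Subgroup.mem_bot.mp
        (Cfsg.Comp.inf_eq_bot_of_isPGroup (TM.isPGroup'.map M.subtype) hKp ▸ ⟨hk1, hk⟩)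
      rw [Subgroup.mem_subgroupOf, hzkt, hk0, one_mul]
      exact ht
    obtain ⟨z, hz⟩ := H86.exists_conj_le_sylow TM (X := T₂.subgroupOf M)
      (((S.isPGroup'.to_le (sup_le hAS inf_le_left)).map _).comap_of_injective M.subtype M.subtype_injective)
    obtain ⟨k, hk, t, ht, hzkt⟩ := hMmul (z⁻¹ : M) (z⁻¹ : M).2
    -- `k⁻¹` moves `T₂` into `T₁`
    have hmove : ∀ w ∈ T₂, k⁻¹ * w * k ∈ T₁ := by
      intro w hw
      have h1 := hz ⟨w, hT₂M hw⟩ (Subgroup.mem_subgroupOf.mpr hw)
      rw [hTM, Subgroup.mem_subgroupOf] at h1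
      have hz' : (z : G) = t⁻¹ * k⁻¹ := by
        have h2 : ((z : G))⁻¹ = k * t := by simpa using hzkt
        rw [← inv_inv (z : G), h2, mul_inv_rev]
      have h3 := T₁.mul_mem (T₁.mul_mem ht h1) (T₁.inv_mem ht)
      simp only [Subgroup.coe_mul, Subgroup.coe_inv, hz'] at h3
      convert h3 using 1
      group
    have hkB : ∀ b ∈ B, k⁻¹ * b * k = b := by
      intro b hb
      have hbT : b ∈ T₂ := by rw [hT₂, Subgroup.map_sup]; exact Subgroup.mem_sup_left hb
      have h1 : b⁻¹ * (k⁻¹ * b * k) ∈ T₁ := mul_mem (inv_mem (Subgroup.mem_sup_left hb)) (hmove b hbT)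
      have h2 : b⁻¹ * (k⁻¹ * b * k) ∈ K := by
        rw [show b⁻¹ * (k⁻¹ * b * k) = (b⁻¹ * k⁻¹ * b) * k by group]
        exact mul_mem (H85.conj_mem_of_mem_normalizer' (hT₁K (Subgroup.mem_sup_left hb)) (inv_mem hk)) hk
      exact (inv_mul_eq_one.mp (Subgroup.mem_bot.mp (hKT ▸ ⟨h2, h1⟩))).symm
    set g' := k⁻¹ * g with hg'
    have hg'A : ∀ a ∈ A, g' * a * g'⁻¹ = g₀ * a * g₀⁻¹ := by
      intro a ha
      rw [hg a ha, show g' * a * g'⁻¹ = k⁻¹ * (g * a * g⁻¹) * k by rw [hg']; group]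
      exact hkB _ ⟨a, ha, rfl⟩
    have hg'T : ∀ w ∈ A ⊔ Y, g' * w * g'⁻¹ ∈ T₁ := by
      intro w hw
      rw [show g' * w * g'⁻¹ = k⁻¹ * (g * w * g⁻¹) * k by rw [hg']; group]
      exact hmove _ ⟨w, hw, rfl⟩
    have hg'Y : ∀ y ∈ Y, g' * y * g'⁻¹ ∈ Y := by
      intro y hy
      refine ⟨hT₁S (hg'T y (Subgroup.mem_sup_right hy)), ?_⟩
      rw [show g' * y * g'⁻¹ = k⁻¹ * (g * y * g⁻¹) * k by rw [hg']; group]
      have hkX : k ∈ X := hle (Subgroup.mem_sup_right (hKC hk))
      exact X.mul_mem (X.mul_mem (X.inv_mem hkX) ((hXinv g hgL).le ⟨y, hy.2, rfl⟩)) hkX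
    refine ⟨(MulAut.conj g').toMonoidHom.comp (A ⊔ Y).subtype,
      ⟨sup_le hAS inf_le_left, fun x => hT₁S (hg'T x x.2), g', fun _ => rfl⟩, fun x => ?_, ?_⟩
    · show g' * (x : G) * g'⁻¹ = φ x
      rw [hg₀, hg'A x x.2]
    · refine Subgroup.eq_of_le_of_card_ge ?_ (le_of_eq ?_)
      · rintro _ ⟨y, hy, rfl⟩
        exact hg'Y y hy
      · have hinj : Function.Injective ((MulAut.conj g').toMonoidHom.comp (A ⊔ Y).subtype) :=
          (MulAut.conj g').injective.comp (A ⊔ Y).subtype_injective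
        rw [Subgroup.card_map_of_injective hinj,
          Nat.card_congr (Subgroup.subgroupOfEquivOfLe (le_sup_right : Y ≤ A ⊔ Y)).toEquiv]
  have hYQ : Y ≤ Q := H87.le_core hYn
  exact le_antisymm (hXY.trans (sup_le (hYQ.trans le_sup_left) (hKC.trans le_sup_right))) hle

end H72
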