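/-
Control of strong fusion passes from a normal subgroup to the whole group.
-/
import Mathlib
import Cfsg.Agent.H79.FusionControl
import Cfsg.Agent.H76.SPE
import Cfsg.Agent.CompBasic
import Cfsg.Agent.H5.Frobenius

set_option autoImplicit false
set_option linter.style.haveILetI false

namespace H72

open Subgroup

variable {G : Type*} [Group G] [Finite G] {p : ℕ} [Fact p.Prime]

/-- A finite family of controlling subgroups is controlled simultaneously. -/
theorem exists_normalizing_all {N T : Subgroup G} {ι : Type*} [DecidableEq ι] (V : ι → Subgroup G) (hVT : ∀ i, V i ≤ T)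
    (hctrl : ∀ i, ∀ A : Subgroup G, A ≤ T → ∀ n ∈ N, (∀ a ∈ A, n * a * n⁻¹ ∈ T) →
      ∃ h ∈ N, h ∈ normalizer (V i : Set G) ∧ ∀ a ∈ A, n * a * n⁻¹ = h * a * h⁻¹)
    (s : Finset ι) :
    ∀ A : Subgroup G, A ≤ T → ∀ n ∈ N, (∀ a ∈ A, n * a * n⁻¹ ∈ T) →
      ∃ h ∈ N, (∀ i ∈ s, h ∈ normalizer (V i : Set G)) ∧ ∀ a ∈ A, n * a * n⁻¹ = h * a * h⁻¹ := by
  induction s using Finset.induction with
  | empty => intro A _ n hn _; exact ⟨n, hn, fun i hi => absurd hi (Finset.notMem_empty i), fun _ _ => rfl⟩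
  | @insert i s his ih =>
    intro A hA n hn hnA
    obtain ⟨h, hh, hhs, hh'⟩ := ih A hA n hn hnA
    set B : Subgroup G := A ⊔ s.sup V with hB
    have hBT : B ≤ T := sup_le hA (Finset.sup_le fun j _ => hVT j)
    have hBh : ∀ b ∈ B, h * b * h⁻¹ ∈ T := by
      intro b hb
      have hle : B ≤ T.comap (MulAut.conj h).toMonoidHom := by
        refine sup_le (fun a ha => ?_) (Finset.sup_le fun j hj v hv => ?_)
        · show h * a * h⁻¹ ∈ T
          rw [← hh' a ha]; exact hnA a ha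
        · show h * v * h⁻¹ ∈ T
          exact hVT j ((mem_normalizer_iff.mp (hhs j hj) v).mp hv)
      exact hle hb
    obtain ⟨h', hh'N, hh'i, hh''⟩ := hctrl i B hBT h hh hBh
    refine ⟨h', hh'N, fun j hj => ?_, fun a ha => (hh' a ha).trans (hh'' a (mem_sup_left ha))⟩
    rcases Finset.mem_insert.mp hj with rfl | hj
    · exact hh'i
    · refine mem_normalizer_iff_map_conj_eq.mpr (eq_of_le_of_card_ge ?_
        (card_map_of_injective (MulAut.conj h').injective).ge)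
      rintro _ ⟨v, hv, rfl⟩
      show h' * v * h'⁻¹ ∈ V j
      rw [← hh'' v (mem_sup_right ((Finset.le_sup (f := V) hj) hv))]
      exact (mem_normalizer_iff.mp (hhs j hj) v).mp hv

theorem mem_or_gain {P N : Subgroup G} {Q : Subgroup G} (hP : IsPGroup p P)
    (hQP : Q ≤ P) (hT : ∀ t ∈ P ⊓ N, t ∈ normalizer (Q : Set G) → t ∈ Q) [N.Normal] :
    P ⊓ N ≤ Q := by
  by_contra hne
  have hlt : Q < Q ⊔ (P ⊓ N) := lt_of_le_of_ne le_sup_left fun e => hne (e ▸ le_sup_right)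
  have hle : Q ⊔ (P ⊓ N) ≤ P := sup_le hQP inf_le_left
  obtain ⟨-, y, hy, hyQ⟩ := SetLike.lt_iff_le_and_exists.mp (H79.lt_inf_normalizer_of_lt (hP.to_le hle) hlt)
  have hnorm : Q ≤ normalizer ((P ⊓ N : Subgroup G) : Set G) :=
    H79.le_normalizer_of_conj_mem fun q hq t ht =>
      ⟨P.mul_mem (P.mul_mem (hQP hq) ht.1) (P.inv_mem (hQP hq)), ‹N.Normal›.conj_mem t ht.2 q⟩
  have h1 : y ∈ (↑(Q ⊔ (P ⊓ N)) : Set G) := hy.1
  rw [coe_mul_of_left_le_normalizer_right _ _ hnorm] at h1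
  obtain ⟨q, hq, t, ht, rfl⟩ := h1
  apply hyQ
  refine Q.mul_mem hq (hT t ht ?_)
  simpa using (normalizer (Q : Set G)).mul_mem ((normalizer (Q : Set G)).inv_mem (le_normalizer hq)) hy.2

variable (P : Sylow p G) (N : Subgroup G) [N.Normal] (W : Subgroup G)

/-- The step at a fully normalized subgroup. -/
theorem normalFusion_step
    (hWN : normalizer (((P : Subgroup G) ⊓ N : Subgroup G) : Set G) ≤ normalizer (W : Set G))
    (hctrl : ∀ A : Subgroup G, A ≤ (P : Subgroup G) ⊓ N → ∀ n ∈ N,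
      (∀ a ∈ A, n * a * n⁻¹ ∈ (P : Subgroup G) ⊓ N) →
      ∃ h ∈ N, h ∈ normalizer (W : Set G) ∧ ∀ a ∈ A, n * a * n⁻¹ = h * a * h⁻¹)
    (Q : Subgroup G) (hQP : Q ≤ (P : Subgroup G)) (hfull : H79.Full p (P : Subgroup G) Q)
    (ih : ∀ R : Subgroup G, R ≤ (P : Subgroup G) → Q < R → ∀ g : G,
      (∀ u ∈ R, g * u * g⁻¹ ∈ (P : Subgroup G)) → H79.Induced W R g)
    (g : G) (hg : g ∈ normalizer (Q : Set G)) : H79.Induced W Q g := by
  classical
  set NQ := normalizer (Q : Set G) with hNQ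
  set T := (P : Subgroup G) ⊓ N with hTdef
  have hT : IsPGroup p T := P.isPGroup'.to_inf_left
  have hPT : (P : Subgroup G) ≤ normalizer (T : Set G) :=
    H79.le_normalizer_of_conj_mem fun s hs t ht =>
      ⟨(P : Subgroup G).mul_mem ((P : Subgroup G).mul_mem hs ht.1) ((P : Subgroup G).inv_mem hs),
        ‹N.Normal›.conj_mem t ht.2 s⟩
  -- Sylow intersections with a normal subgroup of `NQ`
  have frat : ∀ D : Subgroup G, D ≤ NQ → (∀ x ∈ NQ, ∀ d ∈ D, x * d * x⁻¹ ∈ D) →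
      ∀ x ∈ NQ, ∃ d ∈ D, ∃ m ∈ NQ ⊓ normalizer (((P : Subgroup G) ⊓ D : Subgroup G) : Set G), x = d * m := by
    intro D hD hDn x hx
    have hp : IsPGroup p ((((P : Subgroup G) ⊓ D).map (MulAut.conj x).toMonoidHom : Subgroup G)) :=
      (P.isPGroup'.to_inf_left).map _
    have hle : ((P : Subgroup G) ⊓ D).map (MulAut.conj x).toMonoidHom ≤ D := by
      rintro _ ⟨d, hd, rfl⟩; exact hDn x hx d hd.2
    obtain ⟨R, hR⟩ := ((P.isPGroup'.to_inf_left).comap_of_injective D.subtype D.subtype_injective :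
      IsPGroup p (((P : Subgroup G) ⊓ D).subgroupOf D)).exists_le_sylow
    have hReq : (R : Subgroup D).map D.subtype = (P : Subgroup G) ⊓ D := by
      refine (eq_of_le_of_card_ge (show (P : Subgroup G) ⊓ D ≤ (R : Subgroup D).map D.subtype from
        fun y hy => ⟨⟨y, hy.2⟩, hR hy, rfl⟩) ?_).symm
      obtain ⟨c, hc, hc'⟩ := hfull.exists_conj P.isPGroup' (R.isPGroup'.map D.subtype)
        ((map_subtype_le _).trans hD)
      refine Nat.card_le_card_of_injective (fun r : (R : Subgroup D).map D.subtype =>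
        (⟨c * r * c⁻¹, (hc' r r.2).1, hDn c hc r (map_subtype_le _ r.2)⟩ :
          ↥((P : Subgroup G) ⊓ D))) ?_
      intro a b hab
      exact Subtype.ext (mul_left_cancel (mul_right_cancel (congrArg Subtype.val hab)))
    obtain ⟨d, hd, hd'⟩ := H76.exists_conj_mem_sylow (G := G) R hle hp
    refine ⟨d⁻¹, D.inv_mem hd, d * x, ⟨NQ.mul_mem (hD hd) hx, ?_⟩, by group⟩
    refine mem_normalizer_iff_map_conj_eq.mpr (eq_of_le_of_card_ge ?_
      (card_map_of_injective (MulAut.conj (d * x)).injective).ge)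
    rintro _ ⟨y, hy, rfl⟩
    have h1 := hd' _ ⟨y, hy, rfl⟩
    rw [hReq] at h1
    show d * x * y * (d * x)⁻¹ ∈ _
    rw [show d * x * y * (d * x)⁻¹ = d * (x * y * x⁻¹) * d⁻¹ by group]
    exact h1
  -- gaining a bigger subgroup
  have gain : ∀ D : Subgroup G, ¬ (P : Subgroup G) ⊓ D ≤ Q →
      ∀ m ∈ NQ ⊓ normalizer (((P : Subgroup G) ⊓ D : Subgroup G) : Set G), H79.Induced W Q m := by
    intro D hD m hm
    obtain ⟨x, hx, hx'⟩ := ih (Q ⊔ ((P : Subgroup G) ⊓ D)) (sup_le hQP inf_le_left)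
      (lt_of_le_of_ne le_sup_left fun e => hD (e ▸ le_sup_right)) m (by
        intro u hu
        have hle : Q ⊔ ((P : Subgroup G) ⊓ D) ≤ (P : Subgroup G).comap (MulAut.conj m).toMonoidHom := by
          refine sup_le (fun q hq => ?_) (fun q hq => ?_)
          · exact hQP ((mem_normalizer_iff.mp hm.1 q).mp hq)
          · exact ((mem_normalizer_iff.mp hm.2 q).mp hq).1
        exact hle hu)
    exact ⟨x, hx, fun u hu => hx' u (mem_sup_left hu)⟩
  set U := Q ⊓ N with hU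
  have hUT : U ≤ T := inf_le_inf_right _ hQP
  -- the elements of `N` inducing identity on `U`
  set E := NQ ⊓ N ⊓ centralizer (U : Set G) with hE
  have hNQU : ∀ x ∈ NQ, ∀ u ∈ U, x * u * x⁻¹ ∈ U := fun x hx u hu =>
    ⟨(mem_normalizer_iff.mp hx u).mp hu.1, ‹N.Normal›.conj_mem u hu.2 x⟩
  have hEn : ∀ x ∈ NQ, ∀ e ∈ E, x * e * x⁻¹ ∈ E := by
    rintro x hx e ⟨⟨he1, he2⟩, he3⟩
    refine ⟨⟨NQ.mul_mem (NQ.mul_mem hx he1) (NQ.inv_mem hx), ‹N.Normal›.conj_mem e he2 x⟩, ?_⟩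
    refine mem_centralizer_iff.mpr fun u hu => ?_
    have h1 := mem_centralizer_iff.mp he3 _ (hNQU _ (NQ.inv_mem hx) u hu)
    simp only [inv_inv] at h1
    calc u * (x * e * x⁻¹) = x * (x⁻¹ * u * x * e) * x⁻¹ := by group
      _ = x * (e * (x⁻¹ * u * x)) * x⁻¹ := by rw [h1]
      _ = x * e * x⁻¹ * u := by group
  -- reduce to elements of `N`
  suffices hN : ∀ n ∈ NQ ⊓ N, H79.Induced W Q n by
    by_cases hTQ : T ≤ Q
    · refine ⟨g, hWN ?_, fun _ _ => rfl⟩
      refine mem_normalizer_iff_map_conj_eq.mpr (eq_of_le_of_card_ge ?_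
        (card_map_of_injective (MulAut.conj g).injective).ge)
      rintro _ ⟨t, ht, rfl⟩
      exact ⟨hQP ((mem_normalizer_iff.mp hg t).mp (hTQ ht)), ‹N.Normal›.conj_mem t ht.2 g⟩
    set D := NQ ⊓ N with hD
    obtain ⟨d, hd, m, hm, rfl⟩ := frat D inf_le_left (fun x hx d hd =>
      ⟨NQ.mul_mem (NQ.mul_mem hx hd.1) (NQ.inv_mem hx), ‹N.Normal›.conj_mem d hd.2 x⟩) g hg
    obtain ⟨x, hx, hx'⟩ := gain D (fun hle => hTQ (mem_or_gain P.isPGroup' hQP
      fun t ht htQ => hle ⟨ht.1, htQ, ht.2⟩)) m hm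
    obtain ⟨y, hy, hy'⟩ := hN d hd
    refine ⟨y * x, mul_mem hy hx, fun u hu => ?_⟩
    have h1 : m * u * m⁻¹ ∈ Q := (mem_normalizer_iff.mp hm.1 u).mp hu
    calc d * m * u * (d * m)⁻¹ = d * (m * u * m⁻¹) * d⁻¹ := by group
      _ = y * x * u * (y * x)⁻¹ := by rw [hy' _ h1, hx' u hu]; group
  intro n hn
  by_cases hE1 : ¬ (P : Subgroup G) ⊓ E ≤ Q
  · obtain ⟨e, he, m, hm, rfl⟩ := frat E (fun e he => he.1.1) hEn n hn.1
    obtain ⟨x, hx, hx'⟩ := gain E hE1 m hm
    -- `e` acts as an element of `T`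
    set C := E ⊓ centralizer (Q : Set G) with hC
    haveI : (C.subgroupOf E).Normal := by
      refine ⟨fun c hc z => ⟨?_, ?_⟩⟩
      · exact (z * c * z⁻¹).2
      · refine mem_centralizer_iff.mpr fun q hq => ?_
        have h1 := mem_centralizer_iff.mp (mem_subgroupOf.mp hc).2 _
          ((mem_normalizer_iff''.mp z.2.1.1 q).mp hq)
        show q * ((z : G) * c * (z : G)⁻¹) = (z : G) * c * (z : G)⁻¹ * q
        calc q * ((z : G) * c * (z : G)⁻¹) = (z : G) * ((z : G)⁻¹ * q * z * c) * (z : G)⁻¹ := by group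
          _ = (z : G) * (c * ((z : G)⁻¹ * q * z)) * (z : G)⁻¹ := by rw [h1]
          _ = (z : G) * c * (z : G)⁻¹ * q := by group
    have hquot : IsPGroup p (E ⧸ C.subgroupOf E) := by
      intro q
      obtain ⟨y, rfl⟩ := QuotientGroup.mk_surjective q
      refine ⟨(orderOf y).factorization p, ?_⟩
      rw [← QuotientGroup.mk_pow, QuotientGroup.eq_one_iff, mem_subgroupOf]
      refine ⟨SetLike.coe_mem _, mem_centralizer_iff.mpr fun u hu => ?_⟩
      set z := y ^ p ^ (orderOf y).factorization p with hz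
      have hzo : ¬ p ∣ orderOf (z : G) := by
        rw [orderOf_coe, hz, orderOf_pow_of_dvd (pow_ne_zero _ (Fact.out : p.Prime).ne_zero)
          (Nat.ordProj_dvd _ _)]
        exact Nat.not_dvd_ordCompl (Fact.out : p.Prime) (orderOf_pos _).ne'
      have h1 : (z : G) * u * (z : G)⁻¹ * u⁻¹ ∈ U := by
        refine ⟨Q.mul_mem ((mem_normalizer_iff.mp z.2.1.1 u).mp hu) (Q.inv_mem hu), ?_⟩
        rw [show (z : G) * u * (z : G)⁻¹ * u⁻¹ = (z : G) * (u * (z : G)⁻¹ * u⁻¹) by group]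
        exact N.mul_mem z.2.1.2 (‹N.Normal›.conj_mem _ (N.inv_mem z.2.1.2) u)
      exact (Cfsg.Comp.commute_of_commutator_commute ((hT.to_le hUT)) hzo h1
        (mem_centralizer_iff.mp z.2.2 _ h1).symm).symm
    obtain ⟨R, hR⟩ := ((P.isPGroup'.to_inf_left).comap_of_injective E.subtype E.subtype_injective :
      IsPGroup p (((P : Subgroup G) ⊓ E).subgroupOf E)).exists_le_sylow
    have hRP : ∀ r : E, r ∈ (R : Subgroup E) → ∃ c ∈ NQ, c * (r : G) * c⁻¹ ∈ (P : Subgroup G) := by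
      intro r hr
      obtain ⟨c, hc, hc'⟩ := hfull.exists_conj P.isPGroup' (R.isPGroup'.map E.subtype)
        ((map_subtype_le _).trans fun e he => he.1.1)
      exact ⟨c, hc, (hc' _ ⟨r, hr, rfl⟩).1⟩
    have hReq : (R : Subgroup E) = ((P : Subgroup G) ⊓ E).subgroupOf E := by
      refine (eq_of_le_of_card_ge hR ?_).symm
      obtain ⟨c, hc, hc'⟩ := hfull.exists_conj P.isPGroup' (R.isPGroup'.map E.subtype)
        ((map_subtype_le _).trans fun e he => he.1.1)
      show Nat.card (R : Subgroup E) ≤ Nat.card (((P : Subgroup G) ⊓ E).subgroupOf E)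
      refine Nat.card_le_card_of_injective (fun r : (R : Subgroup E) =>
        (⟨⟨c * (r : E) * c⁻¹, hEn c hc _ (r : E).2⟩, (hc' _ ⟨r, r.2, rfl⟩).1, hEn c hc _ (r : E).2⟩ :
          ((P : Subgroup G) ⊓ E).subgroupOf E)) ?_
      intro a b hab
      exact Subtype.ext (Subtype.ext (mul_left_cancel (mul_right_cancel
        (congrArg (fun t : ((P : Subgroup G) ⊓ E).subgroupOf E => ((t : E) : G)) hab))))
    have hs := QuotientGroup.mk'_surjective (C.subgroupOf E)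
    have htop' : ((R.mapSurjective hs) : Subgroup (E ⧸ C.subgroupOf E)) = ⊤ :=
      ((R.mapSurjective hs).is_maximal' (hquot.to_subgroup ⊤) le_top).symm
    rw [Sylow.coe_mapSurjective, hReq] at htop'
    obtain ⟨t, ht, hte⟩ := htop'.ge (mem_top (QuotientGroup.mk' (C.subgroupOf E) ⟨e, he⟩))
    refine ⟨(t : G) * x, mul_mem (hWN (hPT (mem_subgroupOf.mp ht).1)) hx, fun u hu => ?_⟩
    have h1 : t⁻¹ * ⟨e, he⟩ ∈ C.subgroupOf E := QuotientGroup.eq.mp hte
    have h2 := mem_centralizer_iff.mp (mem_subgroupOf.mp h1).2 _ ((mem_normalizer_iff.mp hm.1 u).mp hu)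
    simp only [coe_mul, coe_inv] at h2
    calc e * m * u * (e * m)⁻¹ = (t : G) * (((t : G)⁻¹ * e) * (m * u * m⁻¹)) * e⁻¹ := by group
      _ = (t : G) * ((m * u * m⁻¹) * ((t : G)⁻¹ * e)) * e⁻¹ := by rw [h2]
      _ = (t : G) * x * u * ((t : G) * x)⁻¹ := by rw [hx' u hu]; group
  rw [not_not] at hE1
  -- now every `p`-subgroup of `C_N(U)` lies in `U`
  set M := N ⊓ centralizer (U : Set G) with hM
  have hEU : ∀ r ∈ E, (∃ k, r ^ p ^ k = 1) → r ∈ U := by
    rintro r hr ⟨k, hk⟩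
    obtain ⟨c, hc, hc'⟩ := hfull.exists_conj P.isPGroup' (R := zpowers r)
      (by
        rintro ⟨_, i, rfl⟩
        refine ⟨k, Subtype.ext ?_⟩
        show (r ^ i) ^ p ^ k = 1
        rw [← zpow_natCast, ← zpow_mul, mul_comm, zpow_mul, zpow_natCast, hk, one_zpow])
      (zpowers_le.mpr hr.1.1)
    have h1 : c * r * c⁻¹ ∈ Q := hE1 ⟨(hc' r (mem_zpowers r)).1, hEn c hc r hr⟩
    exact ⟨(mem_normalizer_iff.mp hc r).mpr h1, hr.1.2⟩
  set Z := U ⊓ centralizer (U : Set G) with hZ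
  have hMn : ∀ q ∈ Q, ∀ m ∈ M, q * m * q⁻¹ ∈ M := by
    intro q hq m hm
    refine ⟨‹N.Normal›.conj_mem m hm.1 q, mem_centralizer_iff.mpr fun u hu => ?_⟩
    have h1 := mem_centralizer_iff.mp hm.2 _ (hNQU _ (NQ.inv_mem (le_normalizer hq)) u hu)
    simp only [inv_inv] at h1
    calc u * (q * m * q⁻¹) = q * (q⁻¹ * u * q * m) * q⁻¹ := by group
      _ = q * (m * (q⁻¹ * u * q)) * q⁻¹ := by rw [h1]
      _ = q * m * q⁻¹ * u := by group
  have hZM : Z ≤ M := fun z hz => ⟨hz.1.2, hz.2⟩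
  have hsyl : ∀ R : Subgroup G, IsPGroup p R → R ≤ M → Z ≤ R → R = Z := by
    -- a maximal such subgroup is normalized by `Q`
    suffices h : ∀ R : Subgroup G, IsPGroup p R → R ≤ M → Q ≤ normalizer (R : Set G) → R ≤ Z by
      intro R hR hRM hZR
      obtain ⟨S, hS⟩ := (hR.comap_of_injective M.subtype M.subtype_injective :
        IsPGroup p (R.subgroupOf M)).exists_le_sylow
      have hex : ∃ S' : Sylow p M, Q ≤ normalizer (((S' : Subgroup M).map M.subtype : Subgroup G) : Set G) := by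
        -- a Sylow subgroup of `Q M` containing `Q` meets `M` in a Sylow subgroup of `M`
        set H := M ⊔ Q with hH
        obtain ⟨S₁, hS₁⟩ := (((P.isPGroup'.to_le hQP)).comap_of_injective H.subtype H.subtype_injective :
          IsPGroup p (Q.subgroupOf H)).exists_le_sylow
        set A := ((S₁ : Subgroup H).map H.subtype) ⊓ M with hA
        obtain ⟨S', hS'⟩ := (((S₁.isPGroup'.map H.subtype).to_inf_left).comap_of_injective M.subtype
          M.subtype_injective : IsPGroup p (A.subgroupOf M)).exists_le_sylow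
        have hQA : Q ≤ normalizer (A : Set G) := H79.le_normalizer_of_conj_mem fun q hq a ha => by
          have hq' : q ∈ (S₁ : Subgroup H).map H.subtype :=
            ⟨⟨q, mem_sup_right hq⟩, hS₁ hq, rfl⟩
          exact ⟨((S₁ : Subgroup H).map H.subtype).mul_mem (((S₁ : Subgroup H).map H.subtype).mul_mem hq' ha.1)
            (((S₁ : Subgroup H).map H.subtype).inv_mem hq'), hMn q hq a ha.2⟩
        refine ⟨S', ?_⟩
        suffices e : (S' : Subgroup M).map M.subtype = A by rw [e]; exact hQA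
        refine (eq_of_le_of_card_ge (show A ≤ (S' : Subgroup M).map M.subtype from
          fun a ha => ⟨⟨a, ha.2⟩, hS' ha, rfl⟩) ?_).symm
        obtain ⟨y, hy, hy'⟩ := H76.exists_conj_mem_sylow (G := G) S₁ (Q := (S' : Subgroup M).map M.subtype)
          ((map_subtype_le _).trans le_sup_left) (S'.isPGroup'.map _)
        refine Nat.card_le_card_of_injective (fun a : (S' : Subgroup M).map M.subtype =>
          (⟨y * a * y⁻¹, hy' a a.2, ?_⟩ : A)) ?_
        · have hyM : y ∈ normalizer (M : Set G) :=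
            (sup_le le_normalizer (H79.le_normalizer_of_conj_mem hMn) : M ⊔ Q ≤ normalizer (M : Set G)) hy
          exact (mem_normalizer_iff.mp hyM _).mp (map_subtype_le _ a.2)
        · intro a b hab
          exact Subtype.ext (mul_left_cancel (mul_right_cancel (congrArg Subtype.val hab)))
      obtain ⟨S', hS'⟩ := hex
      have h1 := h _ (S'.isPGroup'.map M.subtype) (map_subtype_le _) hS'
      refine (eq_of_le_of_card_ge hZR ?_).symm
      have h2 : Nat.card (S' : Subgroup M) ≤ Nat.card Z := by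
        rw [← card_map_of_injective M.subtype_injective]
        exact card_le_of_le h1
      refine le_trans ?_ h2
      rw [S'.card_eq_multiplicity.trans S.card_eq_multiplicity.symm,
        ← Nat.card_congr (subgroupOfEquivOfLe hRM).toEquiv]
      exact card_le_of_le hS
    intro R hR hRM hQR
    by_contra hne
    have hRQ : ¬ R ≤ Q := fun hle => hne fun r hr => ⟨⟨hle hr, (hRM hr).1⟩, (hRM hr).2⟩
    have hlt : Q < Q ⊔ R := lt_of_le_of_ne le_sup_left fun e => hRQ (e ▸ le_sup_right)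
    have hp : IsPGroup p ↥(Q ⊔ R) := (P.isPGroup'.to_le hQP).to_sup_of_normal_right' hR hQR
    obtain ⟨-, y, hy, hyQ⟩ := SetLike.lt_iff_le_and_exists.mp (H79.lt_inf_normalizer_of_lt hp hlt)
    have h1 : y ∈ (↑(Q ⊔ R) : Set G) := hy.1
    rw [coe_mul_of_left_le_normalizer_right _ _ hQR] at h1
    obtain ⟨q, hq, r, hr, rfl⟩ := h1
    refine hyQ (Q.mul_mem hq (hEU r ⟨⟨?_, (hRM hr).1⟩, (hRM hr).2⟩ ?_).1)
    · simpa using NQ.mul_mem (NQ.inv_mem (le_normalizer hq)) hy.2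
    · obtain ⟨k, hk⟩ := hR ⟨r, hr⟩
      exact ⟨k, congrArg Subtype.val hk⟩
  obtain ⟨h, hhN, hhW, hh'⟩ := hctrl U hUT n hn.2 fun u hu => hUT (hNQU n hn.1 u hu)
  set c := h⁻¹ * n with hc
  have hcM : c ∈ M := by
    refine ⟨N.mul_mem (N.inv_mem hhN) hn.2, mem_centralizer_iff.mpr fun u hu => ?_⟩
    have h1 := hh' u hu
    calc u * (h⁻¹ * n) = h⁻¹ * (h * u * h⁻¹) * n := by group
      _ = h⁻¹ * (n * u * n⁻¹) * n := by rw [h1]
      _ = h⁻¹ * n * u := by group
  set K₀ := M ⊓ normalizer (W : Set G) with hK₀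
  let Ω := {k : G // k ∈ M ∧ n * k⁻¹ ∈ normalizer (W : Set G) ∧ ¬ p ∣ orderOf k}
  have hQW : ∀ q ∈ Q, q ∈ normalizer (W : Set G) := fun q hq => hWN (hPT (hQP hq))
  have hUW : ∀ u ∈ U, u ∈ normalizer (W : Set G) := fun u hu => hQW u hu.1
  -- decomposition of the coset
  have hsplit : ∀ m ∈ M, ∃ z k, z ∈ Z ∧ k ∈ M ∧ ¬ p ∣ orderOf k ∧ m = z * k := by
    intro m hm
    obtain ⟨a, b, hab, ⟨k, hk⟩, hb, ha', hb'⟩ := H5.exists_p_decomposition (p := p) m
    have hbM : b ∈ M := zpowers_le.mpr hm hb'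
    have haM : a ∈ M := zpowers_le.mpr hm ha'
    refine ⟨a, b, ?_, hbM, (Fact.out : p.Prime).coprime_iff_not_dvd.mp (Nat.Coprime.symm hb), hab⟩
    have hzR : Z ⊔ zpowers a ≤ M := sup_le hZM (zpowers_le.mpr haM)
    have hnorm : zpowers a ≤ normalizer (Z : Set G) := by
      refine zpowers_le.mpr (centralizer_le_normalizer _ (mem_centralizer_iff.mpr fun z hz => ?_))
      exact mem_centralizer_iff.mp haM.2 z hz.1
    have hap : IsPGroup p (zpowers a) := by
      rintro ⟨_, i, rfl⟩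
      refine ⟨k, Subtype.ext ?_⟩
      show (a ^ i) ^ p ^ k = 1
      rw [← zpow_natCast, ← zpow_mul, mul_comm, zpow_mul, zpow_natCast, hk, one_zpow]
    have hpR : IsPGroup p ↥(Z ⊔ zpowers a) :=
      ((hT.to_le hUT).to_inf_left).to_sup_of_normal_left' hap hnorm
    exact (hsyl _ hpR hzR le_sup_left).le (mem_sup_right (mem_zpowers a))
  have huniq : ∀ z₁ z₂ k₁ k₂ : G, z₁ ∈ Z → z₂ ∈ Z → k₁ ∈ M → k₂ ∈ M → ¬ p ∣ orderOf k₁ → ¬ p ∣ orderOf k₂ →
      z₁ * k₁ = z₂ * k₂ → k₁ = k₂ := by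
    intro z₁ z₂ k₁ k₂ hz₁ hz₂ hk₁ hk₂ ho₁ ho₂ he
    have hcz : ∀ z ∈ Z, ∀ k ∈ M, Commute z k := fun z hz k hk => mem_centralizer_iff.mp hk.2 z hz.1
    set z := z₁⁻¹ * z₂ with hz
    have hzZ : z ∈ Z := Z.mul_mem (Z.inv_mem hz₁) hz₂
    have hk : k₁ = z * k₂ := by rw [hz, mul_assoc, ← he, inv_mul_cancel_left]
    suffices z = 1 by rw [hk, this, one_mul]
    obtain ⟨i, hi⟩ := (hT.to_le (hUT)).to_inf_left ⟨z, hzZ⟩
    have hi' : z ^ p ^ i = 1 := congrArg Subtype.val hi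
    have h1 : z ^ orderOf k₁ = (k₂ ^ orderOf k₁)⁻¹ := by
      rw [eq_inv_iff_mul_eq_one, ← (hcz z hzZ k₂ hk₂).mul_pow, ← hk, pow_orderOf_eq_one]
    have h2 : z ^ (orderOf k₁ * orderOf k₂) = 1 := by
      rw [pow_mul, h1, inv_pow, ← pow_mul, mul_comm, pow_mul, pow_orderOf_eq_one, one_pow, inv_one]
    refine orderOf_eq_one_iff.mp (Nat.eq_one_of_dvd_coprimes ?_ (orderOf_dvd_of_pow_eq_one hi')
      (orderOf_dvd_of_pow_eq_one h2))
    exact (Nat.Coprime.mul_right ((Fact.out : p.Prime).coprime_iff_not_dvd.mpr ho₁)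
      ((Fact.out : p.Prime).coprime_iff_not_dvd.mpr ho₂)).pow_left i
  have hnc : ∀ m ∈ M, (n * m⁻¹ ∈ normalizer (W : Set G) ↔ m * c⁻¹ ∈ normalizer (W : Set G)) := by
    intro m _
    rw [show n * m⁻¹ = h * (m * c⁻¹)⁻¹ by rw [hc]; group, mul_mem_cancel_left hhW, inv_mem_iff]
  have hcard : Nat.card Ω * Nat.card Z = Nat.card K₀ := by
    rw [mul_comm, ← Nat.card_prod]
    refine Nat.card_congr (Equiv.ofBijective (fun zk : Z × Ω =>
      (⟨(zk.1 : G) * zk.2.1 * c⁻¹, ?_, ?_⟩ : K₀)) ⟨?_, ?_⟩)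
    · exact M.mul_mem (M.mul_mem (hZM zk.1.2) zk.2.2.1) (M.inv_mem hcM)
    · rw [mul_assoc]
      exact (normalizer (W : Set G)).mul_mem (hUW _ zk.1.2.1) ((hnc _ zk.2.2.1).mp zk.2.2.2.1)
    · rintro ⟨z₁, k₁⟩ ⟨z₂, k₂⟩ he
      have h1 : (z₁ : G) * k₁.1 = (z₂ : G) * k₂.1 := mul_right_cancel (congrArg Subtype.val he)
      have h2 := huniq _ _ _ _ z₁.2 z₂.2 k₁.2.1 k₂.2.1 k₁.2.2.2 k₂.2.2.2 h1
      rw [h2] at h1
      exact Prod.ext (Subtype.ext (mul_right_cancel h1)) (Subtype.ext h2)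
    · rintro ⟨a, ha⟩
      obtain ⟨z, k, hz, hk, hko, hzk⟩ := hsplit (a * c) (M.mul_mem ha.1 hcM)
      refine ⟨(⟨z, hz⟩, ⟨k, hk, (hnc k hk).mpr ?_, hko⟩), Subtype.ext ?_⟩
      · rw [show k * c⁻¹ = z⁻¹ * a by rw [show k = z⁻¹ * (a * c) by rw [hzk, inv_mul_cancel_left]]; group]
        exact (normalizer (W : Set G)).mul_mem ((normalizer (W : Set G)).inv_mem (hUW _ hz.1)) ha.2
      · show z * k * c⁻¹ = a
        rw [← hzk, mul_inv_cancel_right]
  have hndvd : ¬ p ∣ Nat.card Ω := by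
    intro hd
    obtain ⟨R, hR⟩ := (((hT.to_le hUT).to_inf_left).comap_of_injective K₀.subtype K₀.subtype_injective :
      IsPGroup p (Z.subgroupOf K₀)).exists_le_sylow
    have hRZ : (R : Subgroup K₀).map K₀.subtype = Z := hsyl _ (R.isPGroup'.map _)
      ((map_subtype_le _).trans inf_le_left) fun z hz => ⟨⟨z, hZM hz, hUW z hz.1⟩, hR hz, rfl⟩
    apply R.not_dvd_index
    have h1 : Nat.card (R : Subgroup K₀) = Nat.card Z := by
      rw [← card_map_of_injective K₀.subtype_injective, hRZ]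
    have h2 := (R : Subgroup K₀).index_mul_card
    rw [h1, ← hcard] at h2
    rwa [Nat.eq_of_mul_eq_mul_right Nat.card_pos h2]
  have hΩ : ∀ q ∈ Q, ∀ k : Ω, q * k.1 * q⁻¹ ∈ M ∧ n * (q * k.1 * q⁻¹)⁻¹ ∈ normalizer (W : Set G) ∧
      ¬ p ∣ orderOf (q * k.1 * q⁻¹) := by
    intro q hq k
    refine ⟨hMn q hq _ k.2.1, ?_, ?_⟩
    · rw [show n * (q * k.1 * q⁻¹)⁻¹ = (n * q * n⁻¹) * (n * k.1⁻¹) * q⁻¹ by group]
      exact mul_mem (mul_mem (hQW _ ((mem_normalizer_iff.mp hn.1 q).mp hq)) k.2.2.1)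
        (inv_mem (hQW q hq))
    · rw [show orderOf (q * k.1 * q⁻¹) = orderOf k.1 from orderOf_injective (MulAut.conj q).toMonoidHom
        (MulAut.conj q).injective k.1]
      exact k.2.2.2
  letI : MulAction Q Ω :=
    { smul := fun q k => ⟨(q : G) * k.1 * (q : G)⁻¹, hΩ q q.2 k⟩
      one_smul := fun k => Subtype.ext (show (1 : G) * k.1 * (1 : G)⁻¹ = k.1 by group)
      mul_smul := fun q q' k => Subtype.ext (show (q : G) * (q' : G) * k.1 * ((q : G) * (q' : G))⁻¹ =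
        (q : G) * ((q' : G) * k.1 * (q' : G)⁻¹) * (q : G)⁻¹ by group) }
  obtain ⟨k, hk⟩ := (P.isPGroup'.to_le hQP).nonempty_fixed_point_of_prime_not_dvd_card Ω hndvd
  refine ⟨n * k.1⁻¹, k.2.2.1, fun u hu => ?_⟩
  have h1 : u * k.1 * u⁻¹ = k.1 := congrArg Subtype.val (hk ⟨u, hu⟩)
  rw [mul_inv_eq_iff_eq_mul] at h1
  calc n * u * n⁻¹ = n * (k.1⁻¹ * (k.1 * u)) * n⁻¹ := by group
    _ = n * k.1⁻¹ * u * (n * k.1⁻¹)⁻¹ := by rw [← h1]; group

/-- Control of fusion by `W` in a normal subgroup gives control in the group. -/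
theorem normalFusion_induced
    (hWN : normalizer (((P : Subgroup G) ⊓ N : Subgroup G) : Set G) ≤ normalizer (W : Set G))
    (hctrl : ∀ A : Subgroup G, A ≤ (P : Subgroup G) ⊓ N → ∀ n ∈ N,
      (∀ a ∈ A, n * a * n⁻¹ ∈ (P : Subgroup G) ⊓ N) →
      ∃ h ∈ N, h ∈ normalizer (W : Set G) ∧ ∀ a ∈ A, n * a * n⁻¹ = h * a * h⁻¹) :
    ∀ U : Subgroup G, U ≤ (P : Subgroup G) → ∀ g : G, (∀ u ∈ U, g * u * g⁻¹ ∈ (P : Subgroup G)) →
      H79.Induced W U g := by
  suffices main : ∀ m k : ℕ, Nat.card (P : Subgroup G) + 1 ≤ k + m →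
      ∀ U : Subgroup G, U ≤ (P : Subgroup G) → k ≤ Nat.card U → ∀ g : G,
        (∀ u ∈ U, g * u * g⁻¹ ∈ (P : Subgroup G)) → H79.Induced W U g from
    fun U hU g hg => main _ 0 (by rw [zero_add]) U hU (Nat.zero_le _) g hg
  intro m
  induction m with
  | zero =>
    intro k hk U hU hkU
    have := card_le_of_le hU
    omega
  | succ m ihm =>
    intro k hk U hU hkU g hg
    have ihA := ihm (k + 1) (by omega)
    by_cases hlt : k + 1 ≤ Nat.card U
    · exact ihA U hU hlt g hg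
    have hcard : Nat.card U = k := by omega
    by_cases hUP : U = (P : Subgroup G)
    · subst hUP
      refine ⟨g, hWN ?_, fun _ _ => rfl⟩
      refine mem_normalizer_iff_map_conj_eq.mpr (eq_of_le_of_card_ge ?_
        (card_map_of_injective (MulAut.conj g).injective).ge)
      rintro _ ⟨t, ht, rfl⟩
      exact ⟨hg t ht.1, ‹N.Normal›.conj_mem t ht.2 g⟩
    obtain ⟨h, hh, hfull⟩ := H79.exists_full_conj P hU
    set T := U.map (MulAut.conj h).toMonoidHom with hTdef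
    have hTP : T ≤ (P : Subgroup G) := by
      rintro _ ⟨u, hu, rfl⟩
      exact hh u ⟨hU hu, le_normalizer hu⟩
    have hTcard : Nat.card T = k := by
      rw [hTdef, card_map_of_injective (MulAut.conj h).injective, hcard]
    have hbig : ∀ V : Subgroup G, V ≤ (P : Subgroup G) → V ≠ (P : Subgroup G) → Nat.card V = k →
        k + 1 ≤ Nat.card ↥((P : Subgroup G) ⊓ normalizer (V : Set G)) := by
      intro V hV hVP hVk
      have := Set.Finite.card_lt_card (Set.toFinite _) (SetLike.coe_ssubset_coe.mpr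
        (H79.lt_inf_normalizer_of_lt P.isPGroup' (lt_of_le_of_ne hV hVP)))
      exact hVk ▸ this
    obtain ⟨x₁, hx₁, hx₁'⟩ := ihA _ inf_le_left (hbig U hU hUP hcard) h hh
    set U₂ := U.map (MulAut.conj g).toMonoidHom with hU₂
    have hU₂P : U₂ ≤ (P : Subgroup G) := by
      rintro _ ⟨u, hu, rfl⟩
      exact hg u hu
    have hcard₂ : Nat.card U₂ = k := by
      rw [hU₂, card_map_of_injective (MulAut.conj g).injective, hcard]
    have hk2 := hbig U₂ hU₂P (fun e => hUP (eq_of_le_of_card_ge hU (by rw [hcard, ← hcard₂, e]))) hcard₂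
    have hmove : ((P : Subgroup G) ⊓ normalizer (U₂ : Set G)).map
        (MulAut.conj (h * g⁻¹)).toMonoidHom ≤ normalizer (T : Set G) := by
      have h1 := H79.conj_map_le_normalizer (T := U₂) (h * g⁻¹)
        (show (P : Subgroup G) ⊓ normalizer (U₂ : Set G) ≤ _ from inf_le_right)
      rwa [hU₂, map_map, show ((MulAut.conj (h * g⁻¹)).toMonoidHom.comp
        (MulAut.conj g).toMonoidHom) = (MulAut.conj h).toMonoidHom from
          MonoidHom.ext fun x => by simp [mul_assoc]] at h1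
    obtain ⟨c, hc, hcmem⟩ := hfull.exists_conj P.isPGroup' (P.isPGroup'.to_inf_left.map _) hmove
    obtain ⟨x₃, hx₃, hx₃'⟩ := ihA _ inf_le_left hk2 (c * (h * g⁻¹)) (fun r hr => by
      show c * (h * g⁻¹) * r * (c * (h * g⁻¹))⁻¹ ∈ (P : Subgroup G)
      have := mem_inf.mp (hcmem _ ⟨r, hr, rfl⟩)
      simpa [mul_assoc] using this.1)
    obtain ⟨x₂, hx₂, hx₂'⟩ := normalFusion_step P N W hWN hctrl T hTP hfull
      (fun R hR hlt' => ihA R hR (by
        have := Set.Finite.card_lt_card (Set.toFinite _) (SetLike.coe_ssubset_coe.mpr hlt')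
        exact hTcard ▸ this)) c hc
    refine ⟨x₃⁻¹ * x₂ * x₁, mul_mem (mul_mem (inv_mem hx₃) hx₂) hx₁, fun u hu => ?_⟩
    have e1 := hx₁' u ⟨hU hu, le_normalizer hu⟩
    have e3 := hx₃' _ (⟨hg u hu, le_normalizer ⟨u, hu, rfl⟩⟩ :
      g * u * g⁻¹ ∈ (P : Subgroup G) ⊓ normalizer (U₂ : Set G))
    have e2 := hx₂' (h * u * h⁻¹) ⟨u, hu, rfl⟩
    have e4 : g * u * g⁻¹ = x₃⁻¹ * (c * (h * u * h⁻¹) * c⁻¹) * x₃ := by
      have : x₃ * (g * u * g⁻¹) * x₃⁻¹ = c * (h * u * h⁻¹) * c⁻¹ := by rw [← e3]; group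
      rw [← this]; group
    rw [e4, e2, e1]; group

end H72
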