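import Cfsg.Agent.H72.LayerSection
import Cfsg.Agent.H56.Kegel
import Cfsg.Agent.H5.TateCor
import Cfsg.Agent.H1.CoprimeAction2
import Cfsg.Agent.H6.Basic

/-!
If `G' ≤ X`, `K < X` are normal and `X \ K` is one conjugacy class of `G` (and `X` contains every
element central modulo `K`), then `K` is solvable, assuming odd-order groups are solvable.
-/

set_option autoImplicit false

open scoped commutatorElement

namespace H72

namespace OneClass

theorem commute_of_commutator_eq {Q : Type*} [Group Q] {a x y : Q} (h : ⁅a, x⁆ = ⁅a, y⁆) :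
    Commute a (x⁻¹ * y) := by
  have h1 : x * a * x⁻¹ = y * a * y⁻¹ := by
    have := congrArg (fun z => (a⁻¹ * z)⁻¹) h
    simpa [commutatorElement_def, mul_assoc] using this
  show a * (x⁻¹ * y) = x⁻¹ * y * a
  calc a * (x⁻¹ * y) = x⁻¹ * (x * a * x⁻¹) * y := by group
    _ = x⁻¹ * (y * a * y⁻¹) * y := by rw [h1]
    _ = x⁻¹ * y * a := by group

variable {G : Type*} [Group G] [Finite G]

theorem common_order (K X : Subgroup G) (hKX : K ≤ X) {g : G} (hgX : g ∈ X) (hgK : g ∉ K)
    (hclass : ∀ x ∈ X, x ∉ K → IsConj g x) :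
    ∃ r e : ℕ, r.Prime ∧ 0 < e ∧ (∀ x ∈ X, x ∉ K → orderOf x = r ^ e) ∧ ∀ x ∈ X, x ^ r ∈ K := by
  have hord : ∀ x ∈ X, x ∉ K → orderOf x = orderOf g := fun x hx hxK => by
    obtain ⟨c, hc⟩ := isConj_iff.1 (hclass x hx hxK)
    rw [← hc, ← MulAut.conj_apply, MulEquiv.orderOf_eq]
  set n := orderOf g with hn
  have hn1 : n ≠ 1 := fun h => hgK (by rw [orderOf_eq_one_iff.1 h]; exact K.one_mem)
  obtain ⟨r, hr, hrn⟩ := Nat.exists_prime_and_dvd hn1
  haveI := Fact.mk hr
  obtain ⟨e, u, hu, hnu⟩ := Nat.exists_eq_pow_mul_and_not_dvd (orderOf_pos g).ne' r hr.ne_one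
  have hn0 : 0 < n := orderOf_pos g
  have hu0 : u ≠ 0 := fun h => by rw [hn] at hn0; rw [hnu, h, mul_zero] at hn0; omega
  have he : 0 < e := by
    rcases Nat.eq_zero_or_pos e with h | h
    · exfalso; rw [← hn] at hnu; rw [hnu, h, pow_zero, one_mul] at hrn; exact hu hrn
    · exact h
  rw [← hn] at hnu
  -- `g ^ (r ^ e)` lies in `K`
  have h1 : g ^ (r ^ e) ∈ K := by
    by_contra h
    have h2 := hord _ (X.pow_mem hgX _) h
    rw [orderOf_pow, ← hn, hnu, Nat.gcd_eq_right (dvd_mul_right _ _),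
      Nat.mul_div_cancel_left _ (pow_pos hr.pos e)] at h2
    have h3 : r ^ e * u = 1 * u := by rw [one_mul]; exact h2.symm
    have h4 := Nat.eq_of_mul_eq_mul_right (Nat.pos_of_ne_zero hu0) h3
    exact (Nat.one_lt_pow he.ne' hr.one_lt).ne' h4
  have h2 : g ^ u ∉ K := by
    intro h
    apply hgK
    have hb : g ^ Nat.gcd u (r ^ e) ∈ K := by
      have := Nat.gcd_eq_gcd_ab u (r ^ e)
      have h3 : g ^ (Nat.gcd u (r ^ e) : ℤ) ∈ K := by
        rw [this, zpow_add, zpow_mul, zpow_mul, zpow_natCast, zpow_natCast]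
        exact K.mul_mem (K.zpow_mem h _) (K.zpow_mem h1 _)
      rwa [zpow_natCast] at h3
    have hg1 : Nat.gcd u (r ^ e) = 1 :=
      Nat.Coprime.pow_right _ ((Nat.coprime_comm).1 ((hr.coprime_iff_not_dvd).2 hu))
    rwa [hg1, pow_one] at hb
  have hgu : orderOf (g ^ u) = r ^ e := by
    rw [orderOf_pow, ← hn, hnu, Nat.gcd_eq_right (dvd_mul_left _ _),
      Nat.mul_div_cancel _ (Nat.pos_of_ne_zero hu0)]
  have hne : n = r ^ e := (hord _ (X.pow_mem hgX _) h2).symm.trans hgu
  refine ⟨r, e, hr, he, fun x hx hxK => (hord x hx hxK).trans hne, fun x hx => ?_⟩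
  by_cases hxK : x ∈ K
  · exact K.pow_mem hxK _
  by_contra h
  have h3 := hord _ (X.pow_mem hx _) h
  rw [orderOf_pow, hord x hx hxK, Nat.gcd_eq_right hrn] at h3
  exact (Nat.div_lt_self hn0 hr.one_lt).ne h3

variable {r : ℕ} [Fact r.Prime]

theorem abelian_quotient (K X : Subgroup G) [K.Normal] [X.Normal] (hKX : K ≤ X) {g : G}
    (hgX : g ∈ X) (hgK : g ∉ K) (hclass : ∀ x ∈ X, x ∉ K → IsConj g x)
    (hexp : ∀ x ∈ X, x ^ r ∈ K) : ∀ x ∈ X, ∀ y ∈ X, ⁅x, y⁆ ∈ K := by
  set Y := ⁅X, X⁆ ⊔ K with hY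
  suffices hYK : Y ≤ K from fun x hx y hy =>
    hYK (le_sup_left (α := Subgroup G) (Subgroup.commutator_mem_commutator hx hy))
  by_contra h
  obtain ⟨y, hyY, hyK⟩ := SetLike.not_le_iff_exists.1 h
  have hYX : Y ≤ X := sup_le (Subgroup.commutator_le_self X) hKX
  have hXY : X ≤ Y := by
    intro x hx
    by_cases hxK : x ∈ K
    · exact le_sup_right (α := Subgroup G) hxK
    · obtain ⟨c, hc⟩ := isConj_iff.1 ((hclass y (hYX hyY) hyK).symm.trans (hclass x hx hxK))
      rw [← hc]
      exact Subgroup.Normal.conj_mem inferInstance y hyY c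
  let π := QuotientGroup.mk' K
  have hp : IsPGroup r (X.map π : Subgroup (G ⧸ K)) := by
    rintro ⟨_, x, hx, rfl⟩
    refine ⟨1, Subtype.ext ?_⟩
    rw [pow_one, Subgroup.coe_pow, ← map_pow]
    exact (QuotientGroup.eq_one_iff _).2 (hexp x hx)
  have h1 : X.map π ≤ ⁅X.map π, X.map π⁆ := by
    rw [← Subgroup.map_commutator]
    refine (Subgroup.map_mono hXY).trans ?_
    rw [hY, Subgroup.map_sup, sup_le_iff]
    refine ⟨le_rfl, ?_⟩
    rintro _ ⟨k, hk, rfl⟩
    rw [show π k = 1 from (QuotientGroup.eq_one_iff k).2 hk]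
    exact Subgroup.one_mem _
  have h2 := LayerSection.eq_bot_of_le_commutator (r := r) (X.map π) hp (X.map π) le_rfl h1
  rw [Subgroup.map_eq_bot_iff] at h2
  have := h2 hgX
  rw [QuotientGroup.ker_mk'] at this
  exact hgK this

/-- The elements fixing `g` modulo `K`. -/
def cosetStab (K : Subgroup G) [K.Normal] (g : G) : Subgroup G :=
  (Subgroup.centralizer {QuotientGroup.mk' K g}).comap (QuotientGroup.mk' K)

theorem mem_cosetStab (K : Subgroup G) [K.Normal] {g d : G} :
    d ∈ cosetStab K g ↔ ⁅d, g⁆ ∈ K := by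
  rw [cosetStab, Subgroup.mem_comap, Subgroup.mem_centralizer_singleton_iff,
    ← commutatorElement_eq_one_iff_mul_comm, ← map_commutatorElement, QuotientGroup.mk'_apply,
    QuotientGroup.eq_one_iff]

theorem le_cosetStab (K : Subgroup G) [K.Normal] (g : G) : K ≤ cosetStab K g := by
  intro k hk
  rw [mem_cosetStab, commutatorElement_def, show k * g * k⁻¹ * g⁻¹ = k * (g * k⁻¹ * g⁻¹) by group]
  exact K.mul_mem hk (Subgroup.Normal.conj_mem inferInstance _ (K.inv_mem hk) g)

theorem card_cosetStab (K X : Subgroup G) [K.Normal] (hKX : K ≤ X) {g : G}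
    (hgX : g ∈ X) (hgK : g ∉ K) (hclass : ∀ x ∈ X, x ∉ K → IsConj g x) :
    Nat.card (Subgroup.centralizer {g} : Subgroup G) * Nat.card K = Nat.card (cosetStab K g) := by
  set D := cosetStab K g
  have hCD : Subgroup.centralizer {g} ≤ D := fun d hd => by
    rw [mem_cosetStab, commutatorElement_eq_one_iff_mul_comm.2
      (Subgroup.mem_centralizer_singleton_iff.1 hd)]
    exact K.one_mem
  let φ : (↥D ⧸ (Subgroup.centralizer {g}).subgroupOf D) → K := Quotient.lift
    (fun d : D => (⟨⁅(d : G), g⁆, (mem_cosetStab K).1 d.2⟩ : K))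
    (fun x y h => by
      have h' := Subgroup.mem_centralizer_singleton_iff.1
        (Subgroup.mem_subgroupOf.1 (QuotientGroup.leftRel_apply.1 h))
      simp only [Subgroup.coe_mul, Subgroup.coe_inv] at h'
      apply Subtype.ext
      simp only [commutatorElement_def]
      congr 1
      calc (x : G) * g * (x : G)⁻¹ = x * (g * ((x : G)⁻¹ * y)) * (y : G)⁻¹ := by group
        _ = x * (((x : G)⁻¹ * y) * g) * (y : G)⁻¹ := by rw [h']
        _ = y * g * (y : G)⁻¹ := by group)
  have hbij : Function.Bijective φ := by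
    constructor
    · intro u v
      induction u using QuotientGroup.induction_on with
      | H x =>
        induction v using QuotientGroup.induction_on with
        | H y =>
          intro h
          have h' : (x : G) * g * (x : G)⁻¹ * g⁻¹ = y * g * (y : G)⁻¹ * g⁻¹ := congrArg Subtype.val h
          rw [mul_left_inj] at h'
          rw [QuotientGroup.eq, Subgroup.mem_subgroupOf]
          refine Subgroup.mem_centralizer_singleton_iff.2 ?_
          simp only [Subgroup.coe_mul, Subgroup.coe_inv]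
          calc (x : G)⁻¹ * y * g = (x : G)⁻¹ * (y * g * (y : G)⁻¹) * y := by group
            _ = (x : G)⁻¹ * (x * g * (x : G)⁻¹) * y := by rw [h']
            _ = g * ((x : G)⁻¹ * y) := by group
    · rintro ⟨k, hk⟩
      have hkg : k * g ∉ K := fun h => hgK (by simpa using K.mul_mem (K.inv_mem hk) h)
      obtain ⟨c, hc⟩ := isConj_iff.1 (hclass _ (X.mul_mem (hKX hk) hgX) hkg)
      have hcg : ⁅c, g⁆ = k := by rw [commutatorElement_def, hc, mul_inv_cancel_right]
      exact ⟨QuotientGroup.mk ⟨c, (mem_cosetStab K).2 (hcg ▸ hk)⟩, Subtype.ext hcg⟩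
  have h1 : ((Subgroup.centralizer {g}).subgroupOf D).index = Nat.card K := by
    rw [Subgroup.index_eq_card]; exact Nat.card_eq_of_bijective φ hbij
  rw [← h1, ← Nat.card_congr (Subgroup.subgroupOfEquivOfLe hCD).toEquiv, Subgroup.card_mul_index]

/-- In a Sylow subgroup `R` of the stabilizer of the coset `gK`, the class of `g` is `g (R ∩ K)`. -/
theorem sylow_coset (K X : Subgroup G) [K.Normal] (hKX : K ≤ X) {g : G}
    (hgX : g ∈ X) (hgK : g ∉ K) (hclass : ∀ x ∈ X, x ∉ K → IsConj g x)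
    (R : Subgroup G) (hR : IsPGroup r R) (hRD : R ≤ cosetStab K g)
    (hRi : ¬ r ∣ R.relIndex (cosetStab K g)) (hgR : g ∈ R) :
    Nat.card (R ⊓ Subgroup.centralizer {g} : Subgroup G) * Nat.card (R ⊓ K : Subgroup G) =
        Nat.card R ∧ R ⊓ K ≤ ⁅R, R⁆ := by
  classical
  have hr : r.Prime := Fact.out
  set D := cosetStab K g
  set C := R ⊓ Subgroup.centralizer {g} with hC
  have hcard := card_cosetStab K X hKX hgX hgK hclass
  let φ : (↥R ⧸ C.subgroupOf R) → (R ⊓ K : Subgroup G) := Quotient.lift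
    (fun d : R => (⟨⁅(d : G), g⁆, ⟨Subgroup.commutator_le_self R
      (Subgroup.commutator_mem_commutator d.2 hgR), (mem_cosetStab K).1 (hRD d.2)⟩⟩ :
        (R ⊓ K : Subgroup G)))
    (fun x y h => by
      have h' := Subgroup.mem_centralizer_singleton_iff.1
        (Subgroup.mem_subgroupOf.1 (QuotientGroup.leftRel_apply.1 h)).2
      simp only [Subgroup.coe_mul, Subgroup.coe_inv] at h'
      apply Subtype.ext
      simp only [commutatorElement_def]
      congr 1
      calc (x : G) * g * (x : G)⁻¹ = x * (g * ((x : G)⁻¹ * y)) * (y : G)⁻¹ := by group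
        _ = x * (((x : G)⁻¹ * y) * g) * (y : G)⁻¹ := by rw [h']
        _ = y * g * (y : G)⁻¹ := by group)
  have hinj : Function.Injective φ := by
    intro u v
    induction u using QuotientGroup.induction_on with
    | H x =>
      induction v using QuotientGroup.induction_on with
      | H y =>
        intro h
        have h' : (x : G) * g * (x : G)⁻¹ * g⁻¹ = y * g * (y : G)⁻¹ * g⁻¹ := congrArg Subtype.val h
        rw [mul_left_inj] at h'
        rw [QuotientGroup.eq, Subgroup.mem_subgroupOf]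
        refine ⟨R.mul_mem (R.inv_mem x.2) y.2, Subgroup.mem_centralizer_singleton_iff.2 ?_⟩
        simp only [Subgroup.coe_mul, Subgroup.coe_inv]
        calc (x : G)⁻¹ * y * g = (x : G)⁻¹ * (y * g * (y : G)⁻¹) * y := by group
          _ = (x : G)⁻¹ * (x * g * (x : G)⁻¹) * y := by rw [h']
          _ = g * ((x : G)⁻¹ * y) := by group
  have hCR : (C.subgroupOf R).index * Nat.card C = Nat.card R := by
    rw [← Nat.card_congr (Subgroup.subgroupOfEquivOfLe (inf_le_left : C ≤ R)).toEquiv, mul_comm,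
      Subgroup.card_mul_index]
  -- `|C| |R ∩ K| ≤ |R|` by comparing `r`-parts in `D`
  have hle : Nat.card C * Nat.card (R ⊓ K : Subgroup G) ≤ Nat.card R := by
    obtain ⟨a, ha⟩ := IsPGroup.iff_card.1 (hR.to_le (inf_le_left : C ≤ R))
    obtain ⟨b, hb⟩ := IsPGroup.iff_card.1 (hR.to_le (inf_le_left : R ⊓ K ≤ R))
    have h1 : r ^ a * r ^ b ∣ Nat.card D := by
      rw [← hcard, ← ha, ← hb]
      exact Nat.mul_dvd_mul (Subgroup.card_dvd_of_le inf_le_right)
        (Subgroup.card_dvd_of_le inf_le_right)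
    have h2 : R.relIndex D * Nat.card R = Nat.card D := by
      have := Subgroup.relIndex_mul_relIndex (⊥ : Subgroup G) R D bot_le hRD
      simp only [Subgroup.relIndex_bot_left] at this
      rw [← this, mul_comm]
    rw [← h2, ← pow_add] at h1
    have h3 : r ^ (a + b) ∣ Nat.card R :=
      ((Nat.Coprime.pow_left _ ((hr.coprime_iff_not_dvd).2 hRi))).dvd_of_dvd_mul_left h1
    rw [ha, hb, ← pow_add]
    exact Nat.le_of_dvd Nat.card_pos h3
  have hge : (C.subgroupOf R).index ≤ Nat.card (R ⊓ K : Subgroup G) := by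
    rw [Subgroup.index_eq_card]; exact Nat.card_le_card_of_injective φ hinj
  have heq : (C.subgroupOf R).index = Nat.card (R ⊓ K : Subgroup G) := by
    refine le_antisymm hge (Nat.le_of_mul_le_mul_left ?_ (Nat.card_pos (α := C)))
    rw [mul_comm (Nat.card C) (C.subgroupOf R).index, hCR]
    exact hle
  refine ⟨by rw [← heq, mul_comm, hCR], fun k hk => ?_⟩
  obtain ⟨u, hu⟩ := (hinj.bijective_of_nat_card_le (le_of_eq (by rw [← Subgroup.index_eq_card, heq]))).2 ⟨k, hk⟩
  induction u using QuotientGroup.induction_on with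
  | H x =>
    have : ⁅(x : G), g⁆ = k := congrArg Subtype.val hu
    exact this ▸ Subgroup.commutator_mem_commutator x.2 hgR

/-- `K` has a normal `r`-complement. -/
theorem complement (K X : Subgroup G) [K.Normal] (hKX : K ≤ X) {g : G}
    (hgX : g ∈ X) (hgK : g ∉ K) (hclass : ∀ x ∈ X, x ∉ K → IsConj g x) {e : ℕ}
    (hg : orderOf g = r ^ e) : Cfsg.HasNormalPComplement r (K.subgroupOf (cosetStab K g)) := by
  set D := cosetStab K g with hD
  have hgD : g ∈ D := by rw [hD, mem_cosetStab, commutatorElement_self]; exact K.one_mem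
  have hz : IsPGroup r (Subgroup.zpowers (⟨g, hgD⟩ : D)) := by
    refine IsPGroup.of_card (n := e) ?_
    rw [Nat.card_zpowers, ← Subgroup.orderOf_coe]
    exact hg
  obtain ⟨P, hP⟩ := hz.exists_le_sylow
  refine H5.hasNormalPComplement_of_le_frattini P (K.subgroupOf D) ?_
  set R := (P : Subgroup D).map D.subtype with hR
  have h := (sylow_coset (r := r) K X hKX hgX hgK hclass R (P.2.map D.subtype)
    (Subgroup.map_subtype_le _) (by
      rw [hR, Subgroup.relIndex, Subgroup.subgroupOf,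
        Subgroup.comap_map_eq_self_of_injective D.subtype_injective]
      exact P.not_dvd_index)
    ⟨⟨g, hgD⟩, hP (Subgroup.mem_zpowers _), rfl⟩).2
  rintro x ⟨hxK, hxP⟩
  have hx : (x : G) ∈ ⁅R, R⁆ := h ⟨⟨x, hxP, rfl⟩, Subgroup.mem_subgroupOf.1 hxK⟩
  rw [hR, ← Subgroup.map_commutator] at hx
  obtain ⟨y, hy, hyx⟩ := hx
  rw [← Subtype.ext hyx]
  have h2 : ⁅(P : Subgroup D), (P : Subgroup D)⁆ ≤ (frattini P).map (P : Subgroup D).subtype := by
    rw [Subgroup.commutator_le]
    intro a ha b hb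
    refine ⟨⁅(⟨a, ha⟩ : (P : Subgroup D)), ⟨b, hb⟩⁆, H6.commutator_le_frattini P.2 ?_, by
      simp [commutatorElement_def]⟩
    rw [commutator_def]
    exact Subgroup.commutator_mem_commutator (Subgroup.mem_top _) (Subgroup.mem_top _)
  exact h2 hy

/-- Every element fixing the coset `gK` lies in `X` (for odd `r`). -/
theorem cosetStab_le (hr2 : r ≠ 2) (K X : Subgroup G) [K.Normal] [X.Normal] (hKX : K ≤ X)
    (hX : commutator G ≤ X) {g : G} (hgX : g ∈ X) (hgK : g ∉ K)
    (hclass : ∀ x ∈ X, x ∉ K → IsConj g x) (hexp : ∀ x ∈ X, x ^ r ∈ K)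
    (hab : ∀ x ∈ X, ∀ y ∈ X, ⁅x, y⁆ ∈ K) (hZ : ∀ c : G, (∀ n : G, ⁅c, n⁆ ∈ K) → c ∈ X)
    {t : G} (htX : t ∈ X) (htK : t ∉ K) : cosetStab K t ≤ X := by
  classical
  let π := QuotientGroup.mk' K
  have hXc : ∀ a b : G, ⁅a, b⁆ ∈ X := fun a b => hX (by
    rw [commutator_def]
    exact Subgroup.commutator_mem_commutator (Subgroup.mem_top _) (Subgroup.mem_top _))
  -- transitivity modulo `K`
  have hcx : ∀ x ∈ X, x ∉ K → ∀ y ∈ X, y ∉ K → ∃ n : G, π n * π x * (π n)⁻¹ = π y := by
    intro x hx hxK y hy hyK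
    obtain ⟨c, hc⟩ := isConj_iff.1 ((hclass x hx hxK).symm.trans (hclass y hy hyK))
    exact ⟨c, by rw [← map_inv, ← map_mul, ← map_mul, hc]⟩
  have hπ1 : ∀ x, π x = 1 ↔ x ∈ K := fun x => QuotientGroup.eq_one_iff x
  have hπX : ∀ x ∈ X, ∀ y ∈ X, Commute (π x) (π y) := fun x hx y hy => by
    show π x * π y = π y * π x
    rw [← commutatorElement_eq_one_iff_mul_comm, ← map_commutatorElement, hπ1]
    exact hab x hx y hy
  set D := cosetStab K t with hD
  have hDt : ∀ d ∈ D, Commute (π d) (π t) := fun d hd => by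
    show π d * π t = π t * π d
    rw [← commutatorElement_eq_one_iff_mul_comm, ← map_commutatorElement, hπ1]
    exact (mem_cosetStab K).1 hd
  -- `D` centralizes `X` modulo `K`
  have hDX : ∀ d ∈ D, ∀ x ∈ X, Commute (π d) (π x) := by
    intro d hd x hx
    by_cases hxK : x ∈ K
    · rw [(hπ1 x).2 hxK]; exact Commute.one_right _
    obtain ⟨n, hn⟩ := hcx t htX htK x hx hxK
    have hc : (π n)⁻¹ * π d * π n = π d * π ⁅d⁻¹, n⁻¹⁆ := by
      simp only [commutatorElement_def, map_mul, map_inv]; group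
    have h1 : Commute (π d * π ⁅d⁻¹, n⁻¹⁆) (π t) :=
      (hDt d hd).mul_left (hπX _ (hXc _ _) t htX)
    rw [← hn, show π d = π n * (π d * π ⁅d⁻¹, n⁻¹⁆) * (π n)⁻¹ by rw [← hc]; group]
    exact (Commute.conj_iff _).2 h1
  -- no nontrivial element of `X/K` is fixed by all of `G`
  have hfix : ∀ x ∈ X, (∀ n, Commute (π n) (π x)) → x ∈ K := by
    intro x hx hcomm
    by_contra hxK
    have hall : ∀ y ∈ X, y ∉ K → π y = π x := by
      intro y hy hyK
      obtain ⟨n, hn⟩ := hcx x hx hxK y hy hyK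
      rw [← hn, (hcomm n).eq, mul_inv_cancel_right]
    have hx2 : x * x ∈ K := by
      by_contra h
      have := hall _ (X.mul_mem hx hx) h
      rw [map_mul, mul_eq_left, hπ1] at this
      exact hxK this
    obtain ⟨k, hk⟩ := (Fact.out : r.Prime).odd_of_ne_two hr2
    apply hxK
    have h1 := hexp x hx
    rw [hk, pow_succ, pow_mul, pow_two] at h1
    simpa using K.mul_mem (K.inv_mem (K.pow_mem hx2 k)) h1
  -- `D` is abelian modulo `K`
  have hDD : ∀ a ∈ D, ∀ b ∈ D, Commute (π a) (π b) := by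
    intro a ha b hb
    show π a * π b = π b * π a
    rw [← commutatorElement_eq_one_iff_mul_comm, ← map_commutatorElement, hπ1]
    refine hfix _ (hXc a b) fun n => ?_
    show π n * π ⁅a, b⁆ = π ⁅a, b⁆ * π n
    have hca : π n * π a * (π n)⁻¹ = π ⁅n, a⁆ * π a := by
      simp only [commutatorElement_def, map_mul, map_inv]; group
    have hcb : π n * π b * (π n)⁻¹ = π ⁅n, b⁆ * π b := by
      simp only [commutatorElement_def, map_mul, map_inv]; group
    have h1 : π n * π ⁅a, b⁆ * (π n)⁻¹ = π ⁅a, b⁆ := by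
      set u := π ⁅n, a⁆ with hu
      set v := π ⁅n, b⁆ with hv
      calc π n * π ⁅a, b⁆ * (π n)⁻¹ = ⁅π n * π a * (π n)⁻¹, π n * π b * (π n)⁻¹⁆ := by
            simp only [commutatorElement_def, map_mul, map_inv]; group
        _ = ⁅u * π a, v * π b⁆ := by rw [hca, hcb]
        _ = ⁅π a, π b⁆ := by
            have c1 : Commute u (π b) := (hDX b hb _ (hXc _ _)).symm
            have c2 : Commute v (π a) := (hDX a ha _ (hXc _ _)).symm
            have c3 : Commute u v := hπX _ (hXc _ _) _ (hXc _ _)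
            have c4 : Commute u ⁅π a, π b⁆ := by
              rw [← map_commutatorElement]; exact hπX _ (hXc _ _) _ (hXc _ _)
            have c5 : Commute v ⁅π a, π b⁆ := by
              rw [← map_commutatorElement]; exact hπX _ (hXc _ _) _ (hXc _ _)
            calc ⁅u * π a, v * π b⁆
                = u * (π a * v) * π b * (π a)⁻¹ * u⁻¹ * (π b)⁻¹ * v⁻¹ := by
                  simp only [commutatorElement_def]; group
              _ = (u * v) * π a * π b * (π a)⁻¹ * (u⁻¹ * (π b)⁻¹) * v⁻¹ := by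
                  rw [← c2.eq]; group
              _ = (u * v) * ⁅π a, π b⁆ * u⁻¹ * v⁻¹ := by
                  rw [c1.inv_inv.eq, commutatorElement_def]; group
              _ = _ := by rw [(c4.mul_left c5).eq, c3.eq]; group
        _ = _ := by rw [map_commutatorElement]
    calc π n * π ⁅a, b⁆ = π n * π ⁅a, b⁆ * (π n)⁻¹ * π n := by group
      _ = _ := by rw [h1]
  intro d hd
  by_cases hG : ∀ n : G, Commute (π n) (π t)
  · exact absurd (hfix t htX hG) htK
  push_neg at hG
  obtain ⟨n, hn⟩ := hG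
  -- `n` fixes only the trivial element of `X/K`
  have hfree : ∀ x ∈ X, Commute (π n) (π x) → x ∈ K := by
    intro x hx hc
    by_contra hxK
    apply hn
    obtain ⟨m, hm⟩ := hcx x hx hxK t htX htK
    have h1 : (π m)⁻¹ * π n * π m = π n * π ⁅n⁻¹, m⁻¹⁆ := by
      simp only [commutatorElement_def, map_mul, map_inv]; group
    have h2 : Commute (π n * π ⁅n⁻¹, m⁻¹⁆) (π x) := hc.mul_left (hπX _ (hXc _ _) x hx)
    rw [← hm, show π n = π m * (π n * π ⁅n⁻¹, m⁻¹⁆) * (π m)⁻¹ by rw [← h1]; group]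
    exact (Commute.conj_iff _).2 h2
  have hmem : ∀ x ∈ X.map π, ⁅π n, x⁆ ∈ X.map π := by
    rintro _ ⟨x, hx, rfl⟩
    rw [← map_commutatorElement]
    exact Subgroup.mem_map_of_mem π (hXc _ _)
  let τ : X.map π → X.map π := fun x => ⟨⁅π n, (x : G ⧸ K)⁆, hmem x.1 x.2⟩
  have hτ : Function.Injective τ := by
    rintro ⟨_, x, hx, rfl⟩ ⟨_, y, hy, rfl⟩ h
    have h' : ⁅π n, π x⁆ = ⁅π n, π y⁆ := congrArg Subtype.val h
    have h2 : x⁻¹ * y ∈ K := by
      refine hfree _ (X.mul_mem (X.inv_mem hx) hy) ?_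
      rw [map_mul, map_inv]
      exact commute_of_commutator_eq h'
    exact Subtype.ext (QuotientGroup.eq.2 h2)
  obtain ⟨⟨_, x, hx, rfl⟩, hxd⟩ := (Finite.injective_iff_surjective.1 hτ)
    ⟨π ⁅n, d⁆, Subgroup.mem_map_of_mem π (hXc _ _)⟩
  have hxd' : ⁅π n, π x⁆ = ⁅π n, π d⁆ := (congrArg Subtype.val hxd).trans (map_commutatorElement π n d)
  set c := x⁻¹ * d with hc
  have hcD : ∀ y ∈ D, Commute (π c) (π y) := fun y hy => by
    rw [hc, map_mul, map_inv]
    exact ((hDX y hy x hx).symm.inv_left).mul_left (hDD d hd y hy)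
  have hcn : Commute (π n) (π c) := by
    rw [hc, map_mul, map_inv]
    exact commute_of_commutator_eq hxd'
  have hcX : c ∈ X := by
    refine hZ c fun m => ?_
    refine hfree _ (hXc c m) ?_
    show π n * π ⁅c, m⁆ = π ⁅c, m⁆ * π n
    have hXD : X ≤ D := fun y hy => (mem_cosetStab K).2 (hab y hy t htX)
    have h1 : π n * π m * (π n)⁻¹ = π ⁅n, m⁆ * π m := by
      simp only [commutatorElement_def, map_mul, map_inv]; group
    have h2 : Commute (π c) (π ⁅n, m⁆) := hcD _ (hXD (hXc _ _))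
    have h3 : π n * π ⁅c, m⁆ * (π n)⁻¹ = π ⁅c, m⁆ := by
      calc π n * π ⁅c, m⁆ * (π n)⁻¹
          = (π n * π c * (π n)⁻¹) * (π n * π m * (π n)⁻¹) * (π n * π c * (π n)⁻¹)⁻¹
              * (π n * π m * (π n)⁻¹)⁻¹ := by
            simp only [commutatorElement_def, map_mul, map_inv]; group
        _ = π c * π ⁅n, m⁆ * π m * (π c)⁻¹ * (π m)⁻¹ * (π ⁅n, m⁆)⁻¹ := by
            rw [hcn.eq, mul_inv_cancel_right, h1]; group
        _ = π ⁅n, m⁆ * π ⁅c, m⁆ * (π ⁅n, m⁆)⁻¹ := by
            rw [h2.eq]; simp only [commutatorElement_def, map_mul, map_inv]; group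
        _ = _ := by rw [(hπX _ (hXc n m) _ (hXc c m)).eq, mul_inv_cancel_right]
    calc π n * π ⁅c, m⁆ = π n * π ⁅c, m⁆ * (π n)⁻¹ * π n := by group
      _ = _ := by rw [h3]
  have : d = x * c := by rw [hc, mul_inv_cancel_left]
  rw [this]
  exact X.mul_mem hx hcX

end OneClass

end H72
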