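import Cfsg.Agent.H72.OneClassOutside

/-!
Solvability of `K` when `X \ K` is one class.
-/

set_option autoImplicit false

open scoped commutatorElement

namespace H72

namespace OneClass

universe u

variable {G : Type u} [Group G] [Finite G] {r : ℕ} [Fact r.Prime]

/-- For odd `r` all elements of `X \ K` have order `r`. -/
theorem pow_eq_one_outside (hr2 : r ≠ 2) (K X : Subgroup G) [K.Normal] [X.Normal] (hKX : K ≤ X)
    (hX : commutator G ≤ X) {g : G} (hgX : g ∈ X) (hgK : g ∉ K)
    (hclass : ∀ x ∈ X, x ∉ K → IsConj g x) {e : ℕ}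
    (hord : ∀ x ∈ X, x ∉ K → orderOf x = r ^ e) (hexp : ∀ x ∈ X, x ^ r ∈ K)
    (hab : ∀ x ∈ X, ∀ y ∈ X, ⁅x, y⁆ ∈ K) (hZ : ∀ c : G, (∀ n : G, ⁅c, n⁆ ∈ K) → c ∈ X) :
    g ^ r = 1 := by
  classical
  have hz : IsPGroup r (Subgroup.zpowers (⟨g, hgX⟩ : X)) := by
    refine IsPGroup.of_card (n := e) ?_
    rw [Nat.card_zpowers, ← Subgroup.orderOf_coe]
    exact hord g hgX hgK
  obtain ⟨P, hP⟩ := hz.exists_le_sylow
  set R := (P : Subgroup X).map X.subtype with hRdef
  have hRX : R ≤ X := Subgroup.map_subtype_le _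
  have hRp : IsPGroup r R := P.2.map _
  have hgR : g ∈ R := ⟨⟨g, hgX⟩, hP (Subgroup.mem_zpowers _), rfl⟩
  have hRi : ¬ r ∣ R.relIndex X := by
    rw [hRdef, Subgroup.relIndex, Subgroup.subgroupOf,
      Subgroup.comap_map_eq_self_of_injective X.subtype_injective]
    exact P.not_dvd_index
  have hloc : ∀ t ∈ R, t ∉ K →
      Nat.card (R ⊓ Subgroup.centralizer {t} : Subgroup G) * Nat.card (R ⊓ K : Subgroup G) =
        Nat.card R ∧ R ⊓ K ≤ ⁅R, R⁆ := by
    intro t ht htK
    have hD : cosetStab K t = X := le_antisymm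
      (cosetStab_le hr2 K X hKX hX hgX hgK hclass hexp hab hZ (hRX ht) htK)
      (fun x hx => (mem_cosetStab K).2 (hab x hx t (hRX ht)))
    exact sylow_coset (r := r) K X hKX (hRX ht) htK
      (fun x hx hxK => ((hclass t (hRX ht) htK).symm).trans (hclass x hx hxK))
      R hRp (hD ▸ hRX) (hD ▸ hRi) ht
  have hL : ⁅R, R⁆ = R ⊓ K := le_antisymm
    (le_inf (Subgroup.commutator_le_self R)
      (Subgroup.commutator_le.2 fun x hx y hy => hab x (hRX hx) y (hRX hy)))
    (hloc g hgR hgK).2
  have hLmem : ∀ t ∈ R, (t ∈ ⁅R, R⁆ ↔ t ∈ K) := fun t ht => by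
    rw [hL]; exact ⟨fun h => h.2, fun h => ⟨ht, h⟩⟩
  set N := Subgroup.normalizer (R : Set G) with hN
  have hRN : R ≤ N := Subgroup.le_normalizer
  set R' := R.subgroupOf N with hR'
  haveI : R'.Normal := Subgroup.normal_in_normalizer
  have hmap : (⁅R', R'⁆).map N.subtype = ⁅R, R⁆ := by
    rw [Subgroup.map_commutator, hR', Subgroup.subgroupOf_map_subtype, inf_of_le_left hRN]
  have hmemL : ∀ t : N, t ∈ ⁅R', R'⁆ ↔ (t : G) ∈ ⁅R, R⁆ := by
    intro t
    rw [← hmap]
    exact (Subgroup.mem_map_iff_mem N.subtype_injective).symm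
  -- `N ∩ X = R`
  have hNX : ∀ n ∈ N, n ∈ X → n ∈ R := by
    intro n hn hnX
    -- `R ⊔ ⟨n⟩` is an `r`-group
    set Y := R ⊔ Subgroup.zpowers n with hY
    have hYX : Y ≤ X := sup_le hRX (Subgroup.zpowers_le.2 hnX)
    suffices hYp : IsPGroup r Y by
      have h1 : IsPGroup r (Y.subgroupOf X) :=
        hYp.of_equiv (Subgroup.subgroupOfEquivOfLe hYX).symm
      have h2 : (P : Subgroup X) ≤ Y.subgroupOf X := fun x hx =>
        Subgroup.mem_subgroupOf.2 (le_sup_left (α := Subgroup G) ⟨x, hx, rfl⟩)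
      have h3 := P.3 h1 h2
      have h4 : (⟨n, hnX⟩ : X) ∈ Y.subgroupOf X :=
        Subgroup.mem_subgroupOf.2 (le_sup_right (α := Subgroup G) (Subgroup.mem_zpowers n))
      rw [h3] at h4
      exact ⟨_, h4, rfl⟩
    -- elements of order prime to `r` normalizing `R` are trivial
    have key : ∀ k ∈ Y, ¬ r ∣ orderOf k → k = 1 := by
      intro k hk hkr
      have hkX : k ∈ X := hYX hk
      have hkN : k ∈ N := (sup_le hRN (Subgroup.zpowers_le.2 hn) : Y ≤ N) hk
      have hkK : k ∈ K := by
        by_contra h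
        apply hkr
        rw [hord k hkX h]
        rcases Nat.eq_zero_or_pos e with he | he
        · exfalso
          have := hord g hgX hgK
          rw [he, pow_zero, orderOf_eq_one_iff] at this
          exact hgK (this ▸ K.one_mem)
        · exact dvd_pow_self r he.ne'
      have htriv : Subgroup.zpowers k ≤ Subgroup.centralizer (R : Set G) := by
        refine H1.le_centralizer_of_frattini (Subgroup.zpowers_le.2 hkN) ?_ ?_
        · rw [Nat.card_zpowers]
          obtain ⟨a, ha⟩ := IsPGroup.iff_card.1 (hRp.to_subgroup (frattini R))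
          rw [ha]
          exact Nat.Coprime.pow_right _
            (Nat.coprime_comm.1 (((Fact.out : r.Prime).coprime_iff_not_dvd).2 hkr))
        · intro a ha x hx
          have hax : a * x * a⁻¹ * x⁻¹ ∈ ⁅R, R⁆ := by
            have haN : a ∈ N := Subgroup.zpowers_le.2 hkN ha
            have haR : a * x * a⁻¹ ∈ R := (Subgroup.mem_normalizer_iff.1 haN x).1 hx
            rw [hLmem _ (R.mul_mem haR (R.inv_mem hx))]
            have haK : a ∈ K := Subgroup.zpowers_le.2 hkK ha
            rw [show a * x * a⁻¹ * x⁻¹ = a * (x * a⁻¹ * x⁻¹) by group]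
            exact K.mul_mem haK (Subgroup.Normal.conj_mem inferInstance _ (K.inv_mem haK) x)
          have h2 : ⁅R, R⁆ ≤ (frattini R).map R.subtype := by
            refine Subgroup.commutator_le.2 fun u hu v hv => ?_
            refine ⟨⁅(⟨u, hu⟩ : R), ⟨v, hv⟩⁆, H6.commutator_le_frattini hRp ?_, by
              simp [commutatorElement_def]⟩
            rw [commutator_def]
            exact Subgroup.commutator_mem_commutator (Subgroup.mem_top _) (Subgroup.mem_top _)
          exact h2 hax
      have hkg : k * g = g * k := (Subgroup.mem_centralizer_iff.1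
        (htriv (Subgroup.mem_zpowers k)) g hgR).symm
      have hkg' : k * g ∉ K := fun h => hgK (by simpa using K.mul_mem (K.inv_mem hkK) h)
      have h1 := hord _ (X.mul_mem hkX hgX) hkg'
      have hcop : (orderOf k).Coprime (orderOf g) := by
        rw [hord g hgX hgK]
        exact Nat.Coprime.pow_right _
          (Nat.coprime_comm.1 (((Fact.out : r.Prime).coprime_iff_not_dvd).2 hkr))
      rw [Commute.orderOf_mul_eq_mul_orderOf_of_coprime hkg hcop, hord g hgX hgK] at h1
      have h2 : orderOf k * r ^ e = 1 * r ^ e := by rw [one_mul, h1]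
      exact orderOf_eq_one_iff.1
        (Nat.eq_of_mul_eq_mul_right (pow_pos (Fact.out : r.Prime).pos e) h2)
    intro y
    obtain ⟨j, u, hu, hju⟩ := Nat.exists_eq_pow_mul_and_not_dvd (orderOf_pos (y : G)).ne' r
      (Fact.out : r.Prime).ne_one
    refine ⟨j, Subtype.ext ?_⟩
    rw [Subgroup.coe_pow, Subgroup.coe_one]
    refine key _ (Y.pow_mem y.2 _) ?_
    rw [orderOf_pow, hju, Nat.gcd_eq_right (dvd_mul_right _ _),
      Nat.mul_div_cancel_left _ (pow_pos (Fact.out : r.Prime).pos j)]
    exact hu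
  have hcomm : commutator N ≤ R' := by
    rw [commutator_def, Subgroup.commutator_le]
    intro a _ b _
    rw [hR', Subgroup.mem_subgroupOf]
    refine hNX _ (SetLike.coe_mem _) (hX ?_)
    rw [commutator_def]
    simpa [commutatorElement_def] using
      Subgroup.commutator_mem_commutator (Subgroup.mem_top (a : G)) (Subgroup.mem_top (b : G))
  have hfrat : N ⊔ X = ⊤ := by
    rw [hN, hRdef]
    exact Sylow.normalizer_sup_eq_top P
  have hgN : (⟨g, hRN hgR⟩ : N) ∈ R' := Subgroup.mem_subgroupOf.2 hgR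
  have hR'ne : ⁅R', R'⁆ ≠ R' := fun h =>
    hgK ((hLmem g hgR).1 ((hmemL _).1 (h.symm ▸ hgN)))
  have hR'p : IsPGroup r R' := hRp.of_equiv (Subgroup.subgroupOfEquivOfLe hRN).symm
  have hcent : ∀ t ∈ R', t ∉ ⁅R', R'⁆ →
      Nat.card (R' ⊓ Subgroup.centralizer {t} : Subgroup N) *
        Nat.card (⁅R', R'⁆ : Subgroup N) = Nat.card R' := by
    intro t ht htL
    have htR : (t : G) ∈ R := ht
    have htK : (t : G) ∉ K := fun h => htL ((hmemL t).2 ((hLmem _ htR).2 h))
    have h1 : (R' ⊓ Subgroup.centralizer {t}).map N.subtype =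
        R ⊓ Subgroup.centralizer {(t : G)} := by
      ext x
      constructor
      · rintro ⟨y, ⟨hy, hyc⟩, rfl⟩
        exact ⟨hy, Subgroup.mem_centralizer_singleton_iff.2
          (congrArg Subtype.val (Subgroup.mem_centralizer_singleton_iff.1 hyc))⟩
      · rintro ⟨hxR, hxc⟩
        exact ⟨⟨x, hRN hxR⟩, ⟨hxR, Subgroup.mem_centralizer_singleton_iff.2
          (Subtype.ext (Subgroup.mem_centralizer_singleton_iff.1 hxc))⟩, rfl⟩
    rw [← Subgroup.card_map_of_injective (K := R' ⊓ _) N.subtype_injective, h1,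
      ← Subgroup.card_map_of_injective (K := ⁅R', R'⁆) N.subtype_injective, hmap, hL,
      (hloc _ htR htK).1]
    exact (Nat.card_congr (Subgroup.subgroupOfEquivOfLe hRN).toEquiv).symm
  have htrans : ∀ t ∈ R', t ∉ ⁅R', R'⁆ → ∀ t' ∈ R', t' ∉ ⁅R', R'⁆ →
      ∃ n : N, t'⁻¹ * (n * t * n⁻¹) ∈ ⁅R', R'⁆ := by
    intro t ht htL t' ht' ht'L
    have htK : (t : G) ∉ K := fun h => htL ((hmemL t).2 ((hLmem _ ht).2 h))
    have ht'K : (t' : G) ∉ K := fun h => ht'L ((hmemL t').2 ((hLmem _ ht').2 h))
    obtain ⟨c, hc⟩ := isConj_iff.1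
      ((hclass _ (hRX ht) htK).symm.trans (hclass _ (hRX ht') ht'K))
    have hcmem : c ∈ ((N ⊔ X : Subgroup G) : Set G) := by rw [hfrat]; exact Subgroup.mem_top c
    rw [Subgroup.mul_normal] at hcmem
    obtain ⟨n, hn, x, hx, rfl⟩ := hcmem
    replace hc : n * x * (t : G) * (n * x)⁻¹ = (t' : G) := hc
    refine ⟨⟨n, hn⟩, (hmemL _).2 ?_⟩
    simp only [Subgroup.coe_mul, Subgroup.coe_inv]
    have hR1 : (t' : G)⁻¹ * (n * t * n⁻¹) ∈ R :=
      R.mul_mem (R.inv_mem ht') ((Subgroup.mem_normalizer_iff.1 hn _).1 ht)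
    rw [hLmem _ hR1, ← hc]
    let π := QuotientGroup.mk' K
    rw [← QuotientGroup.eq_one_iff (N := K)]
    show π _ = 1
    simp only [map_mul, map_inv]
    have h2 : Commute (π x) (π (t : G)) := by
      show π x * π (t : G) = π (t : G) * π x
      rw [← commutatorElement_eq_one_iff_mul_comm, ← map_commutatorElement]
      exact (QuotientGroup.eq_one_iff _).2 (hab x hx _ (hRX ht))
    rw [show π n * π x * π (t : G) * (π n * π x)⁻¹ =
      π n * (π x * π (t : G) * (π x)⁻¹) * (π n)⁻¹ by group, h2.eq, mul_inv_cancel_right,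
      inv_mul_cancel]
  have hexp' : ∀ t ∈ R', t ^ r ∈ ⁅R', R'⁆ := fun t ht => (hmemL _).2 (by
    have htR : (t : G) ∈ R := ht
    rw [Subgroup.coe_pow, hLmem _ (R.pow_mem htR r)]
    exact hexp _ (hRX htR))
  have hfin := LayerSection.pow_eq_one R' hR'p hR'ne hcomm hcent htrans
    ((Fact.out : r.Prime).odd_of_ne_two hr2) hexp' ⟨g, hRN hgR⟩ hgN
  exact congrArg Subtype.val hfin

/-- If all elements of `X \ K` have order `r`, then `K` is nilpotent. -/
theorem nilpotent_of_order (K X : Subgroup G) [K.Normal] (hKX : K ≤ X) {g : G} (hgX : g ∈ X)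
    (hgK : g ∉ K) (hr : ∀ x ∈ X, x ∉ K → x ^ r = 1) : Group.IsNilpotent K := by
  set H0 := K ⊔ Subgroup.zpowers g with hH0
  have hKH : K ≤ H0 := le_sup_left
  have hH0X : H0 ≤ X := sup_le hKX (Subgroup.zpowers_le.2 hgX)
  let π := QuotientGroup.mk' K
  have hgr := hr g hgX hgK
  have hidx : (K.subgroupOf H0).index = r := by
    show K.relIndex H0 = r
    rw [← LayerSection.card_map_mk', hH0, Subgroup.map_sup]
    have h1 : K.map π = ⊥ := by
      rw [Subgroup.map_eq_bot_iff, QuotientGroup.ker_mk']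
    rw [h1, bot_sup_eq, MonoidHom.map_zpowers, Nat.card_zpowers]
    refine orderOf_eq_prime ?_ ?_
    · rw [← map_pow, hgr, map_one]
    · exact fun h => hgK ((QuotientGroup.eq_one_iff g).1 h)
  have h := H56.kegel (Fact.out : r.Prime) H0 (K.subgroupOf H0) inferInstance hidx (by
    intro x hx
    apply Subtype.ext
    rw [Subgroup.coe_pow, Subgroup.coe_one]
    exact hr x (hH0X x.2) (fun h => hx (Subgroup.mem_subgroupOf.2 h)))
  exact Group.nilpotent_of_mulEquiv (Subgroup.subgroupOfEquivOfLe hKH)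

omit [Fact r.Prime] in
/-- Main theorem: `K` is solvable. -/
theorem isSolvable
    (hodd : ∀ (H : Type u) [Group H] [Finite H], Odd (Nat.card H) → Group.IsSolvable H)
    (K X : Subgroup G) [K.Normal] [X.Normal] (hKX : K ≤ X) (hX : commutator G ≤ X) {g : G}
    (hgX : g ∈ X) (hgK : g ∉ K) (hclass : ∀ x ∈ X, x ∉ K → IsConj g x)
    (hZ : ∀ c : G, (∀ n : G, ⁅c, n⁆ ∈ K) → c ∈ X) : Group.IsSolvable G := by
  obtain ⟨s, e, hs, he, hord, hexp⟩ := common_order K X hKX hgX hgK hclass
  haveI := Fact.mk hs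
  have hab := abelian_quotient (r := s) K X hKX hgX hgK hclass hexp
  have hK : Group.IsSolvable K := by
    by_cases hs2 : s = 2
    · subst hs2
      set D := cosetStab K g
      have hKD : K ≤ D := le_cosetStab K g
      obtain ⟨P, M, hMn, hMP⟩ := complement (r := 2) K X hKX hgX hgK hclass (hord g hgX hgK)
      haveI := hMn
      have hMo : Odd (Nat.card M) := by
        rw [← hMP.index_eq_card]
        have := P.not_dvd_index
        rw [Nat.odd_iff]; omega
      haveI : Group.IsSolvable M := hodd M hMo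
      have hq : IsPGroup 2 ((↥(K.subgroupOf D)) ⧸ M) := by
        refine P.2.of_surjective ((QuotientGroup.mk' M).comp (P : Subgroup ↥(K.subgroupOf D)).subtype) ?_
        intro v
        induction v using QuotientGroup.induction_on with
        | H z =>
          obtain ⟨⟨a, b⟩, hab'⟩ := hMP.2 z
          refine ⟨b, ?_⟩
          rw [MonoidHom.comp_apply, ← hab']
          show ((QuotientGroup.mk (b : ↥(K.subgroupOf D))) : _ ⧸ M) =
            QuotientGroup.mk ((a : ↥(K.subgroupOf D)) * b)
          rw [QuotientGroup.mk_mul, (QuotientGroup.eq_one_iff (a : ↥(K.subgroupOf D))).2 a.2,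
            one_mul]
      haveI := hq.isNilpotent
      haveI : Group.IsSolvable (↥(K.subgroupOf D)) :=
        solvable_of_ker_le_range M.subtype (QuotientGroup.mk' M) (by simp)
      exact solvable_of_surjective (f := (Subgroup.subgroupOfEquivOfLe hKD).toMonoidHom)
        (Subgroup.subgroupOfEquivOfLe hKD).surjective
    · have hgr : g ^ s = 1 := pow_eq_one_outside hs2 K X hKX hX hgX hgK hclass hord hexp hab hZ
      have hn : Group.IsNilpotent K := nilpotent_of_order (r := s) K X hKX hgX hgK (by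
        intro x hx hxK
        obtain ⟨c, hc⟩ := isConj_iff.1 (hclass x hx hxK)
        rw [← hc, conj_pow, hgr, mul_one, mul_inv_cancel])
      infer_instance
  haveI := hK
  haveI : Group.IsSolvable X := by
    have : Group.IsSolvable (↥X ⧸ K.subgroupOf X) := Group.isSolvable_of_comm fun a b => by
      induction a using QuotientGroup.induction_on with
      | H a =>
        induction b using QuotientGroup.induction_on with
        | H b =>
          show ((QuotientGroup.mk (a * b)) : ↥X ⧸ K.subgroupOf X) = QuotientGroup.mk (b * a)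
          rw [QuotientGroup.eq, Subgroup.mem_subgroupOf]
          have := hab _ (X.inv_mem b.2) _ (X.inv_mem a.2)
          simpa [commutatorElement_def, mul_assoc] using this
    haveI : Group.IsSolvable (↥(K.subgroupOf X)) :=
      solvable_of_surjective (f := (Subgroup.subgroupOfEquivOfLe hKX).symm.toMonoidHom)
        (Subgroup.subgroupOfEquivOfLe hKX).symm.surjective
    exact solvable_of_ker_le_range (K.subgroupOf X).subtype (QuotientGroup.mk' (K.subgroupOf X))
      (by simp)
  have : Group.IsSolvable (G ⧸ X) := Group.isSolvable_of_comm fun a b => by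
    induction a using QuotientGroup.induction_on with
    | H a =>
      induction b using QuotientGroup.induction_on with
      | H b =>
        show ((QuotientGroup.mk (a * b)) : G ⧸ X) = QuotientGroup.mk (b * a)
        rw [QuotientGroup.eq]
        refine hX ?_
        rw [commutator_def]
        have := Subgroup.commutator_mem_commutator (Subgroup.mem_top b⁻¹) (Subgroup.mem_top a⁻¹)
        simpa [commutatorElement_def, mul_assoc] using this
  exact solvable_of_ker_le_range X.subtype (QuotientGroup.mk' X) (by simp)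

end OneClass

end H72
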