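import Cfsg.Prelude.Def_Blocks
import Cfsg.Agent.H72.OneClassSolvable
import Cfsg.Agent.H12.Orth
import Cfsg.Agent.H12.Linear
import Cfsg.Agent.H12.Transport
import Cfsg.Agent.H14.DetChar

/-!
Groups with an element at which exactly one nonlinear irreducible character does not vanish.
-/

set_option autoImplicit false

open scoped ComplexConjugate commutatorElement

namespace H72

universe u

theorem one_nonvanishing {G : Type u} [Group G] [Finite G]
    (hodd : ∀ (H : Type u) [Group H] [Finite H], Odd (Nat.card H) → Group.IsSolvable H)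
    (g : G) (hg : g ∉ Subgroup.center G) (χ : Cfsg.IrrCharacter G)
    (hχ1 : Cfsg.charDegree (χ : G → ℂ) ≠ 1) (hχg : (χ : G → ℂ) g ≠ 0)
    (hother : ∀ ψ : Cfsg.IrrCharacter G,
      Cfsg.charDegree (ψ : G → ℂ) ≠ 1 → ψ ≠ χ → (ψ : G → ℂ) g = 0) :
    g ∈ commutator G ∧
      (χ : G → ℂ) g = -(((commutator G).index : ℂ) / (χ : G → ℂ) 1) ∧
      ((commutator G : Set G) = {x : G | (χ : G → ℂ) x = (χ : G → ℂ) 1} ∪ {h : G | IsConj g h}) ∧
      (∀ x : G, x ∉ commutator G → (χ : G → ℂ) x = 0) ∧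
      (∀ ψ : Cfsg.IrrCharacter G, Cfsg.charDegree (ψ : G → ℂ) ≠ 1 →
        (∀ x : G, (χ : G → ℂ) x = (χ : G → ℂ) 1 → (ψ : G → ℂ) x = (ψ : G → ℂ) 1) → ψ = χ) ∧
      Group.IsSolvable G := by
  classical
  cases nonempty_fintype G
  have hdeg : ∀ ψ : Cfsg.IrrCharacter G,
      (ψ : G → ℂ) 1 = (Cfsg.charDegree (ψ : G → ℂ) : ℂ) := H12.irr_apply_one
  have hlin : ∀ ψ : Cfsg.IrrCharacter G,
      (ψ : G → ℂ) 1 = 1 ↔ Cfsg.charDegree (ψ : G → ℂ) = 1 := fun ψ => by
    rw [hdeg ψ, Nat.cast_eq_one]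
  have hχne : (χ : G → ℂ) 1 ≠ 0 := by
    rw [hdeg χ]
    exact_mod_cast (H12.irr_degree_pos χ).ne'
  have hg1 : g ≠ 1 := fun h => hg (h ▸ Subgroup.one_mem _)
  -- `χ` vanishes outside `G'`
  have hvan : ∀ x : G, x ∉ commutator G → (χ : G → ℂ) x = 0 := by
    intro x hx
    haveI : NeZero (Monoid.exponent (Abelianization G) : ℕ) :=
      ⟨Monoid.exponent_ne_zero_of_finite⟩
    have hne : (Abelianization.of x) ≠ 1 := fun h => hx ((QuotientGroup.eq_one_iff x).1 h)
    obtain ⟨φ, hφ⟩ := CommGroup.exists_apply_ne_one_of_hasEnoughRootsOfUnity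
      (Abelianization G) ℂ hne
    set f : G →* ℂˣ := φ.comp Abelianization.of with hf
    obtain ⟨n, ρ, hρ, hρχ⟩ := χ.2
    haveI := hρ
    haveI := H14.twistRep_isIrreducible f ρ
    let χ' : Cfsg.IrrCharacter G :=
      ⟨(H14.twistRep f ρ).character, H12.isIrrCharacter_character _⟩
    have hχ' : ∀ y, (χ' : G → ℂ) y = (f y : ℂ) * (χ : G → ℂ) y := fun y => by
      show (H14.twistRep f ρ).character y = _
      rw [H14.twistRep_character, Pi.mul_apply, hρχ]
    have heq : χ' = χ := by
      by_contra h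
      have h1 : Cfsg.charDegree (χ' : G → ℂ) ≠ 1 := by
        intro h1
        apply hχ1
        rw [← hlin] at h1 ⊢
        rwa [hχ', map_one, Units.val_one, one_mul] at h1
      have h2 := hother χ' h1 h
      rw [hχ'] at h2
      exact hχg ((mul_eq_zero.1 h2).resolve_left (Units.ne_zero _))
    have h3 : (f x : ℂ) * (χ : G → ℂ) x = (χ : G → ℂ) x := by rw [← hχ', heq]
    rcases em ((χ : G → ℂ) x = 0) with h0 | h0
    · exact h0
    · exfalso
      have h4 : (f x : ℂ) = 1 := (mul_eq_right₀ h0).1 h3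
      exact hφ (Units.ext h4)
  have hgG : g ∈ commutator G := by
    by_contra h
    exact hχg (hvan g h)
  -- column orthogonality on `G'`
  have hcol : ∀ h ∈ commutator G, ¬ IsConj g h →
      ((commutator G).index : ℂ) + (χ : G → ℂ) g * conj ((χ : G → ℂ) h) = 0 := by
    intro h hh hconj
    have h0 := H12.column_orthogonality g h
    rw [if_neg hconj, ← Finset.sum_filter_add_sum_filter_not Finset.univ
      (fun ψ : Cfsg.IrrCharacter G => (ψ : G → ℂ) 1 = 1)] at h0
    have h1 : ∀ ψ ∈ Finset.univ.filter (fun ψ : Cfsg.IrrCharacter G => (ψ : G → ℂ) 1 = 1),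
        (ψ : G → ℂ) g * conj ((ψ : G → ℂ) h) = 1 := by
      intro ψ hψ
      obtain ⟨f, hf⟩ := H12.exists_monoidHom_of_apply_one_eq_one (H12.isCharacter_irr ψ)
        (Finset.mem_filter.1 hψ).2
      have hk : ∀ y ∈ commutator G, f y = 1 := fun y hy => Abelianization.commutator_subset_ker f hy
      rw [← hf]
      simp [hk g hgG, hk h hh]
    have hcard : ((Finset.univ.filter (fun ψ : Cfsg.IrrCharacter G => (ψ : G → ℂ) 1 = 1)).card : ℂ)
        = ((commutator G).index : ℂ) := by
      rw [← H12.card_linear_irr, Nat.card_eq_fintype_card, Fintype.card_subtype]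
    rw [Finset.sum_congr rfl h1, Finset.sum_const, nsmul_eq_mul, mul_one, hcard,
      Finset.sum_eq_single_of_mem χ] at h0
    · exact h0
    · exact Finset.mem_filter.2 ⟨Finset.mem_univ _, fun h2 => hχ1 ((hlin χ).1 h2)⟩
    · intro ψ hψ hne
      rw [hother ψ (fun h2 => (Finset.mem_filter.1 hψ).2 ((hlin ψ).2 h2)) hne, zero_mul]
  have hval : (χ : G → ℂ) g = -(((commutator G).index : ℂ) / (χ : G → ℂ) 1) := by
    have := hcol 1 (one_mem _) (fun h => hg1 (isConj_one_right.1 h.symm))
    rw [hdeg χ, Complex.conj_natCast, ← hdeg χ] at this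
    field_simp
    linear_combination this
  have hclass : ∀ x ∈ commutator G, ¬ IsConj g x → (χ : G → ℂ) x = (χ : G → ℂ) 1 := by
    intro x hx hconj
    have h1 := hcol x hx hconj
    have h2 := hcol 1 (one_mem _) (fun h => hg1 (isConj_one_right.1 h.symm))
    have h3 : (χ : G → ℂ) g * conj ((χ : G → ℂ) x) = (χ : G → ℂ) g * conj ((χ : G → ℂ) 1) := by
      linear_combination h1 - h2
    exact star_injective (mul_left_cancel₀ hχg h3)
  have hKle : ∀ x, (χ : G → ℂ) x = (χ : G → ℂ) 1 → x ∈ commutator G := fun x hx => by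
    by_contra h
    exact hχne (hx ▸ hvan x h)
  have hset : (commutator G : Set G) =
      {x : G | (χ : G → ℂ) x = (χ : G → ℂ) 1} ∪ {h : G | IsConj g h} := by
    ext x
    constructor
    · intro hx
      by_cases hconj : IsConj g x
      · exact Or.inr hconj
      · exact Or.inl (hclass x hx hconj)
    · rintro (hx | hx)
      · exact hKle x hx
      · obtain ⟨c, rfl⟩ := isConj_iff.1 hx
        exact Subgroup.Normal.conj_mem inferInstance g hgG c
  have hgK : (χ : G → ℂ) g ≠ (χ : G → ℂ) 1 := by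
    intro h
    rw [hval, hdeg χ] at h
    have hd : (Cfsg.charDegree (χ : G → ℂ) : ℂ) ≠ 0 := hdeg χ ▸ hχne
    field_simp at h
    have h5 : (((commutator G).index + Cfsg.charDegree (χ : G → ℂ) ^ 2 : ℕ) : ℂ) = 0 := by
      push_cast
      linear_combination -h
    have h6 := Nat.cast_eq_zero.1 h5
    have := Subgroup.index_ne_zero_of_finite (H := commutator G)
    omega
  have hK5 : ∀ ψ : Cfsg.IrrCharacter G, Cfsg.charDegree (ψ : G → ℂ) ≠ 1 →
      (∀ x : G, (χ : G → ℂ) x = (χ : G → ℂ) 1 → (ψ : G → ℂ) x = (ψ : G → ℂ) 1) → ψ = χ := by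
    intro ψ hψ hker
    by_contra hne
    have hψg := hother ψ hψ hne
    have h0 := H12.classInner_irr_ne hne
    rw [H12.classInner_def, mul_eq_zero] at h0
    have h1 := h0.resolve_left (inv_ne_zero (Nat.cast_ne_zero.2 Nat.card_pos.ne'))
    have h2 : ∀ x : G, (ψ : G → ℂ) x * conj ((χ : G → ℂ) x) =
        if (χ : G → ℂ) x = (χ : G → ℂ) 1 then (ψ : G → ℂ) 1 * conj ((χ : G → ℂ) 1) else 0 := by
      intro x
      split_ifs with h
      · rw [h, hker x h]
      · by_cases hx : x ∈ commutator G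
        · have hconj : IsConj g x := by
            by_contra hc
            exact h (hclass x hx hc)
          rw [← H12.IsClassFunction.of_isConj (H12.irr_isClassFunction ψ) hconj, hψg, zero_mul]
        · rw [hvan x hx, map_zero, mul_zero]
    rw [Finset.sum_congr rfl (fun x _ => h2 x), ← Finset.sum_filter, Finset.sum_const,
      nsmul_eq_mul, mul_eq_zero] at h1
    rcases h1 with h1 | h1
    · rw [Nat.cast_eq_zero, Finset.card_eq_zero, Finset.filter_eq_empty_iff] at h1
      exact h1 (Finset.mem_univ 1) rfl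
    · rw [mul_eq_zero] at h1
      rcases h1 with h1 | h1
      · rw [hdeg ψ, Nat.cast_eq_zero] at h1
        exact (H12.irr_degree_pos ψ).ne' h1
      · exact hχne ((map_eq_zero _).1 h1)
  refine ⟨hgG, hval, hset, hvan, hK5, ?_⟩
  let K : Subgroup G := H12.charKer (χ : G → ℂ) (H12.isCharacter_irr χ)
  haveI : K.Normal := H12.charKer_normal _
  refine OneClass.isSolvable hodd K (commutator G) (fun x hx => hKle x hx) le_rfl hgG hgK ?_ ?_
  · intro x hx hxK
    by_contra h
    exact hxK (hclass x hx h)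
  · intro c hc
    by_contra hcX
    obtain ⟨n, ρ, hρ, hρχ⟩ := χ.2
    haveI := hρ
    have hker : ∀ y, y ∈ K → ρ y = 1 := by
      intro y hy
      have h1 : ρ.character y = (Module.finrank ℂ (Fin n → ℂ) : ℂ) := by
        rw [hρχ, show (χ : G → ℂ) y = (χ : G → ℂ) 1 from hy, ← hρχ, Representation.char_one]
      exact (H12.character_eq_finrank_iff ρ y).1 h1
    obtain ⟨μ, hμ⟩ := H12.exists_scalar_of_commute ρ (ρ c) (fun h => by
      have h1 := hker _ (hc h)
      have h2 : ρ c * ρ h = ρ ⁅c, h⁆ * (ρ h * ρ c) := by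
        rw [← map_mul, ← map_mul, ← map_mul]
        congr 1
        rw [commutatorElement_def]; group
      rwa [h1, one_mul] at h2)
    have hμ0 : μ ≠ 0 := by
      intro h
      rw [h, zero_smul] at hμ
      haveI := H12.nontrivial_of_isIrreducible ρ
      have h1 : ρ c⁻¹ * ρ c = 1 := by rw [← map_mul, inv_mul_cancel, map_one]
      rw [hμ, mul_zero] at h1
      exact zero_ne_one h1
    have h1 := hvan c hcX
    rw [← hρχ] at h1
    change LinearMap.trace ℂ _ (ρ c) = 0 at h1
    rw [hμ, map_smul, smul_eq_mul, LinearMap.trace_one] at h1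
    refine hχne ?_
    rw [← hρχ, Representation.char_one]
    exact (mul_eq_zero.1 h1).resolve_left hμ0

end H72
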