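/-
Best offenders on an elementary abelian 2-group on which all 2-subgroups act quadratically:
either they act inside `O_2`, or the natural module of `GL₂(2)` appears.
-/
import Mathlib
import Cfsg.Prelude.Def_Solvable
import Cfsg.Agent.CompBasic
import Cfsg.Agent.H1.Cores
import Cfsg.Agent.H65.BaerSuzuki

set_option autoImplicit false
set_option linter.style.haveILetI false

namespace H72

open Subgroup

universe u

variable {M : Type*} [CommGroup M]

/-- The commutator `[a, x]` in a module. -/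
def dd {G : Type*} [Group G] (ψ : G →* MulAut M) (a : G) (x : M) : M := ψ a x / x

variable {G : Type*} [Group G] (ψ : G →* MulAut M)

theorem dd_apply (a : G) (x : M) : ψ a x = dd ψ a x * x := by rw [dd, div_mul_cancel]

theorem dd_mul_right (a : G) (x y : M) : dd ψ a (x * y) = dd ψ a x * dd ψ a y := by
  rw [dd, dd, dd, map_mul, mul_div_mul_comm]

theorem dd_one (a : G) : dd ψ a 1 = 1 := by rw [dd, map_one, div_one]

theorem dd_eq_one (a : G) (x : M) : dd ψ a x = 1 ↔ ψ a x = x := div_eq_one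

theorem dd_mul_left (a b : G) (x : M) : dd ψ (a * b) x = dd ψ a (dd ψ b x) * dd ψ a x * dd ψ b x := by
  rw [dd, map_mul, MulAut.mul_apply, dd_apply ψ a (ψ b x), dd_apply ψ b x, dd_mul_right]
  rw [← mul_assoc, mul_div_cancel_right]

/-- Points fixed by a set of elements. -/
def fixG (A : Subgroup G) : Subgroup M where
  carrier := {x | ∀ a ∈ A, ψ a x = x}
  one_mem' := fun a _ => map_one (ψ a)
  mul_mem' := fun {x y} hx hy a ha => by rw [map_mul, hx a ha, hy a ha]
  inv_mem' := fun {x} hx a ha => by rw [map_inv, hx a ha]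

/-- The iterated fixed points. -/
def hyp (ψ : G →* MulAut M) : ℕ → Subgroup M
  | 0 => ⊥
  | n + 1 =>
    { carrier := {x | ∀ g, dd ψ g x ∈ hyp ψ n}
      one_mem' := fun g => by rw [dd_one]; exact one_mem _
      mul_mem' := fun {x y} hx hy g => by rw [dd_mul_right]; exact mul_mem (hx g) (hy g)
      inv_mem' := fun {x} hx g => by
        have : dd ψ g x⁻¹ = (dd ψ g x)⁻¹ := eq_inv_of_mul_eq_one_left (by
          rw [← dd_mul_right, inv_mul_cancel, dd_one])
        rw [this]; exact inv_mem (hx g) }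

theorem hyp_mono (n : ℕ) : hyp ψ n ≤ hyp ψ (n + 1) := by
  induction n with
  | zero => exact bot_le
  | succ n ih => intro x hx g; exact ih (hx g)

theorem hyp_invariant (n : ℕ) (g : G) {x : M} (hx : x ∈ hyp ψ n) : ψ g x ∈ hyp ψ n := by
  induction n generalizing x with
  | zero => rw [hyp, mem_bot] at hx ⊢; rw [hx, map_one]
  | succ n ih =>
    rw [dd_apply]
    exact mul_mem (hyp_mono ψ n (hx g)) hx

theorem exists_hyp_stable [Finite M] (hh : ∀ n, hyp ψ n ≤ hyp ψ (n + 1)) :
    ∃ n, hyp ψ (n + 1) = hyp ψ n := by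
  by_contra hne
  push Not at hne
  have : ∀ n, n + 1 ≤ Nat.card (hyp ψ n) := by
    intro n
    induction n with
    | zero => exact Nat.card_pos
    | succ n ih =>
      have := Set.Finite.card_lt_card (Set.toFinite _)
        (SetLike.coe_ssubset_coe.mpr (lt_of_le_of_ne (hh n) (hne n).symm))
      simp only [Nat.card_eq_fintype_card, SetLike.coe_sort_coe] at this ih ⊢
      omega
  have h1 := this (Nat.card M)
  have h2 := card_le_card_group (hyp ψ (Nat.card M))
  omega

/-- Data exhibiting the natural module of `GL₂(2)`. -/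
def HasNaturalGL22 : Prop :=
  ∃ (a b : G) (v w : M), v ≠ 1 ∧ w ≠ 1 ∧ v ≠ w ∧ ψ b v = v ∧ ψ a w = w ∧ ψ a v = w * v ∧ ψ b w = v * w

theorem HasNaturalGL22.of_subgroup {H : Subgroup G} (h : HasNaturalGL22 (ψ.comp H.subtype)) :
    HasNaturalGL22 ψ :=
  let ⟨a, b, v, w, h⟩ := h
  ⟨a, b, v, w, h⟩

theorem best_offender {M : Type*} [CommGroup M] [Finite M] (h2 : ∀ x : M, x * x = 1) :
    ∀ (n : ℕ) (G : Type u) [Group G] [Finite G], Nat.card G ≤ n → ∀ ψ : G →* MulAut M,
      (∀ T : Subgroup G, IsPGroup 2 (T.map ψ) → ∀ a ∈ T, ∀ b ∈ T, ∀ x, dd ψ a (dd ψ b x) = 1) →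
      ¬ HasNaturalGL22 ψ →
      ∀ A : Subgroup G, IsPGroup 2 (A.map ψ) →
        (∀ B : Subgroup G, B ≤ A →
          Nat.card B * Nat.card (fixG ψ B) ≤ Nat.card A * Nat.card (fixG ψ A)) →
        A.map ψ.rangeRestrict ≤ Cfsg.pCore 2 ψ.range := by
  classical
  haveI : Fact (Nat.Prime 2) := ⟨Nat.prime_two⟩
  intro n
  induction n with
  | zero => intro G _ _ hn; exact absurd (Nat.card_pos (α := G)) (by omega)
  | succ n ih =>
  intro G _ _ hn ψ hquad hnat A hA hbest
  -- inside proper subgroups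
  have hsub : ∀ (H : Subgroup G), H ≠ ⊤ → ∀ A' : Subgroup G, A' ≤ H → IsPGroup 2 (A'.map ψ) →
      (∀ B : Subgroup G, B ≤ A' →
        Nat.card B * Nat.card (fixG ψ B) ≤ Nat.card A' * Nat.card (fixG ψ A')) →
      A'.map ψ ≤ ((Cfsg.pCore 2 (ψ.comp H.subtype).range).map (ψ.comp H.subtype).range.subtype) := by
    intro H hH A' hA'H hA'2 hA'b
    have hcard : Nat.card H ≤ n := by
      have := lt_of_le_of_ne (card_le_card_group H) fun e => hH (eq_top_of_card_eq H e)
      omega
    set ψ' := ψ.comp H.subtype with hψ'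
    have hmap : ∀ T : Subgroup H, T.map ψ' = (T.map H.subtype).map ψ := fun T => (map_map _ _ _).symm
    have h1 := ih H hcard ψ' (fun T hT a ha b hb x => hquad (T.map H.subtype) (hmap T ▸ hT) a ⟨a, ha, rfl⟩ b ⟨b, hb, rfl⟩ x)
      (fun h => hnat (h.of_subgroup ψ)) (A'.subgroupOf H)
      (by rw [hmap, map_subgroupOf_eq_of_le hA'H]; exact hA'2)
      (fun B hB => by
        have hfix : ∀ T : Subgroup H, fixG ψ' T = fixG ψ (T.map H.subtype) := fun T =>
          Subgroup.ext fun x => ⟨fun hx _ ⟨t, ht, e⟩ => e ▸ hx t ht, fun hx t ht => hx _ ⟨t, ht, rfl⟩⟩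
        rw [hfix, hfix, map_subgroupOf_eq_of_le hA'H, Nat.card_congr (subgroupOfEquivOfLe hA'H).toEquiv,
          ← card_map_of_injective H.subtype_injective (K := B)]
        exact hA'b _ (by rintro _ ⟨b, hb, rfl⟩; exact hB hb))
    intro y hy
    obtain ⟨a, ha, rfl⟩ := hy
    exact ⟨ψ'.rangeRestrict ⟨a, hA'H ha⟩, h1 ⟨⟨a, hA'H ha⟩, ha, rfl⟩, rfl⟩
  -- conjugates
  have hconjA : ∀ g : G, IsPGroup 2 ((A.map (MulAut.conj g).toMonoidHom).map ψ) ∧
      (∀ B : Subgroup G, B ≤ A.map (MulAut.conj g).toMonoidHom →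
        Nat.card B * Nat.card (fixG ψ B) ≤ Nat.card (A.map (MulAut.conj g).toMonoidHom) *
          Nat.card (fixG ψ (A.map (MulAut.conj g).toMonoidHom))) := by
    intro g
    refine ⟨?_, fun B hB => ?_⟩
    · rw [map_map, show ψ.comp (MulAut.conj g).toMonoidHom = (MulAut.conj (ψ g)).toMonoidHom.comp ψ from
        MonoidHom.ext fun x => by simp, ← map_map]
      exact hA.map _
    · set B' := B.map (MulAut.conj g⁻¹).toMonoidHom with hB'
      have hB'A : B' ≤ A := by
        rintro _ ⟨b, hb, rfl⟩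
        obtain ⟨a, ha, rfl⟩ := hB hb
        simpa [mul_assoc] using ha
      have hfix : ∀ T : Subgroup G, Nat.card (fixG ψ (T.map (MulAut.conj g⁻¹).toMonoidHom)) = Nat.card (fixG ψ T) := by
        intro T
        refine Nat.card_congr ((ψ g).toEquiv.subtypeEquiv fun x => ⟨fun hx t ht => ?_, fun hx t ht => ?_⟩)
        · have := hx _ ⟨t, ht, rfl⟩
          simp only [MulEquiv.coe_toMonoidHom, MulAut.conj_apply, inv_inv] at this
          simp only [map_mul, map_inv, MulAut.mul_apply] at this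
          have h3 := congrArg (ψ g) this
          rwa [MulAut.apply_inv_self] at h3
        · obtain ⟨s, hs, rfl⟩ := ht
          simp only [MulEquiv.coe_toMonoidHom, MulAut.conj_apply, inv_inv]
          simp only [map_mul, map_inv, MulAut.mul_apply]
          rw [show ψ s (ψ g x) = ψ g x from hx s hs, MulAut.inv_apply_self]
      have hAconj : (A.map (MulAut.conj g).toMonoidHom).map (MulAut.conj g⁻¹).toMonoidHom = A := by
        rw [map_map, show ((MulAut.conj g⁻¹).toMonoidHom.comp (MulAut.conj g).toMonoidHom) = MonoidHom.id G from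
          MonoidHom.ext fun x => by simp [mul_assoc], map_id]
      have := hbest B' hB'A
      rw [hB', card_map_of_injective (MulAut.conj g⁻¹).injective, hfix] at this
      rw [card_map_of_injective (MulAut.conj g).injective, ← hfix (A.map (MulAut.conj g).toMonoidHom), hAconj]
      exact this
  by_cases hpairs : ∀ g : G, IsPGroup 2 ((A ⊔ A.map (MulAut.conj g).toMonoidHom).map ψ)
  · rintro _ ⟨a, ha, rfl⟩
    refine H65.mem_pCore_of_pairs fun q => ?_
    obtain ⟨⟨_, g, rfl⟩, rfl⟩ : ∃ q' : ψ.range, q' = q := ⟨q, rfl⟩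
    refine ((hpairs g).comap_of_injective ψ.range.subtype ψ.range.subtype_injective).to_le ?_
    rw [closure_le]
    rintro z (rfl | rfl)
    · exact ⟨a, mem_sup_left ha, rfl⟩
    · refine ⟨g * a * g⁻¹, mem_sup_right ⟨a, ha, rfl⟩, ?_⟩
      rw [map_mul, map_mul, map_inv]
      rfl
  exfalso
  push Not at hpairs
  obtain ⟨g, hg⟩ := hpairs
  set B := A.map (MulAut.conj g).toMonoidHom with hB
  obtain ⟨hB2, hBbest⟩ := hconjA g
  -- a proper subgroup containing a best offender and a single element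
  have hproper : ∀ H : Subgroup G, H ≠ ⊤ → ∀ A' : Subgroup G, ∀ S' : Subgroup G,
      IsPGroup 2 (A'.map ψ) → IsPGroup 2 (S'.map ψ) →
      (∀ B : Subgroup G, B ≤ A' →
        Nat.card B * Nat.card (fixG ψ B) ≤ Nat.card A' * Nat.card (fixG ψ A')) →
      A' ⊔ S' = H → IsPGroup 2 (H.map ψ) := by
    intro H hH A' S' hA'2 hS'2 hA'b heq
    have hA'H : A' ≤ H := heq ▸ le_sup_left
    set P := (Cfsg.pCore 2 (ψ.comp H.subtype).range).map (ψ.comp H.subtype).range.subtype with hP
    have hPp : IsPGroup 2 P := (H1.isPGroup_pCore 2 _).map _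
    have hPn : S'.map ψ ≤ normalizer (P : Set (MulAut M)) := by
      refine le_trans ?_ (le_normalizer_map _)
      haveI := H1.pCore_normal' 2 (ψ.comp H.subtype).range
      rw [normalizer_eq_top, ← MonoidHom.range_eq_map, range_subtype]
      rintro _ ⟨s, hs, rfl⟩
      exact ⟨⟨s, heq ▸ mem_sup_right hs⟩, rfl⟩
    rw [← heq, Subgroup.map_sup]
    exact ((hPp.to_sup_of_normal_left' hS'2 hPn).to_le
      (sup_le_sup_right (hsub H hH A' hA'H hA'2 hA'b) _))
  have htop : A ⊔ B = ⊤ := by
    by_contra hne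
    exact hg (hproper _ hne A B hA hB2 hbest rfl)
  -- the quadratic relations
  have hAq : ∀ a ∈ A, ∀ a' ∈ A, ∀ x, dd ψ a (dd ψ a' x) = 1 := hquad A hA
  have hBq : ∀ b ∈ B, ∀ b' ∈ B, ∀ x, dd ψ b (dd ψ b' x) = 1 := hquad B hB2
  have hcomm : ∀ T : Subgroup G, IsPGroup 2 (T.map ψ) → ∀ a ∈ T, ∀ b ∈ T, Commute (ψ a) (ψ b) := by
    intro T hT a ha b hb
    refine MulEquiv.ext fun x => ?_
    rw [← map_mul, ← map_mul, dd_apply, dd_apply ψ (b * a), dd_mul_left, dd_mul_left, hquad T hT a ha b hb,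
      hquad T hT b hb a ha, one_mul, one_mul, mul_comm (dd ψ a x)]
  have hgenA : ∀ a ∈ A, (∃ b ∈ B, ¬ Commute (ψ a) (ψ b)) → B ⊔ zpowers a = ⊤ := by
    rintro a ha ⟨b, hb, hne⟩
    by_contra hne'
    have h1 := hproper _ hne' B (zpowers a) hB2
      (hA.to_le (map_mono (zpowers_le.mpr ha))) hBbest rfl
    exact hne (hcomm _ h1 a (mem_sup_right (mem_zpowers a)) b (mem_sup_left hb))
  have hgenB : ∀ b ∈ B, (∃ a ∈ A, ¬ Commute (ψ b) (ψ a)) → A ⊔ zpowers b = ⊤ := by
    rintro b hb ⟨a, ha, hne⟩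
    by_contra hne'
    have h1 := hproper _ hne' A (zpowers b) hA
      (hB2.to_le (map_mono (zpowers_le.mpr hb))) hbest rfl
    exact hne (hcomm _ h1 b (mem_sup_right (mem_zpowers b)) a (mem_sup_left ha))
  -- an element of `B` outside the centre
  obtain ⟨b, hb, a₁, ha₁, hab⟩ : ∃ b ∈ B, ∃ a ∈ A, ¬ Commute (ψ b) (ψ a) := by
    by_contra hne
    push Not at hne
    refine hg ?_
    rw [Subgroup.map_sup]
    refine hA.to_sup_of_normal_left' hB2 ?_
    rintro _ ⟨c, hc, rfl⟩
    apply centralizer_le_normalizer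
    rw [mem_centralizer_iff]
    rintro _ ⟨a, ha, rfl⟩
    exact (hne c hc a ha).symm.eq
  have hAb : A ⊔ zpowers b = ⊤ := hgenB b hb ⟨a₁, ha₁, hab⟩
  -- the hyperfixed points
  obtain ⟨k, hk⟩ := exists_hyp_stable ψ (hyp_mono ψ)
  set W := hyp ψ k with hW
  -- an element moved into `W` by generators lies in `W`
  have hWgen : ∀ (s : Set G) (x : M), closure s = ⊤ → (∀ t ∈ s, dd ψ t x ∈ W) → x ∈ W := by
    intro s x hs hx
    show x ∈ hyp ψ k
    rw [show hyp ψ k = hyp ψ (k + 1) from hk.symm]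
    intro c
    have hc : c ∈ closure s := hs ▸ mem_top c
    induction hc using closure_induction with
    | mem t ht => exact hx t ht
    | one => rw [dd, map_one, MulAut.one_apply, div_self']; exact one_mem _
    | mul c d _ _ h1 h2 =>
      rw [dd, map_mul, MulAut.mul_apply, dd_apply ψ d x, map_mul, mul_div_assoc]
      exact mul_mem (hyp_invariant ψ k c h2) h1
    | inv c _ h1 =>
      have : dd ψ c⁻¹ x = (ψ c⁻¹ (dd ψ c x))⁻¹ := by
        rw [dd, dd, map_div, map_inv, MulAut.inv_apply_self, inv_div]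
      rw [this]
      exact inv_mem (hyp_invariant ψ k c⁻¹ h1)
  set C := fixG ψ A with hCdef
  set C' := fixG ψ B with hC'def
  have hCC' : ∀ x ∈ C, x ∈ C' → x ∈ W := fun x hx hx' => hWgen ((A : Set G) ∪ B) x
    (by rw [Subgroup.closure_union, closure_eq, closure_eq]; exact htop) fun t ht => by
      rcases ht with ht | ht
      · rw [(dd_eq_one ψ t x).mpr (hx t ht)]; exact one_mem _
      · rw [(dd_eq_one ψ t x).mpr (hx' t ht)]; exact one_mem _
  -- some point of `C'` lies outside `W`
  obtain ⟨v, hvC', hvW⟩ : ∃ v ∈ C', v ∉ W := by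
    by_contra hne
    push Not at hne
    have hCW : ∀ x ∈ C, x ∈ W := by
      intro x hx
      have h1 : ψ g x ∈ C' := by
        rintro _ ⟨a, ha, rfl⟩
        show ψ (g * a * g⁻¹) (ψ g x) = ψ g x
        rw [map_mul, map_mul, map_inv, MulAut.mul_apply, MulAut.mul_apply, MulAut.inv_apply_self, hx a ha]
      have := hyp_invariant ψ k g⁻¹ (hne _ h1)
      rwa [map_inv, MulAut.inv_apply_self] at this
    have hWtop : ∀ x, x ∈ W := fun x => hWgen ((A : Set G) ∪ B) x
      (by rw [Subgroup.closure_union, closure_eq, closure_eq]; exact htop) fun t ht => by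
        rcases ht with ht | ht
        · exact hCW _ fun a ha => (dd_eq_one ψ a _).mp (hAq a ha t ht x)
        · exact hne _ fun a ha => (dd_eq_one ψ a _).mp (hBq a ha t ht x)
    -- so the group of automorphisms is a 2-group
    have hser : ∀ m, ∀ c : G, ¬ 2 ∣ orderOf (ψ c) → ∀ x ∈ hyp ψ m, ψ c x = x := by
      intro m
      induction m with
      | zero => intro c _ x hx; rw [hyp, mem_bot] at hx; rw [hx, map_one]
      | succ m ihm =>
        intro c hc x hx
        have h1 : ψ c (dd ψ c x) = dd ψ c x := ihm c hc _ (hx c)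
        have hpow : ∀ i : ℕ, (ψ c ^ i) x = dd ψ c x ^ i * x := by
          intro i
          induction i with
          | zero => simp
          | succ i ihi => rw [pow_succ', MulAut.mul_apply, ihi, map_mul, map_pow, h1, dd_apply ψ c x, pow_succ,
              ← mul_assoc]
        have h3 := hpow (orderOf (ψ c))
        rw [pow_orderOf_eq_one, MulAut.one_apply] at h3
        have h4 : dd ψ c x ^ orderOf (ψ c) = 1 := mul_eq_right.mp h3.symm
        obtain ⟨i, hi⟩ := Nat.odd_iff.mpr (Nat.two_dvd_ne_zero.mp hc)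
        rw [hi, pow_succ, pow_mul, pow_two, h2, one_pow, one_mul] at h4
        exact (dd_eq_one ψ c x).mp h4
    refine hg ?_
    rintro ⟨_, c, -, rfl⟩
    refine ⟨(orderOf (ψ c)).factorization 2, Subtype.ext ?_⟩
    rw [SubmonoidClass.coe_pow, OneMemClass.coe_one, ← map_pow]
    refine MulEquiv.ext fun x => hser k _ ?_ x (hWtop x)
    rw [map_pow, orderOf_pow_of_dvd (pow_ne_zero _ two_ne_zero) (Nat.ordProj_dvd _ _)]
    exact Nat.not_dvd_ordCompl Nat.prime_two (orderOf_pos _).ne'
  -- the map `a ↦ [b, [a, v]]`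
  have hwC : ∀ a ∈ A, dd ψ a v ∈ C := fun a ha a' ha' => (dd_eq_one ψ a' _).mp (hAq a' ha' a ha v)
  have htC' : ∀ x, dd ψ b x ∈ C' := fun x b' hb' => (dd_eq_one ψ b' _).mp (hBq b' hb' b hb x)
  let f : A →* C' ⧸ W.subgroupOf C' :=
    (QuotientGroup.mk' (W.subgroupOf C')).comp
      { toFun := fun a => ⟨dd ψ b (dd ψ a v), htC' _⟩
        map_one' := Subtype.ext (by
          show dd ψ b (dd ψ 1 v) = 1
          rw [show dd ψ (1 : G) v = 1 by rw [dd, map_one, MulAut.one_apply, div_self'], dd_one])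
        map_mul' := fun a a' => Subtype.ext (by
          show dd ψ b (dd ψ ((a : G) * a') v) = dd ψ b (dd ψ a v) * dd ψ b (dd ψ a' v)
          rw [dd_mul_left, hAq a a.2 a' a'.2, one_mul, dd_mul_right]) }
  set Z₀ := A ⊓ (centralizer ((B.map ψ : Subgroup (MulAut M)) : Set (MulAut M))).comap ψ with hZ₀
  have hker : f.ker ≤ Z₀.subgroupOf A := by
    intro a ha
    rw [mem_subgroupOf]
    refine ⟨a.2, mem_centralizer_iff.mpr ?_⟩
    rintro _ ⟨b', hb', rfl⟩
    by_contra hne
    have hB_a := hgenA a a.2 ⟨b', hb', fun hc => hne hc.eq.symm⟩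
    have h1 : dd ψ b (dd ψ a v) ∈ W := (QuotientGroup.eq_one_iff (N := W.subgroupOf C') _).mp ha
    have h2 : dd ψ a v ∈ W := hWgen ((A : Set G) ∪ {b}) _
      (by rw [Subgroup.closure_union, closure_eq, ← zpowers_eq_closure]; exact hAb) fun t ht => by
        rcases ht with ht | ht
        · rw [(dd_eq_one ψ t _).mpr (hwC a a.2 t ht)]; exact one_mem _
        · rw [Set.mem_singleton_iff.mp ht]; exact h1
    exact hvW (hWgen ((B : Set G) ∪ {(a : G)}) v
      (by rw [Subgroup.closure_union, closure_eq, ← zpowers_eq_closure]; exact hB_a) fun t ht => by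
        rcases ht with ht | ht
        · rw [(dd_eq_one ψ t _).mpr (hvC' t ht)]; exact one_mem _
        · rw [Set.mem_singleton_iff.mp ht]; exact h2)
  have hZ₀C' : ∀ z ∈ Z₀, ∀ x ∈ C', ψ z x = x := by
    intro z hz x hx
    have hcen : ψ g * ψ z = ψ z * ψ g := by
      have hle : (⊤ : Subgroup G) ≤ (centralizer ({ψ z} : Set (MulAut M))).comap ψ := by
        rw [← htop]
        refine sup_le (fun a ha => ?_) (fun b' hb' => ?_)
        · exact mem_centralizer_singleton_iff.mpr (hcomm A hA a ha z hz.1).eq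
        · exact mem_centralizer_singleton_iff.mpr (mem_centralizer_iff.mp hz.2 _ ⟨b', hb', rfl⟩)
      exact mem_centralizer_singleton_iff.mp (hle (mem_top g))
    have h1 : ψ (g * z * g⁻¹) = ψ z := by rw [map_mul, map_mul, map_inv, hcen, mul_inv_cancel_right]
    rw [← h1]
    exact hx _ ⟨z, hz.1, rfl⟩
  have hsurj : Function.Surjective f := by
    have h3 : Nat.card Z₀ * Nat.card (fixG ψ Z₀) ≤ Nat.card A * Nat.card C := hbest Z₀ inf_le_left
    have hC'le : C' ≤ fixG ψ Z₀ := fun x hx z hz => hZ₀C' z hz x hx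
    have hCle : C ≤ fixG ψ Z₀ := fun x hx z hz => hx z hz.1
    -- `|C'/(C' ∩ W)| ≤ |fix Z₀ / C|`
    have h4 : Nat.card (C' ⧸ W.subgroupOf C') * Nat.card C ≤ Nat.card (fixG ψ Z₀) := by
      refine le_trans (Nat.mul_le_mul_right _ (?_ : _ ≤ Nat.card (C' ⧸ C.subgroupOf C'))) ?_
      · exact Nat.le_of_dvd Nat.card_pos (Subgroup.index_dvd_of_le (fun x hx => hCC' _ hx x.2))
      · have h1 := relIndex_mul_relIndex ⊥ C (C' ⊔ C) bot_le le_sup_right
        rw [relIndex_bot_left, relIndex_bot_left, relIndex_sup_right, mul_comm] at h1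
        show C.relIndex C' * Nat.card C ≤ _
        rw [h1]
        exact card_le_of_le (sup_le hC'le hCle)
    have h5 : Nat.card A ≤ Nat.card f.range * Nat.card Z₀ := by
      rw [card_eq_card_quotient_mul_card_subgroup f.ker,
        ← Nat.card_congr (QuotientGroup.quotientKerEquivRange f).toEquiv]
      refine Nat.mul_le_mul_left _ (le_trans (card_le_of_le hker) (le_of_eq ?_))
      exact Nat.card_congr (subgroupOfEquivOfLe inf_le_left).toEquiv
    rw [← MonoidHom.range_eq_top]
    refine eq_top_of_le_card _ ?_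
    have hz : 0 < Nat.card Z₀ := Nat.card_pos
    have hc : 0 < Nat.card C := Nat.card_pos
    refine Nat.le_of_mul_le_mul_right ?_ (Nat.mul_pos hz hc)
    calc Nat.card (C' ⧸ W.subgroupOf C') * (Nat.card Z₀ * Nat.card C)
        = Nat.card Z₀ * (Nat.card (C' ⧸ W.subgroupOf C') * Nat.card C) := by ring
      _ ≤ Nat.card Z₀ * Nat.card (fixG ψ Z₀) := Nat.mul_le_mul_left _ h4
      _ ≤ Nat.card A * Nat.card C := h3
      _ ≤ Nat.card f.range * Nat.card Z₀ * Nat.card C := Nat.mul_le_mul_right _ h5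
      _ = Nat.card f.range * (Nat.card Z₀ * Nat.card C) := by ring
  obtain ⟨a, ha⟩ := hsurj ((⟨v, hvC'⟩ : C') : C' ⧸ W.subgroupOf C')
  let T : M →* M :=
    { toFun := fun x => dd ψ b (dd ψ a x)
      map_one' := by rw [dd_one, dd_one]
      map_mul' := fun x y => by rw [dd_mul_right, dd_mul_right] }
  have hTW : ∀ j, ∀ x ∈ hyp ψ j, (T^[j]) x = 1 := by
    intro j
    induction j with
    | zero => intro x hx; exact mem_bot.mp hx
    | succ j ihj =>
      intro x hx
      rw [Function.iterate_succ_apply]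
      refine ihj _ ?_
      have h1 : dd ψ a x ∈ hyp ψ j := hx a
      exact div_mem (hyp_invariant ψ j b h1) h1
  have hω : T v / v ∈ W := by
    have h1 := QuotientGroup.eq_iff_div_mem.mp ha
    exact h1
  set v' := (T^[k]) v with hv'
  have hfix : T v' = v' := by
    have h1 : (T^[k]) (T v) = (T^[k]) v := by
      have h2 := hTW k _ hω
      rw [← div_eq_one, ← h2]
      exact (iterate_map_div T k (T v) v).symm
    rw [hv', ← Function.iterate_succ_apply' T k v, Function.iterate_succ_apply]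
    exact h1
  have hv'W : v' ∉ W := by
    intro hv'W
    have : ∀ j, (T^[j]) v / v ∈ W := by
      intro j
      induction j with
      | zero => simp [one_mem]
      | succ j ihj =>
        rw [Function.iterate_succ_apply']
        have h1 : T ((T^[j]) v) / v = T ((T^[j]) v / v) * (T v / v) := by
          rw [map_div, div_mul_div_cancel]
        rw [h1]
        refine mul_mem ?_ hω
        exact div_mem (hyp_invariant ψ k b (div_mem (hyp_invariant ψ k a ihj) ihj))
          (div_mem (hyp_invariant ψ k a ihj) ihj)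
    have h2 := div_mem hv'W (this k)
    rw [div_div_cancel] at h2
    exact hvW h2
  refine hnat ⟨a, b, v', dd ψ a v', fun e => hv'W (e ▸ one_mem W), fun e => ?_, fun e => ?_, ?_, ?_, ?_, ?_⟩
  · apply hv'W
    rw [← hfix]
    show dd ψ b (dd ψ a v') ∈ W
    rw [e, dd_one]; exact one_mem W
  · -- `w ≠ v'`
    have h1 := dd_apply ψ a v'
    rw [← e, h2] at h1
    have : v' = 1 := (ψ a).injective (h1.trans (map_one _).symm)
    exact hv'W (this ▸ one_mem W)
  · rw [← hfix]
    exact (dd_eq_one ψ b _).mp (hBq b hb b hb _)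
  · exact (dd_eq_one ψ (a : G) _).mp (hAq a a.2 a a.2 _)
  · exact dd_apply ψ a v'
  · calc ψ b (dd ψ a v') = dd ψ b (dd ψ a v') * dd ψ a v' := dd_apply ψ b _
      _ = v' * dd ψ a v' := by rw [show dd ψ b (dd ψ a v') = v' from hfix]

end H72
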