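/-
Two quadratic elements acting irreducibly on an elementary abelian `p`-group, `p` odd:
`-1` is in the image, and either some non-trivial quadratic element is generated by `p'`-elements
or the first element moves everything into one cyclic group.
-/
import Mathlib
import Cfsg.Agent.H72.QuadPairIrred

set_option autoImplicit false
open Cfsg
open scoped Matrix

namespace H72

theorem irred_quad_pair_odd {p : ℕ} [Fact p.Prime] (hp : p ≠ 2) {W : Type*} [AddCommGroup W] [Finite W]
    (hW : ∀ w : W, p • w = 0) {L : Type*} [Group L] [Finite L] (ρ : L →* AddMonoid.End W) {a b : L}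
    (hgen : Subgroup.closure ({a, b} : Set L) = ⊤) (ha : (ρ a - 1) * (ρ a - 1) = 0)
    (hb : (ρ b - 1) * (ρ b - 1) = 0)
    (hirr : ∀ U : AddSubgroup W, (∀ h : L, ∀ u ∈ U, ρ h u ∈ U) → U = ⊥ ∨ U = ⊤)
    (hnp : ∃ h : L, ¬ p ∣ orderOf h ∧ ρ h ≠ 1) :
    (∃ t : L, ρ t = -1) ∧
      ((∃ c ∈ Subgroup.closure {h : L | ¬ p ∣ orderOf h}, ρ c ≠ 1 ∧ (ρ c - 1) * (ρ c - 1) = 0) ∨
        (ρ a ≠ 1 ∧ ∃ v : W, ∀ w : W, ∃ k : ℕ, ρ a w - w = k • v)) := by
  classical
  have hp' := (Fact.out : p.Prime)
  obtain ⟨h₀, hh₀, hh₀1⟩ := hnp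
  have hmulE : ∀ (f g : AddMonoid.End W) (w : W), (f * g) w = f (g w) := fun _ _ _ => rfl
  set A : AddMonoid.End W := ρ a - 1 with hA
  set B : AddMonoid.End W := ρ b - 1 with hB
  have hρa : ρ a = 1 + A := by rw [hA, add_sub_cancel]
  have hρb : ρ b = 1 + B := by rw [hB, add_sub_cancel]
  set z : AddMonoid.End W := A * B + B * A with hz
  have hAz : A * z = z * A := by
    rw [hz, mul_add, add_mul, ← mul_assoc A A B, ha, zero_mul, zero_add, mul_assoc B A A, ha,
      mul_zero, add_zero, mul_assoc]
  have hBz : B * z = z * B := by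
    rw [hz, mul_add, add_mul, ← mul_assoc B B A, hb, zero_mul, add_zero, mul_assoc A B B, hb,
      mul_zero, zero_add, mul_assoc]
  clear_value z
  have hcl : ∀ (P : L → Prop), P 1 → P a → P b → (∀ x y, P x → P y → P (x * y)) → ∀ h, P h := by
    intro P h1 hPa hPb hmul h
    have hpow : ∀ x, P x → ∀ n : ℕ, P (x ^ n) := by
      intro x hx n
      induction n with
      | zero => simpa using h1
      | succ n ih => rw [pow_succ]; exact hmul _ _ ih hx
    have hinv : ∀ x, P x → P x⁻¹ := fun x hx => by
      rw [inv_eq_iff_mul_eq_one.mpr (show x * x ^ (orderOf x - 1) = 1 by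
        rw [← pow_succ', Nat.sub_add_cancel (orderOf_pos x), pow_orderOf_eq_one])]
      exact hpow x hx _
    exact H10.pair_induction a b hgen h1 hPa (hinv a hPa) hPb (hinv b hPb) hmul h
  have hzc : ∀ h : L, z * ρ h = ρ h * z := by
    refine hcl _ (by rw [map_one, mul_one, one_mul]) ?_ ?_ fun x y hx hy => ?_
    · rw [hρa, mul_add, add_mul, mul_one, one_mul, hAz]
    · rw [hρb, mul_add, add_mul, mul_one, one_mul, hBz]
    · rw [map_mul, ← mul_assoc, hx, mul_assoc, hy, mul_assoc]
  set R := Subring.closure ({z} : Set (AddMonoid.End W)) with hR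
  have hRc : ∀ r : R, ∀ h : L, (r : AddMonoid.End W) * ρ h = ρ h * r := by
    intro r h
    have hle : R ≤ Subring.centralizer (Set.range ρ) := by
      rw [hR, Subring.closure_le, Set.singleton_subset_iff, SetLike.mem_coe, Subring.mem_centralizer_iff]
      rintro _ ⟨g, rfl⟩
      exact (hzc g).symm
    exact ((Subring.mem_centralizer_iff.mp (hle r.2)) (ρ h) ⟨h, rfl⟩).symm
  have hRA : ∀ r : R, ∀ w : W, A ((r : AddMonoid.End W) w) = (r : AddMonoid.End W) (A w) := by
    intro r w
    rw [← hmulE, ← hmulE]
    congr 1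
    rw [hA, sub_mul, mul_sub, one_mul, mul_one, hRc r a]
  have hRB : ∀ r : R, ∀ w : W, B ((r : AddMonoid.End W) w) = (r : AddMonoid.End W) (B w) := by
    intro r w
    rw [← hmulE, ← hmulE]
    congr 1
    rw [hB, sub_mul, mul_sub, one_mul, mul_one, hRc r b]
  -- nothing non-zero is fixed
  have hnofix : ∀ w : W, A w = 0 → B w = 0 → w = 0 := by
    intro w hAw hBw
    let U : AddSubgroup W :=
      { carrier := {u | ∀ h : L, ρ h u = u}
        zero_mem' := fun h => map_zero _
        add_mem' := fun {x y} hx hy h => by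
          show ρ h (x + y) = x + y
          rw [map_add, hx h, hy h]
        neg_mem' := fun {x} hx h => by
          show ρ h (-x) = -x
          rw [map_neg, hx h] }
    have hwU : w ∈ U := hcl (fun h => ρ h w = w) (by rw [map_one]; rfl)
      (by rw [hρa]; show w + A w = w; rw [hAw, add_zero])
      (by rw [hρb]; show w + B w = w; rw [hBw, add_zero])
      (fun x y hx hy => by rw [map_mul, hmulE, hy, hx])
    rcases hirr U (fun h u hu => by rw [hu h]; exact hu) with h | h
    · rw [h] at hwU; exact hwU
    · refine absurd (AddMonoidHom.ext fun u => ?_) hh₀1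
      exact (h.symm ▸ AddSubgroup.mem_top u : u ∈ U) h₀
  have hWnt : ∃ w : W, w ≠ 0 := by
    by_contra hall
    push Not at hall
    exact hh₀1 (AddMonoidHom.ext fun u => by rw [hall u]; exact (map_zero (ρ h₀)).trans (map_zero _).symm)
  obtain ⟨w₀, hw₀⟩ := hWnt
  have hRinj : ∀ r : R, r ≠ 0 → ∀ w : W, (r : AddMonoid.End W) w = 0 → w = 0 := by
    intro r hr w hw
    rcases hirr (AddMonoidHom.ker (r : AddMonoid.End W)) (fun h u hu => by
      show (r : AddMonoid.End W) (ρ h u) = 0
      rw [← hmulE, hRc r h, hmulE, show (r : AddMonoid.End W) u = 0 from hu, map_zero]) with h | h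
    · exact (AddSubgroup.mem_bot).mp (h ▸ (hw : w ∈ AddMonoidHom.ker (r : AddMonoid.End W)))
    · exact absurd (Subtype.ext (AddMonoidHom.ext fun u =>
        (AddMonoidHom.mem_ker.mp
          (h.symm ▸ AddSubgroup.mem_top u : u ∈ AddMonoidHom.ker (r : AddMonoid.End W)) : _ = (0 : W)))) hr
  letI instC : CommRing R := Subring.closureCommRingOfComm (by
    rintro x hx y hy; rw [Set.mem_singleton_iff.mp hx, Set.mem_singleton_iff.mp hy])
  haveI : Nontrivial R := ⟨⟨1, 0, fun h => hw₀ (by
    have := congrArg (fun r : R => (r : AddMonoid.End W) w₀) h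
    simpa using this)⟩⟩
  haveI : NoZeroDivisors R := ⟨fun {x y} hxy => by
    by_contra hne
    push Not at hne
    refine hw₀ (hRinj y hne.2 w₀ (hRinj x hne.1 _ ?_))
    rw [← hmulE, ← Subring.coe_mul, hxy]
    rfl⟩
  haveI : IsDomain R := NoZeroDivisors.to_isDomain R
  haveI : Finite (AddMonoid.End W) := Finite.of_injective (fun f : AddMonoid.End W => (⇑f : W → W)) DFunLike.coe_injective
  haveI : Finite L := inferInstance
  letI : Fintype R := Fintype.ofFinite R
  letI : Field R := Fintype.fieldOfDomain R
  haveI : CharP R p := (CharP.charP_iff_prime_eq_zero hp').mpr (Subtype.ext (AddMonoidHom.ext fun w => by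
    rw [Subring.coe_natCast, ZeroMemClass.coe_zero]
    show p • w = 0
    exact hW w))
  -- the basis `v, Bv`
  obtain ⟨v, hv, hAv⟩ : ∃ v : W, v ≠ 0 ∧ A v = 0 := by
    by_cases h : A w₀ = 0
    · exact ⟨w₀, hw₀, h⟩
    · exact ⟨A w₀, h, by rw [← hmulE, ha]; rfl⟩
  let zR : R := ⟨z, Subring.subset_closure rfl⟩
  have hABv : A (B v) = z v := by
    rw [hz]
    show A (B v) = A (B v) + B (A v)
    rw [hAv, map_zero, add_zero]
  have hBBv : B (B v) = 0 := by rw [← hmulE, hb]; rfl
  have hz0 : zR ≠ 0 := by
    intro h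
    have hzv : z v = 0 := by
      have := congrArg (fun r : R => (r : AddMonoid.End W) v) h
      exact this
    by_cases hBv : B v = 0
    · exact hv (hnofix v hAv hBv)
    · exact hBv (hnofix _ (hABv.trans hzv) hBBv)
  have hsm : ∀ (r : R) (w : W), r • w = (r : AddMonoid.End W) w := fun _ _ => rfl
  let U : AddSubgroup W :=
    { carrier := {w | ∃ r s : R, w = r • v + s • B v}
      zero_mem' := ⟨0, 0, by rw [zero_smul, zero_smul, add_zero]⟩
      add_mem' := by
        rintro x y ⟨r, s, rfl⟩ ⟨r', s', rfl⟩
        exact ⟨r + r', s + s', by rw [add_smul, add_smul]; abel⟩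
      neg_mem' := by
        rintro x ⟨r, s, rfl⟩
        exact ⟨-r, -s, by rw [neg_smul, neg_smul]; abel⟩ }
  have hAsm : ∀ r s : R, A (r • v + s • B v) = (s * zR) • v := by
    intro r s
    rw [map_add, hsm, hsm, hRA, hRA, hAv, hABv, map_zero, zero_add, hsm, Subring.coe_mul, hmulE]
  have hBsm : ∀ r s : R, B (r • v + s • B v) = r • B v := by
    intro r s
    rw [map_add, hsm, hsm, hRB, hRB, hBBv, map_zero, add_zero, hsm]
  have hUinv : ∀ h : L, ∀ u ∈ U, ρ h u ∈ U := by
    refine hcl _ (fun u hu => by rw [map_one]; exact hu) ?_ ?_ (fun x y hx hy u hu => by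
      rw [map_mul, hmulE]; exact hx _ (hy u hu))
    · rintro u ⟨r, s, rfl⟩
      refine ⟨r + s * zR, s, ?_⟩
      rw [hρa]
      show (r • v + s • B v) + A (r • v + s • B v) = _
      rw [hAsm, add_smul]; abel
    · rintro u ⟨r, s, rfl⟩
      refine ⟨r, s + r, ?_⟩
      rw [hρb]
      show (r • v + s • B v) + B (r • v + s • B v) = _
      rw [hBsm, add_smul]; abel
  have hUtop : U = ⊤ := by
    refine (hirr U hUinv).resolve_left fun h => hv ?_
    have : v ∈ U := ⟨1, 0, by rw [one_smul, zero_smul, add_zero]⟩
    rwa [h] at this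
  have hli : LinearIndependent R ![v, B v] := by
    refine LinearIndependent.pair_iff.mpr fun r s hrs => ?_
    have h1 := congrArg A hrs
    rw [hAsm, map_zero, hsm] at h1
    have hs : s = 0 := by
      by_contra hs
      exact hv (hRinj _ (mul_ne_zero hs hz0) v h1)
    refine ⟨?_, hs⟩
    rw [hs, zero_smul, add_zero, hsm] at hrs
    by_contra hr
    exact hv (hRinj r hr v hrs)
  have hspan : ⊤ ≤ Submodule.span R (Set.range ![v, B v]) := by
    intro w _
    obtain ⟨r, s, rfl⟩ : w ∈ U := hUtop.symm ▸ AddSubgroup.mem_top w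
    exact Submodule.add_mem _ (Submodule.smul_mem _ _ (Submodule.subset_span ⟨0, rfl⟩))
      (Submodule.smul_mem _ _ (Submodule.subset_span ⟨1, rfl⟩))
  let bs : Module.Basis (Fin 2) R W := Module.Basis.mk hli hspan
  have hb0 : bs 0 = v := by simp [bs]
  have hb1 : bs 1 = B v := by simp [bs]
  let lin : L → (W →ₗ[R] W) := fun h =>
    { toFun := ρ h
      map_add' := map_add _
      map_smul' := fun r w => by
        show ρ h ((r : AddMonoid.End W) w) = (r : AddMonoid.End W) (ρ h w)
        rw [← hmulE, ← hmulE, hRc r h] }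
  let M : L → Matrix (Fin 2) (Fin 2) R := fun h => LinearMap.toMatrix bs bs (lin h)
  have hM1 : M 1 = 1 := by
    show LinearMap.toMatrix bs bs (lin 1) = 1
    rw [show lin 1 = LinearMap.id from LinearMap.ext fun w => by
      show ρ 1 w = w; rw [map_one]; rfl, LinearMap.toMatrix_id]
  have hMmul : ∀ x y, M (x * y) = M x * M y := fun x y => by
    show LinearMap.toMatrix bs bs (lin (x * y)) = _
    rw [show lin (x * y) = (lin x).comp (lin y) from LinearMap.ext fun w => by
      show ρ (x * y) w = ρ x (ρ y w); rw [map_mul, hmulE], LinearMap.toMatrix_comp bs bs bs]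
  have hMa : M a = !![1, zR; 0, 1] := by
    have e0 : lin a (bs 0) = bs 0 := by
      show ρ a (bs 0) = bs 0
      rw [hρa, hb0]; show v + A v = v; rw [hAv, add_zero]
    have e1 : lin a (bs 1) = zR • bs 0 + bs 1 := by
      show ρ a (bs 1) = _
      rw [hρa, hb1, hb0]; show B v + A (B v) = _; rw [hABv, add_comm]; rfl
    ext i j
    simp only [M, LinearMap.toMatrix_apply]
    fin_cases j <;> fin_cases i <;> simp [e0, e1]
  have hMb : M b = !![1, 0; 1, 1] := by
    have e0 : lin b (bs 0) = bs 0 + bs 1 := by
      show ρ b (bs 0) = _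
      rw [hρb, hb0, hb1]; rfl
    have e1 : lin b (bs 1) = bs 1 := by
      show ρ b (bs 1) = _
      rw [hρb, hb1]; show B v + B (B v) = _; rw [hBBv, add_zero]
    ext i j
    simp only [M, LinearMap.toMatrix_apply]
    fin_cases j <;> fin_cases i <;> simp [e0, e1]
  have hdet : ∀ h, (M h).det = 1 := hcl _ (by rw [hM1, Matrix.det_one])
    (by rw [hMa, Matrix.det_fin_two_of]; ring) (by rw [hMb, Matrix.det_fin_two_of]; ring)
    (fun x y hx hy => by rw [hMmul, Matrix.det_mul, hx, hy, mul_one])
  let K := AlgebraicClosure R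
  haveI : CharP K p := charP_of_injective_ringHom (algebraMap R K).injective p
  let ψ : L →* H10.SL2 R :=
    { toFun := fun h => ⟨M h, hdet h⟩
      map_one' := Subtype.ext hM1
      map_mul' := fun x y => Subtype.ext (hMmul x y) }
  let φ : L →* H10.SL2 K := (Matrix.SpecialLinearGroup.map (algebraMap R K)).comp ψ
  have hmat : ∀ h, H10.mat (φ h) = (algebraMap R K).mapMatrix (M h) := fun h => rfl
  let Θ : Module.End R W →+* Matrix (Fin 2) (Fin 2) K :=
    (algebraMap R K).mapMatrix.comp (LinearMap.toMatrixAlgEquiv bs).toRingEquiv.toRingHom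
  have hΘinj : Function.Injective Θ := fun x y h =>
    (LinearMap.toMatrixAlgEquiv bs).injective (Matrix.map_injective (algebraMap R K).injective h)
  have hΘ : ∀ h, Θ (lin h) = H10.mat (φ h) := fun h => rfl
  have hunip : ∀ h, H10.IsUnip (φ h) ↔ (ρ h - 1) * (ρ h - 1) = 0 := by
    intro h
    constructor
    · intro hu
      have h1 : Θ ((lin h - 1) * (lin h - 1)) = 0 := by rw [map_mul, map_sub, map_one, hΘ]; exact hu
      have h2 : (lin h - 1) * (lin h - 1) = 0 := hΘinj (h1.trans (map_zero Θ).symm)
      refine AddMonoidHom.ext fun w => ?_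
      exact congrArg (fun f : Module.End R W => f w) h2
    · intro hq
      have h2 : (lin h - 1) * (lin h - 1) = 0 := LinearMap.ext fun w =>
        congrArg (fun f : AddMonoid.End W => f w) hq
      show (H10.mat (φ h) - 1) * (H10.mat (φ h) - 1) = 0
      rw [← hΘ, ← map_one Θ, ← map_sub, ← map_mul, h2, map_zero]
  have hker : ∀ h, φ h = 1 → ρ h = 1 := by
    intro h hh
    have h1 : Θ (lin h) = Θ 1 := by rw [map_one, hΘ, hh, H10.mat_one]
    refine AddMonoidHom.ext fun w => ?_
    exact congrArg (fun f : Module.End R W => f w) (hΘinj h1)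
  have hnu : ¬ ∀ h, H10.IsUnip (φ h) := by
    intro hall
    refine hh₀1 (hker h₀ (orderOf_eq_one_iff.mp ?_))
    refine Nat.eq_one_of_dvd_coprimes (hp'.coprime_iff_not_dvd.mpr hh₀)
      (orderOf_dvd_of_pow_eq_one (H10.pow_p_of_isUnip (p := p) (hall h₀))) (orderOf_map_dvd φ h₀)
  have hua : H10.IsUnip (φ a) := (hunip a).mpr ha
  have hub : H10.IsUnip (φ b) := (hunip b).mpr hb
  haveI : Finite φ.range := Finite.of_surjective φ.rangeRestrict φ.rangeRestrict_surjective
  constructor
  · have heven : 2 ∣ Nat.card φ.range := by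
      by_contra hodd
      exact hnu (H10.isUnip_of_odd_image φ hgen hua hub (Nat.odd_iff.mpr (by omega)))
    haveI : Fact (Nat.Prime 2) := ⟨Nat.prime_two⟩
    obtain ⟨⟨g, t, rfl⟩, hg⟩ := exists_prime_orderOf_dvd_card' 2 heven
    rw [← Subgroup.orderOf_coe] at hg
    replace hg : orderOf (φ t) = 2 := hg
    have hgg : φ t * φ t = 1 := by rw [← pow_two]; exact orderOf_dvd_iff_pow_eq_one.mp hg.dvd
    have hg1 : φ t ≠ 1 := fun h => by rw [h, orderOf_one] at hg; exact absurd hg (by norm_num)
    have h2K : (2 : K) ≠ 0 := by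
      intro h
      have : ((2 : ℕ) : K) = 0 := by exact_mod_cast h
      rw [CharP.cast_eq_zero_iff K p] at this
      exact hp ((Nat.prime_dvd_prime_iff_eq hp' Nat.prime_two).mp this)
    have ht := sl2_involution_eq_neg_one h2K hgg hg1
    refine ⟨t, AddMonoidHom.ext fun w => ?_⟩
    have h1 : Θ (lin t) = Θ (-1) := by rw [map_neg, map_one, hΘ, ht]
    exact congrArg (fun f : Module.End R W => f w) (hΘinj h1)
  · have hρa1 : ρ a ≠ 1 := by
      intro h
      have hA0 : A = 0 := by rw [hA, h, sub_self]
      refine hz0 (Subtype.ext ?_)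
      show z = 0
      rw [hz, hA0, zero_mul, mul_zero, add_zero]
    by_cases hzF : ∃ k : ℕ, zR = (k : R)
    · refine Or.inr ⟨hρa1, v, fun w => ?_⟩
      obtain ⟨k, hk⟩ := hzF
      have hcast : ∀ r : R, ∃ n : ℕ, r = (n : R) := by
        rintro ⟨r, hr⟩
        induction hr using Subring.closure_induction with
        | mem x hx => exact ⟨k, (Subtype.ext (Set.mem_singleton_iff.mp hx)).trans hk⟩
        | zero => exact ⟨0, Nat.cast_zero.symm⟩
        | one => exact ⟨1, Nat.cast_one.symm⟩
        | add x y hx hy h1 h2 =>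
          obtain ⟨n, hn⟩ := h1
          obtain ⟨n', hn'⟩ := h2
          exact ⟨n + n', by rw [Nat.cast_add, ← hn, ← hn']; rfl⟩
        | neg x hx h1 =>
          obtain ⟨n, hn⟩ := h1
          refine ⟨n * (p - 1), ?_⟩
          have hp1 : ((p - 1 : ℕ) : R) = -1 := by
            rw [eq_neg_iff_add_eq_zero, show (1 : R) = ((1 : ℕ) : R) from Nat.cast_one.symm, ← Nat.cast_add, Nat.sub_add_cancel hp'.one_lt.le]
            exact CharP.cast_eq_zero R p
          rw [Nat.cast_mul, hp1, ← hn, mul_neg, mul_one]
          rfl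
        | mul x y hx hy h1 h2 =>
          obtain ⟨n, hn⟩ := h1
          obtain ⟨n', hn'⟩ := h2
          exact ⟨n * n', by rw [Nat.cast_mul, ← hn, ← hn']; rfl⟩
      obtain ⟨r, s, rfl⟩ : w ∈ U := hUtop.symm ▸ AddSubgroup.mem_top w
      obtain ⟨n, hn⟩ := hcast (s * zR)
      refine ⟨n, ?_⟩
      rw [show ρ a (r • v + s • B v) - (r • v + s • B v) = A (r • v + s • B v) from rfl, hAsm, hn]
      exact Nat.cast_smul_eq_nsmul R n v
    · left
      set Kc := Subgroup.closure {h : L | ¬ p ∣ orderOf h} with hKc
      -- trace away from `± 2` gives an element of `Kc` modulo the kernel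
      have hgood : ∀ g : L, (M g).trace ≠ 2 → (M g).trace ≠ -2 → φ g ∈ Kc.map φ := by
        intro g h1 h2
        by_cases hd : p ∣ orderOf (φ g)
        · exfalso
          obtain ⟨m, hm⟩ := hd
          have hpos : 0 < orderOf (φ g) :=
            orderOf_pos_iff.mpr (isOfFinOrder_iff_pow_eq_one.mpr ⟨orderOf g, orderOf_pos g, by
              rw [← map_pow, pow_orderOf_eq_one, map_one]⟩)
          have hu : (φ g) ^ m ≠ 1 := fun h => by
            have h' := Nat.le_of_dvd (by
              rcases Nat.eq_zero_or_pos m with h0 | h0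
              · rw [h0, mul_zero] at hm; omega
              · exact h0) (orderOf_dvd_of_pow_eq_one h)
            have h3 : 2 * m ≤ p * m := Nat.mul_le_mul_right m hp'.two_le
            omega
          have hup : H10.IsUnip ((φ g) ^ m) := by
            refine H10.isUnip_of_pow (p := p) (k := 1) ?_
            rw [pow_one, ← pow_mul, mul_comm m p, ← hm, pow_orderOf_eq_one]
          have h2p := H10.pow_two_p_of_commute_unip (p := p) hup hu (Commute.self_pow (φ g) m).eq
          have hsq := H10.eq_one_or_neg_one_of_mul_self (p := p) hp (g := (φ g) ^ p) (by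
            rw [← pow_add, ← two_mul]; exact h2p)
          have hmp : ∀ (x : H10.SL2 K) (n : ℕ), H10.mat (x ^ n) = H10.mat x ^ n := by
            intro x n
            induction n with
            | zero => rw [pow_zero, pow_zero, H10.mat_one]
            | succ n ih => rw [pow_succ, pow_succ, H10.mat_mul, ih]
          have hin := (algebraMap R K).injective
          have htr : (H10.mat (φ g)).trace = algebraMap R K (M g).trace := by
            rw [hmat, Matrix.trace_fin_two, Matrix.trace_fin_two, map_add]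
            rfl
          have hpodd : Odd p := hp'.odd_of_ne_two hp
          haveI : CharP (Matrix (Fin 2) (Fin 2) K) p := Matrix.charP p
          rcases hsq with h | h
          · apply h1
            have hn : IsNilpotent (H10.mat (φ g) - 1) := ⟨p, by
              rw [sub_pow_char_of_commute p (Commute.one_right _), ← hmp, h, one_pow, sub_self]⟩
            have h0 := (Matrix.isNilpotent_trace_of_isNilpotent hn).eq_zero
            rw [Matrix.trace_sub, Matrix.trace_one, Fintype.card_fin, Nat.cast_ofNat, sub_eq_zero, htr] at h0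
            apply hin
            rw [h0, map_ofNat]
          · apply h2
            have hn : IsNilpotent (H10.mat (φ g) - -1) := ⟨p, by
              rw [sub_pow_char_of_commute p ((Commute.one_right _).neg_right), ← hmp, h, hpodd.neg_pow,
                one_pow, sub_self]⟩
            have h0 := (Matrix.isNilpotent_trace_of_isNilpotent hn).eq_zero
            rw [sub_neg_eq_add, Matrix.trace_add, Matrix.trace_one, Fintype.card_fin, Nat.cast_ofNat,
              htr] at h0
            apply hin
            rw [map_neg, map_ofNat]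
            exact eq_neg_of_add_eq_zero_left h0
        · set e := (orderOf g).factorization p
          have h3 : g ^ p ^ e ∈ Kc := Subgroup.subset_closure (show ¬ p ∣ orderOf (g ^ p ^ e) by
            rw [orderOf_pow_of_dvd (pow_ne_zero _ hp'.ne_zero) (Nat.ordProj_dvd _ _)]
            exact Nat.not_dvd_ordCompl hp' (orderOf_pos g).ne')
          obtain ⟨k, hk⟩ := exists_pow_eq_self_of_coprime (x := φ g) (n := p ^ e)
            ((hp'.coprime_iff_not_dvd.mpr hd).pow_left e)
          rw [← hk, ← map_pow, ← map_pow]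
          exact Subgroup.mem_map_of_mem _ (pow_mem h3 k)
      have hne : ∀ n : ℕ, zR ≠ (n : R) := fun n h => hzF ⟨n, h⟩
      have h2R : (2 : R) ≠ 0 := by
        intro h
        have : ((2 : ℕ) : R) = 0 := by exact_mod_cast h
        rw [CharP.cast_eq_zero_iff R p] at this
        exact hp ((Nat.prime_dvd_prime_iff_eq hp' Nat.prime_two).mp this)
      have hp2 : 2 ≤ p := hp'.two_le
      have hp1 : ((p - 2 : ℕ) : R) = -2 := by
        rw [eq_neg_iff_add_eq_zero, show (2 : R) = ((2 : ℕ) : R) by norm_num, ← Nat.cast_add,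
          Nat.sub_add_cancel hp2]
        exact CharP.cast_eq_zero R p
      have hab : φ (a * b) ∈ Kc.map φ := by
        have htr : (M (a * b)).trace = 2 + zR := by
          rw [hMmul, hMa, hMb, Matrix.mul_fin_two, Matrix.trace_fin_two_of]; ring
        refine hgood _ ?_ ?_ <;> rw [htr] <;> intro h
        · exact hz0 (by linear_combination h)
        · refine hne ((p - 2) + (p - 2)) ?_
          rw [Nat.cast_add, hp1]
          linear_combination h
      have habb : φ (a * b * b) ∈ Kc.map φ := by
        have htr : (M (a * b * b)).trace = 2 + 2 * zR := by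
          rw [hMmul, hMmul, hMa, hMb, Matrix.mul_fin_two, Matrix.mul_fin_two, Matrix.trace_fin_two_of]; ring
        refine hgood _ ?_ ?_ <;> rw [htr] <;> intro h
        · exact hz0 ((mul_eq_zero.mp (show (2 : R) * zR = 0 by linear_combination h)).resolve_left h2R)
        · refine hne (p - 2) ?_
          rw [hp1]
          exact mul_left_cancel₀ h2R (by linear_combination h)
      have hb' : φ b ∈ Kc.map φ := by
        have := mul_mem (inv_mem hab) habb
        rwa [map_mul φ (a * b) b, inv_mul_cancel_left] at this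
      have ha' : φ a ∈ Kc.map φ := by
        have := mul_mem hab (inv_mem hb')
        rwa [map_mul, mul_inv_cancel_right] at this
      obtain ⟨c, hc, hce⟩ := ha'
      have hρc : ρ c = ρ a := by
        have h1 : ρ (c * a⁻¹) = 1 := hker _ (by rw [map_mul, map_inv, hce, mul_inv_cancel])
        calc ρ c = ρ (c * a⁻¹) * ρ a := by rw [← map_mul, inv_mul_cancel_right]
          _ = ρ a := by rw [h1, one_mul]
      exact ⟨c, hc, by rw [hρc]; exact hρa1, by rw [hρc]; exact ha⟩

end H72
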