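/-
Three-dimensional linear groups over a prime field with a strongly p-embedded subgroup and no
normal p-subgroup.
-/
import Cfsg.Agent.H99.TransvGroup
import Cfsg.Agent.H87.StrongEmb
import Cfsg.Agent.H1.Cores

set_option autoImplicit false

namespace H72.RankThree

open H99.Transv

variable {p : ℕ} [Fact p.Prime] {V : Type*} [AddCommGroup V] [Module (ZMod p) V] [Finite V]

local notation "k" => ZMod p

instance instFiniteEquiv : Finite (V ≃ₗ[k] V) :=
  Finite.of_injective (fun g => (g : V → V)) DFunLike.coe_injective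

/-! ### Flags -/

omit [Finite V] in
/-- A scalar of `p`-power order in `ZMod p` is trivial. -/
lemma scalar_eq_one {g : V ≃ₗ[k] V} {v : V} (hv : v ≠ 0) {c : k} (hgv : g v = c • v) {m : ℕ}
    (hm : g ^ p ^ m = 1) : c = 1 := by
  have hpow : ∀ i : ℕ, (g ^ i) v = c ^ i • v := by
    intro i
    induction i with
    | zero => simp
    | succ i ih => rw [pow_succ', LinearEquiv.mul_apply, ih, map_smul, hgv, smul_smul, pow_succ]
  have h := hpow (p ^ m)
  rw [hm, ZMod.pow_card_pow] at h
  exact (smul_left_injective k hv (show (1 : k) • v = c • v by rw [one_smul]; exact h)).symm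

/-- A `p`-group preserving a proper subspace fixes a vector outside modulo it. -/
lemma exists_fixed_mod {T : Subgroup (V ≃ₗ[k] V)} (hT : IsPGroup p T) (W : Submodule k V)
    (hW : ∀ t ∈ T, ∀ x ∈ W, t x ∈ W) (hne : W ≠ ⊤) :
    ∃ w, w ∉ W ∧ ∀ t ∈ T, t w - w ∈ W := by
  letI act : MulAction T (V ⧸ W) :=
    { smul := fun t => W.mapQ W ((t : V ≃ₗ[k] V) : V →ₗ[k] V) (fun x hx => hW t t.2 x hx)
      one_smul := fun q => by
        induction q using Submodule.Quotient.induction_on with
        | _ x => rfl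
      mul_smul := fun s t q => by
        induction q using Submodule.Quotient.induction_on with
        | _ x => rfl }
  haveI : Nontrivial (V ⧸ W) := Submodule.Quotient.nontrivial_iff.2 hne
  haveI : Finite (V ⧸ W) := Finite.of_surjective _ (Submodule.Quotient.mk_surjective W)
  have hdvd : p ∣ Nat.card (V ⧸ W) := by
    rw [Module.natCard_eq_pow_finrank (K := k), Nat.card_zmod]
    exact dvd_pow_self p (Module.finrank_pos (R := k) (M := V ⧸ W)).ne'
  obtain ⟨b, hb, hb0⟩ := hT.exists_fixed_point_of_prime_dvd_card_of_fixed_point (V ⧸ W) hdvd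
    (a := (0 : V ⧸ W)) (fun t => map_zero (W.mapQ W _ (fun x hx => hW t t.2 x hx)))
  obtain ⟨w, rfl⟩ := Submodule.Quotient.mk_surjective W b
  refine ⟨w, fun hw => hb0 ((Submodule.Quotient.mk_eq_zero W).2 hw).symm, fun t ht => ?_⟩
  have := hb ⟨t, ht⟩
  exact (Submodule.Quotient.eq W).1 this

lemma span_pair_eq {W : Submodule k V} (hW : Module.finrank k W = 2) {a b : V} (ha : a ∈ W)
    (hb : b ∈ W) (ha0 : a ≠ 0) (hbn : b ∉ Submodule.span k {a}) :
    Submodule.span k {a, b} = W := by
  have hle : Submodule.span k {a, b} ≤ W := by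
    rw [Submodule.span_le]
    rintro x (rfl | rfl) <;> assumption
  refine Submodule.eq_of_le_of_finrank_le hle ?_
  rw [hW]
  have h1 : Module.finrank k ↥(Submodule.span k {a}) = 1 := finrank_span_singleton ha0
  have hlt : Submodule.span k {a} < Submodule.span k {a, b} := by
    refine lt_of_le_of_ne (Submodule.span_mono (by simp)) fun h => hbn ?_
    rw [h]; exact Submodule.subset_span (by simp)
  have := Submodule.finrank_lt_finrank_of_lt hlt
  omega

lemma finrank_ker_dual {φ : Module.Dual k V} (hφ : φ ≠ 0) :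
    Module.finrank k ↥(LinearMap.ker φ) + 1 = Module.finrank k V := by
  rw [← LinearMap.finrank_range_add_finrank_ker φ, LinearMap.range_eq_top.2
    (LinearMap.surjective hφ), finrank_top, Module.finrank_self, add_comm]

lemma exists_second {W : Submodule k V} (hW : 2 ≤ Module.finrank k W) (a : V) :
    ∃ b ∈ W, b ∉ Submodule.span k {a} := by
  by_contra! h
  have := Submodule.finrank_mono (show W ≤ Submodule.span k {a} from h)
  have h1 : Module.finrank k ↥(Submodule.span k {a}) ≤ 1 := by
    simpa using finrank_span_le_card (R := k) ({a} : Set V)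
  omega

/-- A `p`-group fixes a flag. -/
lemma exists_flag (h3 : Module.finrank k V = 3) {T : Subgroup (V ≃ₗ[k] V)} (hT : IsPGroup p T) :
    ∃ v w : V, v ≠ 0 ∧ w ∉ Submodule.span k {v} ∧ T ≤ flagGroup v w := by
  obtain ⟨v, hv, hfix⟩ := exists_fixed_mod hT ⊥ (fun t _ x hx => by
      rw [Submodule.mem_bot] at hx ⊢; rw [hx, map_zero])
    (by intro h; rw [← finrank_top k V, ← h, finrank_bot] at h3; omega)
  have hfix' : ∀ t ∈ T, t v = v := fun t ht => sub_eq_zero.1 ((Submodule.mem_bot k).1 (hfix t ht))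
  have hv0 : v ≠ 0 := fun h => hv (by rw [h]; exact zero_mem _)
  set L := Submodule.span k {v} with hL
  have hL1 : Module.finrank k L = 1 := finrank_span_singleton hv0
  have hLinv : ∀ t ∈ T, ∀ x ∈ L, t x ∈ L := by
    intro t ht x hx
    obtain ⟨c, rfl⟩ := Submodule.mem_span_singleton.1 hx
    rw [map_smul, hfix' t ht]; exact hx
  obtain ⟨w, hw, hwfix⟩ := exists_fixed_mod hT L hLinv
    (by intro h; rw [h, finrank_top] at hL1; omega)
  set B := Submodule.span k {v, w} with hB
  have hvB : v ∈ B := Submodule.subset_span (by simp)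
  have hwB : w ∈ B := Submodule.subset_span (by simp)
  have hLB : L ≤ B := Submodule.span_mono (by simp)
  have hBinv : ∀ t ∈ T, ∀ x ∈ B, t x ∈ B := by
    intro t ht x hx
    obtain ⟨a, b, rfl⟩ := Submodule.mem_span_pair.1 hx
    rw [map_add, map_smul, map_smul, hfix' t ht]
    refine add_mem (Submodule.smul_mem _ _ hvB) (Submodule.smul_mem _ _ ?_)
    simpa using add_mem (hLB (hwfix t ht)) hwB
  have hB2 : Module.finrank k B = 2 := by
    have hle : Module.finrank k B ≤ 2 := by
      classical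
      refine le_trans (le_of_eq ?_) ((finrank_span_finset_le_card (R := k) {v, w}).trans
        Finset.card_le_two)
      rw [hB, Set.finrank, Finset.coe_pair]
    have hlt : L < B := lt_of_le_of_ne hLB fun h => hw (h ▸ hwB)
    have := Submodule.finrank_lt_finrank_of_lt hlt
    omega
  obtain ⟨u, hu, hufix⟩ := exists_fixed_mod hT B hBinv
    (by intro h; rw [h, finrank_top] at hB2; omega)
  refine ⟨v, w, hv0, hw, fun t ht => ⟨hfix' t ht, hwfix t ht, fun x => ?_⟩⟩
  have htop : B ⊔ Submodule.span k {u} = ⊤ := by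
    apply Submodule.eq_top_of_finrank_eq
    have hlt : B < B ⊔ Submodule.span k {u} := lt_of_le_of_ne le_sup_left fun h =>
      hu (h ▸ Submodule.mem_sup_right (Submodule.mem_span_singleton_self u))
    have := Submodule.finrank_lt_finrank_of_lt hlt
    have := Submodule.finrank_le (B ⊔ Submodule.span k {u})
    omega
  obtain ⟨b, hb, y, hy, rfl⟩ := Submodule.mem_sup.1 (htop ▸ Submodule.mem_top : x ∈ _)
  obtain ⟨c, rfl⟩ := Submodule.mem_span_singleton.1 hy
  rw [map_add, map_smul, show t b + c • t u - (b + c • u) = (t b - b) + c • (t u - u) by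
    rw [smul_sub]; abel]
  exact add_mem (sub_mem (hBinv t ht b hb) hb) (Submodule.smul_mem _ _ (hufix t ht))

/-- Two transvections, the centre of one lying on the axis of the other, lie in a common flag
group. -/
lemma exists_common_flag (h3 : Module.finrank k V = 3) {v v' : V} {φ φ' : Module.Dual k V}
    (hφ : φ ≠ 0) (hv' : v' ≠ 0) (h : φ v = 0) (h' : φ' v' = 0) (h0 : φ v' = 0) :
    ∃ a b : V, LinearEquiv.transvection h ∈ flagGroup a b ∧
      LinearEquiv.transvection h' ∈ flagGroup a b := by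
  have hker : Module.finrank k ↥(LinearMap.ker φ) = 2 := by
    have := finrank_ker_dual hφ; omega
  obtain ⟨b, hb, hbn⟩ := exists_second hker.ge v'
  have hspan : Submodule.span k {v', b} = LinearMap.ker φ :=
    span_pair_eq hker (LinearMap.mem_ker.2 h0) hb hv' hbn
  rw [LinearMap.mem_ker] at hb
  refine ⟨v', b, ⟨?_, ?_, fun x => ?_⟩, ⟨?_, ?_, fun x => ?_⟩⟩ <;>
    simp only [LinearEquiv.transvection.apply, add_sub_cancel_left]
  · simp [h0]
  · rw [hb, zero_smul]; exact zero_mem _
  · exact Submodule.smul_mem _ _ (hspan ▸ LinearMap.mem_ker.2 h)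
  · simp [h']
  · exact Submodule.smul_mem _ _ (Submodule.mem_span_singleton_self v')
  · exact Submodule.smul_mem _ _ (Submodule.subset_span (by simp))

/-! ### The order of a p-subgroup -/

section Group

variable {H : Subgroup (V ≃ₗ[ZMod p] V)}

lemma exists_common_pgroup (h3 : Module.finrank k V = 3) (hp : Odd p) {v v' : V}
    {φ φ' : Module.Dual k V} (hP : IsPair H v φ) (hP' : IsPair H v' φ') (h0 : φ v' = 0) :
    ∃ K : Subgroup ↥H, IsPGroup p K ∧
      (∀ hm, (⟨LinearEquiv.transvection hP.2.2.1, hm⟩ : ↥H) ∈ K) ∧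
      (∀ hm, (⟨LinearEquiv.transvection hP'.2.2.1, hm⟩ : ↥H) ∈ K) := by
  obtain ⟨a, b, h1, h2⟩ := exists_common_flag h3 hP.2.1 hP'.1 hP.2.2.1 hP'.2.2.1 h0
  exact ⟨(flagGroup a b).subgroupOf H,
    (flagGroup_isPGroup hp a b).comap_of_injective H.subtype Subtype.coe_injective,
    fun _ => h1, fun _ => h2⟩

omit [Fact p.Prime] [Module (ZMod p) V] [Finite V] in
/-- A p-group meeting a strongly p-embedded subgroup nontrivially lies in it. -/
lemma le_of_meets {X : Type*} [Group X] [Finite X] {p : ℕ} [Fact p.Prime] {M K : Subgroup X}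
    (hM : Cfsg.IsStronglyPEmbedded p M) (hK : IsPGroup p K) {m : X} (hmK : m ∈ K) (hmM : m ∈ M)
    (hm : m ≠ 1) : K ≤ M := by
  haveI : Nontrivial K := ⟨⟨⟨m, hmK⟩, 1, fun h => hm (congrArg Subtype.val h)⟩⟩
  haveI := hK.center_nontrivial
  obtain ⟨⟨z, hz⟩, hz1⟩ := exists_ne (1 : Subgroup.center K)
  replace hz1 : z ≠ 1 := fun h => hz1 (Subtype.ext h)
  have hzc : ∀ y ∈ K, y * (z : X) = (z : X) * y := fun y hy =>
    congrArg Subtype.val (Subgroup.mem_center_iff.1 hz ⟨y, hy⟩)
  have hnorm : ∀ a b : X, a * b = b * a → a ∈ Subgroup.normalizer (Subgroup.zpowers b : Set X) := by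
    intro a b hab
    refine Subgroup.centralizer_le_normalizer _ ?_
    rw [Subgroup.mem_centralizer_iff]
    rintro _ ⟨i, rfl⟩
    exact (((show Commute a b from hab).zpow_right i).symm).eq
  have hzM : (z : X) ∈ M :=
    H87.stronglyPEmbedded_normalizer_le hM (by rwa [Subgroup.zpowers_le])
      (hK.to_le (by rwa [Subgroup.zpowers_le])) (by rwa [Ne, Subgroup.zpowers_eq_bot])
      (hnorm _ _ (hzc m hmK).symm)
  intro y hy
  exact H87.stronglyPEmbedded_normalizer_le hM (by rwa [Subgroup.zpowers_le])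
      (hK.to_le (by rw [Subgroup.zpowers_le]; exact z.2))
      (by rw [Ne, Subgroup.zpowers_eq_bot]; exact fun h => hz1 (Subtype.ext h))
      (hnorm _ _ (hzc y hy))

/-- Non-opposite transvections of `H` have the same centre and axis. -/
def Uniq (H : Subgroup (V ≃ₗ[k] V)) : Prop :=
  ∀ v v' : V, ∀ φ φ' : Module.Dual k V, IsPair H v φ → IsPair H v' φ' → φ v' = 0 →
    v' ∈ Submodule.span k {v} ∧ φ' ∈ Submodule.span k {φ}

lemma tv_ne_one {v : V} {φ : Module.Dual k V} (hP : IsPair H v φ) :
    LinearEquiv.transvection hP.2.2.1 ≠ 1 := by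
  intro h
  refine hP.2.1 (LinearMap.ext fun x => ?_)
  have := LinearEquiv.congr_fun h x
  simpa [LinearMap.transvection.apply, hP.1] using this

/-- With a single transvection pair up to scalars, everything splits. -/
lemma split_of_uniq (h3 : Module.finrank k V = 3) (hp : Odd p) (hOp : Cfsg.pCore p ↥H = ⊥)
    (hU : Uniq H) {v : V} {φ : Module.Dual k V} (hP : IsPair H v φ) :
    ∃ y η q, IsPair H y η ∧ φ y = 1 ∧ η v = 1 ∧ q ≠ 0 ∧ φ q = 0 ∧ η q = 0 ∧
      (∀ g ∈ H, (∃ c : k, g q = c • q) ∧ g v ∈ Submodule.span k {v, y}) := by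
  obtain ⟨y, η, hy, a, b⟩ := exists_partner H hp hOp hP
  let S := groupSys H hp hOp
  have hy' : IsPair H ((φ y)⁻¹ • y) ((η v)⁻¹ • η) :=
    S.smulR (S.smulL hy (inv_ne_zero a)) (inv_ne_zero b)
  set y' := (φ y)⁻¹ • y with hyd
  set η' := (η v)⁻¹ • η with hηd
  have h1 : φ y' = 1 := by rw [hyd, map_smul, smul_eq_mul, inv_mul_cancel₀ a]
  have h2 : η' v = 1 := by rw [hηd, LinearMap.smul_apply, smul_eq_mul, inv_mul_cancel₀ b]
  obtain ⟨hy0, hη0, hηy, -⟩ := id hy'
  obtain ⟨hv, hφ, hφv, -⟩ := id hP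
  obtain ⟨q, hq, hq0⟩ : ∃ q, (φ q = 0 ∧ η' q = 0) ∧ q ≠ 0 := by
    have hsum := Submodule.finrank_sup_add_finrank_inf_eq (LinearMap.ker φ) (LinearMap.ker η')
    have := finrank_ker_dual hφ
    have := finrank_ker_dual hη0
    have := Submodule.finrank_le (LinearMap.ker φ ⊔ LinearMap.ker η')
    have hne : LinearMap.ker φ ⊓ LinearMap.ker η' ≠ ⊥ := by
      intro h0; rw [h0, finrank_bot] at hsum; omega
    obtain ⟨q, hq, hq0⟩ := (Submodule.ne_bot_iff _).1 hne
    exact ⟨q, hq, hq0⟩
  have hall : ∀ w ψ, IsPair H w ψ → w ∈ Submodule.span k {v, y'} ∧ ψ q = 0 := by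
    intro w ψ hw
    by_cases h0 : φ w = 0
    · obtain ⟨hw1, hψ1⟩ := hU v w φ ψ hP hw h0
      refine ⟨Submodule.span_mono (by simp) hw1, ?_⟩
      obtain ⟨c, rfl⟩ := Submodule.mem_span_singleton.1 hψ1
      simp [hq.1]
    · by_cases h0' : η' w = 0
      · obtain ⟨hw1, hψ1⟩ := hU y' w η' ψ hy' hw h0'
        refine ⟨Submodule.span_mono (by simp) hw1, ?_⟩
        obtain ⟨c, rfl⟩ := Submodule.mem_span_singleton.1 hψ1
        simp [hq.2]
      · set c := η' w / φ w with hc
        have hc0 : c ≠ 0 := div_ne_zero h0' h0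
        have hk := S.conj (S.smulL hP hc0) hy'
        simp only [Module.Dual.eval_apply, LinearMap.smul_apply, map_smul, smul_eq_mul, h1, h2, mul_one, one_smul] at hk
        obtain ⟨hw1, hψ1⟩ := hU _ w _ ψ hk hw (by
          simp [hc, div_mul_cancel₀ _ h0])
        refine ⟨?_, ?_⟩
        · obtain ⟨d, hd⟩ := Submodule.mem_span_singleton.1 hw1
          rw [← hd]
          exact Submodule.smul_mem _ _ (add_mem (Submodule.subset_span (by simp))
            (Submodule.smul_mem _ _ (Submodule.subset_span (by simp))))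
        · obtain ⟨d, rfl⟩ := Submodule.mem_span_singleton.1 hψ1
          simp [hq.1, hq.2]
  have hconj : ∀ g ∈ H, ∀ w ψ, IsPair H w ψ →
      IsPair H (g w) (ψ ∘ₗ (g.symm : V →ₗ[k] V)) := by
    intro g hg w ψ ⟨hw, hψ, h, hm⟩
    refine ⟨by simpa using hw, fun h0 => hψ (LinearMap.ext fun x => ?_), by simp [h], ?_⟩
    · simpa using LinearMap.congr_fun h0 (g x)
    · rw [← tv_conj_eq g h]; exact mul_mem (mul_mem hg hm) (inv_mem hg)
  refine ⟨y', η', q, hy', h1, h2, hq0, hq.1, hq.2, fun g hg => ⟨?_, (hall _ _ (hconj g hg v φ hP)).1⟩⟩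
  have e1 := (hall _ _ (hconj g⁻¹ (inv_mem hg) v φ hP)).2
  have e2 := (hall _ _ (hconj g⁻¹ (inv_mem hg) y' η' hy')).2
  simp only [LinearMap.comp_apply, LinearEquiv.coe_coe] at e1 e2
  have eg : ∀ x, (g⁻¹ : V ≃ₗ[k] V).symm x = g x := fun x => rfl
  rw [eg] at e1 e2
  have hne : LinearMap.ker φ ≠ LinearMap.ker η' := by
    intro h; have : v ∈ LinearMap.ker η' := h ▸ LinearMap.mem_ker.2 hφv
    rw [LinearMap.mem_ker, h2] at this; exact one_ne_zero this
  have hlt : LinearMap.ker φ ⊓ LinearMap.ker η' < LinearMap.ker φ := by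
    refine lt_of_le_of_ne inf_le_left fun h => hne ?_
    refine Submodule.eq_of_le_of_finrank_le (inf_eq_left.1 h) ?_
    have := finrank_ker_dual hφ; have := finrank_ker_dual hη0; omega
  have hfin := Submodule.finrank_lt_finrank_of_lt hlt
  have := finrank_ker_dual hφ
  have hinf : LinearMap.ker φ ⊓ LinearMap.ker η' = Submodule.span k {q} :=
    (Submodule.eq_of_le_of_finrank_le ((Submodule.span_singleton_le_iff_mem _ _).2
      (Submodule.mem_inf.2 ⟨LinearMap.mem_ker.2 hq.1, LinearMap.mem_ker.2 hq.2⟩))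
      (by rw [finrank_span_singleton hq0]; omega)).symm
  obtain ⟨c, hc⟩ := Submodule.mem_span_singleton.1
    (hinf ▸ Submodule.mem_inf.2 ⟨LinearMap.mem_ker.2 e1, LinearMap.mem_ker.2 e2⟩)
  exact ⟨c, hc.symm⟩

variable (h3 : Module.finrank (ZMod p) V = 3) (hp : Odd p) (hOp : Cfsg.pCore p ↥H = ⊥)

include h3 hp hOp in
lemma card_le_of_uniq (hU : Uniq H) {T : Subgroup (V ≃ₗ[k] V)} (hT : IsPGroup p T) (hTH : T ≤ H)
    {v : V} {φ : Module.Dual k V} (hP : IsPair H v φ) (hmem : LinearEquiv.transvection hP.2.2.1 ∈ T)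
    (hline : ∀ g ∈ T, ∃ c : k, g v = c • v) : Nat.card T ≤ p := by
  obtain ⟨y, η, q, hy, h1, h2, hq0, hq1, hq2, hall⟩ := split_of_uniq h3 hp hOp hU hP
  obtain ⟨hv, hφ, hφv, -⟩ := id hP
  obtain ⟨hy0, -, hηy, -⟩ := id hy
  have hspan : ∀ x : V, x = η x • v + φ x • y + (x - η x • v - φ x • y) ∧
      ∃ c : k, x - η x • v - φ x • y = c • q := by
    intro x
    refine ⟨by abel, ?_⟩
    have hker : (x - η x • v - φ x • y) ∈ LinearMap.ker φ ⊓ LinearMap.ker η := by
      refine ⟨?_, ?_⟩ <;> simp [hφv, h1, h2, hηy]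
    have hle : Submodule.span k {q} ≤ LinearMap.ker φ ⊓ LinearMap.ker η :=
      (Submodule.span_singleton_le_iff_mem _ _).2 ⟨LinearMap.mem_ker.2 hq1, LinearMap.mem_ker.2 hq2⟩
    have hne : v ∉ LinearMap.ker η := by simp [h2]
    have hlt : LinearMap.ker φ ⊓ LinearMap.ker η < LinearMap.ker φ :=
      lt_of_le_of_ne inf_le_left fun h => hne (inf_eq_left.1 h (LinearMap.mem_ker.2 hφv))
    have := Submodule.finrank_lt_finrank_of_lt hlt
    have := finrank_ker_dual hφ
    rw [← Submodule.eq_of_le_of_finrank_le hle (by rw [finrank_span_singleton hq0]; omega)] at hker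
    exact (Submodule.mem_span_singleton.1 hker).imp fun c hc => hc.symm
  have key : ∀ g ∈ T, g v = v ∧ g q = q ∧ ∃ b : k, g y = y + b • v := by
    intro g hg
    obtain ⟨⟨m, hm⟩⟩ := (⟨hT ⟨g, hg⟩⟩ : Nonempty _)
    have hm' : g ^ p ^ m = 1 := by simpa using congrArg Subtype.val hm
    have hgv : g v = v := by
      obtain ⟨c, hc⟩ := hline g hg
      rw [hc, scalar_eq_one hv hc hm', one_smul]
    have hgq : g q = q := by
      obtain ⟨c, hc⟩ := (hall g (hTH hg)).1
      rw [hc, scalar_eq_one hq0 hc hm', one_smul]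
    refine ⟨hgv, hgq, ?_⟩
    obtain ⟨d, hd⟩ := (hspan (g y)).2
    have hgy : g y = η (g y) • v + φ (g y) • y + d • q := by rw [← hd]; abel
    -- `g y` lies in the plane of `v` and `y`
    have hplane : g y ∈ Submodule.span k {v, y} := by
      have hc := (hall (g * LinearEquiv.transvection hy.2.2.1) (mul_mem (hTH hg) hy.2.2.2)).2
      simp only [LinearEquiv.mul_apply, LinearEquiv.transvection.apply, h2, one_smul, map_add,
        hgv] at hc
      simpa using sub_mem hc (Submodule.subset_span (show v ∈ ({v, y} : Set V) by simp))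
    obtain ⟨a, b, hab⟩ := Submodule.mem_span_pair.1 hplane
    have hpw : ∀ i : ℕ, φ ((g ^ i) y) = b ^ i := by
      intro i
      induction i with
      | zero => simp [h1]
      | succ i ih =>
        have hg' : ∀ x, φ (g x) = b * φ x := by
          intro x
          obtain ⟨hx, c, hc⟩ := hspan x
          rw [hc] at hx
          conv_lhs => rw [hx]
          simp [hgv, hgq, ← hab, hφv, h1, hq1, mul_comm]
        rw [pow_succ', LinearEquiv.mul_apply, hg', ih, pow_succ]; ring
    have hb1 : b = 1 := by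
      have := hpw (p ^ m)
      rw [hm', ZMod.pow_card_pow] at this
      simpa [h1] using this.symm
    exact ⟨a, by rw [← hab, hb1, one_smul, add_comm]⟩
  choose b hb using fun g : T => (key g g.2).2.2
  calc Nat.card T ≤ Nat.card k := Nat.card_le_card_of_injective b (by
        intro g g' hgg
        refine Subtype.ext (LinearEquiv.ext fun x => ?_)
        obtain ⟨hx, c, hc⟩ := hspan x
        rw [hc] at hx
        rw [hx]
        simp [(key g g.2).1, (key g' g'.2).1, (key g g.2).2.1, (key g' g'.2).2.1, hb, hgg])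
    _ = p := Nat.card_zmod p

include h3 hp hOp in
/-- A Sylow p-subgroup has order at most p. -/
theorem card_le_prime {M : Subgroup ↥H} (hM : Cfsg.IsStronglyPEmbedded p M)
    {T : Subgroup (V ≃ₗ[k] V)} (hT : IsPGroup p T) (hTH : T ≤ H) : Nat.card T ≤ p := by
  classical
  by_contra! hcard
  obtain ⟨P, hPM, -, -⟩ := H87.stronglyPEmbedded_exists hM
  set P₀ := (P : Subgroup ↥H).map H.subtype with hP₀
  have hP₀H : P₀ ≤ H := Subgroup.map_subtype_le _
  have hP₀p : IsPGroup p P₀ := P.2.map _
  have hP₀card : p ^ 2 ≤ Nat.card P₀ := by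
    obtain ⟨n, hn⟩ := IsPGroup.iff_card.1 hT
    have h2 : 2 ≤ n := by
      by_contra! hn2
      interval_cases n <;> rw [hn] at hcard <;> simp at hcard <;>
        exact absurd hcard (by have := (Fact.out : p.Prime).one_lt; omega)
    have e1 : Nat.card P₀ = Nat.card P := Subgroup.card_map_of_injective H.subtype_injective
    have e2 : p ^ n ∣ Nat.card P := by
      refine P.pow_dvd_card_of_pow_dvd_card ?_
      rw [← hn]
      exact Subgroup.card_dvd_of_le hTH
    rw [e1]
    exact le_trans (Nat.pow_le_pow_right (Fact.out : p.Prime).pos h2)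
      (Nat.le_of_dvd Nat.card_pos e2)
  obtain ⟨v, w, hv, hw, hflag⟩ := exists_flag h3 hP₀p
  set B := Submodule.span k {v, w} with hB
  have hB2 : Module.finrank k B = 2 := by
    have hlt : Submodule.span k {v} < B := lt_of_le_of_ne (Submodule.span_mono (by simp))
      fun h => hw (h ▸ Submodule.subset_span (by simp : w ∈ ({v, w} : Set V)))
    have := Submodule.finrank_lt_finrank_of_lt hlt
    have h1 : Module.finrank k ↥(Submodule.span k {v}) = 1 := finrank_span_singleton hv
    have hle : Module.finrank k B ≤ 2 := by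
      refine le_trans (le_of_eq ?_) ((finrank_span_finset_le_card (R := k) {v, w}).trans
        Finset.card_le_two)
      rw [hB, Set.finrank, Finset.coe_pair]
    omega
  have hLI : LinearIndependent k ![v, w] :=
    (LinearIndependent.pair_iff' hv).2 fun a ha => hw (Submodule.mem_span_singleton.2 ⟨a, ha⟩)
  obtain ⟨u, hu⟩ : ∃ u, u ∉ B := by
    by_contra! h
    have := Submodule.finrank_mono (show (⊤ : Submodule k V) ≤ B from fun x _ => h x)
    rw [finrank_top] at this; omega
  have hLI3 : LinearIndependent k ![v, w, u] := by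
    rw [Fintype.linearIndependent_iff]
    intro c hc
    simp [Fin.sum_univ_three] at hc
    have h2 : c 2 = 0 := by
      by_contra h
      refine hu ?_
      have : u = (-(c 2)⁻¹) • (c 0 • v + c 1 • w) := by
        rw [show c 0 • v + c 1 • w = -(c 2 • u) from eq_neg_of_add_eq_zero_left hc, smul_neg,
          neg_smul, neg_neg, smul_smul, inv_mul_cancel₀ h, one_smul]
      rw [this]
      exact Submodule.smul_mem _ _ (add_mem (Submodule.smul_mem _ _ (Submodule.subset_span (by simp)))
        (Submodule.smul_mem _ _ (Submodule.subset_span (by simp))))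
    rw [h2, zero_smul, add_zero] at hc
    have := (LinearIndependent.pair_iff).1 hLI _ _ hc
    intro i; fin_cases i
    exacts [this.1, this.2, h2]
  let bb := basisOfLinearIndependentOfCardEqFinrank hLI3 (by simp [h3])
  have hbb : ⇑bb = ![v, w, u] := coe_basisOfLinearIndependentOfCardEqFinrank _ _
  let φw := bb.coord 1
  let φu := bb.coord 2
  have cv : φw v = 0 ∧ φu v = 0 := by
    have e : v = bb 0 := by rw [hbb]; rfl
    constructor <;> simp [φw, φu, e]
  have cw : φw w = 1 ∧ φu w = 0 := by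
    have e : w = bb 1 := by rw [hbb]; rfl
    constructor <;> simp [φw, φu, e]
  have cu : φw u = 0 ∧ φu u = 1 := by
    have e : u = bb 2 := by rw [hbb]; rfl
    constructor <;> simp [φw, φu, e]
  have hφu : φu ≠ 0 := fun h => one_ne_zero (cu.2 ▸ by simp [h] : (1 : k) = 0)
  have hext : ∀ g g' : V ≃ₗ[k] V, g v = g' v → g w = g' w → g u = g' u → g = g' := by
    intro g g' a b c
    refine LinearEquiv.toLinearMap_injective (bb.ext fun i => ?_)
    rw [hbb]
    fin_cases i
    exacts [a, b, c]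
  have hcoord : ∀ x ∈ B, x = bb.coord 0 x • v + φw x • w ∧ φu x = 0 := by
    intro x hx
    obtain ⟨a, b, rfl⟩ := Submodule.mem_span_pair.1 hx
    have e0 : bb.coord 0 v = 1 ∧ bb.coord 0 w = 0 := by
      have ev : v = bb 0 := by rw [hbb]; rfl
      have ew : w = bb 1 := by rw [hbb]; rfl
      constructor
      · rw [ev]; simp
      · rw [ew]; simp
    simp only [map_add, map_smul, cv.1, cv.2, cw.1, cw.2, e0.1, e0.2, smul_eq_mul, mul_zero, mul_one,
      add_zero, zero_add, and_true]
  -- coordinates of the elements of `P₀`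
  have hact : ∀ g ∈ P₀, g v = v ∧ g w = w + bb.coord 0 (g w - w) • v ∧
      g u = u + φw (g u - u) • w + bb.coord 0 (g u - u) • v := by
    intro g hg
    obtain ⟨h1, h2, h3'⟩ := hflag hg
    refine ⟨h1, ?_, ?_⟩
    · obtain ⟨a, ha⟩ := Submodule.mem_span_singleton.1 h2
      have ev : v = bb 0 := by rw [hbb]; rfl
      rw [← ha, map_smul, show bb.coord 0 v = 1 by rw [ev]; simp, smul_eq_mul, mul_one, ha]; abel
    · obtain ⟨e, -⟩ := hcoord _ (h3' u)
      rw [add_assoc, add_comm (φw (g u - u) • w), ← e]; abel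
  let A : (V ≃ₗ[k] V) → k := fun g => bb.coord 0 (g w - w)
  let C : (V ≃ₗ[k] V) → k := fun g => φw (g u - u)
  have hA : ∀ g ∈ P₀, ∀ g' ∈ P₀, A (g * g') = A g + A g' := by
    intro g hg g' hg'
    have e := (hact g' hg').2.1
    simp only [A]
    rw [LinearEquiv.mul_apply, e, map_add, map_smul, (hact g hg).1, ← e]
    rw [show g w + bb.coord 0 (g' w - w) • v - w = (g w - w) + bb.coord 0 (g' w - w) • v by abel,
      map_add, map_smul]
    have ev : v = bb 0 := by rw [hbb]; rfl
    rw [show bb.coord 0 v = 1 by rw [ev]; simp, smul_eq_mul, mul_one]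
  have hC : ∀ g ∈ P₀, ∀ g' ∈ P₀, C (g * g') = C g + C g' := by
    intro g hg g' hg'
    have e := (hact g' hg').2.2
    simp only [C]
    rw [LinearEquiv.mul_apply, e, map_add, map_add, map_smul, map_smul, (hact g hg).1,
      (hact g hg).2.1, (hact g hg).2.2]
    simp [cv, cw, cu]
  let π : P₀ →* Multiplicative (k × k) :=
    { toFun := fun g => Multiplicative.ofAdd (A g, C g)
      map_one' := by simp [A, C]
      map_mul' := fun g g' => by
        rw [Subgroup.coe_mul, hA _ g.2 _ g'.2, hC _ g.2 _ g'.2]; rfl }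
  have hMem : ∀ {g}, g ∈ P₀ → ∀ hg' : g ∈ H, (⟨g, hg'⟩ : ↥H) ∈ M := by
    rintro g ⟨g₀, hg₀, rfl⟩ hg'
    exact hPM hg₀
  -- the centre of the flag group
  obtain ⟨z, hz, hzA, hzC, hz1⟩ : ∃ z ∈ P₀, A z = 0 ∧ C z = 0 ∧ z ≠ 1 := by
    by_contra! hker
    have hinj : Function.Injective π := by
      rw [← MonoidHom.ker_eq_bot_iff, eq_bot_iff]
      intro g hg
      rw [MonoidHom.mem_ker] at hg
      have := congrArg Multiplicative.toAdd hg
      simp only [π, MonoidHom.coe_mk, OneHom.coe_mk, toAdd_ofAdd, toAdd_one, Prod.mk_eq_zero] at this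
      exact Subgroup.mem_bot.2 (Subtype.ext (hker g g.2 this.1 this.2))
    have hbij : Function.Bijective π := by
      rw [Nat.bijective_iff_injective_and_card]
      refine ⟨hinj, le_antisymm (Nat.card_le_card_of_injective π hinj) ?_⟩
      rw [Nat.card_congr Multiplicative.toAdd, Nat.card_prod, Nat.card_zmod, ← pow_two]
      exact hP₀card
    obtain ⟨g, hg⟩ := hbij.2 (Multiplicative.ofAdd (1, 0))
    obtain ⟨g', hg'⟩ := hbij.2 (Multiplicative.ofAdd (0, 1))
    have e1 := congrArg Multiplicative.toAdd hg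
    have e2 := congrArg Multiplicative.toAdd hg'
    simp only [π, MonoidHom.coe_mk, OneHom.coe_mk, toAdd_ofAdd, Prod.mk.injEq] at e1 e2
    have hcomm : g * g' = g' * g := hinj (by rw [map_mul, map_mul, mul_comm])
    have hval := LinearEquiv.congr_fun (congrArg Subtype.val hcomm) u
    simp only [Subgroup.coe_mul, LinearEquiv.mul_apply] at hval
    have a1 := hact _ g.2
    have a2 := hact _ g'.2
    simp only [A, C] at e1 e2
    rw [e1.1, e1.2] at a1
    rw [e2.1, e2.2] at a2
    generalize bb.coord 0 ((g : V ≃ₗ[k] V) u - u) = β₁ at a1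
    generalize bb.coord 0 ((g' : V ≃ₗ[k] V) u - u) = β₂ at a2
    rw [a1.2.2, a2.2.2] at hval
    simp only [map_add, map_smul, a1.1, a1.2.1, a2.1, a2.2.1, a1.2.2, a2.2.2, zero_smul, one_smul,
      add_zero, smul_add] at hval
    refine hv ?_
    have h5 := sub_eq_zero.2 hval
    refine Eq.trans ?_ h5
    abel
  have hOne : ∀ g ∈ P₀, A g = 0 → C g = 0 → bb.coord 0 (g u - u) = 0 → g = 1 := by
    intro g hg a c b
    simp only [A, C] at a c
    obtain ⟨x1, x2, x3⟩ := hact g hg
    rw [a, zero_smul, add_zero] at x2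
    rw [b, c, zero_smul, zero_smul, add_zero, add_zero] at x3
    exact hext g 1 x1 x2 x3
  obtain ⟨b₀, hb₀, hzeq⟩ : ∃ b₀ : k, b₀ ≠ 0 ∧ IsPair H (b₀ • v) φu ∧
      ∃ h : φu (b₀ • v) = 0, LinearEquiv.transvection h = z := by
    refine ⟨bb.coord 0 (z u - u), fun h => hz1 (hOne z hz hzA hzC h), ?_⟩
    obtain ⟨x1, x2, x3⟩ := hact z hz
    simp only [A, C] at hzA hzC
    rw [hzA, zero_smul, add_zero] at x2
    rw [hzC, zero_smul, add_zero] at x3
    have h0 : φu (bb.coord 0 (z u - u) • v) = 0 := by simp [cv]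
    have heq : LinearEquiv.transvection h0 = z := by
      refine hext _ _ ?_ ?_ ?_
      · simp [LinearMap.transvection.apply, x1, cv]
      · simp [LinearMap.transvection.apply, x2, cw]
      · refine Eq.trans ?_ x3.symm; simp [LinearMap.transvection.apply, cu]
    exact ⟨⟨smul_ne_zero (fun h => hz1 (hOne z hz hzA hzC h)) hv, hφu, h0, by rw [heq]; exact hP₀H hz⟩, h0, heq⟩
  obtain ⟨hzP, hz0, hzt⟩ := hzeq
  let S := groupSys H hp hOp
  have hvP : IsPair H v φu := by
    have := S.smulL hzP (inv_ne_zero hb₀)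
    rwa [smul_smul, inv_mul_cancel₀ hb₀, one_smul] at this
  have htvM : ∀ c : k, ∀ h : φu (c • v) = 0, LinearEquiv.transvection h ∈ P₀ := by
    intro c h
    have := pow_mem (by rw [hzt]; exact hz : LinearEquiv.transvection hz0 ∈ P₀) (c / b₀).val
    rw [tv_nsmul hz0] at this
    convert this using 1
    refine tv_ext _ _ fun x => ?_
    rw [ZMod.natCast_zmod_val, smul_smul _ b₀, div_mul_cancel₀ _ hb₀]
  -- every transvection lies in `M` once suitable root groups lie in `P₀`
  have finish : (∀ w' ψ', IsPair H w' ψ' → ∃ y ψ, ∃ hy : IsPair H y ψ,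
      (ψ w' = 0 ∨ ψ' y = 0) ∧ LinearEquiv.transvection hy.2.2.1 ∈ P₀) → False := by
    intro hroot
    have hallM : ∀ w' ψ', ∀ hw : IsPair H w' ψ',
        (⟨LinearEquiv.transvection hw.2.2.1, hw.2.2.2⟩ : ↥H) ∈ M := by
      intro w' ψ' hw
      obtain ⟨y, ψ, hy, hcase, hyP⟩ := hroot w' ψ' hw
      have hne : (⟨LinearEquiv.transvection hy.2.2.1, hy.2.2.2⟩ : ↥H) ≠ 1 :=
        fun h => tv_ne_one hy (congrArg Subtype.val h)
      rcases hcase with h0 | h0
      · obtain ⟨K, hK, k1, k2⟩ := exists_common_pgroup h3 hp hy hw h0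
        exact le_of_meets hM hK (k1 hy.2.2.2) (hMem hyP _) hne (k2 _)
      · obtain ⟨K, hK, k1, k2⟩ := exists_common_pgroup h3 hp hw hy h0
        exact le_of_meets hM hK (k2 hy.2.2.2) (hMem hyP _) hne (k1 _)
    refine hM.2.1 (eq_top_iff.2 fun g _ => ?_)
    obtain ⟨gv, hg⟩ := g
    have hc := tv_conj_eq gv⁻¹ hvP.2.2.1
    rw [inv_inv] at hc
    have hconjP : IsPair H ((gv⁻¹ : V ≃ₗ[k] V) v) (φu ∘ₗ ((gv⁻¹ : V ≃ₗ[k] V).symm : V →ₗ[k] V)) := by
      refine ⟨by simpa using hv, fun h0 => hφu (LinearMap.ext fun x => ?_),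
        (by show φu (gv (gv.symm v)) = 0; simp [cv]), ?_⟩
      · have e : φu (gv (gv.symm x)) = 0 := LinearMap.congr_fun h0 ((gv⁻¹ : V ≃ₗ[k] V) x)
        simpa using e
      · rw [← hc]; exact mul_mem (mul_mem (inv_mem hg) hvP.2.2.2) hg
    set s : ↥H := ⟨LinearEquiv.transvection hvP.2.2.1, hvP.2.2.2⟩ with hs
    have hs1 : s ≠ 1 := fun h => tv_ne_one hvP (congrArg Subtype.val h)
    have hsp : IsPGroup p (Subgroup.zpowers s) := by
      refine IsPGroup.of_card (n := 1) ?_
      rw [Nat.card_zpowers, pow_one]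
      refine orderOf_eq_prime (Subtype.ext ?_) hs1
      rw [SubmonoidClass.coe_pow]
      show LinearEquiv.transvection hvP.2.2.1 ^ p = 1
      rw [tv_nsmul]
      refine LinearEquiv.ext fun x => ?_
      simp [LinearMap.transvection.apply]
    refine H87.stronglyPEmbedded_mem_of_conj hM (g := ⟨gv, hg⟩) hs1 hsp (hallM v φu hvP) ?_
    convert hallM _ _ hconjP using 1
    exact Subtype.ext hc
  by_cases hAC : ∃ g ∈ P₀, A g = 0 ∧ C g ≠ 0
  · obtain ⟨g, hg, hgA, hgC⟩ := hAC
    refine finish fun w' ψ' hw' => ?_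
    -- all transvections with axis `B` lie in `P₀`
    obtain ⟨y, hyB, hy0, hψy⟩ : ∃ y ∈ B, y ≠ 0 ∧ ψ' y = 0 := by
      by_cases hwz : ψ' v = 0
      · exact ⟨v, Submodule.subset_span (by simp), hv, hwz⟩
      · refine ⟨w - (ψ' w / ψ' v) • v, sub_mem (Submodule.subset_span (by simp))
          (Submodule.smul_mem _ _ (Submodule.subset_span (by simp))), fun h => hw ?_ , ?_⟩
        · exact absurd (Submodule.mem_span_singleton.2 ⟨_, (sub_eq_zero.1 h).symm⟩) hw
        · simp [div_mul_cancel₀ _ hwz]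
    obtain ⟨ey, eu⟩ := hcoord y hyB
    obtain ⟨x1, x2, x3⟩ := hact g hg
    simp only [A] at hgA
    rw [hgA, zero_smul, add_zero] at x2
    set c := φw y / C g with hc
    set d := bb.coord 0 y - c * bb.coord 0 (g u - u) with hd
    have h0 : φu (d • v) = 0 := by simp [cv]
    have hmem : g ^ c.val * LinearEquiv.transvection h0 ∈ P₀ :=
      mul_mem (pow_mem hg _) (htvM d h0)
    have hgt : ∀ x, g x = x + φu x • (C g • w + bb.coord 0 (g u - u) • v) := by
      have h1 : φu (C g • w + bb.coord 0 (g u - u) • v) = 0 := by simp [cw, cv]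
      intro x
      have e : g = LinearEquiv.transvection h1 := by
        refine hext _ _ ?_ ?_ ?_
        · simp [LinearMap.transvection.apply, x1, cv]
        · simp [LinearMap.transvection.apply, x2, cw]
        · refine x3.trans ?_; simp [LinearMap.transvection.apply, cu, C]; abel
      conv_lhs => rw [e]
      simp [LinearMap.transvection.apply]
    have hpw : ∀ i : ℕ, ∀ x, (g ^ i) x =
        x + φu x • ((i : k) • (C g • w + bb.coord 0 (g u - u) • v)) := by
      intro i
      induction i with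
      | zero => intro x; simp
      | succ i ih =>
        intro x
        rw [pow_succ', LinearEquiv.mul_apply, ih, hgt]
        simp only [map_add, map_smul, cw, cv, smul_eq_mul, mul_zero, zero_add, add_zero,
          Nat.cast_succ]
        module
    have hyy : y = c • (C g • w + bb.coord 0 (g u - u) • v) + d • v := by
      conv_lhs => rw [ey]
      rw [hd, hc, smul_add, smul_smul, smul_smul, div_mul_cancel₀ _ hgC]
      module
    have heq : g ^ c.val * LinearEquiv.transvection h0 = LinearEquiv.transvection eu := by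
      refine LinearEquiv.ext fun x => ?_
      rw [LinearEquiv.mul_apply, hpw, ZMod.natCast_zmod_val]
      simp only [LinearEquiv.transvection.apply, map_add, map_smul, cv, smul_eq_mul, mul_zero,
        add_zero]
      conv_rhs => rw [hyy]
      module
    rw [heq] at hmem
    exact ⟨y, φu, ⟨hy0, hφu, eu, hP₀H hmem⟩, Or.inr hψy, hmem⟩
  by_cases hCA : ∃ g ∈ P₀, C g = 0 ∧ A g ≠ 0
  · obtain ⟨g, hg, hgC, hgA⟩ := hCA
    refine finish fun w' ψ' hw' => ?_
    -- all transvections with centre `v` lie in `P₀`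
    obtain ⟨ψ, hψ0, hψv, hψw'⟩ : ∃ ψ : Module.Dual k V, ψ ≠ 0 ∧ ψ v = 0 ∧ ψ w' = 0 := by
      by_cases hwz : φu w' = 0
      · exact ⟨φu, hφu, cv.2, hwz⟩
      · refine ⟨φw - (φw w' / φu w') • φu, fun h => one_ne_zero (α := k) ?_, by simp [cv], ?_⟩
        · simpa [cw] using LinearMap.congr_fun h w
        · simp [div_mul_cancel₀ _ hwz]
    have hψe : ψ = ψ w • φw + ψ u • φu := bb.ext fun i => by
      rw [hbb]; fin_cases i <;> simp [hψv, cv, cw, cu]
    obtain ⟨x1, x2, x3⟩ := hact g hg
    simp only [C] at hgC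
    rw [hgC, zero_smul, add_zero] at x3
    have hpw : ∀ i : ℕ, ∀ x, (g ^ i) x =
        x + ((i : k) * (A g * φw x + bb.coord 0 (g u - u) * φu x)) • v := by
      have h1 : (A g • φw + bb.coord 0 (g u - u) • φu) v = 0 := by simp [cv]
      have e : g = LinearEquiv.transvection h1 := by
        refine hext _ _ ?_ ?_ ?_
        · simp [LinearMap.transvection.apply, x1, cv]
        · refine x2.trans ?_; simp [LinearMap.transvection.apply, cw, A]
        · refine x3.trans ?_; simp [LinearMap.transvection.apply, cu]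
      have hgt : ∀ x, g x = x + (A g * φw x + bb.coord 0 (g u - u) * φu x) • v := fun x => by
        conv_lhs => rw [e]
        simp [LinearMap.transvection.apply]
      intro i
      induction i with
      | zero => intro x; simp
      | succ i ih =>
        intro x
        rw [pow_succ', LinearEquiv.mul_apply, ih, hgt]
        simp only [map_add, map_smul, cv, smul_eq_mul, mul_zero, add_zero, Nat.cast_succ]
        module
    set c := ψ w / A g with hc
    set d := ψ u - c * bb.coord 0 (g u - u) with hd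
    have h0 : φu (d • v) = 0 := by simp [cv]
    have hmem : g ^ c.val * LinearEquiv.transvection h0 ∈ P₀ :=
      mul_mem (pow_mem hg _) (htvM d h0)
    have heq : g ^ c.val * LinearEquiv.transvection h0 = LinearEquiv.transvection hψv := by
      refine LinearEquiv.ext fun x => ?_
      rw [LinearEquiv.mul_apply, hpw, ZMod.natCast_zmod_val]
      simp only [LinearEquiv.transvection.apply, map_add, map_smul, cv, smul_eq_mul, mul_zero,
        add_zero]
      have hx : ψ x = c * A g * φw x + (c * bb.coord 0 (g u - u) + d) * φu x := by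
        conv_lhs => rw [hψe]
        simp only [LinearMap.add_apply, LinearMap.smul_apply, smul_eq_mul, hd, hc,
          div_mul_cancel₀ _ hgA]
        ring
      rw [hx]
      module
    rw [heq] at hmem
    exact ⟨v, ψ, ⟨hv, hψ0, hψv, hP₀H hmem⟩, Or.inl hψw', hmem⟩
  -- a single transvection group
  push Not at hAC hCA
  have honly : ∀ y ψ, ∀ h : ψ y = 0, y ≠ 0 → ψ ≠ 0 → LinearEquiv.transvection h ∈ P₀ →
      y ∈ Submodule.span k {v} ∧ ψ ∈ Submodule.span k {φu} := by
    intro y ψ h hy0 hψ0 hmem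
    obtain ⟨x1, x2, x3⟩ := hact _ hmem
    simp only [LinearEquiv.transvection.apply, add_sub_cancel_left] at x1 x2 x3
    rw [add_eq_left, smul_eq_zero] at x1
    have hψv : ψ v = 0 := x1.resolve_right hy0
    rw [add_right_inj] at x2
    have hC0 : C (LinearEquiv.transvection h) = 0 ↔ A (LinearEquiv.transvection h) = 0 :=
      ⟨hCA _ hmem, hAC _ hmem⟩
    by_cases hA0 : A (LinearEquiv.transvection h) = 0
    · have hC := hC0.2 hA0
      simp only [A, C, LinearEquiv.transvection.apply, add_sub_cancel_left] at hA0 hC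
      rw [hC, zero_smul, add_zero, add_right_inj] at x3
      rw [hA0, zero_smul] at x2
      have hψw : ψ w = 0 := (smul_eq_zero.1 x2).resolve_right hy0
      have hψu : ψ u ≠ 0 := fun h' => hψ0 (bb.ext fun i => by
        rw [hbb]; fin_cases i <;> simp [hψv, hψw, h'])
      refine ⟨?_, Submodule.mem_span_singleton.2 ⟨ψ u, bb.ext fun i => by
        rw [hbb]; fin_cases i <;> simp [hψv, hψw, cv, cw, cu]⟩⟩
      have e : y = (ψ u)⁻¹ • (bb.coord 0 (ψ u • y) • v) := by
        rw [← x3, smul_smul, inv_mul_cancel₀ hψu, one_smul]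
      rw [e]
      exact Submodule.smul_mem _ _ (Submodule.smul_mem _ _ (Submodule.mem_span_singleton_self v))
    · simp only [A, C, LinearEquiv.transvection.apply, add_sub_cancel_left] at hA0 hC0
      have hψw : ψ w ≠ 0 := fun h' => hA0 (by simp [h'])
      have e : y = (ψ w)⁻¹ • (bb.coord 0 (ψ w • y) • v) := by
        rw [← x2, smul_smul, inv_mul_cancel₀ hψw, one_smul]
      refine absurd (hC0.1 ?_) hA0
      rw [e]; simp [cv]
  have hU : Uniq H := by
    intro y y' ψ ψ' hy hy' h0
    obtain ⟨K, hK, k1, k2⟩ := exists_common_pgroup h3 hp hy hy' h0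
    obtain ⟨Q, hQ⟩ := hK.exists_le_sylow
    obtain ⟨g, hg⟩ := MulAction.exists_smul_eq ↥H Q P
    have hin : ∀ a b, ∀ hab : IsPair H a b, (⟨_, hab.2.2.2⟩ : ↥H) ∈ K →
        (g : V ≃ₗ[k] V) a ∈ Submodule.span k {v} ∧
          b ∘ₗ ((g : V ≃ₗ[k] V).symm : V →ₗ[k] V) ∈ Submodule.span k {φu} := by
      intro a b hab hK'
      obtain ⟨ha, hb, h, hm⟩ := hab
      refine honly _ _ (by simpa using h : (b ∘ₗ ((g : V ≃ₗ[k] V).symm : V →ₗ[k] V))
        ((g : V ≃ₗ[k] V) a) = 0) (by simpa using ha) (fun h' => hb (LinearMap.ext fun x => by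
        simpa using LinearMap.congr_fun h' ((g : V ≃ₗ[k] V) x))) ?_
      rw [← tv_conj_eq]
      refine ⟨g * (⟨LinearEquiv.transvection h, hm⟩ : ↥H) * g⁻¹, ?_, rfl⟩
      rw [← hg, Sylow.coe_subgroup_smul, SetLike.mem_coe, Subgroup.mem_pointwise_smul_iff_inv_smul_mem]
      have := hQ hK'
      simpa [MulAut.smul_def, mul_assoc] using this
      all_goals exact h
    obtain ⟨a1, b1⟩ := hin _ _ hy (k1 _)
    obtain ⟨a2, b2⟩ := hin _ _ hy' (k2 _)
    obtain ⟨c1, hc1⟩ := Submodule.mem_span_singleton.1 a1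
    obtain ⟨c2, hc2⟩ := Submodule.mem_span_singleton.1 a2
    obtain ⟨d1, hd1⟩ := Submodule.mem_span_singleton.1 b1
    obtain ⟨d2, hd2⟩ := Submodule.mem_span_singleton.1 b2
    have hc10 : c1 ≠ 0 := fun h' => hy.1 ((LinearEquiv.map_eq_zero_iff _).1 (by
      rw [← hc1, h', zero_smul]))
    have hd10 : d1 ≠ 0 := fun h' => hy.2.1 (LinearMap.ext fun x => by
      have := LinearMap.congr_fun hd1 ((g : V ≃ₗ[k] V) x)
      simpa [h'] using this.symm)
    refine ⟨Submodule.mem_span_singleton.2 ⟨c2 / c1, (g : V ≃ₗ[k] V).injective ?_⟩,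
      Submodule.mem_span_singleton.2 ⟨d2 / d1, LinearMap.ext fun x => ?_⟩⟩
    · rw [map_smul, ← hc1, ← hc2, smul_smul, div_mul_cancel₀ _ hc10]
    · have e1 := LinearMap.congr_fun hd1 ((g : V ≃ₗ[k] V) x)
      have e2 := LinearMap.congr_fun hd2 ((g : V ≃ₗ[k] V) x)
      simp only [LinearMap.smul_apply, smul_eq_mul, LinearMap.comp_apply, LinearEquiv.coe_coe,
        LinearEquiv.symm_apply_apply] at e1 e2 ⊢
      rw [← e1, ← e2, ← mul_assoc, div_mul_cancel₀ _ hd10]
  have := card_le_of_uniq h3 hp hOp hU hP₀p hP₀H hvP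
    (by have := htvM 1 (by simp [cv]); simpa using this)
    (fun g hg => ⟨1, by rw [one_smul]; exact (hact g hg).1⟩)
  have := (Fact.out : p.Prime).one_lt
  nlinarith [hP₀card]

end Group

end H72.RankThree
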