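/-
Torus and irreducibility in three-dimensional linear groups over a prime field with Sylow
p-subgroup of order p and no normal p-subgroup.
-/
import Cfsg.Agent.H72.RankThreeLinear

set_option autoImplicit false

namespace H72.RankThree

open H99.Transv

variable {p : ℕ} [Fact p.Prime] {V : Type*} [AddCommGroup V] [Module (ZMod p) V] [Finite V]
  {H : Subgroup (V ≃ₗ[ZMod p] V)}

local notation "k" => ZMod p

omit [Finite V] in
lemma two_ne_zero' (hp : Odd p) : (2 : k) ≠ 0 := by
  intro h0
  have h := (ZMod.natCast_eq_zero_iff 2 p).1 (by exact_mod_cast h0)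
  have h2 := Nat.le_of_dvd (by norm_num) h
  have h3 := (Fact.out : p.Prime).two_le
  rcases hp with ⟨m, hm⟩
  omega

/-- With Sylow subgroups of order `p`, non-opposite transvections coincide up to scalars. -/
lemma uniq_of_card (h3 : Module.finrank k V = 3) (hp : Odd p)
    (hc : ∀ T : Subgroup (V ≃ₗ[k] V), IsPGroup p T → T ≤ H → Nat.card T ≤ p) : Uniq H := by
  intro v v' φ φ' hP hP' h0
  obtain ⟨K, hK, k1, k2⟩ := exists_common_pgroup h3 hp hP hP' h0
  set t := LinearEquiv.transvection hP.2.2.1 with ht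
  set t' := LinearEquiv.transvection hP'.2.2.1 with ht'
  set T := K.map H.subtype with hT
  have hTp : IsPGroup p T := hK.map _
  have m1 : t ∈ T := ⟨⟨t, hP.2.2.2⟩, k1 _, rfl⟩
  have m2 : t' ∈ T := ⟨⟨t', hP'.2.2.2⟩, k2 _, rfl⟩
  have hle : Subgroup.zpowers t ≤ T := (Subgroup.zpowers_le).2 m1
  have hord : orderOf t = p := by
    refine orderOf_eq_prime ?_ (tv_ne_one hP)
    rw [ht, tv_nsmul]
    exact LinearEquiv.ext fun x => by simp [LinearMap.transvection.apply]
  have heq : Subgroup.zpowers t = T := Subgroup.eq_of_le_of_card_ge hle (by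
    rw [Nat.card_zpowers, hord]; exact hc T hTp (Subgroup.map_subtype_le _))
  obtain ⟨n, hn⟩ := (Submonoid.mem_powers_iff t' t).1
    (mem_powers_iff_mem_zpowers.2 (heq ▸ m2))
  rw [ht, tv_nsmul hP.2.2.1, ht'] at hn
  have he : ∀ x, φ x • ((n : k) • v) = φ' x • v' := fun x => by
    simpa [LinearMap.transvection.apply] using LinearEquiv.congr_fun hn x
  obtain ⟨x₀, hx₀⟩ : ∃ x, φ' x ≠ 0 := by
    by_contra! h; exact hP'.2.1 (LinearMap.ext h)
  have hv' : v' = ((φ' x₀)⁻¹ * φ x₀ * (n : k)) • v := by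
    rw [mul_assoc, ← smul_smul, ← smul_smul, he x₀, smul_smul, inv_mul_cancel₀ hx₀, one_smul]
  set c := (φ' x₀)⁻¹ * φ x₀ * (n : k) with hcd
  have hc0 : c ≠ 0 := fun h => hP'.1 (by rw [hv', h, zero_smul])
  refine ⟨Submodule.mem_span_singleton.2 ⟨c, hv'.symm⟩,
    Submodule.mem_span_singleton.2 ⟨(n : k) / c, LinearMap.ext fun x => ?_⟩⟩
  have e := he x
  rw [hv', smul_smul, smul_smul] at e
  have e' := smul_left_injective k hP.1 e
  rw [LinearMap.smul_apply, smul_eq_mul]
  field_simp
  linear_combination e'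

/-- A nontrivial element of `p`-power order with `(x - 1) ^ 2 = 0` is a transvection. -/
lemma exists_pair_of_sq (h3 : Module.finrank k V = 3) {x : V ≃ₗ[k] V} (hx : x ∈ H)
    (hord : orderOf x = p) (hsq : ∀ y, x (x y - y) = x y - y) :
    ∃ v φ, ∃ h : φ v = 0, IsPair H v φ ∧ x = LinearEquiv.transvection h := by
  set N : V →ₗ[k] V := (x : V →ₗ[k] V) - LinearMap.id with hN
  have hrk : LinearMap.range N ≤ LinearMap.ker N := by
    rintro _ ⟨y, rfl⟩
    rw [LinearMap.mem_ker]
    simp only [hN, LinearMap.sub_apply, LinearEquiv.coe_coe, LinearMap.id_apply]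
    rw [sub_eq_zero, hsq]
  have hne : LinearMap.range N ≠ ⊥ := by
    rw [Ne, LinearMap.range_eq_bot]
    intro h0
    have : x = 1 := LinearEquiv.ext fun y => sub_eq_zero.1 (LinearMap.congr_fun h0 y)
    rw [this, orderOf_one] at hord
    exact (Fact.out : p.Prime).ne_one hord.symm
  have h1 := LinearMap.finrank_range_add_finrank_ker N
  have h2 := Submodule.finrank_mono hrk
  have h4 : Module.finrank k ↥(LinearMap.range N) ≠ 0 := fun h => hne (Submodule.finrank_eq_zero.1 h)
  have h5 : Module.finrank k ↥(LinearMap.ker N) + 1 = Module.finrank k V := by omega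
  exact exists_pair_of_mem H hx hord h5

/-- The torus of the copy of `SL(2, p)` generated by transvections. -/
theorem exists_torus (h3 : Module.finrank k V = 3) (hp : Odd p) (hOp : Cfsg.pCore p ↥H = ⊥)
    (hU : Uniq H) {v : V} {φ : Module.Dual k V} (hP : IsPair H v φ) (lam : k) (hlam : lam ≠ 0) :
    ∃ e z w : V, ∃ τ ∈ H, ∃ h ∈ H,
      LinearIndependent k ![e, z, w] ∧
      LinearEquiv.transvection hP.2.2.1 e = e + z ∧ LinearEquiv.transvection hP.2.2.1 z = z ∧
      LinearEquiv.transvection hP.2.2.1 w = w ∧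
      τ e = lam • e ∧ τ z = lam⁻¹ • z ∧ τ w = w ∧ h z = -e := by
  obtain ⟨y, η, q, hy, h1, h2, hq0, hq1, hq2, -⟩ := split_of_uniq h3 hp hOp hU hP
  let S := groupSys H hp hOp
  obtain ⟨hv, hφ, hφv, -⟩ := id hP
  obtain ⟨hy0, hη, hηy, -⟩ := id hy
  have hu : ∀ c : k, ∀ h : φ (c • v) = 0, LinearEquiv.transvection h ∈ H := fun c h => by
    by_cases hc : c = 0
    · subst hc
      convert one_mem H
      exact LinearEquiv.ext fun x => by simp [LinearMap.transvection.apply]
    · exact (S.smulL hP hc).2.2.2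
  have hl : ∀ c : k, ∀ h : η (c • y) = 0, LinearEquiv.transvection h ∈ H := fun c h => by
    by_cases hc : c = 0
    · subst hc
      convert one_mem H
      exact LinearEquiv.ext fun x => by simp [LinearMap.transvection.apply]
    · exact (S.smulL hy hc).2.2.2
  have e1 : ∀ c : k, φ (c • v) = 0 := fun c => by simp [hφv]
  have e2 : ∀ c : k, η (c • y) = 0 := fun c => by simp [hηy]
  let W : k → (V ≃ₗ[k] V) := fun a => LinearEquiv.transvection (e1 a) *
    LinearEquiv.transvection (e2 (-a⁻¹)) * LinearEquiv.transvection (e1 a)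
  have hWH : ∀ a, W a ∈ H := fun a => mul_mem (mul_mem (hu _ _) (hl _ _)) (hu _ _)
  have hW : ∀ a : k, a ≠ 0 → W a y = a • v ∧ W a v = -(a⁻¹ • y) ∧ W a q = q := by
    intro a ha
    refine ⟨?_, ?_, ?_⟩ <;>
      simp only [W, LinearEquiv.mul_apply, LinearEquiv.transvection.apply, map_add, map_smul, h1,
        h2, hφv, hηy, hq1, hq2, one_smul, zero_smul, add_zero, smul_eq_mul, mul_one, mul_zero,
        zero_add, mul_inv_cancel₀ ha, neg_smul, map_neg, neg_zero, smul_zero] <;>
      simp [h1, h2, hφv, hηy, smul_smul, mul_inv_cancel₀ ha, inv_mul_cancel₀ ha] <;> abel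
  refine ⟨y, v, q, W lam⁻¹ * W (-1), mul_mem (hWH _) (hWH _), W 1, hWH _, ?_, ?_, ?_, ?_, ?_, ?_,
    ?_, ?_⟩
  · rw [Fintype.linearIndependent_iff]
    intro c hc
    simp [Fin.sum_univ_three] at hc
    have a0 : c 0 = 0 := by simpa [h1, hφv, hq1] using congrArg φ hc
    have a1 : c 1 = 0 := by simpa [h2, hηy, hq2] using congrArg η hc
    have a2 : c 2 = 0 := by
      rw [a0, a1, zero_smul, zero_smul, zero_add, zero_add] at hc
      exact (smul_eq_zero.1 hc).resolve_right hq0
    intro i; fin_cases i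
    exacts [a0, a1, a2]
  · simp [LinearMap.transvection.apply, h1]
  · simp [LinearMap.transvection.apply, hφv]
  · simp [LinearMap.transvection.apply, hq1]
  · rw [LinearEquiv.mul_apply, (hW _ (neg_ne_zero.2 one_ne_zero)).1, map_smul,
      (hW _ (inv_ne_zero hlam)).2.1]
    simp
  · rw [LinearEquiv.mul_apply, (hW _ (neg_ne_zero.2 one_ne_zero)).2.1, map_neg, map_smul,
      (hW _ (inv_ne_zero hlam)).1]
    simp
  · rw [LinearEquiv.mul_apply, (hW _ (neg_ne_zero.2 one_ne_zero)).2.2,
      (hW _ (inv_ne_zero hlam)).2.2]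
  · rw [(hW _ one_ne_zero).2.1]; simp

omit [Finite V] in
/-- Two opposite unipotent elements on a plane produce `-1`. -/
lemma word_neg (Z : Submodule k V) {x x' : V ≃ₗ[k] V} (hxZ : ∀ y ∈ Z, x y ∈ Z)
    (hx'Z : ∀ y ∈ Z, x' y ∈ Z) {a b : V} (h1 : x b - b - a ∈ Z) (h2 : x a - a ∈ Z)
    (h3 : x' b - b ∈ Z) (h4 : x' a - a + b ∈ Z) :
    ((x * x' * x) * (x * x' * x)) a + a ∈ Z ∧ ((x * x' * x) * (x * x' * x)) b + b ∈ Z := by
  have hw : ∀ y ∈ Z, (x * x' * x) y ∈ Z := fun y hy => hxZ _ (hx'Z _ (hxZ _ hy))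
  have ha : (x * x' * x) a + b ∈ Z := by
    simp only [LinearEquiv.mul_apply]
    have e : x (x' (x a)) + b = x (x' (x a - a)) + x (x' a - a + b) + (x a - a) - (x b - b - a) - a +
        a := by
      simp only [map_sub, map_add]; abel
    rw [e]
    simpa using sub_mem (add_mem (add_mem (hxZ _ (hx'Z _ h2)) (hxZ _ h4)) h2) h1
  have hb : (x * x' * x) b - a ∈ Z := by
    simp only [LinearEquiv.mul_apply]
    have e : x (x' (x b)) - a = x (x' (x b - b - a)) + x (x' b - b) + x (x' a - a + b) + (x a - a) := by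
      simp only [map_sub, map_add]; abel
    rw [e]
    exact add_mem (add_mem (add_mem (hxZ _ (hx'Z _ h1)) (hxZ _ h3)) (hxZ _ h4)) h2
  set d := x * x' * x
  constructor
  · rw [LinearEquiv.mul_apply, show d (d a) + a = d (d a + b) - (d b - a) by rw [map_add]; abel]
    exact sub_mem (hw _ ha) hb
  · rw [LinearEquiv.mul_apply, show d (d b) + b = d (d b - a) + (d a + b) by rw [map_sub]; abel]
    exact add_mem (hw _ hb) ha

lemma eq_bot_of_normal (hOp : Cfsg.pCore p ↥H = ⊥) {K : Subgroup (V ≃ₗ[k] V)} (hK : IsPGroup p K)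
    (hn : ∀ g ∈ H, ∀ f ∈ K, f ∈ H → g * f * g⁻¹ ∈ K) {f : V ≃ₗ[k] V} (hf : f ∈ K) (hfH : f ∈ H) :
    f = 1 := by
  haveI : (K.subgroupOf H).Normal := ⟨fun f hf g => hn g g.2 f hf f.2⟩
  have hp : IsPGroup p (K.subgroupOf H) := hK.comap_of_injective H.subtype H.subtype_injective
  have : (⟨f, hfH⟩ : ↥H) ∈ Cfsg.pCore p ↥H := H1.le_pCore hp hf
  rw [hOp, Subgroup.mem_bot] at this
  exact congrArg Subtype.val this

/-- A regular unipotent element leaves no proper invariant subspace. -/
theorem no_invariant (h3 : Module.finrank k V = 3) (hp : Odd p) (hOp : Cfsg.pCore p ↥H = ⊥)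
    {x : V ≃ₗ[k] V} (hx : x ∈ H) (hxp : IsPGroup p (Subgroup.zpowers x))
    (hnsq : ∃ y, x (x y - y) ≠ x y - y) (U : Submodule k V) (hU : ∀ g ∈ H, ∀ y ∈ U, g y ∈ U)
    (hU0 : U ≠ ⊥) : U = ⊤ := by
  classical
  set N : V →ₗ[k] V := (x : V →ₗ[k] V) - LinearMap.id with hN
  have hxN : ∀ y, x y = y + N y := fun y => by simp [hN]
  have hN3 : ∀ y, N (N (N y)) = 0 := by
    obtain ⟨v₀, w₀, -, -, hflag⟩ := exists_flag h3 hxp
    obtain ⟨f1, f2, f3⟩ := hflag (Subgroup.mem_zpowers x)
    have g1 : N v₀ = 0 := by simp [hN, f1]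
    intro y
    obtain ⟨a, b, hab⟩ := Submodule.mem_span_pair.1 (f3 y)
    obtain ⟨c, hc⟩ := Submodule.mem_span_singleton.1 f2
    rw [show N y = a • v₀ + b • w₀ by simp [hN, hab], map_add, map_smul, map_smul, g1, smul_zero,
      zero_add, show N w₀ = c • v₀ by simp [hN, hc], map_smul, map_smul, g1, smul_zero, smul_zero]
  obtain ⟨u, hu⟩ := hnsq
  have hNN : N (N u) ≠ 0 := fun h => hu (by
    rw [show x u - u = N u by simp [hN], hxN, h, add_zero])
  set w := N u with hw
  set v := N w with hv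
  have hNv : N v = 0 := hN3 u
  have hcoef : ∀ a b c : k, a • u + b • w + c • v = 0 → a = 0 ∧ b = 0 ∧ c = 0 := by
    intro a b c h
    have h1 : a • v = 0 := by
      have := congrArg (N ∘ₗ N) h
      simpa [map_add, map_smul, ← hw, ← hv, hNv] using this
    have ha : a = 0 := (smul_eq_zero.1 h1).resolve_right hNN
    rw [ha, zero_smul, zero_add] at h
    have h2 : b • v = 0 := by
      have := congrArg N h
      simpa [map_add, map_smul, ← hv, hNv] using this
    have hb : b = 0 := (smul_eq_zero.1 h2).resolve_right hNN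
    rw [hb, zero_smul, zero_add] at h
    exact ⟨ha, hb, (smul_eq_zero.1 h).resolve_right hNN⟩
  have hLI : LinearIndependent k ![u, w, v] := by
    rw [Fintype.linearIndependent_iff]
    intro c hc
    simp [Fin.sum_univ_three] at hc
    obtain ⟨a, b, d⟩ := hcoef _ _ _ hc
    intro i; fin_cases i
    exacts [a, b, d]
  have hspan : ∀ y : V, ∃ a b c : k, y = a • u + b • w + c • v := by
    intro y
    let bb := basisOfLinearIndependentOfCardEqFinrank hLI (by simp [h3])
    have hbb : ⇑bb = ![u, w, v] := coe_basisOfLinearIndependentOfCardEqFinrank _ _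
    refine ⟨bb.repr y 0, bb.repr y 1, bb.repr y 2, ?_⟩
    conv_lhs => rw [← bb.sum_repr y, Fin.sum_univ_three, hbb]
    rfl
  have hfix : ∀ y, N y = 0 → ∃ c : k, y = c • v := by
    intro y hy
    obtain ⟨a, b, c, rfl⟩ := hspan y
    simp only [map_add, map_smul, ← hw, ← hv, hNv, smul_zero, add_zero] at hy
    obtain ⟨-, ha, hb⟩ := hcoef 0 a b (by rw [zero_smul, zero_add]; exact hy)
    exact ⟨c, by rw [ha, hb, zero_smul, zero_smul, zero_add, zero_add]⟩
  by_contra hne
  have hNU : ∀ y ∈ U, N y ∈ U := fun y hy => by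
    rw [show N y = x y - y by simp [hN]]; exact sub_mem (hU x hx y hy) hy
  have hvU : v ∈ U := by
    obtain ⟨y, hy, hy0⟩ := (Submodule.ne_bot_iff _).1 hU0
    obtain ⟨a, b, c, rfl⟩ := hspan y
    have key : ∀ y' ∈ U, N y' = 0 → y' ≠ 0 → v ∈ U := by
      intro y' hy' h hne'
      obtain ⟨d, rfl⟩ := hfix y' h
      have hd : d ≠ 0 := fun h0 => hne' (by rw [h0, zero_smul])
      simpa [smul_smul, inv_mul_cancel₀ hd] using U.smul_mem d⁻¹ hy'
    by_cases h1 : N (a • u + b • w + c • v) = 0
    · exact key _ hy h1 hy0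
    · by_cases h2 : N (N (a • u + b • w + c • v)) = 0
      · exact key _ (hNU _ hy) h2 h1
      · exact key _ (hNU _ (hNU _ hy)) (hN3 _) h2
  have hUB : ∀ y ∈ U, ∃ b c : k, y = b • w + c • v := by
    intro y hy
    obtain ⟨a, b, c, rfl⟩ := hspan y
    by_cases ha : a = 0
    · exact ⟨b, c, by rw [ha, zero_smul, zero_add]⟩
    exfalso
    have e1 := U.smul_mem a⁻¹ hy
    simp only [smul_add, smul_smul, inv_mul_cancel₀ ha, one_smul] at e1
    have e2 : w + (a⁻¹ * b) • v ∈ U := by
      have := hNU _ e1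
      simpa [map_add, map_smul, ← hw, ← hv, hNv] using this
    have hwU : w ∈ U := by
      simpa using sub_mem e2 (U.smul_mem (a⁻¹ * b) hvU)
    have huU : u ∈ U := by
      simpa using sub_mem (sub_mem e1 (U.smul_mem (a⁻¹ * c) hvU)) (U.smul_mem (a⁻¹ * b) hwU)
    refine hne (eq_top_iff.2 fun y' _ => ?_)
    obtain ⟨a', b', c', rfl⟩ := hspan y'
    exact add_mem (add_mem (U.smul_mem _ huU) (U.smul_mem _ hwU)) (U.smul_mem _ hvU)
  set L := Submodule.span k {v} with hL
  set B := Submodule.span k {v, w} with hB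
  have hvL : v ∈ L := Submodule.mem_span_singleton_self v
  have hLB : L ≤ B := Submodule.span_mono (by simp)
  have hwB : w ∈ B := Submodule.subset_span (by simp)
  have hcases : U = L ∨ U = B := by
    by_cases h : ∀ y ∈ U, y ∈ L
    · exact Or.inl (le_antisymm h ((Submodule.span_singleton_le_iff_mem _ _).2 hvU))
    · push Not at h
      obtain ⟨y, hy, hyL⟩ := h
      obtain ⟨b, c, rfl⟩ := hUB y hy
      have hb : b ≠ 0 := fun h0 => hyL (by
        rw [h0, zero_smul, zero_add]; exact L.smul_mem c hvL)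
      have hwU : w ∈ U := by
        have := U.smul_mem b⁻¹ (sub_mem hy (U.smul_mem c hvU))
        simpa [smul_smul, inv_mul_cancel₀ hb] using this
      refine Or.inr (le_antisymm (fun y' hy' => ?_) (Submodule.span_le.2 ?_))
      · obtain ⟨b', c', rfl⟩ := hUB y' hy'
        exact add_mem (B.smul_mem _ hwB) (B.smul_mem _ (hLB hvL))
      · rintro y' (rfl | rfl) <;> assumption
  have hNV : ∀ y, N y ∈ B := by
    intro y
    obtain ⟨a, b, c, rfl⟩ := hspan y
    simp only [map_add, map_smul, ← hw, ← hv, hNv, smul_zero, add_zero]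
    exact add_mem (B.smul_mem _ hwB) (B.smul_mem _ (hLB hvL))
  have hNB : ∀ y ∈ B, N y ∈ L := by
    intro y hy
    obtain ⟨a, b, rfl⟩ := Submodule.mem_span_pair.1 hy
    simp only [map_add, map_smul, ← hv, hNv, smul_zero, zero_add]
    exact L.smul_mem _ hvL
  have hxflag : x ∈ flagGroup v w :=
    ⟨by rw [hxN, hNv, add_zero], by rw [hxN, add_sub_cancel_left]; exact hNB w hwB,
      fun y => by rw [hxN, add_sub_cancel_left]; exact hNV y⟩
  have hnotboth : ¬ ((∀ g ∈ H, ∀ y ∈ L, g y ∈ L) ∧ (∀ g ∈ H, ∀ y ∈ B, g y ∈ B)) := by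
    rintro ⟨iL, iB⟩
    have hx1 : x = 1 := by
      refine eq_bot_of_normal hOp (flagGroup_isPGroup hp v w) ?_ hxflag hx
      intro g hg f hf _
      obtain ⟨f1, f2, f3⟩ := hf
      have hfB : ∀ y ∈ B, f y - y ∈ L := by
        intro y hy
        obtain ⟨a, b, rfl⟩ := Submodule.mem_span_pair.1 hy
        rw [map_add, map_smul, map_smul, f1,
          show a • v + b • f w - (a • v + b • w) = b • (f w - w) by rw [smul_sub]; abel]
        exact L.smul_mem _ f2
      have hfL : ∀ y ∈ L, f y = y := by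
        intro y hy
        obtain ⟨a, rfl⟩ := Submodule.mem_span_singleton.1 hy
        rw [map_smul, f1]
      have key : ∀ y, (g * f * g⁻¹) y - y = g (f (g.symm y) - g.symm y) := fun y => by
        simp [LinearEquiv.mul_apply, map_sub]
      refine ⟨?_, ?_, fun y => ?_⟩
      · rw [← sub_eq_zero, key, hfL _ (show g.symm v ∈ L from iL g⁻¹ (inv_mem hg) v hvL), sub_self, map_zero]
      · rw [key]; exact iL g hg _ (hfB _ (iB g⁻¹ (inv_mem hg) w hwB))
      · rw [key]; exact iB g hg _ (f3 _)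
    refine hNN ?_
    show N (N u) = 0
    simp [hN, hx1]
  have hvne : v ≠ -v := by
    intro h
    have : (2 : k) • v = 0 := by rw [two_smul]; nth_rewrite 2 [h]; rw [add_neg_cancel]
    exact two_ne_zero' hp ((smul_eq_zero.1 this).resolve_right hNN)
  rcases hcases with rfl | rfl
  · -- a fixed line
    obtain ⟨h, hh, hhw⟩ : ∃ h ∈ H, h w ∉ B := by
      by_contra! hall
      refine hnotboth ⟨hU, fun g hg y hy => ?_⟩
      obtain ⟨a, b, rfl⟩ := Submodule.mem_span_pair.1 hy
      rw [map_add, map_smul, map_smul]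
      exact add_mem (B.smul_mem _ (hLB (hU g hg v hvL))) (B.smul_mem _ (hall g hg))
    set x₁ := h * x * h⁻¹ with hx₁
    have hx₁H : x₁ ∈ H := mul_mem (mul_mem hh hx) (inv_mem hh)
    have hx₁N : ∀ y, x₁ y - y = h (N (h.symm y)) := fun y => by
      simp [hx₁, hN, LinearEquiv.mul_apply, map_sub]
    set b := h w with hb
    set a := N b with ha
    have hbv : x₁ b - b ∈ L := by
      rw [hx₁N, hb, LinearEquiv.symm_apply_apply]; exact hU h hh _ hvL
    have haB : a ∈ B := hNV b
    have haL : a ∉ L := by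
      intro haL
      obtain ⟨a', b', c', hbe⟩ := hspan b
      have : a = a' • w + b' • v := by
        rw [ha, hbe]; simp [map_add, map_smul, ← hw, ← hv, hNv]
      obtain ⟨d, hd⟩ := Submodule.mem_span_singleton.1 haL
      rw [this] at hd
      obtain ⟨-, h1, -⟩ := hcoef 0 a' (b' - d) (by rw [zero_smul, zero_add, sub_smul, hd]; abel)
      refine hhw ?_
      rw [hbe, h1, zero_smul, zero_add]
      exact add_mem (B.smul_mem _ hwB) (B.smul_mem _ (hLB hvL))
    have hbig : ∀ y, ∃ c₁ c₂ : k, y - (c₁ • a + c₂ • b) ∈ L := by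
      intro y
      obtain ⟨a', b', c', hbe⟩ := hspan b
      obtain ⟨a₂, b₂, hae⟩ := Submodule.mem_span_pair.1 haB
      have ha' : a' ≠ 0 := fun h0 => hhw (by
        rw [hbe, h0, zero_smul, zero_add]
        exact add_mem (B.smul_mem _ hwB) (B.smul_mem _ (hLB hvL)))
      have hb₂ : b₂ ≠ 0 := fun h0 => haL (by
        rw [← hae, h0, zero_smul, add_zero]; exact L.smul_mem _ hvL)
      obtain ⟨α, β, γ, rfl⟩ := hspan y
      refine ⟨(β - α / a' * b') / b₂, α / a', ?_⟩
      refine Submodule.mem_span_singleton.2 ⟨γ - (β - α / a' * b') / b₂ * a₂ - α / a' * c', ?_⟩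
      rw [← hae, hbe]
      simp only [smul_add, smul_smul, sub_smul]
      rw [div_mul_cancel₀ _ hb₂, div_mul_cancel₀ _ ha', sub_smul]
      abel
    have hxL : ∀ y ∈ L, x y ∈ L := hU x hx
    have hx₁L : ∀ y ∈ L, x₁ y ∈ L := hU x₁ hx₁H
    have hxv : x v = v := by rw [hxN, hNv, add_zero]
    have hx₁v : x₁ v = v := by
      obtain ⟨c, hc⟩ := Submodule.mem_span_singleton.1 (hU h⁻¹ (inv_mem hh) v hvL)
      rw [← sub_eq_zero, hx₁N, show h.symm v = c • v from hc.symm, map_smul, hNv, smul_zero,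
        map_zero]
    obtain ⟨γ, hγ⟩ : ∃ γ : k, x₁ a - a - γ • b ∈ L := by
      obtain ⟨c₁, c₂, hc⟩ := Submodule.mem_span_pair.1 (hNV (h.symm a))
      refine ⟨c₂, ?_⟩
      rw [hx₁N, ← hc, map_add, map_smul, map_smul, ← hb, add_sub_cancel_right]
      exact L.smul_mem _ (hU h hh v hvL)
    have hγ0 : γ ≠ 0 := by
      intro h0
      rw [h0, zero_smul, sub_zero] at hγ
      have hall : ∀ y, x₁ y - y ∈ L := by
        intro y
        obtain ⟨c₁, c₂, hc⟩ := hbig y
        have hy : y = c₁ • a + c₂ • b + (y - (c₁ • a + c₂ • b)) := by abel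
        rw [hy, map_add, map_add, map_smul, map_smul,
          show ∀ p₁ p₂ p₃ q₁ q₂ q₃ : V, p₁ + p₂ + p₃ - (q₁ + q₂ + q₃) =
            (p₁ - q₁) + (p₂ - q₂) + (p₃ - q₃) from fun _ _ _ _ _ _ => by abel, ← smul_sub, ← smul_sub]
        exact add_mem (add_mem (L.smul_mem _ hγ) (L.smul_mem _ hbv)) (sub_mem (hx₁L _ hc) hc)
      refine hNN ?_
      have h5 := hall (h u)
      rw [hx₁N, LinearEquiv.symm_apply_apply, ← hw] at h5
      exact absurd (hLB h5) hhw
    set x₂ := x₁ ^ (-γ⁻¹).val with hx₂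
    have hpow : ∀ i : ℕ, (x₁ ^ i) v = v ∧ (x₁ ^ i) b - b ∈ L ∧
        (x₁ ^ i) a - a - ((i : k) * γ) • b ∈ L := by
      intro i
      induction i with
      | zero => simp
      | succ i ih =>
        refine ⟨by rw [pow_succ', LinearEquiv.mul_apply, ih.1, hx₁v], ?_, ?_⟩
        · rw [pow_succ', LinearEquiv.mul_apply,
            show x₁ ((x₁ ^ i) b) - b = x₁ ((x₁ ^ i) b - b) + (x₁ b - b) by rw [map_sub]; abel]
          exact add_mem (hx₁L _ ih.2.1) hbv
        · rw [pow_succ', LinearEquiv.mul_apply,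
            show x₁ ((x₁ ^ i) a) - a - (((i + 1 : ℕ) : k) * γ) • b =
              x₁ ((x₁ ^ i) a - a - ((i : k) * γ) • b) + ((i : k) * γ) • (x₁ b - b) +
                (x₁ a - a - γ • b) by
              rw [map_sub, map_sub, map_smul, smul_sub, Nat.cast_succ, add_mul, one_mul, add_smul]
              abel]
          exact add_mem (add_mem (hx₁L _ ih.2.2) (L.smul_mem _ hbv)) hγ
    obtain ⟨p1, p2, p3⟩ := hpow (-γ⁻¹).val
    rw [ZMod.natCast_zmod_val, neg_mul, inv_mul_cancel₀ hγ0, neg_one_smul, sub_neg_eq_add] at p3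
    rw [← hx₂] at p1 p2 p3
    have hx₂H : x₂ ∈ H := pow_mem hx₁H _
    obtain ⟨q1, q2⟩ := word_neg L hxL (hU x₂ hx₂H) (a := a) (b := b)
      (by simp [hxN, ha]) (by rw [hxN, add_sub_cancel_left]; exact hNB a haB) p2 p3
    set d := (x * x₂ * x) * (x * x₂ * x) with hd
    have hdH : d ∈ H := mul_mem (mul_mem (mul_mem hx hx₂H) hx) (mul_mem (mul_mem hx hx₂H) hx)
    have hdv : d v = v := by simp [hd, LinearEquiv.mul_apply, hxv, p1]
    have hdall : ∀ y, ∃ l ∈ L, d y = -y + l := by
      intro y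
      obtain ⟨c₁, c₂, hc⟩ := hbig y
      refine ⟨d y + y, ?_, by abel⟩
      have hy : y = c₁ • a + c₂ • b + (y - (c₁ • a + c₂ • b)) := by abel
      rw [hy, map_add, map_add, map_smul, map_smul,
        show ∀ p₁ p₂ p₃ q₁ q₂ q₃ : V, p₁ + p₂ + p₃ + (q₁ + q₂ + q₃) =
          (p₁ + q₁) + (p₂ + q₂) + (p₃ + q₃) from fun _ _ _ _ _ _ => by abel, ← smul_add, ← smul_add]
      exact add_mem (add_mem (L.smul_mem _ q1) (L.smul_mem _ q2)) (add_mem (hU d hdH _ hc) hc)
    have hcomm : d * x = x * d := by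
      have hf : (d * x) * (x * d)⁻¹ = 1 := by
        have hfH : (d * x) * (x * d)⁻¹ ∈ H := mul_mem (mul_mem hdH hx) (inv_mem (mul_mem hx hdH))
        let K : Subgroup (V ≃ₗ[k] V) :=
          { carrier := {f | f v = v ∧ ∀ y, f y - y ∈ L}
            one_mem' := ⟨rfl, fun y => by simp⟩
            mul_mem' := fun {f f'} hf hf' => ⟨by simp [LinearEquiv.mul_apply, hf.1, hf'.1],
              fun y => by
                rw [LinearEquiv.mul_apply, show f (f' y) - y = (f (f' y) - f' y) + (f' y - y) by abel]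
                exact add_mem (hf.2 _) (hf'.2 y)⟩
            inv_mem' := fun {f} hf => ⟨by
                show f.symm v = v
                rw [f.symm_apply_eq, hf.1],
              fun y => by
                show f.symm y - y ∈ L
                have := hf.2 (f.symm y)
                rw [f.apply_symm_apply] at this
                rw [← neg_sub]; exact neg_mem this⟩ }
        refine eq_bot_of_normal hOp (K := K)
          ((flagGroup_isPGroup hp v w).to_le fun f hf => ⟨hf.1, hf.2 w, fun y => hLB (hf.2 y)⟩) ?_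
          ⟨?_, ?_⟩ hfH
        · intro g hg f hf _
          obtain ⟨hf1, hf2⟩ := hf
          have key : ∀ y, (g * f * g⁻¹) y - y = g (f (g.symm y) - g.symm y) := fun y => by
            simp [LinearEquiv.mul_apply, map_sub]
          refine ⟨?_, fun y => by rw [key]; exact hU g hg _ (hf2 _)⟩
          obtain ⟨c, hc⟩ := Submodule.mem_span_singleton.1 (hU g⁻¹ (inv_mem hg) v hvL)
          rw [← sub_eq_zero, key, show g.symm v = c • v from hc.symm, map_smul, hf1, sub_self,
            map_zero]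
        · have e : (x * d)⁻¹ v = v := by
            show (x * d).symm v = v
            rw [LinearEquiv.symm_apply_eq, LinearEquiv.mul_apply, hdv, hxv]
          rw [LinearEquiv.mul_apply, e, LinearEquiv.mul_apply, hxv, hdv]
        · intro y
          obtain ⟨y', rfl⟩ : ∃ y', (x * d) y' = y := (x * d).surjective y
          rw [LinearEquiv.mul_apply,
            show (x * d)⁻¹ ((x * d) y') = y' from (x * d).symm_apply_apply y',
            ]
          show d (x y') - x (d y') ∈ L
          obtain ⟨l₁, hl₁, e₁⟩ := hdall (x y')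
          obtain ⟨l₂, hl₂, e₂⟩ := hdall y'
          rw [e₁, e₂, map_add, map_neg,
            show -x y' + l₁ - (-x y' + x l₂) = l₁ - x l₂ by abel]
          exact sub_mem hl₁ (hxL _ hl₂)
      exact eq_of_mul_inv_eq_one hf
    obtain ⟨l, hl, hdu⟩ := hdall u
    obtain ⟨c, rfl⟩ := Submodule.mem_span_singleton.1 hl
    have hNd : ∀ y, N (d y) = d (N y) := by
      intro y
      have := LinearEquiv.congr_fun hcomm y
      simp only [LinearEquiv.mul_apply] at this
      simp only [hN, LinearMap.sub_apply, LinearEquiv.coe_coe, LinearMap.id_apply, map_sub, this]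
    refine hvne ?_
    calc v = d v := hdv.symm
      _ = N (N (d u)) := by rw [hNd, hNd, ← hw, ← hv]
      _ = -v := by rw [hdu]; simp [map_add, ← hw, ← hv, hNv]
  · -- a fixed plane
    obtain ⟨h, hh, hhv⟩ : ∃ h ∈ H, h v ∉ L := by
      by_contra! hall
      refine hnotboth ⟨fun g hg y hy => ?_, hU⟩
      obtain ⟨a, rfl⟩ := Submodule.mem_span_singleton.1 hy
      rw [map_smul]; exact L.smul_mem _ (hall g hg)
    set x₁ := h * x * h⁻¹ with hx₁
    have hx₁H : x₁ ∈ H := mul_mem (mul_mem hh hx) (inv_mem hh)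
    have hx₁N : ∀ y, x₁ y - y = h (N (h.symm y)) := fun y => by
      simp [hx₁, hN, LinearEquiv.mul_apply, map_sub]
    set b := h v with hb
    set a := N b with ha
    have hbB : b ∈ B := hU h hh v (hLB hvL)
    have haL : a ∈ L := hNB b hbB
    have ha0 : a ≠ 0 := by
      intro h0
      obtain ⟨c, hc⟩ := hfix b h0
      exact hhv (hc ▸ L.smul_mem _ hvL)
    have hb1 : x₁ b = b := by
      rw [← sub_eq_zero, hx₁N, hb, LinearEquiv.symm_apply_apply, hNv, map_zero]
    obtain ⟨γ, hγ⟩ : ∃ γ : k, x₁ a - a = γ • b := by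
      obtain ⟨c, hc⟩ := Submodule.mem_span_singleton.1
        (hNB _ (hU h⁻¹ (inv_mem hh) a (hLB haL)))
      refine ⟨c, ?_⟩
      rw [hx₁N, show h.symm a = (h⁻¹ : V ≃ₗ[k] V) a from rfl, ← hc, map_smul]
    have hγ0 : γ ≠ 0 := by
      intro h0
      rw [h0, zero_smul, hx₁N, LinearEquiv.map_eq_zero_iff] at hγ
      obtain ⟨c, hc⟩ := hfix _ hγ
      have e : a = c • b := by rw [← h.apply_symm_apply a, hc, map_smul, hb]
      have hc0 : c ≠ 0 := fun hc0 => ha0 (by rw [e, hc0, zero_smul])
      refine hhv ?_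
      have := L.smul_mem c⁻¹ (e ▸ haL)
      rwa [smul_smul, inv_mul_cancel₀ hc0, one_smul] at this
    set x₂ := x₁ ^ (-γ⁻¹).val with hx₂
    have hpow : ∀ i : ℕ, (x₁ ^ i) b = b ∧ (x₁ ^ i) a = a + ((i : k) * γ) • b ∧
        ∀ y, (x₁ ^ i) y - y ∈ B := by
      intro i
      induction i with
      | zero => simp
      | succ i ih =>
        refine ⟨by rw [pow_succ', LinearEquiv.mul_apply, ih.1, hb1], ?_, fun y => ?_⟩
        · rw [pow_succ', LinearEquiv.mul_apply, ih.2.1, map_add, map_smul, hb1,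
            ← sub_add_cancel (x₁ a) a, hγ, Nat.cast_succ, add_mul, one_mul, add_smul]
          abel
        · rw [pow_succ', LinearEquiv.mul_apply,
            show x₁ ((x₁ ^ i) y) - y = (x₁ ((x₁ ^ i) y) - (x₁ ^ i) y) + ((x₁ ^ i) y - y) by abel]
          refine add_mem ?_ (ih.2.2 y)
          rw [hx₁N]; exact hU h hh _ (hNV _)
    obtain ⟨p1, p2, p3⟩ := hpow (-γ⁻¹).val
    rw [ZMod.natCast_zmod_val, neg_mul, inv_mul_cancel₀ hγ0, neg_one_smul] at p2
    rw [← hx₂] at p1 p2 p3
    have hx₂H : x₂ ∈ H := pow_mem hx₁H _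
    obtain ⟨c, hc⟩ := Submodule.mem_span_singleton.1 haL
    have hxa : x a = a := by rw [hxN, ← hc, map_smul, hNv, smul_zero, add_zero]
    obtain ⟨q1, q2⟩ := word_neg (⊥ : Submodule k V) (x := x) (x' := x₂)
      (fun y hy => by rw [Submodule.mem_bot] at hy ⊢; rw [hy, map_zero])
      (fun y hy => by rw [Submodule.mem_bot] at hy ⊢; rw [hy, map_zero]) (a := a) (b := b)
      (by simp [hxN, ha]) (by simp [hxa]) (by simp [p1]) (by simp [p2])
    rw [Submodule.mem_bot] at q1 q2
    set d := (x * x₂ * x) * (x * x₂ * x) with hd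
    have hdH : d ∈ H := mul_mem (mul_mem (mul_mem hx hx₂H) hx) (mul_mem (mul_mem hx hx₂H) hx)
    have hc0 : c ≠ 0 := fun h0 => ha0 (by rw [← hc, h0, zero_smul])
    have hdB : ∀ y ∈ B, d y = -y := by
      intro y hy
      obtain ⟨b₁, b₂, hbe⟩ := Submodule.mem_span_pair.1 hbB
      have hb₂ : b₂ ≠ 0 := fun h0 => hhv (by
        rw [← hbe, h0, zero_smul, add_zero]; exact L.smul_mem _ hvL)
      obtain ⟨y₁, y₂, rfl⟩ := Submodule.mem_span_pair.1 hy
      have hw' : w = b₂⁻¹ • (b - (b₁ / c) • a) := by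
        rw [← hc, smul_smul, div_mul_cancel₀ _ hc0, ← hbe, add_sub_cancel_left, smul_smul,
          inv_mul_cancel₀ hb₂, one_smul]
      have hv' : v = c⁻¹ • a := by rw [← hc, smul_smul, inv_mul_cancel₀ hc0, one_smul]
      rw [hw', hv']
      simp only [map_add, map_smul, map_sub, eq_neg_of_add_eq_zero_left q1,
        eq_neg_of_add_eq_zero_left q2, neg_add_rev, smul_neg, smul_sub]
      abel
    have hdV : ∀ y, d y - y ∈ B := by
      have hxV : ∀ y, x y - y ∈ B := fun y => by rw [hxN, add_sub_cancel_left]; exact hNV y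
      have hmul : ∀ f g : V ≃ₗ[k] V, (∀ y, f y - y ∈ B) → (∀ y, g y - y ∈ B) →
          ∀ y, (f * g) y - y ∈ B := fun f g hf hg y => by
        rw [LinearEquiv.mul_apply, show f (g y) - y = (f (g y) - g y) + (g y - y) by abel]
        exact add_mem (hf _) (hg y)
      exact hmul _ _ (hmul _ _ (hmul _ _ hxV p3) hxV) (hmul _ _ (hmul _ _ hxV p3) hxV)
    have hcomm : d * x = x * d := by
      have hf : (d * x) * (x * d)⁻¹ = 1 := by
        have hfH : (d * x) * (x * d)⁻¹ ∈ H := mul_mem (mul_mem hdH hx) (inv_mem (mul_mem hx hdH))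
        let K : Subgroup (V ≃ₗ[k] V) :=
          { carrier := {f | (∀ y ∈ B, f y = y) ∧ ∀ y, f y - y ∈ B}
            one_mem' := ⟨fun y _ => rfl, fun y => by simp⟩
            mul_mem' := fun {f f'} hf hf' => ⟨fun y hy => by
                rw [LinearEquiv.mul_apply, hf'.1 y hy, hf.1 y hy],
              fun y => by
                rw [LinearEquiv.mul_apply, show f (f' y) - y = (f (f' y) - f' y) + (f' y - y) by abel]
                exact add_mem (hf.2 _) (hf'.2 y)⟩
            inv_mem' := fun {f} hf => ⟨fun y hy => by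
                show f.symm y = y
                rw [f.symm_apply_eq, hf.1 y hy],
              fun y => by
                show f.symm y - y ∈ B
                have := hf.2 (f.symm y)
                rw [f.apply_symm_apply] at this
                rw [← neg_sub]; exact neg_mem this⟩ }
        refine eq_bot_of_normal hOp (K := K)
          ((flagGroup_isPGroup hp v w).to_le fun f hf => ⟨hf.1 v (hLB hvL),
            by rw [hf.1 w hwB, sub_self]; exact zero_mem _, hf.2⟩) ?_
          ⟨?_, ?_⟩ hfH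
        · intro g hg f hf _
          obtain ⟨hf1, hf2⟩ := hf
          have key : ∀ y, (g * f * g⁻¹) y - y = g (f (g.symm y) - g.symm y) := fun y => by
            simp [LinearEquiv.mul_apply, map_sub]
          refine ⟨fun y hy => ?_, fun y => by rw [key]; exact hU g hg _ (hf2 _)⟩
          rw [← sub_eq_zero, key, hf1 _ (show g.symm y ∈ B from hU g⁻¹ (inv_mem hg) y hy), sub_self, map_zero]
        · intro y hy
          obtain ⟨y', rfl⟩ : ∃ y', (x * d) y' = y := (x * d).surjective y
          have hy' : y' ∈ B := by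
            have := hU _ (inv_mem (mul_mem hx hdH)) _ hy
            rwa [show (x * d)⁻¹ ((x * d) y') = y' from (x * d).symm_apply_apply y'] at this
          rw [LinearEquiv.mul_apply,
            show (x * d)⁻¹ ((x * d) y') = y' from (x * d).symm_apply_apply y',
            ]
          show d (x y') = x (d y')
          rw [hdB y' hy', hdB (x y') (hU x hx y' hy'), map_neg]
        · intro y
          obtain ⟨y', rfl⟩ : ∃ y', (x * d) y' = y := (x * d).surjective y
          rw [LinearEquiv.mul_apply,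
            show (x * d)⁻¹ ((x * d) y') = y' from (x * d).symm_apply_apply y',
            ]
          show d (x y') - x (d y') ∈ B
          rw [show d (x y') - x (d y') = (d (x y') - x y') - x (d y' - y') by rw [map_sub]; abel]
          exact sub_mem (hdV _) (hU x hx _ (hdV _))
      exact eq_of_mul_inv_eq_one hf
    have hNd : ∀ y, N (d y) = d (N y) := by
      intro y
      have := LinearEquiv.congr_fun hcomm y
      simp only [LinearEquiv.mul_apply] at this
      simp only [hN, LinearMap.sub_apply, LinearEquiv.coe_coe, LinearMap.id_apply, map_sub, this]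
    refine hvne ?_
    have hB0 : N (N (d u - u)) = 0 := by
      obtain ⟨c', hc'⟩ := Submodule.mem_span_singleton.1 (hNB _ (hdV u))
      rw [← hc', map_smul, hNv, smul_zero]
    have h9 : N (N (d u)) = v := by
      rw [map_sub, map_sub, sub_eq_zero] at hB0
      rw [hB0]
    rw [hNd, hNd, ← hw, ← hv, hdB v (hLB hvL)] at h9
    exact h9.symm

end H72.RankThree
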