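/-
Tools for p-groups of sectional rank three.
-/
import Mathlib
import Cfsg.Prelude.Def_CaseTheorems

set_option autoImplicit false

namespace H72.RankThree

open scoped commutatorElement

variable {G : Type*} [Group G] {p : ℕ}

/-- `K / D` is elementary abelian. -/
def ElemOver (p : ℕ) (K D : Subgroup G) : Prop :=
  D ≤ K ∧ (∀ a ∈ K, ∀ b ∈ K, ⁅a, b⁆ ∈ D) ∧ ∀ a ∈ K, a ^ p ∈ D

theorem relIndex_le_of_elemOver (hr : Cfsg.SectionalPRankLE p 3 G) {K D : Subgroup G}
    (h : ElemOver p K D) : D.relIndex K ≤ p ^ 3 := by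
  obtain ⟨hle, hc, hp⟩ := h
  haveI : (D.subgroupOf K).Normal := ⟨fun d hd a => by
    rw [Subgroup.mem_subgroupOf] at hd ⊢
    have h1 := D.mul_mem (hc a a.2 d d.2) hd
    simpa [commutatorElement_def, mul_assoc] using h1⟩
  have h2 := hr K (D.subgroupOf K) ⊤ ?_ ?_
  · rwa [Subgroup.card_top, ← Subgroup.index_eq_card] at h2
  · refine ⟨⟨fun a b => Subtype.ext ?_⟩⟩
    obtain ⟨a, -⟩ := a
    obtain ⟨b, -⟩ := b
    induction a using QuotientGroup.induction_on with
    | _ a =>
    induction b using QuotientGroup.induction_on with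
    | _ b =>
    show (a : K ⧸ D.subgroupOf K) * b = b * a
    rw [← QuotientGroup.mk_mul, ← QuotientGroup.mk_mul, QuotientGroup.eq, Subgroup.mem_subgroupOf]
    have h1 := hc ((b : G)⁻¹) (inv_mem b.2) ((a : G)⁻¹) (inv_mem a.2)
    simpa [commutatorElement_def, mul_assoc] using h1
  · intro a _
    induction a using QuotientGroup.induction_on with
    | _ a =>
    rw [← QuotientGroup.mk_pow, QuotientGroup.eq_one_iff, Subgroup.mem_subgroupOf]
    simpa using hp a a.2

/-- The relative index over a normal subgroup as an order in the quotient. -/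
theorem relIndex_eq_card_map (U K : Subgroup G) [U.Normal] :
    U.relIndex K = Nat.card (K.map (QuotientGroup.mk' U)) := by
  conv_lhs => rw [← QuotientGroup.ker_mk' U]
  rw [Subgroup.relIndex_ker]

theorem relIndex_sup_zpowers [hp : Fact p.Prime] (U : Subgroup G) [U.Normal] {e : G} (he : e ∉ U)
    (hep : e ^ p ∈ U) : U.relIndex (U ⊔ Subgroup.zpowers e) = p := by
  rw [relIndex_eq_card_map, Subgroup.map_sup, MonoidHom.map_zpowers, QuotientGroup.map_mk'_self,
    bot_sup_eq, Nat.card_zpowers]
  refine orderOf_eq_prime ?_ ?_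
  · rw [← map_pow]; exact (QuotientGroup.eq_one_iff _).2 hep
  · exact fun h => he ((QuotientGroup.eq_one_iff _).1 h)

theorem pow_mem_of_relIndex [hp : Fact p.Prime] {U K : Subgroup G} [U.Normal]
    (h : U.relIndex K = p) {a : G} (ha : a ∈ K) : a ^ p ∈ U := by
  rw [relIndex_eq_card_map] at h
  have h1 : QuotientGroup.mk' U a ∈ K.map (QuotientGroup.mk' U) := Subgroup.mem_map_of_mem _ ha
  have h2 : (⟨_, h1⟩ : K.map (QuotientGroup.mk' U)) ^ p = 1 := by
    rw [← h]; exact pow_card_eq_one'
  have h3 := congrArg Subtype.val h2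
  simp only [SubmonoidClass.coe_pow, Subgroup.coe_one] at h3
  rw [← map_pow] at h3
  exact (QuotientGroup.eq_one_iff _).1 h3

/-- A proper step: relative index `p` forces equality with a cyclic extension. -/
theorem eq_sup_of_relIndex [hp : Fact p.Prime] {U K : Subgroup G} [U.Normal] (hUK : U ≤ K)
    (h : U.relIndex K = p) {a : G} (ha : a ∈ K) (haU : a ∉ U) : K = U ⊔ Subgroup.zpowers a := by
  have hle : U ⊔ Subgroup.zpowers a ≤ K := sup_le hUK (Subgroup.zpowers_le.2 ha)
  refine le_antisymm ?_ hle
  have h1 := Subgroup.relIndex_mul_relIndex U (U ⊔ Subgroup.zpowers a) K le_sup_left hle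
  rw [relIndex_sup_zpowers U haU (pow_mem_of_relIndex h ha), h] at h1
  exact Subgroup.relIndex_eq_one.1 (Nat.eq_of_mul_eq_mul_left hp.out.pos (h1.trans (mul_one p).symm))

/-- In a finite p-group a normal subgroup properly over another one is not absorbed by commutators. -/
theorem commutator_sup_ne [Finite G] [hp : Fact p.Prime] (hG : IsPGroup p G) {U W : Subgroup G}
    [U.Normal] (hUW : U < W) : ¬ W ≤ ⁅(⊤ : Subgroup G), W⁆ ⊔ U := by
  intro h
  haveI : Group.IsNilpotent G := hG.isNilpotent
  have key : ∀ n, W ≤ (⊤ : Subgroup G).lowerCentralSeries n ⊔ U := by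
    intro n
    induction n with
    | zero => simp
    | succ n ih =>
      refine h.trans (sup_le ?_ le_sup_right)
      rw [Subgroup.commutator_le]
      intro g _ w hw
      have h1 := ih hw
      rw [← QuotientGroup.ker_mk' U, ← Subgroup.comap_map_eq, Subgroup.mem_comap] at h1 ⊢
      rw [map_commutatorElement]
      obtain ⟨l, hl, hlw⟩ := h1
      rw [← hlw, ← map_commutatorElement]
      refine Subgroup.mem_map_of_mem _ ?_
      rw [Subgroup.lowerCentralSeries_succ, ← commutatorElement_inv]
      exact inv_mem (Subgroup.commutator_mem_commutator hl (Subgroup.mem_top g))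
  obtain ⟨n, hn⟩ := (Subgroup.isNilpotent_iff_lowerCentralSeries (⊤ : Subgroup G)).1
    (hG.to_subgroup ⊤).isNilpotent
  have h3 := key n
  rw [hn, bot_sup_eq] at h3
  exact absurd h3 (not_le_of_gt hUW)

/-- A normal section of order `p` is central. -/
theorem commutator_mem_of_relIndex_prime [Finite G] [hp : Fact p.Prime] (hG : IsPGroup p G)
    {U W : Subgroup G} [U.Normal] [W.Normal] (hUW : U ≤ W) (h : U.relIndex W = p) (g : G) {w : G}
    (hw : w ∈ W) : ⁅g, w⁆ ∈ U := by
  by_contra hnot
  have hne : U ≠ W := by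
    rintro rfl
    rw [Subgroup.relIndex_self] at h
    exact hp.out.ne_one h.symm
  refine commutator_sup_ne hG (lt_of_le_of_ne hUW hne) ?_
  have hle : ⁅(⊤ : Subgroup G), W⁆ ≤ W := Subgroup.commutator_le_right _ _
  have hmem : ⁅g, w⁆ ∈ ⁅(⊤ : Subgroup G), W⁆ :=
    Subgroup.commutator_mem_commutator (Subgroup.mem_top g) hw
  conv_lhs => rw [eq_sup_of_relIndex hUW h (hle hmem) hnot]
  exact sup_le le_sup_right ((Subgroup.zpowers_le.2 hmem).trans le_sup_left)

/-! ### Binomial formulas -/

theorem pow_mul_of_steps {x e v z c d : G} (h1 : x * e = e * v * x) (h2 : x * v = v * z * x)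
    (h3 : x * z = z * c * x) (h4 : x * c = c * d * x) (h5 : x * d = d * x) (hvz : Commute v z)
    (hvc : Commute v c) (hvd : Commute v d) (hzc : Commute z c) (hzd : Commute z d)
    (hcd : Commute c d) (n : ℕ) :
    x ^ n * e = e * (v ^ n * z ^ n.choose 2 * c ^ n.choose 3 * d ^ n.choose 4) * x ^ n := by
  have hpow : ∀ {a b : G}, x * a = a * b * x → ∀ i : ℕ, x * a ^ i = (a * b) ^ i * x := by
    intro a b h i
    have : SemiconjBy x a (a * b) := h
    exact this.pow_right i
  induction n with
  | zero => simp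
  | succ n ih =>
    have e1 : x * (e * (v ^ n * z ^ n.choose 2 * c ^ n.choose 3 * d ^ n.choose 4)) =
        e * (v * ((v * z) ^ n * ((z * c) ^ n.choose 2 * ((c * d) ^ n.choose 3 *
          d ^ n.choose 4)))) * x := by
      calc x * (e * (v ^ n * z ^ n.choose 2 * c ^ n.choose 3 * d ^ n.choose 4))
          = (x * e) * (v ^ n * z ^ n.choose 2 * c ^ n.choose 3 * d ^ n.choose 4) := by group
        _ = e * v * ((x * v ^ n) * (z ^ n.choose 2 * c ^ n.choose 3 * d ^ n.choose 4)) := by
            rw [h1]; group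
        _ = e * v * ((v * z) ^ n * ((x * z ^ n.choose 2) * (c ^ n.choose 3 * d ^ n.choose 4))) := by
            rw [hpow h2]; group
        _ = e * v * ((v * z) ^ n * ((z * c) ^ n.choose 2 * ((x * c ^ n.choose 3) *
              d ^ n.choose 4))) := by
            rw [hpow h3]; group
        _ = e * v * ((v * z) ^ n * ((z * c) ^ n.choose 2 * ((c * d) ^ n.choose 3 *
              (x * d ^ n.choose 4)))) := by
            rw [hpow h4]; group
        _ = _ := by
            rw [((show Commute x d from h5).pow_right _).eq]; group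
    have e2 : v * ((v * z) ^ n * ((z * c) ^ n.choose 2 * ((c * d) ^ n.choose 3 * d ^ n.choose 4))) =
        v ^ (n + 1) * z ^ (n + 1).choose 2 * c ^ (n + 1).choose 3 * d ^ (n + 1).choose 4 := by
      rw [hvz.mul_pow, hzc.mul_pow, hcd.mul_pow, Nat.choose_succ_succ' n 1, Nat.choose_succ_succ' n 2,
        Nat.choose_succ_succ' n 3, Nat.choose_one_right, pow_succ', pow_add, pow_add, pow_add]
      simp only [mul_assoc]
    rw [pow_succ' x, mul_assoc, ih, ← mul_assoc, e1, e2]
    group

theorem mul_pow_of_steps {x e v z y : G} (h1 : x * e = e * v * x) (h2 : x * v = v * z * x)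
    (hxz : Commute x z) (h3 : v * e = e * v * y) (hey : Commute e y) (hvy : Commute v y)
    (hez : Commute e z) (hvz : Commute v z) (hyz : Commute y z) (n : ℕ) :
    (e * x) ^ n = e ^ n * v ^ n.choose 2 * z ^ n.choose 3 * y ^ n.choose 3 * x ^ n := by
  have hA : ∀ i : ℕ, x ^ i * e = e * (v ^ i * z ^ i.choose 2) * x ^ i := by
    intro i
    have := pow_mul_of_steps (d := (1 : G)) (c := (1 : G)) h1 h2 (by rw [mul_one]; exact hxz) (by simp)
      (by simp) hvz (Commute.one_right _) (Commute.one_right _) (Commute.one_right _)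
      (Commute.one_right _) (Commute.one_right _) i
    simpa using this
  have hB : ∀ i : ℕ, v ^ i * e = e * (v ^ i * y ^ i) := by
    intro i
    induction i with
    | zero => simp
    | succ i ih =>
      calc v ^ (i + 1) * e = v * (v ^ i * e) := by rw [pow_succ']; group
        _ = (v * e) * (v ^ i * y ^ i) := by rw [ih]; group
        _ = e * v * (y * v ^ i) * y ^ i := by rw [h3]; group
        _ = e * v * (v ^ i * y) * y ^ i := by rw [(hvy.pow_left i).symm.eq]
        _ = e * (v ^ (i + 1) * y ^ (i + 1)) := by rw [pow_succ', pow_succ']; group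
  induction n with
  | zero => simp
  | succ n ih =>
    have c1 : Commute (z ^ n.choose 3 * y ^ n.choose 3) e :=
      ((hez.symm.pow_left _).mul_left (hey.symm.pow_left _))
    have c2 : Commute (z ^ n.choose 3 * y ^ n.choose 3) (v ^ n) :=
      (((hvz.symm.pow_left _).pow_right _).mul_left ((hvy.symm.pow_left _).pow_right _))
    have c3 : Commute (y ^ n.choose 2) (v ^ n) := (hvy.symm.pow_left _).pow_right _
    calc (e * x) ^ (n + 1)
        = e ^ n * v ^ n.choose 2 * (z ^ n.choose 3 * y ^ n.choose 3) * (x ^ n * e) * x := by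
          rw [pow_succ, ih]; group
      _ = e ^ n * v ^ n.choose 2 * ((z ^ n.choose 3 * y ^ n.choose 3) * e) *
            (v ^ n * z ^ n.choose 2) * x ^ (n + 1) := by
          rw [hA, pow_succ]; group
      _ = e ^ n * (v ^ n.choose 2 * e) * ((z ^ n.choose 3 * y ^ n.choose 3) * v ^ n) *
            z ^ n.choose 2 * x ^ (n + 1) := by
          rw [c1.eq]; group
      _ = e ^ n * e * v ^ n.choose 2 * (y ^ n.choose 2 * v ^ n) *
            (z ^ n.choose 3 * y ^ n.choose 3) * z ^ n.choose 2 * x ^ (n + 1) := by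
          rw [hB, c2.eq]; group
      _ = e ^ (n + 1) * (v ^ n * v ^ n.choose 2) * (y ^ n.choose 2 *
            ((z ^ n.choose 3 * y ^ n.choose 3) * z ^ n.choose 2)) * x ^ (n + 1) := by
          rw [c3.eq, pow_succ, ((Commute.refl v).pow_pow n (n.choose 2)).eq]; group
      _ = _ := by
          have c4 : y ^ n.choose 2 * ((z ^ n.choose 3 * y ^ n.choose 3) * z ^ n.choose 2) =
              (z ^ n.choose 2 * z ^ n.choose 3) * (y ^ n.choose 2 * y ^ n.choose 3) := by
            calc y ^ n.choose 2 * ((z ^ n.choose 3 * y ^ n.choose 3) * z ^ n.choose 2)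
                = (y ^ n.choose 2 * z ^ n.choose 3) * (y ^ n.choose 3 * z ^ n.choose 2) := by group
              _ = z ^ n.choose 3 * (y ^ n.choose 2 * z ^ n.choose 2) * y ^ n.choose 3 := by
                  rw [(hyz.pow_pow _ _).eq, (hyz.pow_pow (n.choose 3) (n.choose 2)).eq]; group
              _ = (z ^ n.choose 3 * z ^ n.choose 2) * (y ^ n.choose 2 * y ^ n.choose 3) := by
                  rw [(hyz.pow_pow _ _).eq]; group
              _ = _ := by rw [((Commute.refl z).pow_pow _ _).eq]
          rw [c4, ← pow_add, ← pow_add, ← pow_add, Nat.choose_succ_succ' n 1, Nat.choose_succ_succ' n 2,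
            Nat.choose_one_right]
          group

theorem dvd_choose_of_five_le {q : ℕ} (hq : q.Prime) (h5 : 5 ≤ q) :
    q ∣ q.choose 2 ∧ q ∣ q.choose 3 ∧ q ∣ q.choose 4 :=
  ⟨hq.dvd_choose_self two_ne_zero (by omega), hq.dvd_choose_self (by omega) (by omega),
    hq.dvd_choose_self (by omega) (by omega)⟩

theorem pow_eq_one_of_dvd {a : G} (h : a ^ p = 1) {n : ℕ} (hn : p ∣ n) : a ^ n = 1 := by
  obtain ⟨m, rfl⟩ := hn
  rw [pow_mul, h, one_pow]

end H72.RankThree
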