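/-
Frattini subgroups of subgroups of index p in a p-group.
-/
import Cfsg.Agent.H72.RankThreeTools
import Cfsg.Agent.H31.Basic
import Cfsg.Agent.H6.Basic
import Cfsg.Agent.H1.Cores

set_option autoImplicit false

namespace H72.RankThree

open scoped commutatorElement

variable {G : Type*} [Group G] {p : ℕ} [hp : Fact p.Prime]

/-- The Frattini subgroup of a subgroup, as a subgroup of the ambient group. -/
def fr (E : Subgroup G) : Subgroup G := (frattini E).map E.subtype

theorem fr_le (E : Subgroup G) : fr E ≤ E := Subgroup.map_subtype_le _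

theorem fr_normal (E : Subgroup G) [E.Normal] : (fr E).Normal :=
  H1.map_subtype_normal_of_characteristic E (frattini E)

theorem elemOver_fr [Finite G] (hG : IsPGroup p G) (E : Subgroup G) : ElemOver p E (fr E) := by
  have hE := hG.to_subgroup E
  refine ⟨fr_le E, fun a ha b hb => ?_, fun a ha => ?_⟩
  · exact ⟨⁅(⟨a, ha⟩ : E), ⟨b, hb⟩⁆, H6.commutator_le_frattini hE
      (Subgroup.commutator_mem_commutator (Subgroup.mem_top _) (Subgroup.mem_top _)), rfl⟩
  · exact ⟨(⟨a, ha⟩ : E) ^ p, H6.pow_prime_mem_frattini hE _, rfl⟩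

theorem fr_le_of_mem [Finite G] {E D : Subgroup G} (hc : ∀ a ∈ E, ∀ b ∈ E, ⁅a, b⁆ ∈ D)
    (hpw : ∀ a ∈ E, a ^ p ∈ D) : fr E ≤ D := by
  rw [fr, Subgroup.map_le_iff_le_comap]
  refine H31.frattini_le_of_pow_mem hp.out _ ?_ (fun a => hpw a a.2)
  rw [commutator_def, Subgroup.commutator_le]
  intro a _ b _
  exact hc a a.2 b b.2

theorem relIndex_fr (E : Subgroup G) : (fr E).relIndex E = (frattini E).index := by
  rw [Subgroup.relIndex, fr, Subgroup.subgroupOf, Subgroup.comap_map_eq_self_of_injective]
  exact Subtype.coe_injective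

theorem fr_map_invariant {E : Subgroup G} (α : MulAut E) {r : G} (hr : r ∈ fr E) :
    ((α ⟨r, fr_le E hr⟩ : E) : G) ∈ fr E := by
  obtain ⟨r₀, hr₀, rfl⟩ := hr
  refine ⟨α r₀, ?_, rfl⟩
  have h : (frattini ↥E).map α.toMonoidHom = frattini ↥E :=
    (Subgroup.characteristic_iff_map_eq.1 inferInstance) α
  rw [← h]
  exact Subgroup.mem_map_of_mem _ hr₀

/-! ### Subgroups of index p -/

theorem normal_of_index [Finite G] (hG : IsPGroup p G) {E : Subgroup G} (hE : E.index = p) :
    E.Normal := by
  haveI : Group.IsNilpotent G := hG.isNilpotent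
  have hne : E ≠ ⊤ := by
    rintro rfl
    rw [Subgroup.index_top] at hE
    exact hp.out.ne_one hE.symm
  have h := Group.normalizerCondition_of_isNilpotent (G := G) E hne.lt_top
  rw [← Subgroup.normalizer_eq_top_iff, ← Subgroup.index_eq_one]
  have h1 := Subgroup.relIndex_mul_index h.le
  rw [hE] at h1
  rcases (Nat.dvd_prime hp.out).1 (Dvd.intro_left _ h1) with h2 | h2
  · exact h2
  · rw [h2] at h1
    have h3 := Nat.eq_of_mul_eq_mul_right hp.out.pos (h1.trans (one_mul p).symm)
    exact absurd (Subgroup.relIndex_eq_one.1 h3) (not_le_of_gt h)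

theorem commutator_mem_of_index [Finite G] (hG : IsPGroup p G) {E : Subgroup G} (hE : E.index = p)
    (a b : G) : ⁅a, b⁆ ∈ E := by
  haveI := normal_of_index hG hE
  haveI : IsCyclic (G ⧸ E) := isCyclic_of_prime_card (p := p) (by rw [← Subgroup.index_eq_card, hE])
  rw [← QuotientGroup.eq_one_iff, ← QuotientGroup.mk'_apply, map_commutatorElement,
    commutatorElement_eq_one_iff_mul_comm]
  exact (IsCyclic.commutative (α := G ⧸ E)).is_comm.comm _ _

theorem pow_mem_of_index [Finite G] (hG : IsPGroup p G) {E : Subgroup G} (hE : E.index = p) (a : G) :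
    a ^ p ∈ E := by
  haveI := normal_of_index hG hE
  exact pow_mem_of_relIndex (by rw [Subgroup.relIndex_top_right, hE]) (Subgroup.mem_top a)

theorem fr_le_of_index [Finite G] (hG : IsPGroup p G) {E : Subgroup G} (hE : E.index = p)
    (K : Subgroup G) : fr K ≤ E :=
  fr_le_of_mem (fun a _ b _ => commutator_mem_of_index hG hE a b)
    (fun a _ => pow_mem_of_index hG hE a)

theorem relIndex_inf_of_index [Finite G] (hG : IsPGroup p G) {E E' : Subgroup G} (hE : E.index = p)
    (hE' : E'.index = p) (hne : E' ≠ E) : (E ⊓ E').relIndex E = p := by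
  rw [Subgroup.inf_relIndex_left]
  haveI := normal_of_index hG hE'
  rcases (Nat.dvd_prime hp.out).1 (hE' ▸ Subgroup.relIndex_dvd_index_of_normal E' E) with h | h
  · refine absurd ?_ hne
    have hle := Subgroup.relIndex_eq_one.1 h
    have h2 := Subgroup.relIndex_mul_index hle
    rw [hE, hE'] at h2
    exact le_antisymm (Subgroup.relIndex_eq_one.1
      (Nat.eq_of_mul_eq_mul_right hp.out.pos (h2.trans (one_mul p).symm))) hle
  · exact h

/-! ### p-power relative indices -/

theorem exists_pow_relIndex [Finite G] (hG : IsPGroup p G) (A B : Subgroup G) :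
    ∃ i, A.relIndex B = p ^ i := by
  obtain ⟨n, hn⟩ := IsPGroup.iff_card.1 (hG.to_subgroup B)
  obtain ⟨i, -, hi⟩ := (Nat.dvd_prime_pow hp.out).1
    (hn ▸ Subgroup.index_dvd_card (A.subgroupOf B) : A.relIndex B ∣ p ^ n)
  exact ⟨i, hi⟩

theorem eq_of_relIndex_eq {A B K : Subgroup G} [Finite G] (hAB : A ≤ B) (hBK : B ≤ K)
    (h : A.relIndex K = B.relIndex K) : A = B := by
  refine le_antisymm hAB (Subgroup.relIndex_eq_one.1 ?_)
  have h1 := Subgroup.relIndex_mul_relIndex A B K hAB hBK
  rw [h] at h1
  exact Nat.eq_of_mul_eq_mul_right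
    (Nat.pos_of_ne_zero (Subgroup.FiniteIndex.index_ne_zero (H := B.subgroupOf K)))
    (h1.trans (one_mul _).symm)

/-! ### Elementary sections -/

theorem elemOver_sup_zpowers {K D : Subgroup G} [D.Normal] (h : ElemOver p K D) {e : G}
    (hec : ∀ a ∈ K, ⁅e, a⁆ ∈ D) (hep : e ^ p ∈ D) : ElemOver p (K ⊔ Subgroup.zpowers e) D := by
  obtain ⟨hle, hc, hpw⟩ := h
  let q := QuotientGroup.mk' D
  have hq : ∀ a, q a = 1 ↔ a ∈ D := fun a => QuotientGroup.eq_one_iff a
  have hcomm : ∀ a ∈ K ⊔ Subgroup.zpowers e, ∀ b ∈ K ⊔ Subgroup.zpowers e, Commute (q a) (q b) := by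
    have h1 : ∀ a ∈ (K : Set G) ∪ {e}, ∀ b ∈ (K : Set G) ∪ {e}, Commute (q a) (q b) := by
      intro a ha b hb
      rw [commute_iff_eq, ← commutatorElement_eq_one_iff_mul_comm, ← map_commutatorElement, hq]
      rcases ha with ha | rfl <;> rcases hb with hb | rfl
      · exact hc a ha b hb
      · rw [← commutatorElement_inv]; exact inv_mem (hec a ha)
      · exact hec b hb
      · rw [commutatorElement_self]; exact one_mem _
    intro a ha b hb
    have hgen : K ⊔ Subgroup.zpowers e = Subgroup.closure ((K : Set G) ∪ {e}) := by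
      rw [Subgroup.closure_union, Subgroup.closure_eq, Subgroup.zpowers_eq_closure]
    rw [hgen] at ha hb
    induction ha using Subgroup.closure_induction with
    | mem a ha =>
      induction hb using Subgroup.closure_induction with
      | mem b hb => exact h1 a ha b hb
      | one => rw [map_one]; exact Commute.one_right _
      | mul b b' _ _ i1 i2 => rw [map_mul]; exact i1.mul_right i2
      | inv b _ i1 => rw [map_inv]; exact i1.inv_right
    | one => rw [map_one]; exact Commute.one_left _
    | mul a a' _ _ i1 i2 => rw [map_mul]; exact i1.mul_left i2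
    | inv a _ i1 => rw [map_inv]; exact i1.inv_left
  refine ⟨hle.trans le_sup_left, fun a ha b hb => ?_, fun a ha => ?_⟩
  · rw [← hq, map_commutatorElement, commutatorElement_eq_one_iff_mul_comm]
    exact hcomm a ha b hb
  · have hgen : K ⊔ Subgroup.zpowers e = Subgroup.closure ((K : Set G) ∪ {e}) := by
      rw [Subgroup.closure_union, Subgroup.closure_eq, Subgroup.zpowers_eq_closure]
    rw [hgen] at ha hcomm
    induction ha using Subgroup.closure_induction with
    | mem a ha =>
      rcases ha with ha | rfl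
      · exact hpw a ha
      · exact hep
    | one => rw [one_pow]; exact one_mem _
    | mul a b ha hb i1 i2 =>
      rw [← hq, map_pow] at i1 i2 ⊢
      rw [map_mul, (hcomm a ha b hb).mul_pow, i1, i2, one_mul]
    | inv a _ i1 => rw [inv_pow]; exact inv_mem i1

end H72.RankThree
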