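/-
Coordinates on a group of order p^4 of exponent p with a centre of order p^2, and the calculus of
its automorphisms.
-/
import Cfsg.Agent.H72.RankThreeFrattini
import Mathlib.LinearAlgebra.Matrix.CharP

set_option autoImplicit false

namespace H72.RankThree

open scoped commutatorElement

variable {G : Type*} [Group G] {p : ℕ} [hp : Fact p.Prime]

/-- Coordinates of `G / R`. -/
structure Coord (p : ℕ) (R : Subgroup G) (e z w x : G) where
  K : G → ZMod p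
  J : G → ZMod p
  I : G → ZMod p
  X : G → ZMod p
  hK : ∀ a b, K (a * b) = K a + K b + X a * I b
  hJ : ∀ a b, J (a * b) = J a + J b
  hI : ∀ a b, I (a * b) = I a + I b
  hX : ∀ a b, X (a * b) = X a + X b
  hmem : ∀ g, g ∈ R ↔ K g = 0 ∧ J g = 0 ∧ I g = 0 ∧ X g = 0
  he : K e = 0 ∧ J e = 0 ∧ I e = 1 ∧ X e = 0
  hz : K z = 1 ∧ J z = 0 ∧ I z = 0 ∧ X z = 0
  hw : K w = 0 ∧ J w = 1 ∧ I w = 0 ∧ X w = 0
  hx : K x = 0 ∧ J x = 0 ∧ I x = 0 ∧ X x = 1

namespace Coord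

variable {R : Subgroup G} {e z w x : G} (C : Coord p R e z w x)

/-- Two elements with the same coordinates. -/
def Same (a b : G) : Prop := C.K a = C.K b ∧ C.J a = C.J b ∧ C.I a = C.I b ∧ C.X a = C.X b

theorem one : C.K 1 = 0 ∧ C.J 1 = 0 ∧ C.I 1 = 0 ∧ C.X 1 = 0 := (C.hmem 1).1 R.one_mem

theorem inv (a : G) :
    C.K a⁻¹ = -C.K a + C.X a * C.I a ∧ C.J a⁻¹ = -C.J a ∧ C.I a⁻¹ = -C.I a ∧ C.X a⁻¹ = -C.X a := by
  obtain ⟨o1, o2, o3, o4⟩ := C.one
  have k1 := C.hK a a⁻¹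
  have k2 := C.hJ a a⁻¹
  have k3 := C.hI a a⁻¹
  have k4 := C.hX a a⁻¹
  rw [mul_inv_cancel, o1] at k1
  rw [mul_inv_cancel, o2] at k2
  rw [mul_inv_cancel, o3] at k3
  rw [mul_inv_cancel, o4] at k4
  exact ⟨by linear_combination -k1 + C.X a * k3, by linear_combination -k2,
    by linear_combination -k3, by linear_combination -k4⟩

theorem same_of_mem {a b : G} (h : a⁻¹ * b ∈ R) : C.Same a b := by
  obtain ⟨h1, h2, h3, h4⟩ := (C.hmem _).1 h
  have e' : b = a * (a⁻¹ * b) := by group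
  refine ⟨?_, ?_, ?_, ?_⟩ <;> (conv_rhs => rw [e'])
  · rw [C.hK, h1, h3]; ring
  · rw [C.hJ, h2]; ring
  · rw [C.hI, h3]; ring
  · rw [C.hX, h4]; ring

theorem mem_of_same {a b : G} (h : C.Same a b) : a⁻¹ * b ∈ R := by
  obtain ⟨h1, h2, h3, h4⟩ := h
  obtain ⟨i1, i2, i3, i4⟩ := C.inv a
  rw [C.hmem, C.hK, C.hJ, C.hI, C.hX, i1, i2, i3, i4, h1, h2, h3, h4]
  refine ⟨?_, ?_, ?_, ?_⟩ <;> ring

theorem comm (a b : G) :
    C.K ⁅a, b⁆ = C.X a * C.I b - C.X b * C.I a ∧ C.J ⁅a, b⁆ = 0 ∧ C.I ⁅a, b⁆ = 0 ∧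
      C.X ⁅a, b⁆ = 0 := by
  obtain ⟨a1, a2, a3, a4⟩ := C.inv a
  obtain ⟨b1, b2, b3, b4⟩ := C.inv b
  rw [commutatorElement_def]
  simp only [C.hK, C.hJ, C.hI, C.hX, a1, a2, a3, a4, b1, b2, b3, b4]
  refine ⟨?_, ?_, ?_, ?_⟩ <;> ring

theorem conj (c a : G) :
    C.K (c * a * c⁻¹) = C.K a + C.X c * C.I a - C.X a * C.I c ∧ C.J (c * a * c⁻¹) = C.J a ∧
      C.I (c * a * c⁻¹) = C.I a ∧ C.X (c * a * c⁻¹) = C.X a := by
  obtain ⟨a1, a2, a3, a4⟩ := C.inv c
  simp only [C.hK, C.hJ, C.hI, C.hX, a1, a2, a3, a4]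
  refine ⟨?_, ?_, ?_, ?_⟩ <;> ring

theorem pow (a : G) (n : ℕ) :
    C.K (a ^ n) = n * C.K a + (n.choose 2 : ℕ) * (C.X a * C.I a) ∧ C.J (a ^ n) = n * C.J a ∧
      C.I (a ^ n) = n * C.I a ∧ C.X (a ^ n) = n * C.X a := by
  induction n with
  | zero => simpa using C.one
  | succ n ih =>
    obtain ⟨h1, h2, h3, h4⟩ := ih
    rw [pow_succ, C.hK, C.hJ, C.hI, C.hX, h1, h2, h3, h4, Nat.choose_succ_succ' n 1,
      Nat.choose_one_right]
    push_cast
    refine ⟨?_, ?_, ?_, ?_⟩ <;> ring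

/-- The normal form of an element. -/
def form (g : G) : G :=
  z ^ (C.K g).val * w ^ (C.J g).val * e ^ (C.I g).val * x ^ (C.X g).val

theorem same_form (g : G) : C.Same (C.form g) g := by
  obtain ⟨e1, e2, e3, e4⟩ := C.he
  obtain ⟨z1, z2, z3, z4⟩ := C.hz
  obtain ⟨w1, w2, w3, w4⟩ := C.hw
  obtain ⟨x1, x2, x3, x4⟩ := C.hx
  simp only [Same, form, C.hK, C.hJ, C.hI, C.hX, (C.pow _ _).1, (C.pow _ _).2.1,
    (C.pow _ _).2.2.1, (C.pow _ _).2.2.2, e1, e2, e3, e4, z1, z2, z3, z4, w1, w2, w3, w4, x1, x2,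
    x3, x4, ZMod.natCast_zmod_val, mul_zero, zero_mul, mul_one, add_zero, zero_add, and_self]

/-- Evaluation of a function which is additive and vanishes on `R`. -/
theorem eval (f : G → ZMod p) (hf : ∀ a b, f (a * b) = f a + f b) (hfR : ∀ r ∈ R, f r = 0) (g : G) :
    f g = C.K g * f z + C.J g * f w + C.I g * f e + C.X g * f x := by
  have h1 : f 1 = 0 := by have := hf 1 1; rw [one_mul] at this; linear_combination -this
  have hpow : ∀ (a : G) (n : ℕ), f (a ^ n) = n * f a := by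
    intro a n
    induction n with
    | zero => simpa using h1
    | succ n ih => rw [pow_succ, hf, ih]; push_cast; ring
  have e' : g = C.form g * ((C.form g)⁻¹ * g) := by group
  conv_lhs => rw [e']
  rw [hf, hfR _ (C.mem_of_same (C.same_form g)), form, hf, hf, hf, hpow, hpow, hpow, hpow,
    ZMod.natCast_zmod_val, ZMod.natCast_zmod_val, ZMod.natCast_zmod_val, ZMod.natCast_zmod_val,
    add_zero]

variable {φ : MulAut G} (hφ : ∀ r ∈ R, φ r ∈ R)

include hφ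

theorem map_same {a b : G} (h : C.Same a b) : C.Same (φ a) (φ b) := by
  refine C.same_of_mem ?_
  rw [← map_inv, ← map_mul]
  exact hφ _ (C.mem_of_same h)

theorem map_central {a : G} (hI : C.I a = 0) (hX : C.X a = 0) :
    C.I (φ a) = 0 ∧ C.X (φ a) = 0 := by
  have key : ∀ u, C.X (φ a) * C.I u - C.X u * C.I (φ a) = 0 := by
    intro u
    have h1 : ⁅a, φ.symm u⁆ ∈ R := by
      obtain ⟨c1, c2, c3, c4⟩ := C.comm a (φ.symm u)
      rw [C.hmem, c1, c2, c3, c4, hI, hX]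
      simp
    have h2 := hφ _ h1
    rw [map_commutatorElement, MulEquiv.apply_symm_apply, C.hmem, (C.comm (φ a) u).1] at h2
    exact h2.1
  refine ⟨?_, ?_⟩
  · have h := key x
    rw [C.hx.2.2.1, C.hx.2.2.2] at h
    linear_combination -h
  · have h := key e
    rw [C.he.2.2.1, C.he.2.2.2] at h
    linear_combination h

theorem mapI (g : G) : C.I (φ g) = C.I g * C.I (φ e) + C.X g * C.I (φ x) := by
  rw [C.eval (fun g => C.I (φ g)) (fun a b => by rw [map_mul, C.hI])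
    (fun r hr => ((C.hmem _).1 (hφ r hr)).2.2.1) g,
    (C.map_central hφ C.hz.2.2.1 C.hz.2.2.2).1, (C.map_central hφ C.hw.2.2.1 C.hw.2.2.2).1]
  ring

theorem mapX (g : G) : C.X (φ g) = C.I g * C.X (φ e) + C.X g * C.X (φ x) := by
  rw [C.eval (fun g => C.X (φ g)) (fun a b => by rw [map_mul, C.hX])
    (fun r hr => ((C.hmem _).1 (hφ r hr)).2.2.2) g,
    (C.map_central hφ C.hz.2.2.1 C.hz.2.2.2).2, (C.map_central hφ C.hw.2.2.1 C.hw.2.2.2).2]
  ring

theorem map_z : C.K (φ z) = C.X (φ x) * C.I (φ e) - C.X (φ e) * C.I (φ x) ∧ C.J (φ z) = 0 := by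
  have h : C.Same ⁅x, e⁆ z := by
    obtain ⟨c1, c2, c3, c4⟩ := C.comm x e
    refine ⟨?_, ?_, ?_, ?_⟩ <;>
      simp only [c1, c2, c3, c4, C.he.2.2.1, C.hx.2.2.2, C.he.2.2.2, C.hx.2.2.1, C.hz.1,
        C.hz.2.1, C.hz.2.2.1, C.hz.2.2.2] <;> ring
  obtain ⟨h1, h2, -, -⟩ := C.map_same hφ h
  rw [map_commutatorElement] at h1 h2
  rw [← h1, ← h2]
  exact ⟨(C.comm _ _).1, (C.comm _ _).2.1⟩

theorem mapJ (g : G) :
    C.J (φ g) = C.J g * C.J (φ w) + C.I g * C.J (φ e) + C.X g * C.J (φ x) := by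
  rw [C.eval (fun g => C.J (φ g)) (fun a b => by rw [map_mul, C.hJ])
    (fun r hr => ((C.hmem _).1 (hφ r hr)).2.1) g, (C.map_z hφ).2]
  ring

/-- The first coordinate of the image of a central element. -/
theorem mapK_central {a : G} (hI : C.I a = 0) (hX : C.X a = 0) :
    C.K (φ a) = C.K a * C.K (φ z) + C.J a * C.K (φ w) := by
  obtain ⟨h1, -⟩ := C.map_same hφ (C.same_form a)
  rw [← h1, form, hI, hX, ZMod.val_zero, pow_zero, pow_zero, mul_one, mul_one, map_mul, map_pow,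
    map_pow, C.hK, (C.pow _ _).1, (C.pow _ _).1, (C.pow _ _).2.2.1, (C.pow _ _).2.2.2,
    (C.map_central hφ C.hz.2.2.1 C.hz.2.2.2).1, (C.map_central hφ C.hw.2.2.1 C.hw.2.2.2).1,
    ZMod.natCast_zmod_val, ZMod.natCast_zmod_val]
  ring

theorem symm_mem [Finite G] : ∀ r ∈ R, φ⁻¹ r ∈ R := by
  intro r hr
  obtain ⟨n, hn⟩ : ∃ n : ℕ, φ⁻¹ = φ ^ n :=
    ⟨orderOf φ - 1, inv_eq_of_mul_eq_one_right (by
      rw [← pow_succ', Nat.sub_add_cancel (orderOf_pos φ), pow_orderOf_eq_one])⟩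
  rw [hn]
  clear hn
  induction n with
  | zero => exact hr
  | succ n ih => rw [pow_succ', MulAut.mul_apply]; exact hφ _ ih

omit hφ

/-- The action on the quotient by the centre. -/
def mat (C : Coord p R e z w x) (φ : MulAut G) : Matrix (Fin 2) (Fin 2) (ZMod p) :=
  !![C.I (φ e), C.I (φ x); C.X (φ e), C.X (φ x)]

theorem mat_one : C.mat 1 = 1 := by
  simp [mat, C.he, C.hx, Matrix.one_fin_two]

theorem mat_mul {φ ψ : MulAut G} (hφ : ∀ r ∈ R, φ r ∈ R) :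
    C.mat (φ * ψ) = C.mat φ * C.mat ψ := by
  simp only [mat, MulAut.mul_apply, C.mapI hφ (ψ e), C.mapI hφ (ψ x), C.mapX hφ (ψ e),
    C.mapX hφ (ψ x), Matrix.mul_fin_two]
  ext i j
  fin_cases i <;> fin_cases j <;> simp <;> ring

theorem mat_pow {φ : MulAut G} (hφ : ∀ r ∈ R, φ r ∈ R) (n : ℕ) : C.mat (φ ^ n) = C.mat φ ^ n := by
  induction n with
  | zero => rw [pow_zero, pow_zero, C.mat_one]
  | succ n ih => rw [pow_succ', C.mat_mul hφ, ih, pow_succ']

theorem mat_conj (m : G) : C.mat (MulAut.conj m) = 1 := by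
  simp [mat, MulAut.conj_apply, (C.conj m _).2.2.1, (C.conj m _).2.2.2, C.he, C.hx,
    Matrix.one_fin_two]

/-- An automorphism of `p`-power order is unipotent. -/
theorem unip {φ : MulAut G} (hφ : ∀ r ∈ R, φ r ∈ R) {k : ℕ} (hk : φ ^ p ^ k = 1) :
    (C.I (φ e) - 1) + (C.X (φ x) - 1) = 0 ∧
      (C.I (φ e) - 1) * (C.X (φ x) - 1) = C.X (φ e) * C.I (φ x) ∧ C.J (φ w) = 1 := by
  have h1 : C.mat φ ^ p ^ k = 1 := by rw [← C.mat_pow hφ, hk, C.mat_one]
  set N := C.mat φ - 1 with hN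
  have h2 : IsNilpotent N := ⟨p ^ k, by
    rw [hN, sub_pow_char_pow_of_commute (n := k) (p := p) (Commute.one_right _), h1, one_pow,
      sub_self]⟩
  refine ⟨?_, ?_, ?_⟩
  · have := (Matrix.isNilpotent_trace_of_isNilpotent h2).eq_zero
    simpa [hN, mat, Matrix.trace_fin_two, Matrix.one_fin_two] using this
  · obtain ⟨m, hm⟩ := h2
    have := congrArg Matrix.det hm
    rw [Matrix.det_pow, Matrix.det_zero] at this
    have h3 := (pow_eq_zero_iff'.1 this).1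
    rw [hN, Matrix.det_fin_two] at h3
    simp [mat, Matrix.one_fin_two] at h3
    linear_combination h3
  · have h3 : ∀ n : ℕ, C.J ((φ ^ n) w) = C.J (φ w) ^ n := by
      intro n
      induction n with
      | zero => simpa using C.hw.2.1
      | succ n ih =>
        have h4 : C.I ((φ ^ n) w) = 0 ∧ C.X ((φ ^ n) w) = 0 := by
          clear ih
          induction n with
          | zero => exact ⟨C.hw.2.2.1, C.hw.2.2.2⟩
          | succ n ih => rw [pow_succ', MulAut.mul_apply]; exact C.map_central hφ ih.1 ih.2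
        rw [pow_succ', MulAut.mul_apply, C.mapJ hφ, ih, h4.1, h4.2, pow_succ]
        ring
    have h4 := h3 (p ^ k)
    rw [hk, MulAut.one_apply, C.hw.2.1, ZMod.pow_card_pow] at h4
    exact h4.symm

end Coord

end H72.RankThree
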