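/-
The regular unipotent case: no essential-like subgroup with three Frattini generators has two
other such neighbours.
-/
import Cfsg.Agent.H72.RankThreeFrattini

set_option autoImplicit false

namespace H72.RankThree

open scoped commutatorElement

variable {G : Type*} [Group G] {p : ℕ} [hp : Fact p.Prime]

/-! ### Class two bookkeeping -/

section ClassTwo

variable {Q : Type*} [Group Q] {q : G →* Q} {E : Subgroup G}

theorem comm_mul_right (hc : ∀ a ∈ E, ∀ b ∈ E, ∀ c ∈ E, Commute (q ⁅a, b⁆) (q c)) {a b b' : G}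
    (ha : a ∈ E) (hb : b ∈ E) (hb' : b' ∈ E) : q ⁅a, b * b'⁆ = q ⁅a, b⁆ * q ⁅a, b'⁆ := by
  have e : ⁅a, b * b'⁆ = ⁅a, b⁆ * (b * ⁅a, b'⁆ * b⁻¹) := by
    simp only [commutatorElement_def]; group
  rw [e, map_mul, map_mul, map_mul, map_inv, ← (hc a ha b' hb' b hb).eq, mul_inv_cancel_right]

theorem comm_zpow_right (hc : ∀ a ∈ E, ∀ b ∈ E, ∀ c ∈ E, Commute (q ⁅a, b⁆) (q c)) {a b : G}
    (ha : a ∈ E) (hb : b ∈ E) (i : ℤ) : q ⁅a, b ^ i⁆ = q ⁅a, b⁆ ^ i :=
  map_zpow ({ toFun := fun b : E => q ⁅a, (b : G)⁆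
              map_one' := by simp [commutatorElement_def]
              map_mul' := fun b b' => by
                rw [Subgroup.coe_mul, comm_mul_right hc ha b.2 b'.2] } : E →* Q) ⟨b, hb⟩ i

theorem comm_zpow_left (hc : ∀ a ∈ E, ∀ b ∈ E, ∀ c ∈ E, Commute (q ⁅a, b⁆) (q c)) {a b : G}
    (ha : a ∈ E) (hb : b ∈ E) (i : ℤ) : q ⁅a ^ i, b⁆ = q ⁅a, b⁆ ^ i := by
  rw [← commutatorElement_inv b, map_inv, comm_zpow_right hc hb ha, ← commutatorElement_inv a b,
    map_inv, inv_zpow, inv_inv]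

theorem comm_mul_left (hc : ∀ a ∈ E, ∀ b ∈ E, ∀ c ∈ E, Commute (q ⁅a, b⁆) (q c)) {a a' b : G}
    (ha : a ∈ E) (ha' : a' ∈ E) (hb : b ∈ E) : q ⁅a * a', b⁆ = q ⁅a, b⁆ * q ⁅a', b⁆ := by
  rw [← commutatorElement_inv b, map_inv, comm_mul_right hc hb ha ha', mul_inv_rev, ← map_inv,
    ← map_inv, commutatorElement_inv, commutatorElement_inv]
  have h : Commute (q ⁅a', b⁆) (q ⁅a, b⁆) :=
    hc a' ha' b hb _ (E.mul_mem (E.mul_mem (E.mul_mem ha hb) (E.inv_mem ha)) (E.inv_mem hb))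
  exact h.eq

end ClassTwo

theorem dvd_of_zpow_mem {H : Subgroup G} {a : G} (ha : a ∉ H) (hap : a ^ p ∈ H) {i : ℤ}
    (hi : a ^ i ∈ H) : (p : ℤ) ∣ i := by
  by_contra h
  obtain ⟨s, t, hst⟩ := ((Nat.prime_iff_prime_int.mp hp.out).coprime_iff_not_dvd).mpr h
  refine ha ?_
  have h1 : (a ^ (p : ℤ)) ^ s * (a ^ i) ^ t ∈ H :=
    H.mul_mem (H.zpow_mem (by rwa [zpow_natCast]) s) (H.zpow_mem hi t)
  rwa [← zpow_mul, ← zpow_mul, ← zpow_add, mul_comm (p : ℤ), mul_comm i, hst, zpow_one] at h1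

theorem zpow_mem_of_dvd {H : Subgroup G} {a : G} (hap : a ^ p ∈ H) {i : ℤ} (hi : (p : ℤ) ∣ i) :
    a ^ i ∈ H := by
  obtain ⟨j, rfl⟩ := hi
  rw [zpow_mul, zpow_natCast]
  exact H.zpow_mem hap j

/-- The configuration: a regular unipotent action on the Frattini quotient of a normal subgroup of
index `p`, no invariant subgroups, and two further neighbours, is impossible. -/
theorem jordan_false [Finite G] (hp5 : 5 ≤ p) (hG : IsPGroup p G)
    (hr : Cfsg.SectionalPRankLE p 3 G) (E : Subgroup G) (hidx : E.index = p)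
    (hfr : (fr E).relIndex E = p ^ 3)
    (hJ : ∀ x, x ∉ E → ∃ e ∈ E, ⁅x, ⁅x, e⁆⁆ ∉ fr E)
    (A : Set (MulAut E))
    (hirr : ∀ U : Subgroup G, fr E ≤ U → U ≤ E →
      (∀ α ∈ A, ∀ y : E, (y : G) ∈ U → ((α y : E) : G) ∈ U) → U = fr E ∨ U = E)
    (E' E'' : Subgroup G) (hidx' : E'.index = p) (hidx'' : E''.index = p)
    (hfr' : (fr E').relIndex E' = p ^ 3) (hfr'' : (fr E'').relIndex E'' = p ^ 3)
    (hne' : E' ≠ E) (hne'' : E'' ≠ E) (hne : E'' ≠ E') : False := by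
  classical
  haveI hEn := normal_of_index hG hidx
  haveI hE'n := normal_of_index hG hidx'
  haveI hE''n := normal_of_index hG hidx''
  haveI := fr_normal E
  haveI := fr_normal E'
  haveI := fr_normal E''
  have hp1 := hp.out.one_lt
  obtain ⟨hRE, hRc, hRp⟩ := elemOver_fr hG E
  set R := fr E with hR
  -- the chain `R < U₁ < U₂ < E`
  set U₂ := ⁅(⊤ : Subgroup G), E⁆ ⊔ R with hU₂
  set U₁ := ⁅(⊤ : Subgroup G), U₂⁆ ⊔ R with hU₁
  haveI hU₂n : U₂.Normal := inferInstance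
  haveI hU₁n : U₁.Normal := inferInstance
  have hU₂E : U₂ ≤ E := sup_le (Subgroup.commutator_le_right _ _) hRE
  have hU₁U₂ : U₁ ≤ U₂ := sup_le (Subgroup.commutator_le_right _ _) le_sup_right
  have hRU₁ : R ≤ U₁ := le_sup_right
  have hcomE : ∀ g, ∀ a ∈ E, ⁅g, a⁆ ∈ U₂ := fun g a ha =>
    Subgroup.mem_sup_left (Subgroup.commutator_mem_commutator (Subgroup.mem_top g) ha)
  have hcomU : ∀ g, ∀ a ∈ U₂, ⁅g, a⁆ ∈ U₁ := fun g a ha =>
    Subgroup.mem_sup_left (Subgroup.commutator_mem_commutator (Subgroup.mem_top g) ha)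
  obtain ⟨g₀, hg₀⟩ : ∃ g, g ∉ E := by
    by_contra! h
    rw [(eq_top_iff.2 fun g _ => h g : E = ⊤), Subgroup.index_top] at hidx
    omega
  have hRltU₁ : R < U₁ := by
    refine lt_of_le_of_ne hRU₁ fun h => ?_
    obtain ⟨e, he, hne0⟩ := hJ g₀ hg₀
    exact hne0 (h ▸ hcomU _ _ (hcomE _ e he))
  have hU₁ltU₂ : U₁ < U₂ := lt_of_le_of_ne hU₁U₂ fun h =>
    commutator_sup_ne hG (lt_of_lt_of_le hRltU₁ hU₁U₂) h.ge
  have hU₂ltE : U₂ < E := lt_of_le_of_ne hU₂E fun h =>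
    commutator_sup_ne hG ((lt_of_lt_of_le hRltU₁ hU₁U₂).trans_le hU₂E) h.ge
  obtain ⟨hi₁, hi₂, hi₃⟩ :
      R.relIndex U₁ = p ∧ U₁.relIndex U₂ = p ∧ U₂.relIndex E = p := by
    obtain ⟨a, ha⟩ := exists_pow_relIndex hG R U₁
    obtain ⟨b, hb⟩ := exists_pow_relIndex hG U₁ U₂
    obtain ⟨c, hc⟩ := exists_pow_relIndex hG U₂ E
    have h := hfr
    rw [← Subgroup.relIndex_mul_relIndex R U₁ E hRU₁ (hU₁U₂.trans hU₂E),
      ← Subgroup.relIndex_mul_relIndex U₁ U₂ E hU₁U₂ hU₂E, ha, hb, hc, ← pow_add, ← pow_add] at h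
    have := Nat.pow_right_injective hp.out.two_le h
    have ha0 : a ≠ 0 := fun h0 => not_le_of_gt hRltU₁
      (Subgroup.relIndex_eq_one.1 (by rw [ha, h0, pow_zero]))
    have hb0 : b ≠ 0 := fun h0 => not_le_of_gt hU₁ltU₂
      (Subgroup.relIndex_eq_one.1 (by rw [hb, h0, pow_zero]))
    have hc0 : c ≠ 0 := fun h0 => not_le_of_gt hU₂ltE
      (Subgroup.relIndex_eq_one.1 (by rw [hc, h0, pow_zero]))
    obtain ⟨rfl, rfl, rfl⟩ : a = 1 ∧ b = 1 ∧ c = 1 := by omega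
    exact ⟨by rw [ha, pow_one], by rw [hb, pow_one], by rw [hc, pow_one]⟩
  have hRU₂ : R ≤ U₂ := hRU₁.trans hU₁U₂
  have hL2 : R.relIndex U₂ = p ^ 2 := by
    rw [← Subgroup.relIndex_mul_relIndex R U₁ U₂ hRU₁ hU₁U₂, hi₁, hi₂, pow_two]
  -- every maximal subgroup contains `U₂`; two of them meet in it
  have hU₂max : ∀ {M : Subgroup G}, M.index = p → U₂ ≤ M := fun hM =>
    sup_le ((Subgroup.commutator_le).2 fun a _ b _ => commutator_mem_of_index hG hM a b)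
      (fr_le_of_index hG hM E)
  have hEE' : U₂ = E ⊓ E' := eq_of_relIndex_eq (le_inf hU₂E (hU₂max hidx')) inf_le_left
    (by rw [hi₃, relIndex_inf_of_index hG hidx hidx' hne'])
  have hEE'' : U₂ = E ⊓ E'' := eq_of_relIndex_eq (le_inf hU₂E (hU₂max hidx'')) inf_le_left
    (by rw [hi₃, relIndex_inf_of_index hG hidx hidx'' hne''])
  have hstep : ∀ {M : Subgroup G}, M.index = p → U₂.relIndex M = p := by
    intro M hM
    have h1 := Subgroup.relIndex_mul_index (hU₂max hM)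
    have h2 := Subgroup.relIndex_mul_index hU₂E
    rw [hM] at h1
    rw [hi₃, hidx] at h2
    exact Nat.eq_of_mul_eq_mul_right hp.out.pos (h1.trans h2.symm)
  have hE'E'' : U₂ = E' ⊓ E'' := eq_of_relIndex_eq (le_inf (hU₂max hidx') (hU₂max hidx''))
    inf_le_left (by rw [hstep hidx', relIndex_inf_of_index hG hidx' hidx'' hne])
  obtain ⟨x, hxE', hxE⟩ : ∃ x ∈ E', x ∉ E := by
    by_contra! h
    have h2 := Subgroup.relIndex_mul_index (show E' ≤ E from h)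
    rw [hidx, hidx'] at h2
    exact hne' (le_antisymm h (Subgroup.relIndex_eq_one.1
      (Nat.eq_of_mul_eq_mul_right hp.out.pos (h2.trans (one_mul p).symm))))
  obtain ⟨e, heE, heu⟩ : ∃ e ∈ E, e * x ∈ E'' := by
    obtain ⟨g, hg, hgE⟩ : ∃ g ∈ E'', g ∉ E := by
      by_contra! h
      have h2 := Subgroup.relIndex_mul_index (show E'' ≤ E from h)
      rw [hidx, hidx''] at h2
      exact hne'' (le_antisymm h (Subgroup.relIndex_eq_one.1
        (Nat.eq_of_mul_eq_mul_right hp.out.pos (h2.trans (one_mul p).symm))))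
    have htop : (⊤ : Subgroup G) = E ⊔ Subgroup.zpowers g :=
      eq_sup_of_relIndex le_top (by rw [Subgroup.relIndex_top_right, hidx]) (Subgroup.mem_top g) hgE
    obtain ⟨y, hy, gi, hgi, hxy⟩ :=
      Subgroup.mem_sup_of_normal_left.1 (htop ▸ Subgroup.mem_top x : x ∈ E ⊔ Subgroup.zpowers g)
    refine ⟨y⁻¹, E.inv_mem hy, ?_⟩
    rw [← hxy, inv_mul_cancel_left]
    exact (Subgroup.zpowers_le.2 hg) hgi
  have heU₂ : e ∉ U₂ := by
    intro h
    refine hxE (hU₂E ?_)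
    rw [hE'E'']
    refine ⟨hxE', ?_⟩
    simpa using E''.mul_mem (E''.inv_mem (hU₂max hidx'' h)) heu
  have hEgen : E = U₂ ⊔ Subgroup.zpowers e := eq_sup_of_relIndex hU₂E hi₃ heE heU₂
  -- the chain of `e` under `x`
  set v := e⁻¹ * x * e * x⁻¹ with hv
  have hxe : x * e = e * v * x := by rw [hv]; group
  have hvU₂ : v ∈ U₂ := by
    have : v = ⁅e⁻¹, x⁆ := by simp [hv, commutatorElement_def]
    rw [this, ← commutatorElement_inv]
    exact inv_mem (hcomE _ _ (E.inv_mem heE))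
  have hU₁step : ∀ g, ∀ a ∈ U₁, ⁅g, a⁆ ∈ R := fun g a ha =>
    commutator_mem_of_relIndex_prime hG hRU₁ hi₁ g ha
  obtain ⟨e₁, he₁, hz₁⟩ := hJ x hxE
  have hvU₁ : v ∉ U₁ := by
    intro h
    refine hz₁ (hU₁step _ _ ?_)
    let C := (Subgroup.centralizer {QuotientGroup.mk' U₁ x}).comap (QuotientGroup.mk' U₁)
    have hmemC : ∀ a, a ∈ C ↔ ⁅x, a⁆ ∈ U₁ := fun a => by
      rw [Subgroup.mem_comap, Subgroup.mem_centralizer_singleton_iff, ← commutatorElement_eq_one_iff_mul_comm,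
        ← map_commutatorElement, QuotientGroup.mk'_apply, QuotientGroup.eq_one_iff,
        ← commutatorElement_inv x a, inv_mem_iff]
    have hEC : E ≤ C := by
      rw [hEgen]
      refine sup_le (fun a ha => (hmemC a).2 (hcomU x a ha)) ((Subgroup.zpowers_le).2 ((hmemC e).2 ?_))
      have : ⁅x, e⁆ = e * v * e⁻¹ := by rw [hv]; simp [commutatorElement_def, mul_assoc]
      rw [this]
      exact hU₁n.conj_mem _ h e
    exact (hmemC e₁).1 (hEC he₁)
  have hU₂gen : U₂ = U₁ ⊔ Subgroup.zpowers v := eq_sup_of_relIndex hU₁U₂ hi₂ hvU₂ hvU₁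
  set z := v⁻¹ * x * v * x⁻¹ with hz
  have hxv : x * v = v * z * x := by rw [hz]; group
  have hzU₁ : z ∈ U₁ := by
    have : z = ⁅v⁻¹, x⁆ := by simp [hz, commutatorElement_def]
    rw [this, ← commutatorElement_inv]
    exact inv_mem (hcomU _ _ (U₂.inv_mem hvU₂))
  have hzR : z ∉ R := by
    intro h
    refine hz₁ ?_
    let C := (Subgroup.centralizer {QuotientGroup.mk' R x}).comap (QuotientGroup.mk' R)
    have hmemC : ∀ a, a ∈ C ↔ ⁅x, a⁆ ∈ R := fun a => by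
      rw [Subgroup.mem_comap, Subgroup.mem_centralizer_singleton_iff, ← commutatorElement_eq_one_iff_mul_comm,
        ← map_commutatorElement, QuotientGroup.mk'_apply, QuotientGroup.eq_one_iff,
        ← commutatorElement_inv x a, inv_mem_iff]
    have hUC : U₂ ≤ C := by
      rw [hU₂gen]
      refine sup_le (fun a ha => (hmemC a).2 (hU₁step x a ha))
        ((Subgroup.zpowers_le).2 ((hmemC v).2 ?_))
      have : ⁅x, v⁆ = v * z * v⁻¹ := by rw [hz]; simp [commutatorElement_def, mul_assoc]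
      rw [this]
      exact (fr_normal E).conj_mem _ h v
    exact (hmemC _).1 (hUC (hcomE x e₁ he₁))
  have hU₁gen : U₁ = R ⊔ Subgroup.zpowers z := eq_sup_of_relIndex hRU₁ hi₁ hzU₁ hzR
  have hvE : v ∈ E := hU₂E hvU₂
  have hzE : z ∈ E := hU₂E (hU₁U₂ hzU₁)
  -- the three Frattini subgroups meet in a hyperplane `R₀` of `R`
  obtain ⟨hR'E', hR'c, hR'p⟩ := elemOver_fr hG E'
  obtain ⟨hR''E'', hR''c, hR''p⟩ := elemOver_fr hG E''
  set R' := fr E' with hR'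
  set R'' := fr E'' with hR''
  set R₀ := R ⊓ (R' ⊓ R'') with hR₀
  haveI hR₀n : R₀.Normal := inferInstance
  have hR₀R : R₀ ≤ R := inf_le_left
  have hR₀R' : R₀ ≤ R' := inf_le_right.trans inf_le_left
  have hR₀R'' : R₀ ≤ R'' := inf_le_right.trans inf_le_right
  have hR'U₂ : R' ≤ U₂ := by
    rw [hEE']
    exact le_inf (fr_le_of_index hG hidx E') hR'E'
  have hR''U₂ : R'' ≤ U₂ := by
    rw [hEE'']
    exact le_inf (fr_le_of_index hG hidx E'') hR''E''
  have hU₂0 : ElemOver p U₂ R₀ := by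
    refine ⟨hR₀R.trans hRU₂, fun a ha b hb => ?_, fun a ha => ?_⟩
    · exact ⟨hRc a (hU₂E ha) b (hU₂E hb), hR'c a (hU₂max hidx' ha) b (hU₂max hidx' hb),
        hR''c a (hU₂max hidx'' ha) b (hU₂max hidx'' hb)⟩
    · exact ⟨hRp a (hU₂E ha), hR'p a (hU₂max hidx' ha), hR''p a (hU₂max hidx'' ha)⟩
  have hR'2 : R'.relIndex U₂ = p ^ 2 := by
    have h1 := Subgroup.relIndex_mul_relIndex R' U₂ E' hR'U₂ (hU₂max hidx')
    rw [hstep hidx', hfr', pow_succ] at h1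
    exact Nat.eq_of_mul_eq_mul_right hp.out.pos h1
  have hR''2 : R''.relIndex U₂ = p ^ 2 := by
    have h1 := Subgroup.relIndex_mul_relIndex R'' U₂ E'' hR''U₂ (hU₂max hidx'')
    rw [hstep hidx'', hfr'', pow_succ] at h1
    exact Nat.eq_of_mul_eq_mul_right hp.out.pos h1
  set z₀ := ⁅x, v⁆ with hz₀
  have hz₀R' : z₀ ∈ R' := hR'c x hxE' v (hU₂max hidx' hvU₂)
  have hz₀z : z₀ = v * z * v⁻¹ := by rw [hz₀, hz]; simp [commutatorElement_def, mul_assoc]
  have hz₀R : z₀ ∉ R := by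
    intro h
    rw [hz₀z] at h
    refine hzR ?_
    have := (fr_normal E).conj_mem _ h v⁻¹
    simpa [mul_assoc] using this
  obtain ⟨hRi, hR'i, hR''i⟩ :
      R₀.relIndex R = p ∧ R₀.relIndex R' = p ∧ R₀.relIndex R'' = p := by
    obtain ⟨a, ha⟩ := exists_pow_relIndex hG R₀ U₂
    have hle := relIndex_le_of_elemOver hr hU₂0
    rw [ha] at hle
    have ha3 : a ≤ 3 := (Nat.pow_le_pow_iff_right hp1).1 hle
    have key : ∀ {W : Subgroup G}, R₀ ≤ W → W ≤ U₂ → W.relIndex U₂ = p ^ 2 →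
        R₀.relIndex W * p ^ 2 = p ^ a := by
      intro W h1 h2 h3
      rw [← h3, Subgroup.relIndex_mul_relIndex R₀ W U₂ h1 h2, ha]
    have hR1 := key hR₀R hRU₂ hL2
    have hne1 : R₀.relIndex R ≠ 1 := by
      intro h
      have hle' : R ≤ R' := (Subgroup.relIndex_eq_one.1 h).trans hR₀R'
      exact hz₀R ((eq_of_relIndex_eq hle' hR'U₂ (by rw [hL2, hR'2])).symm ▸ hz₀R')
    obtain ⟨i, hi⟩ := exists_pow_relIndex hG R₀ R
    rw [hi, ← pow_add] at hR1
    have hi1 := Nat.pow_right_injective hp.out.two_le hR1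
    have hi0 : i ≠ 0 := fun h0 => hne1 (by rw [hi, h0, pow_zero])
    have ha' : a = 3 := by omega
    have hall : ∀ {W : Subgroup G}, R₀ ≤ W → W ≤ U₂ → W.relIndex U₂ = p ^ 2 →
        R₀.relIndex W = p := by
      intro W h1 h2 h3
      have := key h1 h2 h3
      rw [ha'] at this
      exact Nat.eq_of_mul_eq_mul_right (pow_pos hp.out.pos 2) (this.trans (by ring))
    exact ⟨hall hR₀R hRU₂ hL2, hall hR₀R' hR'U₂ hR'2, hall hR₀R'' hR''U₂ hR''2⟩
  let q := QuotientGroup.mk' R₀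
  have hq : ∀ {a}, q a = 1 ↔ a ∈ R₀ := fun {a} => QuotientGroup.eq_one_iff a
  have hcen : ∀ {W : Subgroup G} [W.Normal], R₀ ≤ W → R₀.relIndex W = p → ∀ a ∈ W, ∀ g,
      Commute (q a) (q g) := by
    intro W _ h1 h2 a ha g
    rw [commute_iff_eq, ← commutatorElement_eq_one_iff_mul_comm, ← map_commutatorElement, hq,
      ← commutatorElement_inv, inv_mem_iff]
    exact commutator_mem_of_relIndex_prime hG h1 h2 g ha
  have hcR : ∀ a ∈ R, ∀ g, Commute (q a) (q g) := hcen hR₀R hRi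
  have hqz₀ : ∀ g, Commute (q z₀) (q g) := hcen hR₀R' hR'i z₀ hz₀R'
  have hqz : q z = q z₀ := by
    have h : z = v⁻¹ * z₀ * v := by rw [hz₀z]; group
    rw [h, map_mul, map_mul, map_inv, mul_assoc, (hqz₀ v).eq, inv_mul_cancel_left]
  have hcz : ∀ g, Commute (q z) (q g) := fun g => hqz ▸ hqz₀ g
  have hz₀R₀ : z₀ ∉ R₀ := fun h => hz₀R (hR₀R h)
  have hzR₀ : z ∉ R₀ := fun h => hzR (hR₀R h)
  have hR'gen : R' = R₀ ⊔ Subgroup.zpowers z₀ := eq_sup_of_relIndex hR₀R' hR'i hz₀R' hz₀R₀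
  have hRR' : ∀ a ∈ R, a ∈ R' → a ∈ R₀ := by
    intro a ha ha'
    by_contra hn
    refine hz₀R ?_
    have e1 := eq_sup_of_relIndex hR₀R' hR'i ha' hn
    exact (sup_le hR₀R ((Subgroup.zpowers_le).2 ha)) (e1 ▸ hz₀R')
  have hzpow : ∀ {g : G}, g ∈ U₂ → q g ^ p = 1 := fun {g} hg => by
    rw [← map_pow, hq]; exact hU₂0.2.2 g hg
  -- `e`
  set y := ⁅e, v⁆ with hy
  have hyR : y ∈ R := hRc e heE v hvE
  set y₁ := v⁻¹ * e⁻¹ * v * e with hy₁
  have hve : v * e = e * v * y₁ := by rw [hy₁]; group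
  have hy₁R : y₁ ∈ R := by
    have : y₁ = ⁅v⁻¹, e⁻¹⁆ := by simp [hy₁, commutatorElement_def]
    rw [this]; exact hRc _ (E.inv_mem hvE) _ (E.inv_mem heE)
  obtain ⟨d2, d3, -⟩ := dvd_choose_of_five_le hp.out hp5
  have hux : q ((e * x) ^ p) = q (e ^ p) * q (x ^ p) := by
    rw [map_pow, map_mul, mul_pow_of_steps (x := q x) (e := q e) (v := q v) (z := q z) (y := q y₁)
      (by rw [← map_mul, hxe, map_mul, map_mul]) (by rw [← map_mul, hxv, map_mul, map_mul])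
      (hcz x).symm (by rw [← map_mul, hve, map_mul, map_mul]) (hcR _ hy₁R e).symm
      (hcR _ hy₁R v).symm (hcz e).symm (hcz v).symm (hcR _ hy₁R z) p,
      pow_eq_one_of_dvd (hzpow hvU₂) d2, pow_eq_one_of_dvd (hzpow (hU₁U₂ hzU₁)) d3,
      pow_eq_one_of_dvd (hzpow (hRU₂ hy₁R)) d3]
    simp
  have hxp : x ^ p ∈ R' := hR'p x hxE'
  have huv : ⁅e * x, v⁆ ∈ R'' := hR''c _ heu v (hU₂max hidx'' hvU₂)
  have hquv : q ⁅e * x, v⁆ = q z * q y := by
    have h : ⁅e * x, v⁆ = e * z₀ * e⁻¹ * ⁅e, v⁆ := by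
      rw [hz₀]; simp only [commutatorElement_def]; group
    rw [h, map_mul, map_mul, map_mul, map_inv, ← hqz, ← (hcz e).eq, mul_inv_cancel_right]
  have hyR₀ : y ∉ R₀ := by
    intro hy0
    have hzR'' : z ∈ R'' := by
      have : q (⁅e * x, v⁆⁻¹ * z) = 1 := by
        rw [map_mul, map_inv, hquv, hq.2 hy0, mul_one, inv_mul_cancel]
      have h2 := R''.mul_mem huv (hR₀R'' (hq.1 this))
      rwa [mul_inv_cancel_left] at h2
    have hR''eq : R'' = R' := by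
      rw [hR'gen, eq_sup_of_relIndex hR₀R'' hR''i hzR'' hzR₀]
      refine le_antisymm (sup_le le_sup_left ((Subgroup.zpowers_le).2 ?_))
        (sup_le le_sup_left ((Subgroup.zpowers_le).2 ?_))
      · have : q (z₀⁻¹ * z) = 1 := by rw [map_mul, map_inv, hqz, inv_mul_cancel]
        have h2 := Subgroup.mul_mem_sup (Subgroup.one_mem R₀) (Subgroup.mem_zpowers z₀)
        rw [one_mul] at h2
        have h3 := mul_mem h2 (Subgroup.mem_sup_left (hq.1 this) :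
          z₀⁻¹ * z ∈ R₀ ⊔ Subgroup.zpowers z₀)
        rwa [mul_inv_cancel_left] at h3
      · have : q (z⁻¹ * z₀) = 1 := by rw [map_mul, map_inv, hqz, inv_mul_cancel]
        have h2 := Subgroup.mul_mem_sup (Subgroup.one_mem R₀) (Subgroup.mem_zpowers z)
        rw [one_mul] at h2
        have h3 := mul_mem h2 (Subgroup.mem_sup_left (hq.1 this) :
          z⁻¹ * z₀ ∈ R₀ ⊔ Subgroup.zpowers z)
        rwa [mul_inv_cancel_left] at h3
    have hep : e ^ p ∈ R₀ := by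
      refine hRR' _ (hRp e heE) ?_
      have h1 : q (((e * x) ^ p * (x ^ p)⁻¹)⁻¹ * e ^ p) = 1 := by
        rw [map_mul, map_inv, map_mul, map_inv, hux, mul_inv_cancel_right, inv_mul_cancel]
      have h2 : (e * x) ^ p * (x ^ p)⁻¹ ∈ R' :=
        R'.mul_mem (hR''eq ▸ hR''p _ heu) (R'.inv_mem hxp)
      have h3 := R'.mul_mem h2 (hR₀R' (hq.1 h1))
      rwa [mul_inv_cancel_left] at h3
    let C := (Subgroup.centralizer {q e}).comap q
    have hmemC : ∀ a, a ∈ C ↔ ⁅e, a⁆ ∈ R₀ := fun a => by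
      rw [Subgroup.mem_comap, Subgroup.mem_centralizer_singleton_iff,
        ← commutatorElement_eq_one_iff_mul_comm, ← map_commutatorElement, hq,
        ← commutatorElement_inv e a, inv_mem_iff]
    have hU₂C : U₂ ≤ C := by
      rw [hU₂gen, hU₁gen]
      refine sup_le (sup_le (fun a ha => ?_) ((Subgroup.zpowers_le).2 ?_))
        ((Subgroup.zpowers_le).2 ((hmemC v).2 hy0))
      · exact Subgroup.mem_centralizer_singleton_iff.2 (hcR a ha e).eq
      · exact Subgroup.mem_centralizer_singleton_iff.2 (hcz e).eq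
    have hEl := elemOver_sup_zpowers hU₂0 (fun a ha => (hmemC a).1 (hU₂C ha)) hep
    rw [← hEgen] at hEl
    have h4 := relIndex_le_of_elemOver hr hEl
    rw [← Subgroup.relIndex_mul_relIndex R₀ R E hR₀R hRE, hRi, hfr, ← pow_succ'] at h4
    exact absurd ((Nat.pow_le_pow_iff_right hp1).1 h4) (by omega)
  have hRgen : R = R₀ ⊔ Subgroup.zpowers y := eq_sup_of_relIndex hR₀R hRi hyR hyR₀
  have hzy : ⁅e * x, v⁆ ∉ R₀ := by
    intro h
    refine hzR ?_
    have h2 : q (z * y) = 1 := by rw [map_mul, ← hquv, hq.2 h]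
    have := R.mul_mem (hR₀R (hq.1 h2)) (R.inv_mem hyR)
    rwa [mul_inv_cancel_right] at this
  have hR''gen : R'' = R₀ ⊔ Subgroup.zpowers ⁅e * x, v⁆ :=
    eq_sup_of_relIndex hR₀R'' hR''i huv hzy
  have hread : ∀ {a g : G}, a ∈ R₀ ⊔ Subgroup.zpowers g → ∃ i : ℤ, q a = q g ^ i := by
    intro a g ha
    obtain ⟨r, hr', w, hw, rfl⟩ := Subgroup.mem_sup_of_normal_left.1 ha
    obtain ⟨i, rfl⟩ := Subgroup.mem_zpowers_iff.1 hw
    exact ⟨i, by rw [map_mul, hq.2 hr', one_mul, map_zpow]⟩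
  obtain ⟨lam, hlam⟩ := hread (hR'gen ▸ hxp)
  obtain ⟨a, ha⟩ := hread (hRgen ▸ hRp e heE)
  obtain ⟨m, hm⟩ := hread (hR''gen ▸ hR''p _ heu)
  rw [← hqz] at hlam
  have hcancel : ∀ {g : G}, g ^ p ∈ R₀ → ∀ {i : ℤ}, (p : ℤ) ∣ i → q g ^ i = 1 := fun hg _ hi => by
    rw [← map_zpow, hq]; exact zpow_mem_of_dvd hg hi
  have hal : q (e ^ p) = q y ^ lam := by
    rw [hux, ha, hlam, hquv, (hcz y).mul_zpow] at hm
    have e1 : q y ^ (a - m) = q z ^ (m - lam) := by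
      rw [zpow_sub, zpow_sub]
      have hc : Commute (q y ^ a) (q z ^ lam) := (hcR y hyR z).zpow_zpow _ _
      calc q y ^ a * (q y ^ m)⁻¹ = (q y ^ a * q z ^ lam) * (q z ^ lam)⁻¹ * (q y ^ m)⁻¹ := by group
        _ = q z ^ m * (q y ^ m * (q z ^ lam)⁻¹) * (q y ^ m)⁻¹ := by rw [hm]; group
        _ = q z ^ m * ((q z ^ lam)⁻¹ * q y ^ m) * (q y ^ m)⁻¹ := by
            rw [(((hcR y hyR z).zpow_zpow m lam).inv_right).eq]
        _ = q z ^ m * (q z ^ lam)⁻¹ := by group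
    have hmem : (y ^ (a - m))⁻¹ * z ^ (m - lam) ∈ R₀ := hq.1 (by
      rw [map_mul, map_inv, map_zpow, map_zpow, e1, inv_mul_cancel])
    have hd1 : (p : ℤ) ∣ m - lam := by
      refine dvd_of_zpow_mem hzR (hRp z hzE) ?_
      have := R.mul_mem (R.zpow_mem hyR (a - m)) (hR₀R hmem)
      rwa [mul_inv_cancel_left] at this
    have hd2 : (p : ℤ) ∣ a - m := by
      refine dvd_of_zpow_mem hyR₀ (hU₂0.2.2 y (hRU₂ hyR)) ?_
      have h5 := zpow_mem_of_dvd (hU₂0.2.2 z (hU₁U₂ hzU₁)) hd1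
      have := R₀.mul_mem hmem (R₀.inv_mem h5)
      rw [mul_inv_cancel_right] at this
      simpa using R₀.inv_mem this
    have : q y ^ a = q y ^ lam := by
      rw [show a = lam + ((a - m) + (m - lam)) by ring, zpow_add,
        hcancel (hU₂0.2.2 y (hRU₂ hyR)) (dvd_add hd2 hd1), mul_one]
    rw [ha, this]
  -- work modulo `R₂`
  set R₂ := ⁅E, R⁆ ⊔ Subgroup.normalClosure ((fun r => r ^ p) '' (R : Set G)) with hR₂
  haveI hR₂n : R₂.Normal := inferInstance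
  have hR₂R₀ : R₂ ≤ R₀ := by
    refine sup_le (Subgroup.commutator_le.2 fun a _ r hr' =>
      commutator_mem_of_relIndex_prime hG hR₀R hRi a hr') (Subgroup.normalClosure_le_normal ?_)
    rintro _ ⟨r, hr', rfl⟩
    exact pow_mem_of_relIndex hRi hr'
  let π := QuotientGroup.mk' R₂
  have hπ : ∀ {a}, π a = 1 ↔ a ∈ R₂ := fun {a} => QuotientGroup.eq_one_iff a
  have hRcen : ∀ r ∈ R, ∀ a ∈ E, Commute (π r) (π a) := by
    intro r hr' a ha
    rw [commute_iff_eq, ← commutatorElement_eq_one_iff_mul_comm, ← map_commutatorElement, hπ,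
      ← commutatorElement_inv, inv_mem_iff]
    exact Subgroup.mem_sup_left (Subgroup.commutator_mem_commutator ha hr')
  have hRpow : ∀ r ∈ R, r ^ p ∈ R₂ := fun r hr' =>
    Subgroup.mem_sup_right (Subgroup.subset_normalClosure ⟨r, hr', rfl⟩)
  have hCT : ∀ a ∈ E, ∀ b ∈ E, ∀ c ∈ E, Commute (π ⁅a, b⁆) (π c) := fun a ha b hb c hc =>
    hRcen _ (hRc a ha b hb) c hc
  set c₂ := ⁅e, z⁆ with hc₂
  set c₃ := ⁅v, z⁆ with hc₃
  have hc₂R₀ : c₂ ∈ R₀ := hq.1 (by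
    rw [hc₂, map_commutatorElement, commutatorElement_eq_one_iff_mul_comm]; exact (hcz e).symm.eq)
  have hc₃R₀ : c₃ ∈ R₀ := hq.1 (by
    rw [hc₃, map_commutatorElement, commutatorElement_eq_one_iff_mul_comm]; exact (hcz v).symm.eq)
  have hcoord : ∀ w ∈ E, ∃ r ∈ R, ∃ k j i : ℤ, w = r * z ^ k * v ^ j * e ^ i := by
    intro w hw
    rw [hEgen] at hw
    obtain ⟨w₂, hw₂, w', hw', rfl⟩ := Subgroup.mem_sup_of_normal_left.1 hw
    obtain ⟨i, rfl⟩ := Subgroup.mem_zpowers_iff.1 hw'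
    rw [hU₂gen] at hw₂
    obtain ⟨w₁, hw₁, w', hw', rfl⟩ := Subgroup.mem_sup_of_normal_left.1 hw₂
    obtain ⟨j, rfl⟩ := Subgroup.mem_zpowers_iff.1 hw'
    rw [hU₁gen] at hw₁
    obtain ⟨r, hr', w', hw', rfl⟩ := Subgroup.mem_sup_of_normal_left.1 hw₁
    obtain ⟨k, rfl⟩ := Subgroup.mem_zpowers_iff.1 hw'
    exact ⟨r, hr', k, j, i, rfl⟩
  have hCR : ∀ r ∈ R, ∀ b ∈ E, π ⁅r, b⁆ = 1 := fun r hr' b hb => by
    rw [map_commutatorElement, commutatorElement_eq_one_iff_mul_comm]; exact (hRcen r hr' b hb).eq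
  have hC : ∀ r ∈ R, ∀ (k j i : ℤ), ∀ b ∈ E, π ⁅r * z ^ k * v ^ j * e ^ i, b⁆ =
      π ⁅z, b⁆ ^ k * π ⁅v, b⁆ ^ j * π ⁅e, b⁆ ^ i := by
    intro r hr' k j i b hb
    have hk := E.zpow_mem hzE k
    have hj := E.zpow_mem hvE j
    have hi := E.zpow_mem heE i
    rw [comm_mul_left hCT (E.mul_mem (E.mul_mem (hRE hr') hk) hj) hi hb,
      comm_mul_left hCT (E.mul_mem (hRE hr') hk) hj hb, comm_mul_left hCT (hRE hr') hk hb,
      hCR r hr' b hb, one_mul, comm_zpow_left hCT hzE hb, comm_zpow_left hCT hvE hb,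
      comm_zpow_left hCT heE hb]
  have hyd : ∀ i : ℤ, π ⁅e, v⁆ ^ i = 1 → (p : ℤ) ∣ i := fun i hi =>
    dvd_of_zpow_mem hyR₀ (hU₂0.2.2 y (hRU₂ hyR)) (hR₂R₀ (hπ.1 (by rw [map_zpow]; exact hi)))
  have hRd : ∀ {g : G}, g ∈ R → g ∉ R₂ → ∀ i : ℤ, π g ^ i = 1 → (p : ℤ) ∣ i := fun {g} hg hg' i hi =>
    dvd_of_zpow_mem hg' (hRpow g hg) (hπ.1 (by rw [map_zpow]; exact hi))
  have hdR : ∀ {g : G}, g ∈ R → ∀ {i : ℤ}, (p : ℤ) ∣ i → π g ^ i = 1 := fun {g} hg _ hi => by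
    rw [← map_zpow, hπ]; exact zpow_mem_of_dvd (hRpow g hg) hi
  have hc₂R : c₂ ∈ R := hR₀R hc₂R₀
  have hc₃R : c₃ ∈ R := hR₀R hc₃R₀
  have hflip : ∀ a b : G, π ⁅a, b⁆ = (π ⁅b, a⁆)⁻¹ := fun a b => by
    rw [← map_inv, commutatorElement_inv]
  have hRinv : ∀ (α : MulAut E) (w : E), (w : G) ∈ R₂ → ((α w : E) : G) ∈ R₂ := by
    intro α w hw
    have hsub : R₂ ≤ (((R₂.subgroupOf E).comap α.toMonoidHom).map E.subtype) := by
      have hmem : ∀ g : G, ∀ hg : g ∈ E, ((α ⟨g, hg⟩ : E) : G) ∈ R₂ →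
          g ∈ ((R₂.subgroupOf E).comap α.toMonoidHom).map E.subtype :=
        fun g hg h => ⟨⟨g, hg⟩, h, rfl⟩
      refine sup_le (Subgroup.commutator_le.2 fun a ha r hr' => ?_) ?_
      · refine hmem _ (E.mul_mem (E.mul_mem (E.mul_mem ha (hRE hr')) (E.inv_mem ha))
          (E.inv_mem (hRE hr'))) ?_
        have : (α ⟨⁅a, r⁆, E.mul_mem (E.mul_mem (E.mul_mem ha (hRE hr')) (E.inv_mem ha))
            (E.inv_mem (hRE hr'))⟩ : E) = ⁅α ⟨a, ha⟩, α ⟨r, hRE hr'⟩⁆ := by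
          rw [← map_commutatorElement]; rfl
        rw [this]
        exact Subgroup.mem_sup_left (Subgroup.commutator_mem_commutator (α ⟨a, ha⟩).2
          (fr_map_invariant α hr'))
      · intro g hg
        induction hg using Subgroup.closure_induction with
        | mem g hg =>
          obtain ⟨b, hb, hbg⟩ := Group.mem_conjugatesOfSet_iff.1 hg
          obtain ⟨r, hr', rfl⟩ := hb
          obtain ⟨c, rfl⟩ := isConj_iff.1 hbg
          have hmemR : c * r * c⁻¹ ∈ R := (fr_normal E).conj_mem _ hr' c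
          have e1 : c * r ^ p * c⁻¹ = (c * r * c⁻¹) ^ p := conj_pow.symm
          rw [e1]
          refine hmem _ (E.pow_mem (hRE hmemR) p) ?_
          have : (α ⟨(c * r * c⁻¹) ^ p, E.pow_mem (hRE hmemR) p⟩ : E) =
              (α ⟨c * r * c⁻¹, hRE hmemR⟩) ^ p := by
            rw [← map_pow]; rfl
          rw [this, SubmonoidClass.coe_pow]
          exact hRpow _ (fr_map_invariant α hmemR)
        | one => exact one_mem _
        | mul a b _ _ ha hb => exact mul_mem ha hb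
        | inv a _ ha => exact inv_mem ha
    obtain ⟨w', hw', hww⟩ := hsub hw
    have : w' = w := Subtype.ext hww
    exact this ▸ hw'
  have hnot : ∀ U : Subgroup G, R < U → U < E →
      (∀ α ∈ A, ∀ w : E, (w : G) ∈ U → ((α w : E) : G) ∈ U) → False := fun U h1 h2 h3 => by
    rcases hirr U h1.le h2.le h3 with h | h
    · exact h1.ne h.symm
    · exact h2.ne h
  have hαC : ∀ (α : MulAut E) (a b : E), π ⁅(a : G), b⁆ = 1 → π ⁅((α a : E) : G), (α b : E)⁆ = 1 := by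
    intro α a b h
    rw [hπ] at h ⊢
    have := hRinv α ⁅a, b⁆ h
    rwa [map_commutatorElement] at this
  have hc₃ne : c₃ ∉ R₂ := by
    intro h₃
    have h₃' : π ⁅v, z⁆ = 1 := hπ.2 h₃
    have h₃'' : π ⁅z, v⁆ = 1 := by rw [hflip, h₃', inv_one]
    have hself : ∀ g : G, π ⁅g, g⁆ = 1 := fun g => by rw [commutatorElement_self, map_one]
    by_cases h₂ : c₂ ∈ R₂
    · -- the line of `z` would be invariant
      have h₂' : π ⁅e, z⁆ = 1 := hπ.2 h₂
      have h₂'' : π ⁅z, e⁆ = 1 := by rw [hflip, h₂', inv_one]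
      refine hnot U₁ hRltU₁ (hU₁ltU₂.trans_le hU₂E) fun α hα w hw => ?_
      obtain ⟨r, hr', k, j, i, he'⟩ := hcoord _ (α w).2
      have hkey : ∀ b ∈ E, π ⁅((α w : E) : G), b⁆ = 1 := by
        intro b hb
        have h1 := hαC α w (α.symm ⟨b, hb⟩) ?_
        · rwa [MulEquiv.apply_symm_apply] at h1
        obtain ⟨r', hr'', k', hk', hw'⟩ : ∃ r' ∈ R, ∃ k', k' ∈ Subgroup.zpowers z ∧ r' * k' = (w : G) :=
          Subgroup.mem_sup_of_normal_left.1 (hU₁gen ▸ hw)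
        obtain ⟨k'', rfl⟩ := Subgroup.mem_zpowers_iff.1 hk'
        obtain ⟨r₂, hr₂, k₂, j₂, i₂, he₂⟩ := hcoord _ (α.symm ⟨b, hb⟩).2
        rw [← hw', show r' * z ^ k'' = r' * z ^ k'' * v ^ (0 : ℤ) * e ^ (0 : ℤ) by simp,
          hC r' hr'' k'' 0 0 _ (α.symm ⟨b, hb⟩).2, zpow_zero, zpow_zero, mul_one, mul_one]
        rw [hflip, he₂, hC r₂ hr₂ k₂ j₂ i₂ z hzE, hself, h₃', h₂']
        simp
      rw [he'] at hkey ⊢
      have hi : (p : ℤ) ∣ i := hyd i (by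
        have := hkey v hvE
        rw [hC r hr' k j i v hvE, hself, h₃''] at this
        simpa using this)
      have hj : (p : ℤ) ∣ j := hyd j (by
        have := hkey e heE
        rw [hC r hr' k j i e heE, hself, h₂'', hflip v e] at this
        simpa [-map_commutatorElement] using this)
      rw [hU₁gen]
      refine mul_mem (mul_mem (mul_mem (Subgroup.mem_sup_left hr')
        (Subgroup.mem_sup_right (Subgroup.zpow_mem _ (Subgroup.mem_zpowers z) k))) ?_) ?_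
      · exact Subgroup.mem_sup_left (zpow_mem_of_dvd (hRp v hvE) hj)
      · exact Subgroup.mem_sup_left (zpow_mem_of_dvd (hRp e heE) hi)
    · -- the plane `U₂` would be invariant
      have hvzU : ∀ a b : E, π ⁅(a : G), b⁆ = 1 → (a : G) ∉ U₂ →
          (b : G) ∈ R ⊔ Subgroup.zpowers (a : G) := by
        intro a b hab ha
        obtain ⟨r, hr', k, j, i, hae⟩ := hcoord _ a.2
        have hi : ¬ (p : ℤ) ∣ i := by
          intro hi
          apply ha
          rw [hae]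
          refine mul_mem (mul_mem (mul_mem (hRU₂ hr') (U₂.zpow_mem (hU₁U₂ hzU₁) k))
            (U₂.zpow_mem hvU₂ j)) (hRU₂ (zpow_mem_of_dvd (hRp e heE) hi))
        obtain ⟨s, t, hst⟩ := ((Nat.prime_iff_prime_int.mp hp.out).coprime_iff_not_dvd).mpr hi
        obtain ⟨r', hr'', k', j', i', hbe⟩ := hcoord _ b.2
        obtain ⟨r₁, hr₁, k₁, j₁, i₁, hb₁⟩ :=
          hcoord _ (E.mul_mem b.2 (E.zpow_mem a.2 (-(i' * t))))
        have hi₁ : (p : ℤ) ∣ i₁ := by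
          -- read the `e`-exponent modulo `U₂`
          haveI : U₂.Normal := hU₂n
          have hmod : ∀ r ∈ R, ∀ k j i : ℤ, QuotientGroup.mk' U₂ (r * z ^ k * v ^ j * e ^ i) =
              QuotientGroup.mk' U₂ e ^ i := fun r hr k j i => by
            rw [map_mul, show QuotientGroup.mk' U₂ (r * z ^ k * v ^ j) = 1 from
              (QuotientGroup.eq_one_iff _).2 (mul_mem (mul_mem (hRU₂ hr)
                (U₂.zpow_mem (hU₁U₂ hzU₁) k)) (U₂.zpow_mem hvU₂ j)), one_mul, map_zpow]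
          have h1 := congrArg (QuotientGroup.mk' U₂) hb₁
          rw [hmod _ hr₁, map_mul, map_zpow, hae, hbe, hmod _ hr', hmod _ hr'', ← zpow_mul,
            ← zpow_add] at h1
          have h2 : e ^ (i₁ - (i' + i * -(i' * t))) ∈ U₂ := by
            rw [← QuotientGroup.eq_one_iff, ← QuotientGroup.mk'_apply, map_zpow, zpow_sub, ← h1,
              mul_inv_cancel]
          have h3 := dvd_of_zpow_mem heU₂ (hRU₂ (hRp e heE)) h2
          have e3 : i' + i * -(i' * t) = (p : ℤ) * (s * i') := by linear_combination -i' * hst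
          rw [e3] at h3
          have h4 := dvd_add h3 (dvd_mul_right (p : ℤ) (s * i'))
          rwa [sub_add_cancel] at h4
        have hz1' : π ⁅(a : G), (b : G) * (a : G) ^ (-(i' * t))⁆ = 1 := by
          rw [comm_mul_right hCT a.2 b.2 (E.zpow_mem a.2 _), comm_zpow_right hCT a.2 a.2,
            hab, hself, one_zpow, one_mul]
        rw [hflip, hb₁, hC r₁ hr₁ k₁ j₁ i₁ a a.2, inv_eq_one, hflip z (a : G), hflip v (a : G),
          hflip e (a : G), hae, hC r hr' k j i z hzE, hC r hr' k j i v hvE, hC r hr' k j i e heE,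
          hself, hself, hself, h₃', h₃''] at hz1'
        have hone : ∀ g : G, g ∈ R → π g ^ i₁ = 1 := fun g hg => hdR hg hi₁
        have e1 : ((1 : G ⧸ R₂) ^ k * π ⁅v, e⁆ ^ j * (1 : G ⧸ R₂) ^ i)⁻¹ ^ i₁ = 1 := by
          have hmem : π ⁅v, e⁆ ^ j = π (⁅v, e⁆ ^ j) := (map_zpow π _ _).symm
          rw [one_zpow, one_zpow, one_mul, mul_one, hmem, ← map_inv]
          exact hone _ (R.inv_mem (R.zpow_mem (hRc v hvE e heE) j))
        have e2 : (π ⁅z, e⁆ ^ k * π ⁅v, e⁆ ^ j * (1 : G ⧸ R₂) ^ i)⁻¹ ^ i₁ = 1 := by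
          rw [one_zpow, mul_one, ← map_zpow, ← map_zpow, ← map_mul, ← map_inv]
          exact hone _ (R.inv_mem (R.mul_mem (R.zpow_mem (hRc z hzE e heE) k)
            (R.zpow_mem (hRc v hvE e heE) j)))
        rw [e2] at hz1'
        simp only [one_zpow, one_mul, mul_one] at hz1'
        rw [inv_zpow, inv_zpow, ← zpow_mul, ← zpow_mul] at hz1'
        have hc₂' : π ⁅e, z⁆ ^ (i * k₁) = (π ⁅e, v⁆ ^ (i * j₁))⁻¹ := by
          apply inv_injective
          rw [inv_inv]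
          exact eq_inv_of_mul_eq_one_left hz1' |>.trans (inv_inv _)
        have hj₁ : (p : ℤ) ∣ j₁ := by
          have h6 : y ^ (i * j₁) ∈ R₀ := by
            have h7 : π (c₂ ^ (i * k₁) * y ^ (i * j₁)) = 1 := by
              rw [map_mul, map_zpow, map_zpow]
              show π ⁅e, z⁆ ^ (i * k₁) * π ⁅e, v⁆ ^ (i * j₁) = 1
              rw [hc₂', inv_mul_cancel]
            have h8 := R₀.mul_mem (R₀.inv_mem (R₀.zpow_mem hc₂R₀ (i * k₁))) (hR₂R₀ (hπ.1 h7))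
            rwa [inv_mul_cancel_left] at h8
          exact ((Nat.prime_iff_prime_int.mp hp.out).dvd_or_dvd
            (dvd_of_zpow_mem hyR₀ (hU₂0.2.2 y (hRU₂ hyR)) h6)).resolve_left hi
        have hk₁ : (p : ℤ) ∣ k₁ := by
          refine ((Nat.prime_iff_prime_int.mp hp.out).dvd_or_dvd (hRd hc₂R h₂ (i * k₁) ?_)).resolve_left hi
          show π ⁅e, z⁆ ^ (i * k₁) = 1
          rw [hc₂']
          show (π y ^ (i * j₁))⁻¹ = 1
          rw [hdR hyR (dvd_mul_of_dvd_right hj₁ i), inv_one]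
        have hbR : (b : G) * (a : G) ^ (-(i' * t)) ∈ R := by
          rw [hb₁]
          exact mul_mem (mul_mem (mul_mem hr₁ (zpow_mem_of_dvd (hRp z hzE) hk₁))
            (zpow_mem_of_dvd (hRp v hvE) hj₁)) (zpow_mem_of_dvd (hRp e heE) hi₁)
        have := Subgroup.mul_mem_sup hbR (Subgroup.zpow_mem _ (Subgroup.mem_zpowers (a : G)) (i' * t))
        rwa [zpow_neg, inv_mul_cancel_right] at this
      have hvz : π ⁅((⟨v, hvE⟩ : E) : G), (⟨z, hzE⟩ : E)⁆ = 1 := h₃'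
      have hzv : π ⁅((⟨z, hzE⟩ : E) : G), (⟨v, hvE⟩ : E)⁆ = 1 := h₃''
      have hback : ∀ (α : MulAut E) (a b : E), ((α b : E) : G) ∈ R ⊔ Subgroup.zpowers ((α a : E) : G) →
          (b : G) ∈ R ⊔ Subgroup.zpowers (a : G) := by
        intro α a b h
        obtain ⟨r, hr', w, hw, hrw⟩ := Subgroup.mem_sup_of_normal_left.1 h
        obtain ⟨n, rfl⟩ := Subgroup.mem_zpowers_iff.1 hw
        have hb : b = α.symm ⟨r, hRE hr'⟩ * a ^ n := by
          apply α.injective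
          rw [map_mul, MulEquiv.apply_symm_apply, map_zpow]
          exact Subtype.ext hrw.symm
        rw [hb, Subgroup.coe_mul, SubgroupClass.coe_zpow]
        exact Subgroup.mul_mem_sup (fr_map_invariant α.symm hr')
          (Subgroup.zpow_mem _ (Subgroup.mem_zpowers _) n)
      refine hnot U₂ (hRltU₁.trans_le hU₁U₂) hU₂ltE fun α hα w hw => ?_
      have hv' : ((α ⟨v, hvE⟩ : E) : G) ∈ U₂ := by
        by_contra hn
        have h1 := hback α _ _ (hvzU _ _ (hαC α _ _ hvz) hn)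
        obtain ⟨r, hr', g', hg', hrg⟩ := Subgroup.mem_sup_of_normal_left.1 h1
        obtain ⟨n, rfl⟩ := Subgroup.mem_zpowers_iff.1 hg'
        by_cases hn' : (p : ℤ) ∣ n
        · refine hzR ?_
          have hz' : r * v ^ n = z := hrg
          rw [← hz']
          exact mul_mem hr' (zpow_mem_of_dvd (hRp v hvE) hn')
        · refine hn' (dvd_of_zpow_mem hvU₁ (hRU₁ (hRp v hvE)) ?_)
          have : v ^ n = r⁻¹ * z := by
            rw [show z = r * v ^ n from hrg.symm, inv_mul_cancel_left]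
          rw [this]; exact mul_mem (inv_mem (hRU₁ hr')) hzU₁
      have hz' : ((α ⟨z, hzE⟩ : E) : G) ∈ U₂ := by
        by_contra hn
        have h1 := hback α _ _ (hvzU _ _ (hαC α _ _ hzv) hn)
        refine hvU₁ ?_
        rw [hU₁gen]; exact h1
      obtain ⟨w₁, hw₁, g', hg', hwg⟩ :=
        Subgroup.mem_sup_of_normal_left.1 (hU₂gen ▸ hw : (w : G) ∈ U₁ ⊔ Subgroup.zpowers v)
      obtain ⟨j, rfl⟩ := Subgroup.mem_zpowers_iff.1 hg'
      rw [hU₁gen] at hw₁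
      obtain ⟨r, hr', g', hg', rfl⟩ := Subgroup.mem_sup_of_normal_left.1 hw₁
      obtain ⟨k, rfl⟩ := Subgroup.mem_zpowers_iff.1 hg'
      have hwe : w = ⟨r, hRE hr'⟩ * (⟨z, hzE⟩ : E) ^ k * (⟨v, hvE⟩ : E) ^ j :=
        Subtype.ext (by simpa using hwg.symm)
      rw [hwe, map_mul, map_mul, map_zpow, map_zpow]
      exact mul_mem (mul_mem (hRU₂ (fr_map_invariant α hr')) (U₂.zpow_mem hz' k)) (U₂.zpow_mem hv' j)
  -- the action of `x`
  set c := z⁻¹ * x * z * x⁻¹ with hc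
  have hxz : x * z = z * c * x := by rw [hc]; group
  have hcR₀ : c ∈ R₀ := hq.1 (by
    rw [hc, map_mul, map_mul, map_mul, map_inv, map_inv, mul_assoc (q z)⁻¹, ← (hcz x).eq,
      inv_mul_cancel_left, mul_inv_cancel])
  have hcR' : c ∈ R := hR₀R hcR₀
  have hconj : ∀ a b : G, π (x * ⁅a, b⁆ * x⁻¹) = π ⁅x * a * x⁻¹, x * b * x⁻¹⁆ := fun a b => by
    rw [show x * ⁅a, b⁆ * x⁻¹ = MulAut.conj x ⁅a, b⁆ from rfl, map_commutatorElement]; rfl
  have hxe' : x * e * x⁻¹ = e * v := by rw [hxe]; group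
  have hxv' : x * v * x⁻¹ = v * z := by rw [hxv]; group
  have hxz' : x * z * x⁻¹ = z * c := by rw [hxz]; group
  have hπc : ∀ a ∈ E, π ⁅a, c⁆ = 1 := fun a ha => by rw [hflip, hCR c hcR' a ha, inv_one]
  have hσc₃ : π (x * c₃ * x⁻¹) = π c₃ := by
    rw [hc₃, hconj, hxv', hxz', comm_mul_right hCT (E.mul_mem hvE hzE) hzE (hRE hcR'),
      hπc _ (E.mul_mem hvE hzE), mul_one, comm_mul_left hCT hvE hzE hzE, commutatorElement_self,
      map_one, mul_one]
  have hσc₂ : π (x * c₂ * x⁻¹) = π c₂ * π c₃ := by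
    rw [hc₂, hconj, hxe', hxz', comm_mul_right hCT (E.mul_mem heE hvE) hzE (hRE hcR'),
      hπc _ (E.mul_mem heE hvE), mul_one, comm_mul_left hCT heE hvE hzE]
  set C₃ := R₂ ⊔ Subgroup.zpowers c₃ with hC₃
  have htop : (⊤ : Subgroup G) = E ⊔ Subgroup.zpowers x :=
    eq_sup_of_relIndex le_top (by rw [Subgroup.relIndex_top_right, hidx]) (Subgroup.mem_top x) hxE
  have hc₃cen : ∀ g, Commute (π g) (π c₃) := by
    intro g
    have hle : E ⊔ Subgroup.zpowers x ≤ (Subgroup.centralizer {π c₃}).comap π := by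
      refine sup_le (fun a ha => Subgroup.mem_centralizer_singleton_iff.2 (hRcen _ hc₃R a ha).eq.symm)
        ((Subgroup.zpowers_le).2 (Subgroup.mem_centralizer_singleton_iff.2 ?_))
      rw [← map_mul, ← map_mul]
      have := hσc₃
      rw [map_mul, map_mul, map_inv] at this
      rw [map_mul, map_mul]
      calc π x * π c₃ = π x * π c₃ * (π x)⁻¹ * π x := by group
        _ = _ := by rw [this]
    exact Subgroup.mem_centralizer_singleton_iff.1 (hle (htop ▸ Subgroup.mem_top g))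
  haveI hC₃n : C₃.Normal := ⟨fun n hn g => by
    obtain ⟨r, hr', w, hw, rfl⟩ := Subgroup.mem_sup_of_normal_left.1 hn
    obtain ⟨i, rfl⟩ := Subgroup.mem_zpowers_iff.1 hw
    rw [show g * (r * c₃ ^ i) * g⁻¹ = (g * r * g⁻¹) * (g * c₃ ^ i * g⁻¹) by group]
    refine mul_mem (Subgroup.mem_sup_left (hR₂n.conj_mem _ hr' g)) ?_
    have h1 : π ((c₃ ^ i)⁻¹ * (g * c₃ ^ i * g⁻¹)) = 1 := by
      rw [map_mul, map_mul, map_mul, map_inv, map_inv, map_zpow, ((hc₃cen g).zpow_right i).eq]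
      group
    have h2 := mul_mem (Subgroup.zpow_mem _ (Subgroup.mem_sup_right (Subgroup.mem_zpowers c₃) :
      c₃ ∈ C₃) i) (Subgroup.mem_sup_left (hπ.1 h1) : _ ∈ C₃)
    rwa [mul_inv_cancel_left] at h2⟩
  have hR₂C₃ : R₂ ≤ C₃ := le_sup_left
  have hC₃R₀ : C₃ ≤ R₀ := sup_le hR₂R₀ ((Subgroup.zpowers_le).2 hc₃R₀)
  let π₃ := QuotientGroup.mk' C₃
  have hπ₃ : ∀ {a}, π₃ a = 1 ↔ a ∈ C₃ := fun {a} => QuotientGroup.eq_one_iff a
  have hπ₃eq : ∀ {a b : G}, π a = π b → π₃ a = π₃ b := by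
    intro a b h
    have h1 : π (a⁻¹ * b) = 1 := by rw [map_mul, map_inv, h, inv_mul_cancel]
    have h2 : π₃ (a⁻¹ * b) = 1 := hπ₃.2 (hR₂C₃ (hπ.1 h1))
    rw [map_mul, map_inv, inv_mul_eq_one] at h2
    exact h2
  have hc₂C₃ : c₂ ∉ C₃ := by
    intro h
    obtain ⟨r, hr', w, hw, hrw⟩ := Subgroup.mem_sup_of_normal_left.1 h
    obtain ⟨i, rfl⟩ := Subgroup.mem_zpowers_iff.1 hw
    have e1 : π c₂ = π c₃ ^ i := by rw [← hrw, map_mul, hπ.2 hr', one_mul, map_zpow]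
    have e2 : π (x * c₂ * x⁻¹) = π c₂ := by
      rw [map_mul, map_mul, map_inv, e1, ((hc₃cen x).zpow_right i).eq, mul_inv_cancel_right]
    rw [hσc₂] at e2
    exact hc₃ne (hπ.1 (mul_left_cancel (e2.trans (mul_one _).symm)))
  -- `R₀` modulo `C₃` is generated by `c₂`
  have hUz : ∀ D : Subgroup G, R₂ ≤ D → z ^ p ∈ D → D ≤ R → ElemOver p (R ⊔ Subgroup.zpowers z) D := by
    intro D hD hzD hDR
    refine ⟨hDR.trans le_sup_left, fun a ha b hb => hD (hπ.1 ?_), fun a ha => ?_⟩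
    · have key : ∀ g ∈ R ⊔ Subgroup.zpowers z, ∀ g' ∈ R ⊔ Subgroup.zpowers z, Commute (π g) (π g') := by
        intro g hg g' hg'
        obtain ⟨r, hr', w, hw, rfl⟩ := Subgroup.mem_sup_of_normal_left.1 hg
        obtain ⟨i, rfl⟩ := Subgroup.mem_zpowers_iff.1 hw
        obtain ⟨r', hr'', w, hw, rfl⟩ := Subgroup.mem_sup_of_normal_left.1 hg'
        obtain ⟨j, rfl⟩ := Subgroup.mem_zpowers_iff.1 hw
        rw [map_mul, map_mul, map_zpow, map_zpow]
        exact ((hRcen r hr' r' (hRE hr'')).mul_right ((hRcen r hr' z hzE).zpow_right _)).mul_left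
          (((hRcen r' hr'' z hzE).symm.zpow_left _).mul_right ((Commute.refl (π z)).zpow_zpow _ _))
      rw [map_commutatorElement, commutatorElement_eq_one_iff_mul_comm]
      exact (key a ha b hb).eq
    · obtain ⟨r, hr', w, hw, rfl⟩ := Subgroup.mem_sup_of_normal_left.1 ha
      obtain ⟨i, rfl⟩ := Subgroup.mem_zpowers_iff.1 hw
      have e1 : π ((r * z ^ i) ^ p) = π ((z ^ p) ^ i) := by
        rw [map_pow, map_mul, ((map_zpow π z i) ▸ (hRcen r hr' z hzE).zpow_right i :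
          Commute (π r) (π (z ^ i))).mul_pow, ← map_pow, hπ.2 (hRpow r hr'), one_mul, ← map_pow]
        congr 1
        rw [← zpow_natCast, ← zpow_natCast z, zpow_comm]
      have e2 : π ((r * z ^ i) ^ p * ((z ^ p) ^ i)⁻¹) = 1 := by
        rw [map_mul, map_inv, e1, mul_inv_cancel]
      have := D.mul_mem (hD (hπ.1 e2)) (D.zpow_mem hzD i)
      rwa [inv_mul_cancel_right] at this
  have hC₃i : R₂.relIndex C₃ = p := relIndex_sup_zpowers R₂ hc₃ne (hRpow _ hc₃R)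
  set C₂ := C₃ ⊔ Subgroup.zpowers c₂ with hC₂
  have hC₂i : C₃.relIndex C₂ = p := relIndex_sup_zpowers C₃ hc₂C₃ (hR₂C₃ (hRpow _ hc₂R))
  have hC₂R₀ : C₂ ≤ R₀ := sup_le hC₃R₀ ((Subgroup.zpowers_le).2 hc₂R₀)
  have hlow : R₂.relIndex R = p * p * C₂.relIndex R₀ * p := by
    rw [← Subgroup.relIndex_mul_relIndex R₂ R₀ R hR₂R₀ hR₀R,
      ← Subgroup.relIndex_mul_relIndex R₂ C₂ R₀ (hR₂C₃.trans le_sup_left) hC₂R₀,
      ← Subgroup.relIndex_mul_relIndex R₂ C₃ C₂ hR₂C₃ le_sup_left, hC₃i, hC₂i, hRi]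
  obtain ⟨hR₂3, hR₀gen⟩ : R₂.relIndex R = p ^ 3 ∧ R₀ = C₂ := by
    set D := R₂ ⊔ Subgroup.zpowers (z ^ p) with hD
    have hDR : D ≤ R := sup_le (hR₂R₀.trans hR₀R) ((Subgroup.zpowers_le).2 (hRp z hzE))
    have h1 := relIndex_le_of_elemOver hr
      (hUz D le_sup_left (Subgroup.mem_sup_right (Subgroup.mem_zpowers _)) hDR)
    have h2 : R₂.relIndex D ≤ p := by
      by_cases h : z ^ p ∈ R₂
      · rw [Subgroup.relIndex_eq_one.2 (sup_le le_rfl ((Subgroup.zpowers_le).2 h) : D ≤ R₂)]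
        exact hp1.le
      · exact (relIndex_sup_zpowers R₂ h (hRpow _ (hRp z hzE))).le
    have h3 : R₂.relIndex D * D.relIndex (R ⊔ Subgroup.zpowers z) =
        R₂.relIndex R * p := by
      rw [Subgroup.relIndex_mul_relIndex R₂ D _ le_sup_left (hDR.trans le_sup_left),
        ← Subgroup.relIndex_mul_relIndex R₂ R _ (hR₂R₀.trans hR₀R) le_sup_left,
        relIndex_sup_zpowers R hzR (hRp z hzE)]
    have h4 : R₂.relIndex R * p ≤ p ^ 3 * p := by
      rw [← h3, mul_comm (p ^ 3) p]; exact Nat.mul_le_mul h2 h1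
    have h5 : R₂.relIndex R ≤ p ^ 3 := Nat.le_of_mul_le_mul_right h4 hp.out.pos
    obtain ⟨i, hi⟩ := exists_pow_relIndex hG C₂ R₀
    rw [hlow, hi, show p * p * p ^ i * p = p ^ (i + 3) by ring] at h5
    have hi0 : i = 0 := by have := (Nat.pow_le_pow_iff_right hp1).1 h5; omega
    rw [hi0, pow_zero] at hi
    exact ⟨by rw [hlow, hi]; ring, le_antisymm (Subgroup.relIndex_eq_one.1 hi) hC₂R₀⟩
  haveI hC₂n : C₂.Normal := hR₀gen ▸ hR₀n
  have h3cen : ∀ a ∈ R₀, ∀ g, Commute (π₃ g) (π₃ a) := by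
    intro a ha g
    rw [commute_iff_eq, ← commutatorElement_eq_one_iff_mul_comm, ← map_commutatorElement, hπ₃]
    refine commutator_mem_of_relIndex_prime hG (W := C₂) le_sup_left hC₂i g (hR₀gen ▸ ha)
  -- powers in `G / C₃`
  have hev : ∀ {Q : Type _} [Group Q] (f : G →* Q), (∀ r ∈ R, ∀ a ∈ E, Commute (f r) (f a)) →
      (∀ r ∈ R, f r ^ p = 1) → f ((e * v) ^ p) = f (e ^ p) * f (v ^ p) := by
    intro Q _ f hf hfp
    rw [map_pow, map_mul, mul_pow_of_steps (x := f v) (e := f e) (v := f y₁) (z := 1) (y := 1)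
      (by rw [← map_mul, hve, map_mul, map_mul, mul_assoc, mul_assoc, (hf _ hy₁R v hvE).eq])
      (by rw [mul_one]; exact (hf _ hy₁R v hvE).symm.eq) (Commute.one_right _)
      (by rw [mul_one]; exact (hf _ hy₁R e heE).eq)
      (Commute.one_right _) (Commute.one_right _) (Commute.one_right _) (Commute.one_right _)
      (Commute.one_right _) p, pow_eq_one_of_dvd (hfp _ hy₁R) d2]
    simp
  have hvzpow : π ((v * z) ^ p) = π (v ^ p) * π (z ^ p) := by
    have h1 : π z * π v = π v * π z * π ⁅z⁻¹, v⁻¹⁆ := by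
      simp only [commutatorElement_def, map_mul, map_inv, inv_inv]; group
    have hr' : ⁅z⁻¹, v⁻¹⁆ ∈ R := hRc _ (E.inv_mem hzE) _ (E.inv_mem hvE)
    rw [map_pow, map_mul, mul_pow_of_steps (x := π z) (e := π v) (v := π ⁅z⁻¹, v⁻¹⁆) (z := 1) (y := 1)
      (by rw [h1, mul_assoc, mul_assoc, (hRcen _ hr' z hzE).eq])
      (by rw [mul_one]; exact (hRcen _ hr' z hzE).symm.eq) (Commute.one_right _)
      (by rw [mul_one]; exact (hRcen _ hr' v hvE).eq)
      (Commute.one_right _) (Commute.one_right _) (Commute.one_right _) (Commute.one_right _)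
      (Commute.one_right _) p,
      pow_eq_one_of_dvd (show π ⁅z⁻¹, v⁻¹⁆ ^ p = 1 by rw [← map_pow, hπ]; exact hRpow _ hr') d2]
    simp
  have hevπ : π ((e * v) ^ p) = π (e ^ p) * π (v ^ p) :=
    hev π hRcen (fun r hr' => by rw [← map_pow, hπ]; exact hRpow r hr')
  have hconjpow : ∀ (g h : G), x * g * x⁻¹ = h → π (x * g ^ p * x⁻¹) = π (h ^ p) := fun g h hgh => by
    rw [← hgh, conj_pow]
  have hy_σ : π₃ (x * y * x⁻¹) = π₃ y * π₃ c₂ := by
    have e1 : π (x * y * x⁻¹) = π y * π c₂ * π c₃ ^ (1 : ℤ) := by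
      rw [hy, hconj, hxe', hxv', comm_mul_right hCT (E.mul_mem heE hvE) hvE hzE,
        comm_mul_left hCT heE hvE hvE, comm_mul_left hCT heE hvE hzE, commutatorElement_self,
        map_one, mul_one, zpow_one, mul_assoc]
    rw [zpow_one, ← map_mul, ← map_mul] at e1
    rw [hπ₃eq e1, map_mul, map_mul, hπ₃.2 (Subgroup.mem_sup_right (Subgroup.mem_zpowers c₃) : c₃ ∈ C₃),
      mul_one]
  have hreadC : ∀ a ∈ R₀, ∃ b : ℤ, π₃ a = π₃ c₂ ^ b := by
    intro a ha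
    rw [hR₀gen] at ha
    obtain ⟨r, hr', w, hw, rfl⟩ := Subgroup.mem_sup_of_normal_left.1 ha
    obtain ⟨b, rfl⟩ := Subgroup.mem_zpowers_iff.1 hw
    exact ⟨b, by rw [map_mul, hπ₃.2 hr', one_mul, map_zpow]⟩
  have hR₀el : (y ^ lam)⁻¹ * e ^ p ∈ R₀ := hq.1 (by
    rw [map_mul, map_inv, map_zpow, hal, inv_mul_cancel])
  obtain ⟨b, hb⟩ := hreadC _ hR₀el
  have hep3 : π₃ (e ^ p) = π₃ y ^ lam * π₃ c₂ ^ b := by
    rw [← hb, map_mul, map_inv, map_zpow, mul_inv_cancel_left]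
  have hcy : Commute (π₃ y) (π₃ c₂) := h3cen c₂ hc₂R₀ y
  have hvp3 : π₃ (v ^ p) = π₃ c₂ ^ lam := by
    have h1 : π₃ (x * e ^ p * x⁻¹) = π₃ (e ^ p) * π₃ (v ^ p) := by
      rw [hπ₃eq (show π (x * e ^ p * x⁻¹) = π (e ^ p * v ^ p) by
        rw [hconjpow e _ hxe', hevπ, map_mul]), map_mul]
    have h2 : π₃ (x * e ^ p * x⁻¹) = π₃ (e ^ p) * π₃ c₂ ^ lam := by
      have hh : (π₃ x * π₃ y * (π₃ x)⁻¹) = π₃ y * π₃ c₂ := by
        rw [← map_inv, ← map_mul, ← map_mul]; exact hy_σ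
      rw [map_mul, map_mul, map_inv, hep3]
      calc π₃ x * (π₃ y ^ lam * π₃ c₂ ^ b) * (π₃ x)⁻¹
          = (π₃ x * π₃ y * (π₃ x)⁻¹) ^ lam * (π₃ x * π₃ c₂ ^ b * (π₃ x)⁻¹) := by
            rw [conj_zpow]; group
        _ = π₃ y ^ lam * π₃ c₂ ^ lam * π₃ c₂ ^ b := by
            rw [hh, hcy.mul_zpow, ((h3cen c₂ hc₂R₀ x).zpow_right b).eq]; group
        _ = _ := by rw [mul_assoc, mul_assoc, ((Commute.refl (π₃ c₂)).zpow_zpow lam b).eq]
    exact mul_left_cancel (h1.symm.trans h2)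
  have hzp3 : π₃ (z ^ p) = 1 := by
    have h1 : π₃ (x * v ^ p * x⁻¹) = π₃ (v ^ p) * π₃ (z ^ p) := by
      rw [hπ₃eq (show π (x * v ^ p * x⁻¹) = π (v ^ p * z ^ p) by
        rw [hconjpow v _ hxv', hvzpow, map_mul]), map_mul]
    rw [map_mul, map_mul, map_inv, hvp3, ((h3cen c₂ hc₂R₀ x).zpow_right lam).eq,
      mul_inv_cancel_right] at h1
    exact mul_left_cancel (h1.symm.trans (mul_one _).symm)
  -- conjugation by `x ^ p`
  have hπ₃R : ∀ r ∈ R, ∀ a ∈ E, Commute (π₃ r) (π₃ a) := fun r hr' a ha => by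
    rw [commute_iff_eq, ← map_mul, ← map_mul]
    exact hπ₃eq (by rw [map_mul, map_mul]; exact (hRcen r hr' a ha).eq)
  have hconjp : π₃ (x ^ p) * π₃ e = π₃ e * π₃ c₂ ^ lam * π₃ (x ^ p) := by
    have hvz3 : Commute (π₃ v) (π₃ z) := by
      rw [commute_iff_eq, ← commutatorElement_eq_one_iff_mul_comm, ← map_commutatorElement, hπ₃]
      exact Subgroup.mem_sup_right (Subgroup.mem_zpowers c₃)
    have := pow_mul_of_steps (x := π₃ x) (e := π₃ e) (v := π₃ v) (z := π₃ z) (c := π₃ c) (d := 1)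
      (by rw [← map_mul, hxe, map_mul, map_mul]) (by rw [← map_mul, hxv, map_mul, map_mul])
      (by rw [← map_mul, hxz, map_mul, map_mul]) (by rw [mul_one]; exact (h3cen c hcR₀ x).eq)
      (by simp) hvz3 (hπ₃R c hcR' v hvE).symm (Commute.one_right _) (hπ₃R c hcR' z hzE).symm
      (Commute.one_right _) (Commute.one_right _) p
    rw [map_pow, this, one_pow, mul_one,
      pow_eq_one_of_dvd (show π₃ z ^ p = 1 by rw [← map_pow]; exact hzp3) d2,
      pow_eq_one_of_dvd (show π₃ c ^ p = 1 by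
        rw [← map_pow, hπ₃]; exact hR₂C₃ (hRpow c hcR')) d3, mul_one, mul_one, ← map_pow π₃ v, hvp3]
  have hdiv : (p : ℤ) ∣ lam := by
    have hr₀ : (z ^ lam)⁻¹ * x ^ p ∈ R₀ := hq.1 (by
      rw [map_mul, map_inv, map_zpow, hlam, inv_mul_cancel])
    have hze : π₃ (z ^ lam) * π₃ e * (π₃ (z ^ lam))⁻¹ = π₃ e * π₃ c₂ ^ (-lam) := by
      have hcm : π ⁅z ^ lam, e⁆ = π c₂ ^ (-lam) := by
        rw [comm_zpow_left hCT hzE heE, hflip, zpow_neg, inv_zpow]
      have h9 : π₃ ⁅z ^ lam, e⁆ = π₃ c₂ ^ (-lam) := by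
        rw [← map_zpow]; exact hπ₃eq (by rw [map_zpow]; exact hcm)
      rw [← ((h3cen c₂ hc₂R₀ e).zpow_right (-lam)).symm.eq, ← h9, map_commutatorElement,
        commutatorElement_def]
      group
    have h10 : π₃ (x ^ p) = π₃ (z ^ lam) * π₃ ((z ^ lam)⁻¹ * x ^ p) := by
      rw [map_mul, map_inv, mul_inv_cancel_left]
    have h11 : π₃ (x ^ p) * π₃ e * (π₃ (x ^ p))⁻¹ = π₃ e * π₃ c₂ ^ (-lam) := by
      rw [← hze, h10, mul_inv_rev]
      calc π₃ (z ^ lam) * π₃ ((z ^ lam)⁻¹ * x ^ p) * π₃ e *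
            ((π₃ ((z ^ lam)⁻¹ * x ^ p))⁻¹ * (π₃ (z ^ lam))⁻¹)
          = π₃ (z ^ lam) * (π₃ ((z ^ lam)⁻¹ * x ^ p) * π₃ e * (π₃ ((z ^ lam)⁻¹ * x ^ p))⁻¹) *
              (π₃ (z ^ lam))⁻¹ := by group
        _ = _ := by rw [← (h3cen _ hr₀ e).eq, mul_inv_cancel_right]
    rw [hconjp, mul_inv_cancel_right] at h11
    have h12 := mul_left_cancel h11
    have h13 : c₂ ^ (lam + lam) ∈ C₃ := hπ₃.1 (by
      rw [map_zpow, zpow_add]
      nth_rewrite 1 [h12]
      rw [← zpow_add, neg_add_cancel, zpow_zero])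
    have h14 := dvd_of_zpow_mem hc₂C₃ (hR₂C₃ (hRpow _ hc₂R)) h13
    rw [← two_mul] at h14
    exact ((Nat.prime_iff_prime_int.mp hp.out).dvd_or_dvd h14).resolve_left (fun h => by
      have := Int.le_of_dvd (by norm_num) h; omega)
  -- hence `z ^ p` lies in `R₂`
  have hepR₀ : e ^ p ∈ R₀ := hq.1 (by
    rw [hal]; exact hcancel (hU₂0.2.2 y (hRU₂ hyR)) hdiv)
  obtain ⟨w₁, hw₁, g', hg', hepe⟩ : ∃ w₁ ∈ C₃, ∃ g', g' ∈ Subgroup.zpowers c₂ ∧ w₁ * g' = e ^ p :=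
    Subgroup.mem_sup_of_normal_left.1
      (show e ^ p ∈ C₃ ⊔ Subgroup.zpowers c₂ by rw [hR₀gen] at hepR₀; exact hepR₀)
  obtain ⟨β, rfl⟩ := Subgroup.mem_zpowers_iff.1 hg'
  obtain ⟨r₂, hr₂, g', hg', rfl⟩ := Subgroup.mem_sup_of_normal_left.1 hw₁
  obtain ⟨γ, rfl⟩ := Subgroup.mem_zpowers_iff.1 hg'
  have hepπ : π (e ^ p) = π c₃ ^ γ * π c₂ ^ β := by
    rw [← hepe, map_mul, map_mul, hπ.2 hr₂, one_mul, map_zpow, map_zpow]
  have hc23 : Commute (π c₂) (π c₃) := hc₃cen c₂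
  have hvpπ : π (v ^ p) = π c₃ ^ β := by
    have h1 : π (x * e ^ p * x⁻¹) = π (e ^ p) * π (v ^ p) := by rw [hconjpow e _ hxe', hevπ]
    have h2 : π (x * e ^ p * x⁻¹) = π (e ^ p) * π c₃ ^ β := by
      have hh : π x * π c₂ * (π x)⁻¹ = π c₂ * π c₃ := by
        rw [← map_inv, ← map_mul, ← map_mul]; exact hσc₂
      rw [map_mul, map_mul, map_inv, hepπ]
      calc π x * (π c₃ ^ γ * π c₂ ^ β) * (π x)⁻¹
          = (π x * π c₃ ^ γ * (π x)⁻¹) * (π x * π c₂ * (π x)⁻¹) ^ β := by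
            rw [conj_zpow]; group
        _ = _ := by
            rw [((hc₃cen x).zpow_right γ).eq, mul_inv_cancel_right, hh, hc23.mul_zpow, mul_assoc]
    exact mul_left_cancel (h1.symm.trans h2)
  have hzpR₂ : z ^ p ∈ R₂ := by
    have h1 : π (x * v ^ p * x⁻¹) = π (v ^ p) * π (z ^ p) := by rw [hconjpow v _ hxv', hvzpow]
    rw [map_mul, map_mul, map_inv, hvpπ, ((hc₃cen x).zpow_right β).eq, mul_inv_cancel_right] at h1
    exact hπ.1 (mul_left_cancel (h1.symm.trans (mul_one _).symm))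
  have h := relIndex_le_of_elemOver hr (hUz R₂ le_rfl hzpR₂ (hR₂R₀.trans hR₀R))
  rw [← Subgroup.relIndex_mul_relIndex R₂ R _ (hR₂R₀.trans hR₀R) le_sup_left, hR₂3,
    relIndex_sup_zpowers R hzR (hRp z hzE), ← pow_succ] at h
  exact absurd ((Nat.pow_le_pow_iff_right hp1).1 h) (by omega)

end H72.RankThree
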