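/-
The second layer below the Frattini subgroup of a normal subgroup of a p-group.
-/
import Cfsg.Agent.H72.RankThreeFrattini
import Cfsg.Agent.H72.RankThreeJordan

set_option autoImplicit false

namespace H72.RankThree

open scoped commutatorElement

variable {G : Type*} [Group G] {p : ℕ} [hp : Fact p.Prime]

/-- `[E, Φ(E)] Φ(E)^p`, as a subgroup of the ambient group. -/
def fr2 (p : ℕ) (E : Subgroup G) : Subgroup G :=
  ⁅E, fr E⁆ ⊔ Subgroup.normalClosure ((fun r => r ^ p) '' (fr E : Set G))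

instance fr2_normal (E : Subgroup G) [E.Normal] : (fr2 p E).Normal := by
  haveI := fr_normal E
  unfold fr2
  infer_instance

theorem fr2_le {E D : Subgroup G} [D.Normal] (hc : ∀ a ∈ E, ∀ r ∈ fr E, ⁅a, r⁆ ∈ D)
    (hpw : ∀ r ∈ fr E, r ^ p ∈ D) : fr2 p E ≤ D := by
  refine sup_le (Subgroup.commutator_le.2 hc) (Subgroup.normalClosure_le_normal ?_)
  rintro _ ⟨r, hr, rfl⟩
  exact hpw r hr

theorem fr2_le_fr [Finite G] (hG : IsPGroup p G) (E : Subgroup G) [E.Normal] :
    fr2 p E ≤ fr E := by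
  haveI := fr_normal E
  exact fr2_le (fun a ha r hr => (elemOver_fr hG E).2.1 a ha r (fr_le E hr))
    (fun r hr => (fr E).pow_mem hr p)

theorem fr2_pow {E : Subgroup G} {r : G} (hr : r ∈ fr E) : r ^ p ∈ fr2 p E :=
  Subgroup.mem_sup_right (Subgroup.subset_normalClosure ⟨r, hr, rfl⟩)

/-- Modulo `fr2`, the Frattini subgroup is central. -/
theorem fr2_comm {E : Subgroup G} [E.Normal] {r a : G} (hr : r ∈ fr E) (ha : a ∈ E) :
    Commute (QuotientGroup.mk' (fr2 p E) r) (QuotientGroup.mk' (fr2 p E) a) := by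
  rw [commute_iff_eq, ← commutatorElement_eq_one_iff_mul_comm, ← map_commutatorElement,
    QuotientGroup.mk'_apply, QuotientGroup.eq_one_iff, ← commutatorElement_inv, inv_mem_iff]
  exact Subgroup.mem_sup_left (Subgroup.commutator_mem_commutator ha hr)

theorem fr2_map_invariant {E : Subgroup G} [E.Normal] (α : MulAut E) {r : G} (hrE : r ∈ E)
    (hr : r ∈ fr2 p E) : ((α ⟨r, hrE⟩ : E) : G) ∈ fr2 p E := by
  haveI := fr_normal E
  have hsub : fr2 p E ≤ (((fr2 p E).subgroupOf E).comap α.toMonoidHom).map E.subtype := by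
    have hmem : ∀ g : G, ∀ hg : g ∈ E, ((α ⟨g, hg⟩ : E) : G) ∈ fr2 p E →
        g ∈ (((fr2 p E).subgroupOf E).comap α.toMonoidHom).map E.subtype :=
      fun g hg h => ⟨⟨g, hg⟩, h, rfl⟩
    refine sup_le (Subgroup.commutator_le.2 fun a ha r hr' => ?_) ?_
    · have hr'E := fr_le E hr'
      refine hmem _ (E.mul_mem (E.mul_mem (E.mul_mem ha hr'E) (E.inv_mem ha)) (E.inv_mem hr'E)) ?_
      have : (α ⟨⁅a, r⁆, E.mul_mem (E.mul_mem (E.mul_mem ha hr'E) (E.inv_mem ha))
          (E.inv_mem hr'E)⟩ : E) = ⁅α ⟨a, ha⟩, α ⟨r, hr'E⟩⁆ := by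
        rw [← map_commutatorElement]; rfl
      rw [this]
      exact Subgroup.mem_sup_left (Subgroup.commutator_mem_commutator (α ⟨a, ha⟩).2
        (fr_map_invariant α hr'))
    · intro g hg
      induction hg using Subgroup.closure_induction with
      | mem g hg =>
        obtain ⟨b, hb, hbg⟩ := Group.mem_conjugatesOfSet_iff.1 hg
        obtain ⟨r, hr', rfl⟩ := hb
        obtain ⟨c, rfl⟩ := isConj_iff.1 hbg
        have hmemR : c * r * c⁻¹ ∈ fr E := (fr_normal E).conj_mem _ hr' c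
        have e1 : c * r ^ p * c⁻¹ = (c * r * c⁻¹) ^ p := conj_pow.symm
        rw [e1]
        refine hmem _ (E.pow_mem (fr_le E hmemR) p) ?_
        have : (α ⟨(c * r * c⁻¹) ^ p, E.pow_mem (fr_le E hmemR) p⟩ : E) =
            (α ⟨c * r * c⁻¹, fr_le E hmemR⟩) ^ p := by
          rw [← map_pow]; rfl
        rw [this, SubmonoidClass.coe_pow]
        exact fr2_pow (fr_map_invariant α hmemR)
      | one => exact one_mem _
      | mul a b _ _ ha hb => exact mul_mem ha hb
      | inv a _ ha => exact inv_mem ha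
  obtain ⟨w', hw', hww⟩ := hsub hr
  have : w' = ⟨r, hrE⟩ := Subtype.ext hww
  exact this ▸ hw'

section Quotient

variable [Finite G] {E : Subgroup G} [E.Normal]

local notation "π" => QuotientGroup.mk' (fr2 p E)

theorem fr2_central (hG : IsPGroup p G) :
    ∀ a ∈ E, ∀ b ∈ E, ∀ c ∈ E, Commute (π ⁅a, b⁆) (π c) :=
  fun a ha b hb _ hc => fr2_comm ((elemOver_fr hG E).2.1 a ha b hb) hc

theorem fr2_pi_pow {r : G} (hr : r ∈ fr E) : π r ^ p = 1 := by
  rw [← map_pow]
  exact (QuotientGroup.eq_one_iff _).2 (fr2_pow hr)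

theorem pi_comm_congr (hG : IsPGroup p G) {a a' b b' : G} (ha : a ∈ E) (ha' : a' ∈ E) (hb : b ∈ E)
    (hb' : b' ∈ E) (h1 : a⁻¹ * a' ∈ fr E) (h2 : b⁻¹ * b' ∈ fr E) : π ⁅a', b'⁆ = π ⁅a, b⁆ := by
  have hc := fr2_central (p := p) (E := E) hG
  have k : ∀ r ∈ fr E, ∀ c ∈ E, π ⁅r, c⁆ = 1 ∧ π ⁅c, r⁆ = 1 := fun r hr c hc' => by
    constructor <;> rw [map_commutatorElement, commutatorElement_eq_one_iff_mul_comm]
    exacts [(fr2_comm hr hc').eq, (fr2_comm hr hc').symm.eq]
  conv_lhs => rw [show a' = a * (a⁻¹ * a') by group, show b' = b * (b⁻¹ * b') by group]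
  rw [comm_mul_left hc ha (fr_le E h1) (E.mul_mem hb (fr_le E h2)),
    (k _ h1 _ (E.mul_mem hb (fr_le E h2))).1, mul_one, comm_mul_right hc ha hb (fr_le E h2),
    (k _ h2 _ ha).2, mul_one]

theorem pi_mul_pow (hG : IsPGroup p G) (hodd : Odd p) {a b : G} (ha : a ∈ E) (hb : b ∈ E) :
    π ((a * b) ^ p) = π (a ^ p) * π (b ^ p) := by
  have hc := fr2_central (p := p) (E := E) hG
  set c := ⁅π b, π a⁆ with hcdef
  have hc' : c = π ⁅b, a⁆ := by rw [hcdef, map_commutatorElement]
  have ha1 : Commute c (π a) := hc' ▸ hc b hb a ha a ha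
  have hb1 : Commute c (π b) := hc' ▸ hc b hb a ha b hb
  have hba : ∀ i : ℕ, π b ^ i * π a = c ^ i * (π a * π b ^ i) := by
    intro i
    induction i with
    | zero => simp
    | succ i ih =>
      have e : π b * π a = c * (π a * π b) := by rw [hcdef, commutatorElement_def]; group
      calc π b ^ (i + 1) * π a = π b * (π b ^ i * π a) := by rw [pow_succ']; group
        _ = (π b * c ^ i) * (π a * π b ^ i) := by rw [ih]; group
        _ = c ^ i * (π b * π a) * π b ^ i := by rw [← (hb1.pow_left i).eq]; group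
        _ = _ := by rw [e, pow_succ, pow_succ']; group
  have key : ∀ i : ℕ, (π a * π b) ^ i = c ^ i.choose 2 * (π a ^ i * π b ^ i) := by
    intro i
    induction i with
    | zero => simp
    | succ i ih =>
      calc (π a * π b) ^ (i + 1) = c ^ i.choose 2 * π a ^ i * (π b ^ i * π a) * π b := by
            rw [pow_succ, ih]; group
        _ = c ^ i.choose 2 * (π a ^ i * c ^ i) * π a * π b ^ i * π b := by rw [hba]; group
        _ = c ^ i.choose 2 * c ^ i * π a ^ i * π a * π b ^ i * π b := by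
            rw [← (ha1.pow_pow i i).eq]; group
        _ = _ := by
            rw [Nat.choose_succ_succ' i 1, Nat.choose_one_right, add_comm i, pow_add,
              pow_succ, pow_succ]
            group
  obtain ⟨m, hm⟩ : p ∣ p.choose 2 := hp.out.dvd_choose_self two_ne_zero (by
    rcases hodd with ⟨k, hk⟩; have := hp.out.two_le; omega)
  rw [map_pow, map_mul, key, ← map_pow, ← map_pow, hm, pow_mul, hc',
    fr2_pi_pow ((elemOver_fr hG E).2.1 b hb a ha), one_pow, one_mul]

theorem pi_pow_congr (hG : IsPGroup p G) (hodd : Odd p) {a a' : G} (ha : a ∈ E) (_ha' : a' ∈ E)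
    (h : a⁻¹ * a' ∈ fr E) : π (a' ^ p) = π (a ^ p) := by
  conv_lhs => rw [show a' = a * (a⁻¹ * a') by group]
  rw [pi_mul_pow hG hodd ha (fr_le E h), map_pow π (a⁻¹ * a'), fr2_pi_pow h, mul_one]

/-- The Frattini subgroup is reached from commutators and powers of generators. -/
theorem fr_le_of_generators (hG : IsPGroup p G) (hodd : Odd p) {T : Set G} (hTE : T ⊆ E)
    (hgen : E ≤ fr E ⊔ Subgroup.closure T) {D : Subgroup G} (hD : fr2 p E ≤ D)
    (hc : ∀ a ∈ T, ∀ b ∈ T, ⁅a, b⁆ ∈ D) (hpw : ∀ a ∈ T, a ^ p ∈ D) : fr E ≤ D := by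
  have hcen := fr2_central (p := p) (E := E) hG
  have hmem : ∀ g, π g ∈ D.map (QuotientGroup.mk' (fr2 p E)) → g ∈ D := by
    rintro g ⟨d, hd, hdg⟩
    have h1 := hD ((QuotientGroup.eq (s := fr2 p E)).1 hdg)
    simpa using D.mul_mem hd h1
  have hall : ∀ (f : E →* G ⧸ fr2 p E), (∀ r : E, (r : G) ∈ fr E → f r = 1) →
      (∀ a : E, (a : G) ∈ T → f a ∈ D.map (QuotientGroup.mk' (fr2 p E))) →
      ∀ a : E, f a ∈ D.map (QuotientGroup.mk' (fr2 p E)) := by
    intro f hf1 hf2 a
    have hle : fr E ⊔ Subgroup.closure T ≤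
        ((D.map (QuotientGroup.mk' (fr2 p E))).comap f).map E.subtype :=
      sup_le (fun r hr => ⟨⟨r, fr_le E hr⟩, by
          rw [SetLike.mem_coe, Subgroup.mem_comap, hf1 _ hr]; exact one_mem _, rfl⟩)
        ((Subgroup.closure_le _).2 fun t ht => ⟨⟨t, hTE ht⟩, hf2 _ ht, rfl⟩)
    obtain ⟨a', ha', haa⟩ := hle (hgen a.2)
    rwa [Subtype.ext (haa : (a' : G) = a)] at ha'
  let C : ∀ a : E, E →* G ⧸ fr2 p E := fun a =>
    { toFun := fun b => π ⁅(a : G), (b : G)⁆
      map_one' := by simp [commutatorElement_def]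
      map_mul' := fun b b' => by rw [Subgroup.coe_mul, comm_mul_right hcen a.2 b.2 b'.2] }
  let C' : ∀ b : E, E →* G ⧸ fr2 p E := fun b =>
    { toFun := fun a => π ⁅(a : G), (b : G)⁆
      map_one' := by simp [commutatorElement_def]
      map_mul' := fun a a' => by rw [Subgroup.coe_mul, comm_mul_left hcen a.2 a'.2 b.2] }
  let P : E →* G ⧸ fr2 p E :=
    { toFun := fun a => π ((a : G) ^ p)
      map_one' := by simp
      map_mul' := fun a a' => by rw [Subgroup.coe_mul, pi_mul_pow hG hodd a.2 a'.2] }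
  have k : ∀ r ∈ fr E, ∀ c ∈ E, π ⁅r, c⁆ = 1 ∧ π ⁅c, r⁆ = 1 := fun r hr c hc' => by
    constructor <;> rw [map_commutatorElement, commutatorElement_eq_one_iff_mul_comm]
    exacts [(fr2_comm hr hc').eq, (fr2_comm hr hc').symm.eq]
  refine fr_le_of_mem (p := p) (fun a ha b hb => hmem _ ?_) (fun a ha => hmem _ ?_)
  · refine hall (C' ⟨b, hb⟩) (fun r hr => (k _ hr b hb).1) (fun t ht => ?_) ⟨a, ha⟩
    exact hall (C t) (fun r hr => (k _ hr _ t.2).2)
      (fun t' ht' => Subgroup.mem_map_of_mem _ (hc _ ht _ ht')) ⟨b, hb⟩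
  · exact hall P (fun r hr => by show π ((r : G) ^ p) = 1; rw [map_pow]; exact fr2_pi_pow hr)
      (fun t ht => Subgroup.mem_map_of_mem _ (hpw _ ht)) ⟨a, ha⟩

end Quotient

/-- A coset invariant under an involution, over a subgroup of odd order, contains a fixed point. -/
theorem exists_fixed_in_coset [Finite G] (t : MulAut G) (ht : t * t = 1) (M : Subgroup G)
    (hodd : Odd (Nat.card M)) {x : G} (hx : x⁻¹ * t x ∈ M) : ∃ m ∈ M, t (x * m) = x * m := by
  set m := x⁻¹ * t x with hm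
  have h1 : t x = x * m := by rw [hm]; group
  have h2 : t m = m⁻¹ := by
    have h3 : t (t x) = x := by rw [← MulAut.mul_apply, ht, MulAut.one_apply]
    rw [h1, map_mul, h1, mul_assoc, mul_eq_left] at h3
    exact eq_inv_of_mul_eq_one_right h3
  obtain ⟨k, hk⟩ : Odd (orderOf m) :=
    hodd.of_dvd_nat (Subgroup.orderOf_dvd_natCard M hx)
  refine ⟨m ^ (k + 1), M.pow_mem hx _, ?_⟩
  have e : m ^ (k + 1) * m ^ (k + 1) = m := by
    rw [← pow_add, show k + 1 + (k + 1) = orderOf m + 1 by omega, pow_succ, pow_orderOf_eq_one,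
      one_mul]
  rw [map_mul, map_pow, h1, h2, inv_pow, mul_assoc]
  congr 1
  conv_lhs => arg 1; rw [← e]
  rw [mul_inv_cancel_right]

end H72.RankThree
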