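/-
A transvection on the Frattini quotient together with a torus: normalised representatives.
-/
import Cfsg.Agent.H72.RankThreeDeep

set_option autoImplicit false

namespace H72.RankThree

open scoped commutatorElement

variable {G : Type*} [Group G] {p : ℕ} [hp : Fact p.Prime]

instance fr_normal' (E : Subgroup G) [E.Normal] : (fr E).Normal := fr_normal E

theorem pow_congr_cast {Q : Type*} [Group Q] {g : Q} (hg : g ^ p = 1) {a b : ℕ}
    (h : (a : ZMod p) = b) : g ^ a = g ^ b :=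
  pow_eq_pow_iff_modEq.2 (((ZMod.natCast_eq_natCast_iff a b p).1 h).of_dvd
    (orderOf_dvd_of_pow_eq_one hg))

theorem cast_eq_of_pow {Q : Type*} [Group Q] {g : Q} (hg : g ^ p = 1) (hne : g ≠ 1) {a b : ℕ}
    (h : g ^ a = g ^ b) : (a : ZMod p) = b := by
  rw [ZMod.natCast_eq_natCast_iff, ← orderOf_eq_prime hg hne]
  exact pow_eq_pow_iff_modEq.1 h

theorem sq_inj {Q : Type*} [Group Q] (hodd : Odd p) {a b : Q} (ha : a ^ p = 1) (hb : b ^ p = 1)
    (h : a ^ 2 = b ^ 2) : a = b := by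
  obtain ⟨k, rfl⟩ := hodd
  have key : ∀ c : Q, c ^ (2 * k + 1) = 1 → (c ^ 2) ^ (k + 1) = c := fun c hc => by
    rw [← pow_mul, show 2 * (k + 1) = 2 * k + 1 + 1 by ring, pow_succ, hc, one_mul]
  rw [← key a ha, ← key b hb, h]

/-- Restriction of an automorphism to an invariant subgroup. -/
noncomputable def restrictAut [Finite G] (τ : MulAut G) {E : Subgroup G}
    (h : ∀ a ∈ E, τ a ∈ E) : MulAut E :=
  MulEquiv.ofBijective ((τ.toMonoidHom.comp E.subtype).codRestrict E fun a => h a a.2)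
    (Finite.injective_iff_bijective.1 fun a b hab =>
      Subtype.ext (τ.injective (congrArg Subtype.val hab)))

theorem aut_fr [Finite G] (τ : MulAut G) {E : Subgroup G} (h : ∀ a ∈ E, τ a ∈ E) {r : G}
    (hr : r ∈ fr E) : τ r ∈ fr E :=
  fr_map_invariant (restrictAut τ h) hr

theorem aut_fr2 [Finite G] (τ : MulAut G) {E : Subgroup G} [E.Normal] (h : ∀ a ∈ E, τ a ∈ E)
    {r : G} (hrE : r ∈ E) (hr : r ∈ fr2 p E) : τ r ∈ fr2 p E :=
  fr2_map_invariant (restrictAut τ h) hrE hr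

theorem pow_aut_mem {E : Subgroup G} {τ : MulAut G} (h : ∀ a ∈ E, τ a ∈ E) (n : ℕ) :
    ∀ a ∈ E, (τ ^ n) a ∈ E := by
  induction n with
  | zero => simp
  | succ n ih =>
    intro a ha
    rw [pow_succ', MulAut.mul_apply]
    exact h _ (ih a ha)

variable {E : Subgroup G} [E.Normal]

local notation "q" => QuotientGroup.mk' (fr E)

/-- `x` acts on `E / Φ(E)` as the transvection `e ↦ e z`. -/
structure Transv (p : ℕ) (E : Subgroup G) [E.Normal] (x e z w : G) : Prop where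
  hidx : E.index = p
  hfr : (fr E).relIndex E = p ^ 3
  hx : x ∉ E
  he : e ∈ E
  hz : z ∈ E
  hw : w ∈ E
  coord : ∀ a ∈ E, ∃ k j i : ℕ, QuotientGroup.mk' (fr E) a =
    QuotientGroup.mk' (fr E) z ^ k * QuotientGroup.mk' (fr E) w ^ j *
      QuotientGroup.mk' (fr E) e ^ i
  ind : ∀ k j i : ℕ, QuotientGroup.mk' (fr E) z ^ k * QuotientGroup.mk' (fr E) w ^ j *
    QuotientGroup.mk' (fr E) e ^ i = 1 → p ∣ k ∧ p ∣ j ∧ p ∣ i
  xe : QuotientGroup.mk' (fr E) x * QuotientGroup.mk' (fr E) e =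
    QuotientGroup.mk' (fr E) e * QuotientGroup.mk' (fr E) z * QuotientGroup.mk' (fr E) x
  xz : Commute (QuotientGroup.mk' (fr E) x) (QuotientGroup.mk' (fr E) z)
  xw : Commute (QuotientGroup.mk' (fr E) x) (QuotientGroup.mk' (fr E) w)

/-- The torus. -/
structure Torus (p : ℕ) (E : Subgroup G) [E.Normal] (e z w : G) (τ : MulAut G) (lam : ℕ) :
    Prop where
  hpow : τ ^ (p - 1) = 1
  hE : ∀ a ∈ E, τ a ∈ E
  prim : ∀ n : ℕ, (lam : ZMod p) ^ n = 1 ↔ (p - 1) ∣ n
  te : QuotientGroup.mk' (fr E) (τ e) = QuotientGroup.mk' (fr E) e ^ lam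
  tz : QuotientGroup.mk' (fr E) (τ z) = QuotientGroup.mk' (fr E) z ^ (lam ^ (p - 2))
  tw : QuotientGroup.mk' (fr E) (τ w) = QuotientGroup.mk' (fr E) w

omit [E.Normal] in
theorem q_comm [Finite G] [E.Normal] (hG : IsPGroup p G) {a b : G} (ha : a ∈ E) (hb : b ∈ E) :
    Commute (q a) (q b) := by
  rw [commute_iff_eq, ← commutatorElement_eq_one_iff_mul_comm, ← map_commutatorElement,
    QuotientGroup.mk'_apply, QuotientGroup.eq_one_iff]
  exact (elemOver_fr hG E).2.1 a ha b hb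

theorem q_pow_p [Finite G] (hG : IsPGroup p G) {a : G} (ha : a ∈ E) : q a ^ p = 1 := by
  rw [← map_pow, QuotientGroup.mk'_apply, QuotientGroup.eq_one_iff]
  exact (elemOver_fr hG E).2.2 a ha

omit hp in
theorem q_eq_iff {a b : G} : q a = q b ↔ a⁻¹ * b ∈ fr E := QuotientGroup.eq

section

variable [Finite G] {x e z w : G}

namespace Transv

theorem q_ne_one (T : Transv p E x e z w) : q e ≠ 1 ∧ q z ≠ 1 ∧ q w ≠ 1 := by
  refine ⟨fun h => ?_, fun h => ?_, fun h => ?_⟩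
  · exact hp.out.not_dvd_one (T.ind 0 0 1 (by simpa using h)).2.2
  · exact hp.out.not_dvd_one (T.ind 1 0 0 (by simpa using h)).1
  · exact hp.out.not_dvd_one (T.ind 0 1 0 (by simpa using h)).2.1

theorem coord_mul (T : Transv p E x e z w) (hG : IsPGroup p G) (k j i k' j' i' : ℕ) :
    (q z ^ k * q w ^ j * q e ^ i) * (q z ^ k' * q w ^ j' * q e ^ i') =
      q z ^ (k + k') * q w ^ (j + j') * q e ^ (i + i') := by
  have hzw := q_comm hG T.hz T.hw
  have hze := q_comm hG T.hz T.he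
  have hwe := q_comm hG T.hw T.he
  rw [((hze.symm.pow_pow i k').mul_right (hwe.symm.pow_pow i j')).mul_mul_mul_comm,
    (hzw.symm.pow_pow j k').mul_mul_mul_comm, ← pow_add, ← pow_add, ← pow_add]

theorem coord_unique (T : Transv p E x e z w) (hG : IsPGroup p G) {k j i k' j' i' : ℕ}
    (h : q z ^ k * q w ^ j * q e ^ i = q z ^ k' * q w ^ j' * q e ^ i') :
    (k : ZMod p) = k' ∧ (j : ZMod p) = j' ∧ (i : ZMod p) = i' := by
  have h1 : q z ^ (k + (p - 1) * k') * q w ^ (j + (p - 1) * j') * q e ^ (i + (p - 1) * i') = 1 := by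
    rw [← T.coord_mul hG, h, T.coord_mul hG]
    have e1 : ∀ m : ℕ, m + (p - 1) * m = p * m := fun m => by
      rw [Nat.sub_mul, one_mul, Nat.add_sub_cancel' (Nat.le_mul_of_pos_left m hp.out.pos)]
    rw [e1, e1, e1, pow_mul, pow_mul, pow_mul, q_pow_p hG T.hz, q_pow_p hG T.hw, q_pow_p hG T.he]
    simp
  obtain ⟨a, b, c⟩ := T.ind _ _ _ h1
  have e2 : ∀ {m m' : ℕ}, p ∣ m + (p - 1) * m' → (m : ZMod p) = m' := by
    intro m m' hd
    have h2 := (ZMod.natCast_eq_zero_iff _ p).2 hd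
    rw [Nat.cast_add, Nat.cast_mul, Nat.cast_sub hp.out.one_le, ZMod.natCast_self, Nat.cast_one,
      zero_sub, neg_one_mul, ← sub_eq_add_neg, sub_eq_zero] at h2
    exact h2
  exact ⟨e2 a, e2 b, e2 c⟩

omit [Finite G] in
theorem xe_pow (T : Transv p E x e z w) (hzE : Commute (q e) (q z)) (n i : ℕ) :
    q x ^ n * q e ^ i = q e ^ i * q z ^ (n * i) * q x ^ n := by
  have h : ∀ n : ℕ, SemiconjBy (q x ^ n) (q e) (q e * q z ^ n) := by
    intro n
    induction n with
    | zero => simp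
    | succ n ih =>
      have hx1 : SemiconjBy (q x) (q e) (q e * q z) := T.xe
      have hz1 : SemiconjBy (q x) (q z ^ n) (q z ^ n) := T.xz.pow_right n
      have := (hx1.mul_right hz1).mul_left ih
      rwa [← pow_succ', mul_assoc, ← pow_succ'] at this
  have := ((h n).pow_right i).eq
  rwa [(hzE.pow_right n).mul_pow, ← pow_mul] at this

theorem act (T : Transv p E x e z w) (hG : IsPGroup p G) {a : G} (ha : a ∈ E) {k j i : ℕ}
    (hq : q a = q z ^ k * q w ^ j * q e ^ i) (n : ℕ) :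
    q x ^ n * q a = q a * q z ^ (n * i) * q x ^ n := by
  have h := T.xe_pow (q_comm hG T.he T.hz) n i
  rw [hq]
  calc q x ^ n * (q z ^ k * q w ^ j * q e ^ i)
      = (q z ^ k * q w ^ j) * q x ^ n * q e ^ i := by
        rw [← mul_assoc, ((T.xz.pow_pow n k).mul_right (T.xw.pow_pow n j)).eq]
    _ = _ := by rw [mul_assoc, h]; group

omit [Finite G] in
theorem decompose [Finite G] (T : Transv p E x e z w) (g : G) :
    ∃ a ∈ E, ∃ n : ℕ, g = a * x ^ n := by
  have htop : (⊤ : Subgroup G) = E ⊔ Subgroup.zpowers x :=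
    eq_sup_of_relIndex le_top (by rw [Subgroup.relIndex_top_right, T.hidx]) (Subgroup.mem_top x) T.hx
  obtain ⟨a, ha, b, hb, hab⟩ :=
    Subgroup.mem_sup_of_normal_left.1 (htop ▸ Subgroup.mem_top g : g ∈ E ⊔ Subgroup.zpowers x)
  obtain ⟨n, rfl⟩ := (mem_powers_iff_mem_zpowers).2 hb
  exact ⟨a, ha, n, hab.symm⟩

/-- A second element fixing or moving `e` like a power of `x` is congruent to it. -/
theorem pow_mem (T : Transv p E x e z w) {a b : ℕ} (h : (a : ZMod p) = b) :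
    x ^ a * (x ^ b)⁻¹ ∈ E := by
  rw [← QuotientGroup.eq_one_iff, ← QuotientGroup.mk'_apply, map_mul, map_inv, map_pow, map_pow,
    pow_congr_cast (g := QuotientGroup.mk' E x) ?_ h, mul_inv_cancel]
  rw [← map_pow, QuotientGroup.mk'_apply, QuotientGroup.eq_one_iff]
  exact pow_mem_of_relIndex (by rw [Subgroup.relIndex_top_right, T.hidx]) (Subgroup.mem_top x)

theorem conj_exp (T : Transv p E x e z w) (hG : IsPGroup p G) {a : G} (ha : a ∈ E) {n l m : ℕ}
    (h : q (a * x ^ n) * q e ^ l = q e ^ l * q z ^ m * q (a * x ^ n)) :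
    ((n * l : ℕ) : ZMod p) = m := by
  rw [map_mul, map_pow, mul_assoc, T.xe_pow (q_comm hG T.he T.hz) n l, ← mul_assoc (q a),
    ← map_pow, ← map_pow q z, ← map_mul] at h
  have hzn : ∀ i, z ^ i ∈ E := fun i => E.pow_mem T.hz i
  rw [(q_comm hG ha (E.mul_mem (E.pow_mem T.he l) (hzn (n * l)))).eq, mul_assoc] at h
  simp only [map_mul, map_pow] at h
  have h2 := mul_right_cancel h
  rw [← map_pow, ← map_pow] at h2
  have h3 : q z ^ (n * l) = q z ^ m := mul_left_cancel (by simpa only [map_pow] using h2)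
  exact cast_eq_of_pow (q_pow_p hG T.hz) T.q_ne_one.2.1 h3

theorem change_x (T : Transv p E x e z w) (hG : IsPGroup p G) {a : G} (ha : a ∈ E) :
    Transv p E (x * a) e z w := by
  have hc : ∀ {u : G}, u ∈ E → Commute (q a) (q u) := fun hu => q_comm hG ha hu
  refine { T with hx := fun h => T.hx ?_, xe := ?_, xz := ?_, xw := ?_ }
  · simpa using E.mul_mem h (E.inv_mem ha)
  · rw [map_mul, mul_assoc, (hc T.he).eq, ← mul_assoc, T.xe]; group
  · rw [map_mul]; exact T.xz.mul_left (hc T.hz)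
  · rw [map_mul]; exact T.xw.mul_left (hc T.hw)

omit [Finite G] in
theorem change_w (T : Transv p E x e z w) {w' : G} (hw' : w' ∈ E) (h : q w' = q w) :
    Transv p E x e z w' :=
  { T with
    hw := hw'
    coord := by simpa only [h] using T.coord
    ind := by simpa only [h] using T.ind
    xw := by simpa only [h] using T.xw }

end Transv

namespace Torus

variable {τ : MulAut G} {lam : ℕ}

theorem q_map_pow (T : Torus p E e z w τ lam) {a u : G} {k : ℕ} (h : q a = q u ^ k) :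
    q (τ a) = q (τ u) ^ k := by
  rw [← map_pow, q_eq_iff] at h ⊢
  have := aut_fr τ T.hE h
  rwa [map_mul, map_inv, map_pow] at this

theorem q_map (T : Torus p E e z w τ lam) {a u : G} (h : q a = q u) : q (τ a) = q (τ u) := by
  simpa using T.q_map_pow (k := 1) (by simpa using h)

theorem q_map_eigen (T : Torus p E e z w τ lam) {u : G} {c : ℕ} (h : q (τ u) = q u ^ c) (n : ℕ) :
    q ((τ ^ n) u) = q u ^ (c ^ n) := by
  induction n with
  | zero => simp
  | succ n ih =>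
    rw [pow_succ', MulAut.mul_apply, T.q_map_pow ih, h, ← pow_mul, ← pow_succ']

omit [Finite G] in
theorem lam_ne_zero (T : Torus p E e z w τ lam) : (lam : ZMod p) ≠ 0 := fun h => by
  have := (T.prim (p - 1)).2 dvd_rfl
  rw [h, zero_pow (by have := hp.out.two_le; omega)] at this
  exact zero_ne_one this

omit [Finite G] in
theorem mu_eq (T : Torus p E e z w τ lam) :
    ((lam ^ (p - 2) : ℕ) : ZMod p) = (lam : ZMod p)⁻¹ := by
  refine eq_inv_of_mul_eq_one_left ?_
  have := hp.out.two_le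
  rw [Nat.cast_pow, ← pow_succ, show p - 2 + 1 = p - 1 by omega]
  exact (T.prim _).2 dvd_rfl

omit [Finite G] in
theorem half (T : Torus p E e z w τ lam) (hodd : Odd p) :
    (lam : ZMod p) ^ ((p - 1) / 2) = -1 ∧
      ((lam ^ (p - 2) : ℕ) : ZMod p) ^ ((p - 1) / 2) = -1 := by
  obtain ⟨k, hk⟩ := hodd
  have := hp.out.two_le
  have h1 : (lam : ZMod p) ^ ((p - 1) / 2) = -1 := by
    have h := (T.prim (p - 1)).2 dvd_rfl
    rw [show p - 1 = ((p - 1) / 2) * 2 by omega, pow_mul] at h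
    refine (sq_eq_one_iff.1 h).resolve_left fun h' => ?_
    have := Nat.le_of_dvd (by omega) ((T.prim _).1 h')
    omega
  exact ⟨h1, by rw [T.mu_eq, inv_pow, h1, inv_neg, inv_one]⟩

theorem t_inv (T : Torus p E e z w τ lam) (hG : IsPGroup p G) (hodd : Odd p) (hme : e ∈ E)
    (hmz : z ∈ E) :
    q ((τ ^ ((p - 1) / 2)) e) = (q e)⁻¹ ∧ q ((τ ^ ((p - 1) / 2)) z) = (q z)⁻¹ ∧
      q ((τ ^ ((p - 1) / 2)) w) = q w := by
  obtain ⟨h1, h2⟩ := T.half hodd
  have key : ∀ {u : G}, u ∈ E → ∀ {m : ℕ}, (m : ZMod p) = -1 → q u ^ m = (q u)⁻¹ := by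
    intro u hu m hm
    refine eq_inv_of_mul_eq_one_left ?_
    rw [← pow_succ, pow_congr_cast (q_pow_p hG hu) (a := m + 1) (b := 0) (by simp [hm]), pow_zero]
  refine ⟨?_, ?_, ?_⟩
  · rw [T.q_map_eigen T.te]; exact key hme (by rw [Nat.cast_pow]; exact h1)
  · rw [T.q_map_eigen T.tz]; exact key hmz (by rw [Nat.cast_pow]; exact h2)
  · simpa using T.q_map_eigen (u := w) (c := 1) (by simpa using T.tw) ((p - 1) / 2)

omit [Finite G] in
theorem t_sq (T : Torus p E e z w τ lam) (hodd : Odd p) :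
    τ ^ ((p - 1) / 2) * τ ^ ((p - 1) / 2) = 1 := by
  obtain ⟨k, hk⟩ := hodd
  rw [← pow_add, show (p - 1) / 2 + (p - 1) / 2 = p - 1 by omega]
  exact T.hpow

omit [Finite G] in
theorem t_comm (τ : MulAut G) (n : ℕ) (a : G) : (τ ^ n) (τ a) = τ ((τ ^ n) a) := by
  rw [← MulAut.mul_apply, ← MulAut.mul_apply, ← pow_succ, ← pow_succ']

end Torus

/-- Representatives fixed by the central involution of the torus. -/
theorem exists_good {τ : MulAut G} {lam : ℕ} (T : Transv p E x e z w) (S : Torus p E e z w τ lam)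
    (hG : IsPGroup p G) (hp5 : 5 ≤ p) :
    ∃ x' w' : G, Transv p E x' e z w' ∧ Torus p E e z w' τ lam ∧ q w' = q w ∧
      (τ ^ ((p - 1) / 2)) x' = x' ∧ (τ ^ ((p - 1) / 2)) w' = w' ∧
      q (τ x') = q x' ^ ((lam ^ (p - 2)) ^ 2) := by
  have hodd : Odd p := hp.out.odd_of_ne_two (by omega)
  obtain ⟨htE, htz, htw⟩ := S.t_inv hG hodd T.he T.hz
  have ht2 := S.t_sq hodd
  set N := (p - 1) / 2 with hN
  set μ := lam ^ (p - 2) with hμ
  have htmem := pow_aut_mem S.hE N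
  have hoddK : ∀ K : Subgroup G, Odd (Nat.card K) := fun K => by
    obtain ⟨n, hn⟩ := IsPGroup.iff_card.1 (hG.to_subgroup K)
    rw [hn]
    exact hodd.pow
  -- the effect of `τ ^ n` on `x` modulo `E`
  have hxn : ∀ n : ℕ, ∃ a ∈ E, ∃ k : ℕ, (τ ^ n) x = a * x ^ k ∧
      ((k * lam ^ n : ℕ) : ZMod p) = ((μ ^ n : ℕ) : ZMod p) := by
    intro n
    obtain ⟨a, ha, k, hk⟩ := T.decompose ((τ ^ n) x)
    refine ⟨a, ha, k, hk, T.conj_exp hG ha ?_⟩
    rw [← hk, ← S.q_map_eigen S.te, ← S.q_map_eigen S.tz, ← map_mul, ← map_mul, ← map_mul,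
      ← map_mul, ← map_mul, q_eq_iff]
    have h := aut_fr (τ ^ n) (pow_aut_mem S.hE n)
      (q_eq_iff.1 (by rw [map_mul, map_mul, map_mul]; exact T.xe :
        q (x * e) = q (e * z * x)))
    simp only [map_mul, map_inv] at h ⊢
    exact h
  obtain ⟨hhl, hhm⟩ := S.half hodd
  rw [← hN] at hhl hhm
  -- `t x` is congruent to `x`
  have htx : x⁻¹ * (τ ^ N) x ∈ E := by
    obtain ⟨a, ha, k, hk, hk'⟩ := hxn N
    have hk1 : (k : ZMod p) = ((1 : ℕ) : ZMod p) := by
      rw [Nat.cast_mul, Nat.cast_pow, hhl, Nat.cast_pow, hhm, mul_neg, mul_one, neg_inj] at hk'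
      rw [hk', Nat.cast_one]
    have := T.pow_mem hk1
    rw [pow_one] at this
    have h2 : a * (x ^ k * x⁻¹) ∈ E := E.mul_mem ha this
    rw [hk]
    have := (inferInstance : E.Normal).conj_mem _ h2 x⁻¹
    simpa [mul_assoc] using this
  obtain ⟨m, hm, hx₁⟩ := exists_fixed_in_coset (τ ^ N) ht2 E (hoddK E) htx
  obtain ⟨r, hr, hw₁⟩ := exists_fixed_in_coset (τ ^ N) ht2 (fr E) (hoddK _)
    (x := w) (q_eq_iff.1 htw.symm)
  have hw₁E : w * r ∈ E := E.mul_mem T.hw (fr_le E hr)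
  have hqw : q (w * r) = q w := by
    rw [map_mul, (QuotientGroup.eq_one_iff r).2 hr |> fun h => (h : q r = 1), mul_one]
  have S₁ : Torus p E e z (w * r) τ lam :=
    { S with tw := by rw [S.q_map hqw, S.tw, hqw] }
  have T₁ : Transv p E (x * m) e z (w * r) := (T.change_x hG hm).change_w hw₁E hqw
  generalize x * m = x₁ at *
  generalize w * r = w₁ at *
  -- the effect of `τ` on `x₁`
  obtain ⟨a, ha, k, hk, hk'⟩ : ∃ a ∈ E, ∃ k : ℕ, τ x₁ = a * x₁ ^ k ∧
      ((k * lam : ℕ) : ZMod p) = (μ : ZMod p) := by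
    obtain ⟨a, ha, k, hk⟩ := T₁.decompose (τ x₁)
    refine ⟨a, ha, k, hk, T₁.conj_exp hG ha ?_⟩
    rw [← hk, ← S.te, ← S.tz, ← map_mul, ← map_mul, ← map_mul, ← map_mul, ← map_mul, q_eq_iff]
    have h := aut_fr τ S.hE (q_eq_iff.1 (by rw [map_mul, map_mul, map_mul]; exact T₁.xe :
        q (x₁ * e) = q (e * z * x₁)))
    simp only [map_mul, map_inv] at h ⊢
    exact h
  set i := μ ^ 2 with hi
  have hki : (k : ZMod p) = i := by
    rw [hi, Nat.cast_pow, sq]
    nth_rewrite 1 [← hk']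
    rw [Nat.cast_mul, mul_assoc, hμ, S.mu_eq, mul_inv_cancel₀ S.lam_ne_zero, mul_one]
  set a' := (x₁ ^ i)⁻¹ * τ x₁ with ha'
  have ha'E : a' ∈ E := by
    have h2 : a * (x₁ ^ k * (x₁ ^ i)⁻¹) ∈ E := E.mul_mem ha (T₁.pow_mem hki)
    have := (inferInstance : E.Normal).conj_mem _ h2 (x₁ ^ i)⁻¹
    rw [ha', hk]
    simpa [mul_assoc] using this
  have hta' : (τ ^ N) a' = a' := by
    rw [ha', map_mul, map_inv, map_pow, hx₁, Torus.t_comm, hx₁]
  clear_value a'
  obtain ⟨kk, j, l, hqa⟩ := T₁.coord a' ha'E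
  obtain ⟨htE₁, htz₁, htw₁⟩ := S₁.t_inv hG hodd T.he T.hz
  rw [← hN] at htE₁ htz₁ htw₁
  have hneg : q a' = q z ^ ((p - 1) * kk) * q w₁ ^ j * q e ^ ((p - 1) * l) := by
    have h1 := aut_fr (τ ^ N) htmem (q_eq_iff.1 (by
      rw [hqa, map_mul, map_mul, map_pow, map_pow, map_pow] : q a' = q (z ^ kk * w₁ ^ j * e ^ l)))
    rw [map_mul, map_inv, ← q_eq_iff, hta', map_mul, map_mul, map_mul, map_mul, map_pow, map_pow,
      map_pow, map_pow, map_pow, map_pow, htE₁, htz₁, htw₁] at h1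
    have key : ∀ {u : G}, u ∈ E → ∀ c : ℕ, (q u)⁻¹ ^ c = q u ^ ((p - 1) * c) := by
      intro u hu c
      rw [pow_mul]
      congr 1
      exact (eq_inv_of_mul_eq_one_left (by
        rw [← pow_succ, Nat.sub_add_cancel hp.out.one_le, q_pow_p hG hu])).symm
    rw [h1, key T.hz, key T.he]
  obtain ⟨hkk, -, hll⟩ := T₁.coord_unique hG (hqa.symm.trans hneg)
  have h2z : (2 : ZMod p) ≠ 0 := by
    rw [← Nat.cast_ofNat, ne_eq, ZMod.natCast_eq_zero_iff]
    exact Nat.not_dvd_of_pos_of_lt (by norm_num) (by omega)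
  have hzero : ∀ {c : ℕ}, (c : ZMod p) = (((p - 1) * c : ℕ) : ZMod p) → (c : ZMod p) = 0 := by
    intro c hc
    rw [Nat.cast_mul, Nat.cast_sub hp.out.one_le, ZMod.natCast_self, Nat.cast_one, zero_sub,
      neg_one_mul] at hc
    exact (mul_eq_zero.1 (show (2 : ZMod p) * c = 0 by linear_combination hc)).resolve_left h2z
  have hqa' : q a' = q w₁ ^ j := by
    rw [hqa, pow_congr_cast (q_pow_p hG T.hz) (a := kk) (b := 0) (by simpa using hzero hkk),
      pow_congr_cast (q_pow_p hG T.he) (a := l) (b := 0) (by simpa using hzero hll)]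
    simp
  have hi1 : (i : ZMod p) - 1 ≠ 0 := by
    intro h
    rw [sub_eq_zero, hi, Nat.cast_pow, hμ, S.mu_eq, inv_pow, inv_eq_one] at h
    have := Nat.le_of_dvd (by norm_num) ((S.prim 2).1 h)
    omega
  set n := ((j : ZMod p) * ((i : ZMod p) - 1)⁻¹).val with hn
  refine ⟨x₁ * w₁ ^ n, w₁, T₁.change_x hG (E.pow_mem hw₁E n), S₁, hqw, ?_, hw₁, ?_⟩
  · rw [map_mul, map_pow, hx₁, hw₁]
  · have e1 : τ x₁ = x₁ ^ i * a' := by rw [ha']; group
    rw [map_mul, e1, map_mul, map_mul, map_pow, hqa', map_pow τ, map_pow, S₁.tw, mul_assoc,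
      ← pow_add, map_mul, map_pow q w₁, ((T₁.xw).pow_right n).mul_pow, ← pow_mul]
    congr 1
    refine pow_congr_cast (q_pow_p hG hw₁E) ?_
    rw [Nat.cast_add, Nat.cast_mul, hn, ZMod.natCast_zmod_val]
    field_simp
    ring

end

end H72.RankThree
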