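/-
Weights of the torus on the second layer.
-/
import Cfsg.Agent.H72.RankThreeTorus

set_option autoImplicit false

namespace H72.RankThree

open scoped commutatorElement

variable {G : Type*} [Group G] [Finite G] {p : ℕ} [hp : Fact p.Prime]
variable {E : Subgroup G} [E.Normal] {x e z w : G} {τ : MulAut G} {lam : ℕ}

local notation "q" => QuotientGroup.mk' (fr E)
local notation "π" => QuotientGroup.mk' (fr2 p E)

theorem aut_pi (hG : IsPGroup p G) (β : MulAut G) (hβ : ∀ a ∈ E, β a ∈ E) {a b : G}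
    (h : π a = π b) : π (β a) = π (β b) := by
  rw [QuotientGroup.mk'_apply, QuotientGroup.mk'_apply, QuotientGroup.eq] at h ⊢
  have := aut_fr2 β hβ (fr_le E (fr2_le_fr hG E h)) h
  rwa [map_mul, map_inv] at this

theorem map_comm (hG : IsPGroup p G) (β : MulAut G) (hβ : ∀ a ∈ E, β a ∈ E) {a b a' b' : G}
    (ha : a ∈ E) (hb : b ∈ E) (ha' : a' ∈ E) (hb' : b' ∈ E) (h1 : q (β a) = q a')
    (h2 : q (β b) = q b') : π (β ⁅a, b⁆) = π ⁅a', b'⁆ := by
  rw [map_commutatorElement β]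
  exact (pi_comm_congr hG (hβ a ha) ha' (hβ b hb) hb' (q_eq_iff.1 h1) (q_eq_iff.1 h2)).symm

theorem map_powp (hG : IsPGroup p G) (hodd : Odd p) (β : MulAut G) (hβ : ∀ a ∈ E, β a ∈ E)
    {a a' : G} (ha : a ∈ E) (ha' : a' ∈ E) (h1 : q (β a) = q a') : π (β (a ^ p)) = π (a' ^ p) := by
  rw [map_pow β]
  exact (pi_pow_congr hG hodd (hβ a ha) ha' (q_eq_iff.1 h1)).symm

theorem comm_pow_pow (hG : IsPGroup p G) {a b : G} (ha : a ∈ E) (hb : b ∈ E) (m n : ℕ) :
    π ⁅a ^ m, b ^ n⁆ = π ⁅a, b⁆ ^ (m * n) := by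
  have h1 := comm_zpow_left (fr2_central hG) ha (E.pow_mem hb n) (m : ℤ)
  have h2 := comm_zpow_right (fr2_central hG) ha hb (n : ℤ)
  rw [zpow_natCast, zpow_natCast] at h1 h2
  rw [h1, h2, ← pow_mul, mul_comm]

theorem comm_inv_inv (hG : IsPGroup p G) {a b : G} (ha : a ∈ E) (hb : b ∈ E) :
    π ⁅a⁻¹, b⁻¹⁆ = π ⁅a, b⁆ ∧ π ⁅a⁻¹, b⁆ = (π ⁅a, b⁆)⁻¹ := by
  have h1 : ∀ {c : G}, c ∈ E → π ⁅a⁻¹, c⁆ = (π ⁅a, c⁆)⁻¹ := fun {c} hc => by
    have := comm_zpow_left (fr2_central hG) ha hc (-1)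
    rwa [zpow_neg_one, zpow_neg_one] at this
  refine ⟨?_, h1 hb⟩
  have h2 := comm_zpow_right (fr2_central hG) ha hb (-1)
  rw [zpow_neg_one, zpow_neg_one] at h2
  rw [h1 (E.inv_mem hb), h2, inv_inv]

theorem pi_comm_x (hG : IsPGroup p G) (g : G) {a b : G} (ha : a ∈ fr E) (hb : b ∈ fr E) :
    π ⁅g, a * b⁆ = π ⁅g, a⁆ * π ⁅g, b⁆ := by
  have e' : ⁅g, a * b⁆ = ⁅g, a⁆ * (a * ⁅g, b⁆ * a⁻¹) := by
    simp only [commutatorElement_def]; group
  have hmem : ⁅g, b⁆ ∈ fr E :=
    Subgroup.commutator_le_right ⊤ (fr E)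
      (Subgroup.commutator_mem_commutator (Subgroup.mem_top g) hb)
  rw [e', map_mul, map_mul, map_mul, map_inv,
    ← (fr2_comm (p := p) hmem (fr_le E ha)).eq, mul_inv_cancel_right]

theorem conjE (g : G) : ∀ a ∈ E, MulAut.conj g a ∈ E := fun a ha => by
  rw [MulAut.conj_apply]; exact (inferInstance : E.Normal).conj_mem a ha g

/-- What is needed of the generators of `Φ(E)`. -/
theorem gen_facts (T : Transv p E x e z w) (S : Torus p E e z w τ lam) (hG : IsPGroup p G)
    (hodd : Odd p) :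
    (π ((τ ^ ((p - 1) / 2)) ⁅e, z⁆) = π ⁅e, z⁆ ∧ π (τ ⁅e, z⁆) = π ⁅e, z⁆ ∧
      π ⁅x, ⁅e, z⁆⁆ = 1) ∧
    (π ((τ ^ ((p - 1) / 2)) ⁅e, w⁆) = (π ⁅e, w⁆)⁻¹ ∧ π ⁅x, ⁅e, w⁆⁆ = π ⁅z, w⁆) ∧
    (π ((τ ^ ((p - 1) / 2)) ⁅z, w⁆) = (π ⁅z, w⁆)⁻¹ ∧ π ⁅x, ⁅z, w⁆⁆ = 1) ∧
    (π ((τ ^ ((p - 1) / 2)) (e ^ p)) = (π (e ^ p))⁻¹ ∧ π ⁅x, e ^ p⁆ = π (z ^ p)) ∧
    (π ((τ ^ ((p - 1) / 2)) (z ^ p)) = (π (z ^ p))⁻¹ ∧ π ⁅x, z ^ p⁆ = 1) ∧
    (π ((τ ^ ((p - 1) / 2)) (w ^ p)) = π (w ^ p) ∧ π (τ (w ^ p)) = π (w ^ p) ∧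
      π ⁅x, w ^ p⁆ = 1) := by
  obtain ⟨tE, tZ, tW⟩ := S.t_inv hG hodd T.he T.hz
  set t := τ ^ ((p - 1) / 2)
  have ht : ∀ a ∈ E, t a ∈ E := pow_aut_mem S.hE _
  have he := T.he
  have hz := T.hz
  have hw := T.hw
  rw [← map_inv] at tE tZ
  have hcen := fr2_central (p := p) (E := E) hG
  have hR := (elemOver_fr hG E).2
  have hX : ∀ {a a' : G}, q x * q a = q a' * q x → q (MulAut.conj x a) = q a' := fun h => by
    rw [MulAut.conj_apply, map_mul, map_mul, map_inv, h, mul_inv_cancel_right]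
  have xE : q (MulAut.conj x e) = q (e * z) := hX (by rw [map_mul]; exact T.xe)
  have xZ : q (MulAut.conj x z) = q z := hX T.xz.eq
  have xW : q (MulAut.conj x w) = q w := hX T.xw.eq
  have hD : ∀ g : G, π ⁅x, g⁆ = π (MulAut.conj x g) * (π g)⁻¹ := fun g => by
    rw [MulAut.conj_apply, commutatorElement_def, map_mul, map_inv]
  refine ⟨⟨?_, ?_, ?_⟩, ⟨?_, ?_⟩, ⟨?_, ?_⟩, ⟨?_, ?_⟩, ⟨?_, ?_⟩, ⟨?_, ?_, ?_⟩⟩
  · rw [map_comm hG t ht he hz (E.inv_mem he) (E.inv_mem hz) tE tZ, (comm_inv_inv hG he hz).1]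
  · rw [map_comm hG τ S.hE he hz (E.pow_mem he _) (E.pow_mem hz _) (by rw [map_pow]; exact S.te)
      (by rw [map_pow]; exact S.tz), comm_pow_pow hG he hz]
    conv_rhs => rw [← pow_one (π ⁅e, z⁆)]
    refine pow_congr_cast (fr2_pi_pow (hR.1 e he z hz)) ?_
    rw [Nat.cast_mul, S.mu_eq, Nat.cast_one, mul_inv_cancel₀ S.lam_ne_zero]
  · rw [hD, map_comm hG _ (conjE x) he hz (E.mul_mem he hz) hz xE xZ,
      comm_mul_left hcen he hz hz, commutatorElement_self, map_one, mul_one, mul_inv_cancel]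
  · rw [map_comm hG t ht he hw (E.inv_mem he) hw tE tW, (comm_inv_inv hG he hw).2]
  · rw [hD, map_comm hG _ (conjE x) he hw (E.mul_mem he hz) hw xE xW,
      comm_mul_left hcen he hz hw, (fr2_comm (p := p) (hR.1 e he w hw)
        (fr_le E (hR.1 z hz w hw))).eq, mul_inv_cancel_right]
  · rw [map_comm hG t ht hz hw (E.inv_mem hz) hw tZ tW, (comm_inv_inv hG hz hw).2]
  · rw [hD, map_comm hG _ (conjE x) hz hw hz hw xZ xW, mul_inv_cancel]
  · rw [map_powp hG hodd t ht he (E.inv_mem he) tE, inv_pow, map_inv]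
  · rw [hD, map_powp hG hodd _ (conjE x) he (E.mul_mem he hz) xE, pi_mul_pow hG hodd he hz,
      (fr2_comm (p := p) (hR.2 e he) (fr_le E (hR.2 z hz))).eq, mul_inv_cancel_right]
  · rw [map_powp hG hodd t ht hz (E.inv_mem hz) tZ, inv_pow, map_inv]
  · rw [hD, map_powp hG hodd _ (conjE x) hz hz xZ, mul_inv_cancel]
  · rw [map_powp hG hodd t ht hw hw tW]
  · rw [map_powp hG hodd τ S.hE hw hw S.tw]
  · rw [hD, map_powp hG hodd _ (conjE x) hw hw xW, mul_inv_cancel]

omit [E.Normal] hp in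
theorem inv_eq_pow_pred (g : G) : g⁻¹ = g ^ (orderOf g - 1) := by
  refine inv_eq_of_mul_eq_one_right ?_
  rw [← pow_succ', Nat.sub_add_cancel (orderOf_pos g), pow_orderOf_eq_one]

theorem commute_of_comm (g : G) {r : G} (h : π ⁅g, r⁆ = 1) : Commute (π g) (π r) := by
  rwa [map_commutatorElement, commutatorElement_eq_one_iff_mul_comm] at h

/-- The part fixed by the involution is fixed by the torus and centralised by `x`. -/
theorem layer_facts (T : Transv p E x e z w) (S : Torus p E e z w τ lam) (hG : IsPGroup p G)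
    (hodd : Odd p) :
    ∀ r ∈ fr E, (π ((τ ^ ((p - 1) / 2)) r) = π r → π (τ r) = π r ∧ Commute (π x) (π r)) ∧
      Commute (π x) (π ⁅x, r⁆) := by
  obtain ⟨⟨a1, a2, a3⟩, ⟨b1, b2⟩, ⟨c1, c2⟩, ⟨d1, d2⟩, ⟨f1, f2⟩, g1, g2, g3⟩ :=
    gen_facts T S hG hodd
  set t := τ ^ ((p - 1) / 2)
  have ht : ∀ a ∈ E, t a ∈ E := pow_aut_mem S.hE _
  have hR := (elemOver_fr hG E).2
  let P : G → Prop := fun r => π (τ (r * t r)) = π (r * t r) ∧ Commute (π x) (π (r * t r)) ∧
    Commute (π x) (π ⁅x, r⁆)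
  let M : Submonoid G :=
    { carrier := {r | r ∈ fr E ∧ P r}
      one_mem' := ⟨one_mem _, by simp, by simp, by simp⟩
      mul_mem' := by
        rintro a b ⟨ha, ha1, ha2, ha3⟩ ⟨hb, hb1, hb2, hb3⟩
        have hta := aut_fr t ht ha
        have htb := aut_fr t ht hb
        have e1 : π (a * b * t (a * b)) = π ((a * t a) * (b * t b)) := by
          simp only [map_mul]
          rw [(fr2_comm (p := p) hb (fr_le E hta)).mul_mul_mul_comm]
        refine ⟨mul_mem ha hb, ?_, ?_, ?_⟩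
        · rw [aut_pi hG τ S.hE e1, map_mul τ, map_mul π, ha1, hb1, e1, ← map_mul π]
        · rw [e1, map_mul π]; exact ha2.mul_right hb2
        · rw [pi_comm_x hG x ha hb]; exact ha3.mul_right hb3 }
  let D : Subgroup G :=
    { M with inv_mem' := fun {g} hg => by rw [inv_eq_pow_pred]; exact M.pow_mem hg _ }
  have hplus : ∀ c ∈ fr E, π (t c) = π c → π (τ c) = π c → π ⁅x, c⁆ = 1 → c ∈ D := by
    intro c hc h1 h2 h3
    refine ⟨hc, ?_, ?_, by rw [h3]; exact Commute.one_right _⟩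
    · rw [map_mul τ, map_mul π, aut_pi hG τ S.hE h1, h2, map_mul π, h1]
    · rw [map_mul π, h1]; exact (commute_of_comm x h3).mul_right (commute_of_comm x h3)
  have hminus : ∀ c ∈ fr E, π (t c) = (π c)⁻¹ → Commute (π x) (π ⁅x, c⁆) → c ∈ D := by
    intro c hc h1 h3
    have h2 : π (c * t c) = π 1 := by rw [map_mul π, h1, mul_inv_cancel, map_one]
    refine ⟨hc, ?_, ?_, h3⟩
    · rw [aut_pi hG τ S.hE h2, map_one τ, h2]
    · rw [h2, map_one π]; exact Commute.one_right _
  have hR2 : fr2 p E ≤ D := by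
    intro r hr
    have h1 : π r = π 1 := by rw [map_one]; exact (QuotientGroup.eq_one_iff r).2 hr
    have h2 : π (t r) = π 1 := by rw [aut_pi hG t ht h1, map_one t]
    have h3 : π (r * t r) = π 1 := by rw [map_mul π, h1, h2, ← map_mul, one_mul]
    refine ⟨fr2_le_fr hG E hr, ?_, ?_, ?_⟩
    · rw [aut_pi hG τ S.hE h3, map_one τ, h3]
    · rw [h3, map_one π]; exact Commute.one_right _
    · rw [map_commutatorElement, h1, map_one π, commutatorElement_one_right]
      exact Commute.one_right _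
  have hle : fr E ≤ D := by
    refine fr_le_of_generators hG hodd (T := {e, z, w})
      (Set.insert_subset T.he (Set.insert_subset T.hz (Set.singleton_subset_iff.2 T.hw))) ?_ hR2
      ?_ ?_
    · intro a ha
      obtain ⟨k, j, i, h⟩ := T.coord a ha
      rw [← map_pow, ← map_pow, ← map_pow, ← map_mul, ← map_mul, eq_comm, q_eq_iff] at h
      have h2 : z ^ k * w ^ j * e ^ i ∈ Subgroup.closure {e, z, w} := by
        refine mul_mem (mul_mem ?_ ?_) ?_ <;>
          exact Subgroup.pow_mem _ (Subgroup.subset_closure (by simp)) _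
      have := mul_mem (Subgroup.mem_sup_right (S := fr E) h2) (Subgroup.mem_sup_left h)
      rwa [mul_inv_cancel_left] at this
    · have hez := hplus _ (hR.1 e T.he z T.hz) a1 a2 a3
      have hzw := hminus _ (hR.1 z T.hz w T.hw) c1 (by rw [c2]; exact Commute.one_right _)
      have hew := hminus _ (hR.1 e T.he w T.hw) b1 (by rw [b2]; exact commute_of_comm x c2)
      have hinv : ∀ {a b : G}, ⁅a, b⁆ ∈ D → ⁅b, a⁆ ∈ D := fun h => by
        rw [← commutatorElement_inv]; exact inv_mem h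
      intro a ha b hb
      simp only [Set.mem_insert_iff, Set.mem_singleton_iff] at ha hb
      rcases ha with rfl | rfl | rfl <;> rcases hb with rfl | rfl | rfl <;>
        first
          | (rw [commutatorElement_self]; exact one_mem _)
          | assumption
          | exact hinv hez | exact hinv hzw | exact hinv hew
    · intro a ha
      simp only [Set.mem_insert_iff, Set.mem_singleton_iff] at ha
      rcases ha with rfl | rfl | rfl
      · exact hminus _ (hR.2 a T.he) d1 (by rw [d2]; exact commute_of_comm x f2)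
      · exact hminus _ (hR.2 a T.hz) f1 (by rw [f2]; exact Commute.one_right _)
      · exact hplus _ (hR.2 a T.hw) g1 g2 g3
  intro r hr
  obtain ⟨-, h1, h2, h3⟩ := hle hr
  refine ⟨fun hfix => ?_, h3⟩
  rw [map_mul τ, map_mul π, aut_pi hG τ S.hE hfix, map_mul π, hfix, ← sq, ← sq] at h1
  rw [map_mul π, hfix, ← sq] at h2
  refine ⟨sq_inj hodd ?_ (fr2_pi_pow hr) h1, ?_⟩
  · exact fr2_pi_pow (aut_fr τ S.hE hr)
  · obtain ⟨k, hk⟩ := hodd
    have h4 := h2.pow_right (k + 1)
    rwa [← pow_mul, show 2 * (k + 1) = p + 1 by omega, pow_succ, fr2_pi_pow hr, one_mul] at h4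

/-- The mixed terms vanish on the second layer. -/
theorem weights (T : Transv p E x e z w) (S : Torus p E e z w τ lam) (hG : IsPGroup p G)
    (hp5 : 5 ≤ p) (tx : (τ ^ ((p - 1) / 2)) x = x) (tw : (τ ^ ((p - 1) / 2)) w = w)
    (τx : q (τ x) = q x ^ ((lam ^ (p - 2)) ^ 2)) (h : MulAut E)
    (hh : q ((h ⟨z, T.hz⟩ : E) : G) = (q e)⁻¹) :
    ⁅x, w⁆ ∈ fr2 p E ∧ x ^ p ∈ fr2 p E ∧ z ^ p ∈ fr2 p E ∧ e ^ p ∈ fr2 p E := by
  have hodd : Odd p := hp.out.odd_of_ne_two (by omega)
  have hlay := layer_facts T S hG hodd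
  set t := τ ^ ((p - 1) / 2)
  set i := (lam ^ (p - 2)) ^ 2 with hi
  have hi1 : (i : ZMod p) ≠ 1 := by
    intro h
    rw [hi, Nat.cast_pow, S.mu_eq, inv_pow, inv_eq_one] at h
    have := Nat.le_of_dvd (by norm_num) ((S.prim 2).1 h)
    omega
  have hone : ∀ {c : G}, c ∈ fr E → π c ^ i = π c → π c = 1 := by
    intro c hc h
    by_contra hne
    refine hi1 ?_
    simpa using cast_eq_of_pow (fr2_pi_pow hc) hne (a := i) (b := 1) (by rwa [pow_one])
  -- `τ w` is congruent to `w`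
  have hτw : π (τ w) = π w := by
    set s := w⁻¹ * τ w with hs
    have hsR : s ∈ fr E := q_eq_iff.1 S.tw.symm
    have hts : π (t s) = π s := by
      rw [hs, map_mul, map_inv, tw, Torus.t_comm, tw]
    have hτs := ((hlay s hsR).1 hts).1
    clear_value s
    have hn : ∀ n : ℕ, π ((τ ^ n) w) = π w * π s ^ n := by
      intro n
      induction n with
      | zero => simp
      | succ n ih =>
        rw [← map_pow, ← map_mul] at ih
        rw [pow_succ' τ, MulAut.mul_apply]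
        rw [aut_pi hG τ S.hE ih, map_mul τ, map_pow τ, map_mul π, map_pow π, hτs,
          show τ w = w * s by rw [hs]; group, map_mul π, mul_assoc, ← pow_succ']
    have h1 := hn (p - 1)
    rw [S.hpow, MulAut.one_apply, eq_comm, mul_eq_left] at h1
    have h2 : π s = 1 := by
      have h3 := fr2_pi_pow (p := p) hsR
      rwa [show π s ^ p = π s ^ (p - 1) * π s by
        rw [← pow_succ, Nat.sub_add_cancel hp.out.one_le], h1, one_mul] at h3
    rw [show τ w = w * s by rw [hs]; group, map_mul π, h2, mul_one]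
  obtain ⟨r, hr, hτxr⟩ : ∃ r ∈ fr E, τ x = x ^ i * r := by
    rw [← map_pow, eq_comm, q_eq_iff] at τx
    exact ⟨_, τx, by group⟩
  have htr : π (t r) = π r := by
    rw [show r = (x ^ i)⁻¹ * τ x by rw [hτxr]; group, map_mul, map_inv, map_pow, tx, Torus.t_comm, tx]
  obtain ⟨hτr, hxr⟩ := (hlay r hr).1 htr
  -- the commutator with `w`
  have hc : ⁅x, w⁆ ∈ fr E := by
    rw [← QuotientGroup.eq_one_iff, ← QuotientGroup.mk'_apply, map_commutatorElement,
      commutatorElement_eq_one_iff_mul_comm]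
    exact T.xw.eq
  have hC : π ⁅x, w⁆ = 1 := by
    obtain ⟨hτc, hxc⟩ := (hlay _ hc).1 (by rw [map_commutatorElement t, tx, tw])
    refine hone hc (Eq.trans ?_ hτc)
    rw [map_commutatorElement τ, map_commutatorElement π, map_commutatorElement π, hτw, hτxr,
      map_mul, map_pow]
    have hrw : Commute (π r) (π w) := fr2_comm hr T.hw
    have hcw : Commute (π ⁅x, w⁆) (π w) := fr2_comm hc T.hw
    rw [map_commutatorElement] at hxc hcw
    set C := ⁅π x, π w⁆ with hCd
    have hX : π x * π w = C * π w * π x := by rw [hCd, commutatorElement_def]; group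
    have key : ∀ n : ℕ, π x ^ n * π w = C ^ n * π w * π x ^ n := by
      intro n
      induction n with
      | zero => simp
      | succ n ih =>
        calc π x ^ (n + 1) * π w = π x * (π x ^ n * π w) := by rw [pow_succ']; group
          _ = (π x * C ^ n) * π w * π x ^ n := by rw [ih]; group
          _ = C ^ n * (π x * π w) * π x ^ n := by rw [(hxc.pow_right n).eq]; group
          _ = C ^ (n + 1) * π w * π x ^ (n + 1) := by rw [hX, pow_succ C, pow_succ' (π x)]; group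
    rw [commutatorElement_def, mul_assoc (π x ^ i) (π r), hrw.eq, ← mul_assoc, key]
    group
  -- the `p`-th power of `x`
  have hxpE : x ^ p ∈ E := pow_mem_of_index hG T.hidx x
  have hxpR : x ^ p ∈ fr E := by
    obtain ⟨k, j, l, hk⟩ := T.coord _ hxpE
    have hl : (l : ZMod p) = 0 := by
      have h1 := T.act hG hxpE hk 1
      rw [one_mul, pow_one, ← map_mul, show x * x ^ p = x ^ p * x from (Commute.self_pow x p).eq,
        map_mul] at h1
      have h2 := mul_right_cancel h1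
      rw [left_eq_mul] at h2
      simpa using cast_eq_of_pow (q_pow_p hG T.hz) T.q_ne_one.2.1 (a := l) (b := 0)
        (by rwa [pow_zero])
    rw [pow_congr_cast (q_pow_p hG T.he) (a := l) (b := 0) (by simpa using hl), pow_zero,
      mul_one] at hk
    have hkz : (k : ZMod p) = 0 := by
      have h1 : q (x ^ p) = q (t (z ^ k * w ^ j)) := by
        rw [← map_pow, ← map_pow, ← map_mul, q_eq_iff] at hk
        have := aut_fr t (pow_aut_mem S.hE _) hk
        rwa [map_mul, map_inv, map_pow t, tx, ← q_eq_iff] at this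
      have htz := (S.t_inv hG hodd T.he T.hz).2.1
      have hpred : (q z)⁻¹ = q z ^ (p - 1) := (eq_inv_of_mul_eq_one_left (by
        rw [← pow_succ, Nat.sub_add_cancel hp.out.one_le, q_pow_p hG T.hz])).symm
      rw [hk, map_mul t, map_pow t, map_pow t, map_mul q, map_pow q, map_pow q, tw, htz, hpred,
        ← pow_mul] at h1
      have h2 := cast_eq_of_pow (q_pow_p hG T.hz) T.q_ne_one.2.1 (mul_right_cancel h1)
      rw [Nat.cast_mul, Nat.cast_sub hp.out.one_le, ZMod.natCast_self, Nat.cast_one, zero_sub,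
        neg_one_mul, eq_neg_iff_add_eq_zero, ← two_mul] at h2
      refine (mul_eq_zero.1 h2).resolve_left ?_
      intro h
      have h' : ((2 : ℕ) : ZMod p) = 0 := by exact_mod_cast h
      exact Nat.not_dvd_of_pos_of_lt (by norm_num) (by omega) ((ZMod.natCast_eq_zero_iff 2 p).1 h')
    rw [pow_congr_cast (q_pow_p hG T.hz) (a := k) (b := 0) (by simpa using hkz), pow_zero,
      one_mul] at hk
    have h2 : q (τ (x ^ p)) = q w ^ j := by
      rw [S.q_map_pow hk, S.tw]
    rw [map_pow τ, map_pow q, τx, ← pow_mul, mul_comm, pow_mul, ← map_pow, hk, ← pow_mul] at h2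
    have h3 : (j : ZMod p) * ((i : ZMod p) - 1) = 0 := by
      have := cast_eq_of_pow (q_pow_p hG T.hw) T.q_ne_one.2.2 h2
      rw [Nat.cast_mul] at this
      linear_combination this
    rw [pow_congr_cast (q_pow_p hG T.hw) (a := j) (b := 0)
      (by simpa using (mul_eq_zero.1 h3).resolve_right (sub_ne_zero.2 hi1)), pow_zero] at hk
    exact (QuotientGroup.eq_one_iff _).1 hk
  have hXp : π (x ^ p) = 1 := by
    refine hone hxpR ?_
    have hτxp := ((hlay _ hxpR).1 (by rw [map_pow, tx])).1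
    rwa [map_pow τ, map_pow π, hτxr, map_mul π, map_pow, (hxr.pow_left i).mul_pow,
      fr2_pi_pow hr, mul_one, ← pow_mul, mul_comm, pow_mul, ← map_pow π] at hτxp
  -- the `p`-th power of `z`, by conjugation with `x ^ p`
  set v := e⁻¹ * x * e * x⁻¹ with hv
  have hqv : q v = q z := by
    simp only [hv, map_mul, map_inv]
    rw [mul_assoc (q e)⁻¹, T.xe]
    group
  have hvE : v ∈ E := by
    have := E.mul_mem (E.inv_mem T.he) ((inferInstance : E.Normal).conj_mem e T.he x)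
    simpa [hv, mul_assoc] using this
  set z₂ := v⁻¹ * x * v * x⁻¹ with hz₂
  have hz₂R : z₂ ∈ fr E := by
    rw [← QuotientGroup.eq_one_iff, ← QuotientGroup.mk'_apply]
    simp only [hz₂, map_mul, map_inv, hqv]
    rw [mul_assoc (q z)⁻¹, T.xz.eq]
    group
  set c := z₂⁻¹ * x * z₂ * x⁻¹ with hc₂
  have hcR : c ∈ fr E := by
    have := (fr E).mul_mem ((fr E).inv_mem hz₂R) ((fr_normal' E).conj_mem z₂ hz₂R x)
    simpa [hc₂, mul_assoc] using this
  clear_value v z₂ c
  have hxc : Commute (π x) (π c) := by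
    have h1 := (hlay z₂ hz₂R).2
    rw [← commutatorElement_inv, map_inv, Commute.inv_right_iff] at h1
    have h2 : π c = π ⁅x, z₂⁆ := by
      have e1 : ⁅x, z₂⁆ = z₂ * c * z₂⁻¹ := by
        rw [commutatorElement_def, hc₂]; group
      rw [e1, map_mul, map_mul, map_inv, ← (fr2_comm (p := p) hcR (fr_le E hz₂R)).eq,
        mul_inv_cancel_right]
    have h3 := (hlay z₂ hz₂R).2
    rwa [← h2] at h3
  have hVp : π (v ^ p) = 1 := by
    obtain ⟨d2, d3, -⟩ := dvd_choose_of_five_le hp.out hp5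
    have := pow_mul_of_steps (x := π x) (e := π e) (v := π v) (z := π z₂) (c := π c) (d := 1)
      (by simp only [hv, map_mul, map_inv]; group) (by simp only [hz₂, map_mul, map_inv]; group)
      (by simp only [hc₂, map_mul, map_inv]; group) (by rw [mul_one]; exact hxc.eq)
      (by simp) (fr2_comm hz₂R hvE).symm (fr2_comm hcR hvE).symm (Commute.one_right _)
      (fr2_comm hcR (fr_le E hz₂R)).symm (Commute.one_right _) (Commute.one_right _) p
    rw [← map_pow, hXp, one_mul, mul_one, one_pow, mul_one,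
      pow_eq_one_of_dvd (fr2_pi_pow hz₂R) d2, pow_eq_one_of_dvd (fr2_pi_pow hcR) d3, mul_one,
      mul_one, eq_comm, mul_eq_left] at this
    rwa [map_pow]
  have hzp : z ^ p ∈ fr2 p E := by
    rw [← QuotientGroup.eq_one_iff, ← QuotientGroup.mk'_apply,
      pi_pow_congr hG hodd hvE T.hz (q_eq_iff.1 hqv), hVp]
  refine ⟨(QuotientGroup.eq_one_iff _).1 hC, (QuotientGroup.eq_one_iff _).1 hXp, hzp, ?_⟩
  have h1 := fr2_map_invariant h (E.pow_mem T.hz p) hzp
  rw [show (⟨z ^ p, E.pow_mem T.hz p⟩ : E) = ⟨z, T.hz⟩ ^ p from rfl, map_pow,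
    SubmonoidClass.coe_pow, ← QuotientGroup.eq_one_iff, ← QuotientGroup.mk'_apply] at h1
  rw [← map_inv, eq_comm] at hh
  rw [pi_pow_congr hG hodd (E.inv_mem T.he) (h ⟨z, T.hz⟩).2 (q_eq_iff.1 hh), inv_pow, map_inv,
    inv_eq_one] at h1
  exact (QuotientGroup.eq_one_iff _).1 h1

/-- If a normal subgroup with central factor contains the inverted generators, the involution
acts trivially on that factor. -/
theorem inverted_mem (T : Transv p E x e z w) (S : Torus p E e z w τ lam) (hG : IsPGroup p G)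
    (hodd : Odd p) {D : Subgroup G} [D.Normal] (hD : fr2 p E ≤ D)
    (hcen : ∀ g : G, ∀ r ∈ fr E, ⁅g, r⁆ ∈ D) (hew : ⁅e, w⁆ ∈ D) (hzw : ⁅z, w⁆ ∈ D)
    (hep : e ^ p ∈ D) (hzp : z ^ p ∈ D) :
    ∀ r ∈ fr E, r * ((τ ^ ((p - 1) / 2)) r)⁻¹ ∈ D := by
  obtain ⟨⟨a1, -, -⟩, ⟨b1, -⟩, ⟨c1, -⟩, ⟨d1, -⟩, ⟨f1, -⟩, g1, -, -⟩ :=
    gen_facts T S hG hodd
  set t := τ ^ ((p - 1) / 2)
  have ht : ∀ a ∈ E, t a ∈ E := pow_aut_mem S.hE _
  have hR := (elemOver_fr hG E).2
  let M : Submonoid G :=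
    { carrier := {r | r ∈ fr E ∧ r * (t r)⁻¹ ∈ D}
      one_mem' := ⟨one_mem _, by simp⟩
      mul_mem' := by
        rintro a b ⟨ha, ha1⟩ ⟨hb, hb1⟩
        refine ⟨mul_mem ha hb, ?_⟩
        have e1 : a * b * (t (a * b))⁻¹ =
            ⁅a, b * (t b)⁻¹⁆ * ((b * (t b)⁻¹) * (a * (t a)⁻¹)) := by
          rw [map_mul, commutatorElement_def]; group
        rw [e1]
        refine D.mul_mem ?_ (D.mul_mem hb1 ha1)
        exact hcen _ _ (mul_mem hb (inv_mem (aut_fr t ht hb))) }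
  let K : Subgroup G :=
    { M with inv_mem' := fun {g} hg => by rw [inv_eq_pow_pred]; exact M.pow_mem hg _ }
  have hplus : ∀ c ∈ fr E, π (t c) = π c → c ∈ K := by
    intro c hc h1
    refine ⟨hc, hD ?_⟩
    rw [← QuotientGroup.eq_one_iff, ← QuotientGroup.mk'_apply, map_mul, map_inv, h1, mul_inv_cancel]
  have hminus : ∀ c ∈ fr E, π (t c) = (π c)⁻¹ → c ∈ D → c ∈ K := by
    intro c hc h1 h2
    refine ⟨hc, ?_⟩
    have h3 : c⁻¹ * (t c)⁻¹ ∈ D := hD (by
      rw [← QuotientGroup.eq_one_iff, ← QuotientGroup.mk'_apply, map_mul, map_inv, map_inv, h1,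
        inv_inv, inv_mul_cancel])
    simpa [mul_assoc] using D.mul_mem (D.mul_mem h2 h2) h3
  have hle : fr E ≤ K := by
    refine fr_le_of_generators hG hodd (T := {e, z, w})
      (Set.insert_subset T.he (Set.insert_subset T.hz (Set.singleton_subset_iff.2 T.hw))) ?_ ?_
      ?_ ?_
    · intro a ha
      obtain ⟨k, j, i, h⟩ := T.coord a ha
      rw [← map_pow, ← map_pow, ← map_pow, ← map_mul, ← map_mul, eq_comm, q_eq_iff] at h
      have h2 : z ^ k * w ^ j * e ^ i ∈ Subgroup.closure {e, z, w} := by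
        refine mul_mem (mul_mem ?_ ?_) ?_ <;>
          exact Subgroup.pow_mem _ (Subgroup.subset_closure (by simp)) _
      have := mul_mem (Subgroup.mem_sup_right (S := fr E) h2) (Subgroup.mem_sup_left h)
      rwa [mul_inv_cancel_left] at this
    · intro r hr
      refine ⟨fr2_le_fr hG E hr, D.mul_mem (hD hr) (D.inv_mem (hD ?_))⟩
      exact aut_fr2 t ht (fr_le E (fr2_le_fr hG E hr)) hr
    · have kez := hplus _ (hR.1 e T.he z T.hz) a1
      have kzw := hminus _ (hR.1 z T.hz w T.hw) c1 hzw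
      have kew := hminus _ (hR.1 e T.he w T.hw) b1 hew
      have hinv : ∀ {a b : G}, ⁅a, b⁆ ∈ K → ⁅b, a⁆ ∈ K := fun h => by
        rw [← commutatorElement_inv]; exact inv_mem h
      intro a ha b hb
      simp only [Set.mem_insert_iff, Set.mem_singleton_iff] at ha hb
      rcases ha with rfl | rfl | rfl <;> rcases hb with rfl | rfl | rfl <;>
        first
          | (rw [commutatorElement_self]; exact one_mem _)
          | assumption
          | exact hinv kez | exact hinv kzw | exact hinv kew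
    · intro a ha
      simp only [Set.mem_insert_iff, Set.mem_singleton_iff] at ha
      rcases ha with rfl | rfl | rfl
      · exact hminus _ (hR.2 a T.he) d1 hep
      · exact hminus _ (hR.2 a T.hz) f1 hzp
      · exact hplus _ (hR.2 a T.hw) g1
  exact fun r hr => (hle hr).2

end H72.RankThree
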