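/-
Two neighbours of a transvection-type subgroup cannot both have a new Frattini subgroup.
-/
import Cfsg.Agent.H72.RankThreeWeights

set_option autoImplicit false

namespace H72.RankThree

open scoped commutatorElement

variable {G : Type*} [Group G] [Finite G] {p : ℕ} [hp : Fact p.Prime]
variable {E : Subgroup G} [E.Normal] {x e z w : G} {τ : MulAut G} {lam : ℕ}

local notation "q" => QuotientGroup.mk' (fr E)
local notation "π" => QuotientGroup.mk' (fr2 p E)

omit [E.Normal] in
theorem relIndex_step (hG : IsPGroup p G) {D K : Subgroup G} {a : G} (hD : D ≤ K) (ha : a ∉ K) :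
    D.relIndex K * p ≤ D.relIndex (K ⊔ Subgroup.zpowers a) := by
  rw [← Subgroup.relIndex_mul_relIndex D K _ hD le_sup_left]
  refine Nat.mul_le_mul_left _ ?_
  obtain ⟨i, hi⟩ := exists_pow_relIndex hG K (K ⊔ Subgroup.zpowers a)
  rw [hi]
  refine Nat.le_self_pow (fun h => ha ?_) p
  rw [h, pow_zero, Subgroup.relIndex_eq_one] at hi
  exact hi (Subgroup.mem_sup_right (Subgroup.mem_zpowers a))

omit [E.Normal] hp [Finite G] in
theorem le_centralizer_comap {D : Subgroup G} [D.Normal] (g : G) {K : Subgroup G} {a : G}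
    (hK : ∀ b ∈ K, Commute (QuotientGroup.mk' D g) (QuotientGroup.mk' D b))
    (ha : Commute (QuotientGroup.mk' D g) (QuotientGroup.mk' D a)) :
    ∀ b ∈ K ⊔ Subgroup.zpowers a, ⁅g, b⁆ ∈ D := by
  intro b hb
  have hle : K ⊔ Subgroup.zpowers a ≤
      (Subgroup.centralizer {QuotientGroup.mk' D g}).comap (QuotientGroup.mk' D) := by
    refine sup_le (fun c hc => ?_) (Subgroup.zpowers_le.2 ?_)
    · exact Subgroup.mem_centralizer_singleton_iff.2 (hK c hc).symm.eq
    · exact Subgroup.mem_centralizer_singleton_iff.2 ha.symm.eq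
  rw [← QuotientGroup.eq_one_iff, ← QuotientGroup.mk'_apply, map_commutatorElement,
    commutatorElement_eq_one_iff_mul_comm]
  exact (Subgroup.mem_centralizer_singleton_iff.1 (hle hb)).symm

/-- The dichotomy for a neighbour `E'` of `E`. -/
theorem partner (T : Transv p E x e z w) (S : Torus p E e z w τ lam) (hG : IsPGroup p G)
    (hr : Cfsg.SectionalPRankLE p 3 G) (hp5 : 5 ≤ p) (tx : (τ ^ ((p - 1) / 2)) x = x)
    (tw : (τ ^ ((p - 1) / 2)) w = w) (τx : q (τ x) = q x ^ ((lam ^ (p - 2)) ^ 2))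
    (h : MulAut E) (hh : q ((h ⟨z, T.hz⟩ : E) : G) = (q e)⁻¹)
    (E' : Subgroup G) (hidx' : E'.index = p) (hfr' : (fr E').relIndex E' = p ^ 3) (hne : E' ≠ E) :
    z ∈ E' ∧ (fr E' = fr E → w ∈ E') ∧ (fr E' ≠ fr E → e ∈ E' ∧ x ∈ E') := by
  have hodd : Odd p := hp.out.odd_of_ne_two (by omega)
  haveI hE'n := normal_of_index hG hidx'
  have hidx := T.hidx
  have hRE' : fr E ≤ E' := fr_le_of_index hG hidx' E
  have hzE' : z ∈ E' := by
    have h1 : z⁻¹ * ⁅e⁻¹, x⁆ ∈ fr E := by
      rw [← QuotientGroup.eq_one_iff, ← QuotientGroup.mk'_apply, map_mul, map_inv,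
        map_commutatorElement, map_inv, commutatorElement_def, inv_inv, mul_assoc (q e)⁻¹, T.xe]
      group
    rw [show z = ⁅e⁻¹, x⁆ * (z⁻¹ * ⁅e⁻¹, x⁆)⁻¹ by group]
    exact E'.mul_mem (commutator_mem_of_index hG hidx' e⁻¹ x) (E'.inv_mem (hRE' h1))
  -- the intersection
  set L := E ⊓ E' with hL
  haveI : L.Normal := inferInstance
  have hLE : L.relIndex E = p := relIndex_inf_of_index hG hidx hidx' hne
  have hLE' : L.relIndex E' = p := by
    rw [hL, inf_comm]; exact relIndex_inf_of_index hG hidx' hidx (Ne.symm hne)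
  obtain ⟨u, hu, huE⟩ : ∃ u ∈ E', u ∉ E := by
    by_contra! h
    rw [Subgroup.relIndex_eq_one.2 (le_inf h le_rfl : E' ≤ L)] at hLE'
    exact hp.out.one_lt.ne hLE'
  obtain ⟨a₀, ha₀, m, hum⟩ := T.decompose u
  have hm : (m : ZMod p) ≠ 0 := by
    intro h0
    refine huE ?_
    have := T.pow_mem (a := m) (b := 0) (by simpa using h0)
    rw [pow_zero, inv_one, mul_one] at this
    rw [hum]; exact E.mul_mem ha₀ this
  have hgenE : ∀ {g : G}, g ∈ E → g ∉ E' → ∀ b ∈ E, ∃ n : ℕ, b * (g ^ n)⁻¹ ∈ L := by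
    intro g hg hg' b hb
    have h1 := eq_sup_of_relIndex (inf_le_left : L ≤ E) hLE hg (fun h => hg' h.2)
    rw [h1] at hb
    obtain ⟨l, hl, g', hg'', rfl⟩ := Subgroup.mem_sup_of_normal_left.1 hb
    obtain ⟨n, rfl⟩ := mem_powers_iff_mem_zpowers.2 hg''
    exact ⟨n, by rw [mul_inv_cancel_right]; exact hl⟩
  refine ⟨hzE', fun hRR => ?_, fun hRR => ?_⟩
  · -- the same Frattini subgroup
    by_contra hwE'
    obtain ⟨n, hn⟩ := hgenE T.hw hwE' e T.he
    set l := e * (w ^ n)⁻¹ with hl
    have hlE : l ∈ E := hn.1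
    have hql : q l = q z ^ 0 * q w ^ ((p - 1) * n) * q e ^ 1 := by
      have h1 : (q w ^ n)⁻¹ = q w ^ ((p - 1) * n) := inv_eq_of_mul_eq_one_right (by
        rw [← pow_add, show n + (p - 1) * n = p * n by
          rw [Nat.sub_mul, one_mul, Nat.add_sub_cancel' (Nat.le_mul_of_pos_left n hp.out.pos)],
          pow_mul, q_pow_p hG T.hw, one_pow])
      rw [hl, map_mul, map_inv, map_pow, h1, pow_zero, one_mul, pow_one,
        ((q_comm hG T.he T.hw).pow_right _).eq]
    have h2 := T.act hG hlE hql m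
    have h3 : q (a₀ * x ^ m) * q l = q l * q (a₀ * x ^ m) := by
      rw [← hum, ← commutatorElement_eq_one_iff_mul_comm, ← map_commutatorElement,
        QuotientGroup.mk'_apply, QuotientGroup.eq_one_iff, ← hRR]
      exact (elemOver_fr hG E').2.1 u hu l hn.2
    rw [map_mul, map_pow, mul_assoc, h2, ← mul_assoc (q a₀), ← mul_assoc (q a₀),
      (q_comm hG ha₀ hlE).eq, mul_one] at h3
    have h4 : q l * q a₀ * q z ^ m = q l * q a₀ := by
      apply mul_right_cancel (b := q x ^ m)
      rw [h3, mul_assoc]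
    rw [mul_eq_left] at h4
    have h5 := cast_eq_of_pow (q_pow_p hG T.hz) T.q_ne_one.2.1 (a := m) (b := 0) (by rwa [pow_zero])
    exact hm (by simpa using h5)
  · -- different Frattini subgroups
    set R' := fr E' with hR'
    haveI : R'.Normal := fr_normal E'
    set R₀ := fr E ⊓ R' with hR₀
    haveI : R₀.Normal := inferInstance
    obtain ⟨hRE, hRc, hRp⟩ := elemOver_fr hG E
    obtain ⟨hR'E', hR'c, hR'p⟩ := elemOver_fr hG E'
    have hRL : fr E ≤ L := le_inf hRE hRE'
    have hR'L : R' ≤ L := le_inf (fr_le_of_index hG hidx E') hR'E'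
    have hL0 : ElemOver p L R₀ := ⟨inf_le_left.trans hRL,
      fun a ha b hb => ⟨hRc a ha.1 b hb.1, hR'c a ha.2 b hb.2⟩,
      fun a ha => ⟨hRp a ha.1, hR'p a ha.2⟩⟩
    have hR2L : (fr E).relIndex L = p ^ 2 ∧ R'.relIndex L = p ^ 2 := by
      constructor <;> apply Nat.eq_of_mul_eq_mul_right hp.out.pos <;> rw [← pow_succ]
      · nth_rewrite 1 [← hLE]
        rw [Subgroup.relIndex_mul_relIndex _ _ _ hRL inf_le_left, T.hfr]
      · nth_rewrite 1 [← hLE']
        rw [Subgroup.relIndex_mul_relIndex _ _ _ hR'L inf_le_right, hfr']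
    obtain ⟨hi₀, hi₀'⟩ : R₀.relIndex (fr E) = p ∧ R₀.relIndex R' = p := by
      have hle := relIndex_le_of_elemOver hr hL0
      obtain ⟨i, hi⟩ := exists_pow_relIndex hG R₀ (fr E)
      obtain ⟨i', hi'⟩ := exists_pow_relIndex hG R₀ R'
      have h1 := Subgroup.relIndex_mul_relIndex R₀ (fr E) L inf_le_left hRL
      have h2 := Subgroup.relIndex_mul_relIndex R₀ R' L inf_le_right hR'L
      rw [hi, hR2L.1, ← pow_add] at h1
      rw [hi', hR2L.2, ← pow_add, ← h1] at h2
      have hii : i' = i := Nat.add_right_cancel (Nat.pow_right_injective hp.out.two_le h2)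
      rw [← h1] at hle
      have h3 := (Nat.pow_le_pow_iff_right hp.out.one_lt).1 hle
      have hi0 : i ≠ 0 := fun h0 => by
        refine hRR ?_
        have hle' : fr E ≤ R₀ := Subgroup.relIndex_eq_one.1 (by rw [hi, h0, pow_zero])
        exact (eq_of_relIndex_eq (hle'.trans inf_le_right) hR'L (by rw [hR2L.1, hR2L.2])).symm
      obtain rfl : i = 1 := by omega
      exact ⟨by rw [hi, pow_one], by rw [hi', hii, pow_one]⟩
    have hcen : ∀ g : G, ∀ r ∈ fr E, ⁅g, r⁆ ∈ R₀ := fun g r hr =>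
      commutator_mem_of_relIndex_prime hG inf_le_left hi₀ g hr
    have hR₀p : ∀ r ∈ fr E, r ^ p ∈ R₀ := fun r hr => pow_mem_of_relIndex hi₀ hr
    have hR2R₀ : fr2 p E ≤ R₀ := fr2_le (fun a _ => hcen a) hR₀p
    obtain ⟨wxw, wxp, wzp, wep⟩ := weights T S hG hp5 tx tw τx h hh
    set θ := QuotientGroup.mk' R₀ with hθ
    have hθ1 : ∀ {a : G}, θ a = 1 ↔ a ∈ R₀ := fun {a} => QuotientGroup.eq_one_iff a
    have hθR : ∀ (g : G), ∀ r ∈ fr E, Commute (θ g) (θ r) := fun g r hr => by
      rw [commute_iff_eq, ← commutatorElement_eq_one_iff_mul_comm, ← map_commutatorElement, hθ1]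
      exact hcen g r hr
    have hθq : ∀ {a b : G}, q a = q b → ∃ r ∈ fr E, θ b = θ a * θ r := fun {a b} h =>
      ⟨_, q_eq_iff.1 h, by rw [← map_mul]; group⟩
    have hθxw : Commute (θ x) (θ w) := by
      rw [commute_iff_eq, ← commutatorElement_eq_one_iff_mul_comm, ← map_commutatorElement, hθ1]
      exact hR2R₀ wxw
    have hZp : θ z ^ p = 1 := by rw [← map_pow, hθ1]; exact hR2R₀ wzp
    -- a central element of `R'`
    obtain ⟨c₀, hc₀, hc₀R⟩ : ∃ c₀ ∈ R', c₀ ∉ fr E := by
      by_contra! h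
      exact hRR (eq_of_relIndex_eq h hRL (by rw [hR2L.1, hR2L.2]))
    have hc₀cen : ∀ g, Commute (θ g) (θ c₀) := fun g => by
      rw [commute_iff_eq, ← commutatorElement_eq_one_iff_mul_comm, ← map_commutatorElement, hθ1]
      exact commutator_mem_of_relIndex_prime hG inf_le_right hi₀' g hc₀
    have hc₀E : c₀ ∈ E := (hR'L hc₀).1
    obtain ⟨α, β, γ, hαβ⟩ := T.coord c₀ hc₀E
    have hγ : (γ : ZMod p) = 0 := by
      have h1 := T.act hG hc₀E hαβ 1
      have h2 : q x * q c₀ = q c₀ * q x := by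
        rw [← commutatorElement_eq_one_iff_mul_comm, ← map_commutatorElement,
          QuotientGroup.mk'_apply, QuotientGroup.eq_one_iff]
        exact (commutator_mem_of_relIndex_prime hG inf_le_right hi₀' x hc₀ : ⁅x, c₀⁆ ∈ R₀).1
      rw [pow_one, one_mul, h2] at h1
      have h3 := mul_right_cancel h1
      rw [left_eq_mul] at h3
      have h5 := cast_eq_of_pow (q_pow_p hG T.hz) T.q_ne_one.2.1 (a := γ) (b := 0) (by rwa [pow_zero])
      simpa using h5
    rw [pow_congr_cast (q_pow_p hG T.he) (a := γ) (b := 0) (by simpa using hγ), pow_zero,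
      mul_one] at hαβ
    have hQ : ∀ g, Commute (θ g) (θ z ^ α * θ w ^ β) := by
      intro g
      rw [← map_pow, ← map_pow, ← map_mul] at hαβ ⊢
      obtain ⟨r, hr, hc⟩ := hθq hαβ
      rw [hc]
      exact (hc₀cen g).mul_right (hθR g r hr)
    have hroot : ∀ {A : G ⧸ R₀}, A ^ p = 1 → ∀ {k : ℕ}, (k : ZMod p) ≠ 0 →
        ∀ {g : G ⧸ R₀}, Commute g (A ^ k) → Commute g A := by
      intro A hA k hk g hg
      have h1 := hg.pow_right ((k : ZMod p)⁻¹).val
      rwa [← pow_mul, pow_congr_cast hA (b := 1) (by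
        rw [Nat.cast_mul, ZMod.natCast_zmod_val, mul_inv_cancel₀ hk, Nat.cast_one]), pow_one] at h1
    obtain ⟨hzw, hxz⟩ : Commute (θ z) (θ w) ∧ Commute (θ x) (θ z) := by
      by_cases hα : (α : ZMod p) = 0
      · have hQ' : ∀ g, Commute (θ g) (θ w ^ β) := fun g => by
          have := hQ g
          rwa [pow_congr_cast hZp (a := α) (b := 0) (by simpa using hα), pow_zero, one_mul] at this
        have hβ : (β : ZMod p) ≠ 0 := fun h0 => hc₀R ((QuotientGroup.eq_one_iff _).1 (by
          show q c₀ = 1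
          rw [hαβ, pow_congr_cast (q_pow_p hG T.hz) (a := α) (b := 0) (by simpa using hα),
            pow_congr_cast (q_pow_p hG T.hw) (a := β) (b := 0) (by simpa using h0)]
          simp))
        have hwcen : ∀ g, Commute (θ g) (θ w) := by
          intro g
          set s := ((β : ZMod p)⁻¹).val with hs
          have hbs : (β * s) % p = 1 := by
            have h1 : ((β * s : ℕ) : ZMod p) = ((1 : ℕ) : ZMod p) := by
              rw [Nat.cast_mul, hs, ZMod.natCast_zmod_val, mul_inv_cancel₀ hβ, Nat.cast_one]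
            have h2 := (ZMod.natCast_eq_natCast_iff' _ _ p).1 h1
            rwa [Nat.one_mod_eq_one.2 hp.out.ne_one] at h2
          have h1 : Commute (θ g) (θ w ^ (β * s)) := by rw [pow_mul]; exact (hQ' g).pow_right s
          have h2 : Commute (θ g) ((θ w ^ p) ^ (β * s / p)) := by
            rw [← map_pow]; exact (hθR g _ (hRp w T.hw)).pow_right _
          have h3 : θ w = ((θ w ^ p) ^ (β * s / p))⁻¹ * θ w ^ (β * s) := by
            rw [eq_inv_mul_iff_mul_eq, ← pow_mul, ← pow_succ]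
            congr 1
            conv_rhs => rw [← Nat.div_add_mod (β * s) p, hbs]
          rw [h3]
          exact h2.inv_right.mul_right h1
        refine ⟨hwcen z, ?_⟩
        have hcomm : ∀ {a b : G}, Commute (θ a) (θ b) → ⁅a, b⁆ ∈ R₀ := fun hab => by
          rw [← hθ1, map_commutatorElement, commutatorElement_eq_one_iff_mul_comm]
          exact hab.eq
        have hinv := inverted_mem T S hG hodd (D := R₀) hR2R₀ hcen
          (hcomm (hwcen e)) (hcomm (hwcen z)) (hR2R₀ wep) (hR2R₀ wzp)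
        have hcR : ⁅x, z⁆ ∈ fr E := by
          rw [← QuotientGroup.eq_one_iff, ← QuotientGroup.mk'_apply, map_commutatorElement,
            commutatorElement_eq_one_iff_mul_comm]
          exact T.xz.eq
        have h1 := hinv _ hcR
        obtain ⟨r, hr, hr'⟩ := hθq (show q z⁻¹ = q ((τ ^ ((p - 1) / 2)) z) by
          rw [(S.t_inv hG hodd T.he T.hz).2.1, map_inv])
        rw [map_commutatorElement (τ ^ ((p - 1) / 2)), tx, ← hθ1, map_mul θ, map_inv θ,
          map_commutatorElement θ x, map_commutatorElement θ x, hr'] at h1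
        have hC : ∀ g, Commute (θ g) ⁅θ x, θ z⁆ := fun g => by
          rw [← map_commutatorElement]; exact hθR g _ hcR
        have hinvC : ⁅θ x, θ z⁻¹ * θ r⁆ = ⁅θ x, θ z⁆⁻¹ := by
          have e1 : ⁅θ x, θ z⁻¹ * θ r⁆ = ⁅θ x, θ z⁻¹⁆ := by
            rw [commutatorElement_def, commutatorElement_def, ← mul_assoc, mul_assoc _ (θ r),
              ((hθR x r hr).symm.inv_right).eq]
            group
          rw [e1, map_inv, show ⁅θ x, (θ z)⁻¹⁆ = (θ z)⁻¹ * ⁅θ x, θ z⁆⁻¹ * θ z by
            simp only [commutatorElement_def]; group, mul_assoc, ((hC z).inv_right).symm.eq]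
          group
        rw [hinvC, inv_inv, ← sq] at h1
        have h2 : ⁅θ x, θ z⁆ = 1 := by
          refine sq_inj hodd ?_ (one_pow p) (by rw [h1, one_pow])
          rw [← map_commutatorElement, ← map_pow, hθ1]
          exact hR₀p _ hcR
        exact commutatorElement_eq_one_iff_mul_comm.1 h2
      · refine ⟨(hroot hZp hα ?_).symm, hroot hZp hα ?_⟩
        · have := (hQ w).mul_right (((Commute.refl (θ w)).pow_right β).inv_right)
          rwa [mul_inv_cancel_right] at this
        · have := (hQ x).mul_right ((hθxw.pow_right β).inv_right)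
          rwa [mul_inv_cancel_right] at this
    -- `w ^ p` lies outside `R₀`
    have hwp : w ^ p ∉ R₀ := by
      intro hwp
      have hR0R : ElemOver p (fr E) R₀ := ⟨inf_le_left, fun a _ b hb => hcen a b hb, hR₀p⟩
      have h1 : ElemOver p (fr E ⊔ Subgroup.zpowers z) R₀ :=
        elemOver_sup_zpowers hR0R (fun a ha => hcen z a ha) (hR2R₀ wzp)
      have h2 : ElemOver p (fr E ⊔ Subgroup.zpowers z ⊔ Subgroup.zpowers w) R₀ :=
        elemOver_sup_zpowers h1 (le_centralizer_comap w (fun b hb => hθR w b hb) hzw.symm) hwp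
      have h3 : ElemOver p (fr E ⊔ Subgroup.zpowers z ⊔ Subgroup.zpowers w ⊔ Subgroup.zpowers x) R₀ := by
        refine elemOver_sup_zpowers h2 (le_centralizer_comap x (fun b hb => ?_) hθxw) (hR2R₀ wxp)
        have := le_centralizer_comap (D := R₀) x (fun c hc => hθR x c hc) hxz b hb
        rwa [← hθ1, map_commutatorElement, commutatorElement_eq_one_iff_mul_comm] at this
      have hle := relIndex_le_of_elemOver hr h3
      have n1 : z ∉ fr E := fun h => T.q_ne_one.2.1 ((QuotientGroup.eq_one_iff z).2 h)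
      have n2 : w ∉ fr E ⊔ Subgroup.zpowers z := by
        intro h
        obtain ⟨r, hr, b, hb, hrb⟩ := Subgroup.mem_sup_of_normal_left.1 h
        obtain ⟨n, rfl⟩ := mem_powers_iff_mem_zpowers.2 hb
        have h' : q z ^ 0 * q w ^ 1 * q e ^ 0 = q z ^ n * q w ^ 0 * q e ^ 0 := by
          have : q (r * z ^ n) = q w := congrArg _ hrb
          rw [map_mul, (QuotientGroup.eq_one_iff r).2 hr |> fun h => (h : q r = 1), one_mul,
            map_pow] at this
          simp only [pow_zero, pow_one, one_mul, mul_one, this]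
        exact (one_ne_zero (α := ZMod p)) (by simpa using (T.coord_unique hG h').2.1)
      have n3 : x ∉ fr E ⊔ Subgroup.zpowers z ⊔ Subgroup.zpowers w := fun h =>
        T.hx (sup_le (sup_le hRE (Subgroup.zpowers_le.2 T.hz)) (Subgroup.zpowers_le.2 T.hw) h)
      have s1 := relIndex_step hG (D := R₀) inf_le_left n1
      have s2 := relIndex_step hG (D := R₀) h1.1 n2
      have s3 := relIndex_step hG (D := R₀) h2.1 n3
      rw [hi₀] at s1
      have : p ^ 4 ≤ p ^ 3 := by
        calc p ^ 4 = p * p * p * p := by ring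
          _ ≤ _ := (Nat.mul_le_mul_right p ((Nat.mul_le_mul_right p s1).trans s2)).trans s3
          _ ≤ p ^ 3 := hle
      have := (Nat.pow_le_pow_iff_right hp.out.one_lt).1 this
      omega
    have hθpow : ∀ {a b : G}, a ∈ E → b ∈ E → θ ((a * b) ^ p) = θ (a ^ p) * θ (b ^ p) := by
      intro a b ha hb
      have h1 := pi_mul_pow (E := E) hG hodd ha hb
      rw [← map_mul, QuotientGroup.mk'_apply, QuotientGroup.mk'_apply, QuotientGroup.eq] at h1
      rw [← map_mul, hθ, QuotientGroup.mk'_apply, QuotientGroup.mk'_apply, QuotientGroup.eq]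
      exact hR2R₀ h1
    have heE' : e ∈ E' := by
      by_contra he'
      obtain ⟨n, hn⟩ := hgenE T.he he' w T.hw
      refine hwp ?_
      rw [← hθ1]
      have h1 : θ ((w * (e ^ n)⁻¹ * e ^ n) ^ p) = 1 := by
        rw [hθpow hn.1 (E.pow_mem T.he n), hθ1.2 (hL0.2.2 _ hn), one_mul, ← pow_mul, mul_comm,
          pow_mul, map_pow, hθ1.2 (hR2R₀ wep), one_pow]
      rwa [inv_mul_cancel_right] at h1
    refine ⟨heE', ?_⟩
    -- `x w^j` lies in `E'`
    obtain ⟨u', hu', a, ha, hx⟩ : ∃ u' ∈ E', ∃ a ∈ E, u' * a = x := by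
      have htop : (⊤ : Subgroup G) = E ⊔ Subgroup.zpowers u :=
        eq_sup_of_relIndex le_top (by rw [Subgroup.relIndex_top_right, hidx]) (Subgroup.mem_top u) huE
      have h1 : x ∈ E' ⊔ E := by
        have h2 : x ∈ E ⊔ Subgroup.zpowers u := htop ▸ Subgroup.mem_top x
        exact sup_le le_sup_right ((Subgroup.zpowers_le.2 hu).trans le_sup_left) h2
      exact Subgroup.mem_sup_of_normal_left.1 h1
    obtain ⟨k, j, i, hk⟩ := T.coord a⁻¹ (E.inv_mem ha)
    have hb : (w ^ j)⁻¹ * a⁻¹ ∈ E' := by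
      have h1 : q (z ^ k * e ^ i) = q ((w ^ j)⁻¹ * a⁻¹) := by
        rw [map_mul _ (w ^ j)⁻¹, hk, map_inv, map_mul, map_pow, map_pow, map_pow,
          ((q_comm hG T.hz T.hw).pow_pow k j).eq]
        group
      have h3 := E'.mul_mem (E'.mul_mem (E'.pow_mem hzE' k) (E'.pow_mem heE' i))
        (hRE' (q_eq_iff.1 h1))
      rwa [mul_inv_cancel_left] at h3
    have hxwE' : x * w ^ j ∈ E' := by
      have h1 : x * a⁻¹ ∈ E' := by rw [← hx, mul_inv_cancel_right]; exact hu'
      have h2 := E'.mul_mem h1 (E'.inv_mem hb)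
      rwa [show x * a⁻¹ * ((w ^ j)⁻¹ * a⁻¹)⁻¹ = x * w ^ j by group] at h2
    have hj : (j : ZMod p) = 0 := by
      by_contra hj
      have h1 : θ ((x * w ^ j) ^ p) = θ (w ^ p) ^ j := by
        rw [map_pow, map_mul, map_pow, map_pow θ, (hθxw.pow_right j).mul_pow, ← map_pow θ x,
          hθ1.2 (hR2R₀ wxp), one_mul, ← pow_mul, ← pow_mul, mul_comm]
      have h2 : (w ^ p) ^ j ∈ R₀ := by
        have hwpR : (w ^ p) ^ j ∈ fr E := (fr E).pow_mem (hRp w T.hw) j
        refine ⟨hwpR, ?_⟩
        rw [← map_pow, QuotientGroup.mk'_apply, QuotientGroup.mk'_apply, QuotientGroup.eq] at h1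
        have h3 := R'.mul_mem (hR'p _ hxwE') (h1 : _ ∈ R₀).2
        rwa [mul_inv_cancel_left] at h3
      refine hwp ?_
      rw [← hθ1, map_pow] at h2 ⊢
      have h4 : (θ (w ^ p)) ^ p = 1 := by rw [← map_pow, hθ1]; exact hR₀p _ (hRp w T.hw)
      by_contra hne'
      have h5 := cast_eq_of_pow h4 (by rwa [map_pow]) (a := j) (b := 0)
        (by rw [pow_zero, map_pow]; exact h2)
      exact hj (by simpa using h5)
    have hwj : w ^ j ∈ E' := by
      obtain ⟨c, rfl⟩ := (ZMod.natCast_eq_zero_iff j p).1 hj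
      rw [pow_mul]
      exact E'.pow_mem (hRE' (hRp w T.hw)) c
    have := E'.mul_mem hxwE' (E'.inv_mem hwj)
    rwa [mul_inv_cancel_right] at this

end H72.RankThree
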