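/-
A group of automorphisms with a torus cannot move the subgroup `E` inside a group of sectional
rank three.
-/
import Cfsg.Agent.H72.RankThreePartners
import Cfsg.Agent.H72.RankThreeCoord

set_option autoImplicit false

namespace H72.RankThree

open scoped commutatorElement

variable {G : Type*} [Group G] [Finite G] {p : ℕ} [hp : Fact p.Prime]
variable {R : Subgroup G} {e z w x : G}

/-- The data of the final configuration. -/
structure Move (C : Coord p R e z w x) (A : Subgroup (MulAut G)) (τ : MulAut G) (L : ZMod p) :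
    Prop where
  hA : ∀ δ ∈ A, ∀ r ∈ R, δ r ∈ R
  hconj : ∀ m : G, MulAut.conj m ∈ A
  hτ : τ ∈ A
  te : C.K (τ e) = 0 ∧ C.J (τ e) = 0 ∧ C.I (τ e) = L ∧ C.X (τ e) = 0
  tz : C.K (τ z) = L⁻¹ ∧ C.J (τ z) = 0 ∧ C.I (τ z) = 0 ∧ C.X (τ z) = 0
  tw : C.K (τ w) = 0 ∧ C.J (τ w) = 1 ∧ C.I (τ w) = 0 ∧ C.X (τ w) = 0
  tx : C.K (τ x) = 0 ∧ C.J (τ x) = 0 ∧ C.I (τ x) = 0 ∧ C.X (τ x) = L⁻¹ ^ 2
  hL : L ≠ 0 ∧ L ^ 2 ≠ 1 ∧ L ^ 3 ≠ 1 ∧ L ^ 5 ≠ 1
  hinner : ∀ δ ∈ A, (∃ k : ℕ, δ ^ p ^ k = 1) → (∀ a, C.X a = 0 → C.X (δ a) = 0) →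
    ∃ m, δ = MulAut.conj m
  hker : ∀ δ : MulAut G, (∀ g, C.J (g⁻¹ * δ g) = 0 ∧ C.I (g⁻¹ * δ g) = 0 ∧
    C.X (g⁻¹ * δ g) = 0) → ∃ k : ℕ, δ ^ p ^ k = 1

/-- The extension property of the torus to a group above `G`. -/
def Ext (p : ℕ) {M : Type*} [Group M] (A : Subgroup (MulAut G)) (ι : G →* M) : Prop :=
  ∀ τ' ∈ A, ∀ (g : M) (γ : MulAut G) (n₀ : G), (∀ a, ι (γ a) = g * ι a * g⁻¹) → ι n₀ = g ^ p →
    ∀ (n : ℕ) (c : G), τ' * γ * τ'⁻¹ = γ ^ n * MulAut.conj c →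
      ∃ c' : G, τ' * γ * τ'⁻¹ = γ ^ n * MulAut.conj c' ∧ (g ^ n * ι c') ^ p = ι (τ' n₀)

variable {M : Type*} [Group M] [Finite M] {C : Coord p R e z w x} {A : Subgroup (MulAut G)}
  {τ : MulAut G} {L : ZMod p}

theorem final_case (D : Move C A τ L) (hp5 : 5 ≤ p) (hM : IsPGroup p M)
    (hr : Cfsg.SectionalPRankLE p 3 M) (ι : G →* M) (hι : Function.Injective ι) (g : M)
    (hg : g ∉ ι.range) (hgen : ι.range ⊔ Subgroup.zpowers g = ⊤) (γ : MulAut G) (hγA : γ ∈ A)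
    (hγ : ∀ a, ι (γ a) = g * ι a * g⁻¹) (n₀ : G) (hn₀ : ι n₀ = g ^ p) (hExt : Ext p A ι)
    (hIx : C.I (γ x) = 0) (hXx : C.X (γ x) = 1) (hIe : C.I (γ e) = 1) (hne : C.X (γ e) ≠ 0)
    (hKx : C.K (γ x) = 0) : False := by
  obtain ⟨kγ, hkγ⟩ : ∃ k : ℕ, γ ^ p ^ k = 1 := by
    obtain ⟨k, hk⟩ := hM g
    refine ⟨k, MulEquiv.ext fun a => hι ?_⟩
    have key : ∀ (m : ℕ) (a : G), ι ((γ ^ m) a) = g ^ m * ι a * (g ^ m)⁻¹ := by
      intro m
      induction m with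
      | zero => simp
      | succ m ih => intro a; rw [pow_succ' γ, MulAut.mul_apply, hγ, ih, pow_succ']; group
    rw [key, hk, MulAut.one_apply, one_mul, inv_one, mul_one]
  have hγR := D.hA γ hγA
  have hτR := D.hA τ D.hτ
  obtain ⟨hL0, hL2, hL3, hL5⟩ := D.hL
  set μ := L⁻¹ with hμ
  have hμ0 : μ ≠ 0 := inv_ne_zero hL0
  set a := C.X (γ e) with ha
  obtain ⟨-, -, hJw⟩ := C.unip hγR hkγ
  obtain ⟨hwI, hwX⟩ := C.map_central hγR C.hw.2.2.1 C.hw.2.2.2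
  obtain ⟨hzI, hzX⟩ := C.map_central hγR C.hz.2.2.1 C.hz.2.2.2
  obtain ⟨hzK, hzJ⟩ := C.map_z hγR
  rw [hXx, hIe, hIx, mul_one, mul_zero, sub_zero] at hzK
  -- the conjugate of `γ` by the torus
  set γ' := τ * γ * τ⁻¹ with hγ'
  have hγ'A : γ' ∈ A := mul_mem (mul_mem D.hτ hγA) (inv_mem D.hτ)
  have hγ'R := D.hA γ' hγ'A
  have hγ'u : ∀ u, γ' (τ u) = τ (γ u) := fun u => by
    simp [hγ', MulAut.mul_apply, MulAut.inv_apply_self]
  obtain ⟨te1, te2, te3, te4⟩ := D.te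
  obtain ⟨tz1, tz2, tz3, tz4⟩ := D.tz
  obtain ⟨tw1, tw2, tw3, tw4⟩ := D.tw
  obtain ⟨tx1, tx2, tx3, tx4⟩ := D.tx
  have hμ2 : μ ^ 2 ≠ 0 := pow_ne_zero _ hμ0
  have h'x : C.I (γ' x) = 0 ∧ C.X (γ' x) = 1 := by
    have hi := C.mapI hγ'R (τ x)
    have hx' := C.mapX hγ'R (τ x)
    rw [hγ'u, C.mapI hτR, hIx, hXx, tx3, tx4] at hi
    rw [hγ'u, C.mapX hτR, hIx, hXx, tx3, tx4] at hx'
    constructor
    · exact (mul_eq_zero.1 (show μ ^ 2 * C.I (γ' x) = 0 by linear_combination -hi)).resolve_left hμ2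
    · exact mul_left_cancel₀ hμ2 (by linear_combination -hx')
  have h'e : C.I (γ' e) = 1 ∧ C.X (γ' e) = μ ^ 3 * a := by
    have hi := C.mapI hγ'R (τ e)
    have hx' := C.mapX hγ'R (τ e)
    rw [hγ'u, C.mapI hτR, hIe, te3, tx3, te4] at hi
    rw [hγ'u, C.mapX hτR, hIe, te4, tx4, te3] at hx'
    refine ⟨mul_left_cancel₀ hL0 (by linear_combination -hi), mul_left_cancel₀ hL0 ?_⟩
    have hLμ : L * μ = 1 := mul_inv_cancel₀ hL0
    linear_combination -hx' - μ ^ 2 * a * hLμ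
  set n := (μ ^ 3).val with hn
  have hnc : (n : ZMod p) = μ ^ 3 := ZMod.natCast_zmod_val _
  -- powers of `γ`
  have hγn : ∀ m : ℕ, C.I ((γ ^ m) e) = 1 ∧ C.X ((γ ^ m) e) = m * a ∧ C.I ((γ ^ m) x) = 0 ∧
      C.X ((γ ^ m) x) = 1 ∧ C.J ((γ ^ m) x) = m * C.J (γ x) ∧ C.I ((γ ^ m) w) = 0 ∧
      C.X ((γ ^ m) w) = 0 ∧ C.J ((γ ^ m) w) = 1 ∧ C.K ((γ ^ m) w) = m * C.K (γ w) := by
    intro m
    induction m with
    | zero => simp [C.he, C.hx, C.hw]
    | succ m ih =>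
      obtain ⟨i1, i2, i3, i4, i5, i6, i7, i8, i9⟩ := ih
      simp only [pow_succ', MulAut.mul_apply, C.mapI hγR ((γ ^ m) e), C.mapX hγR ((γ ^ m) e),
        C.mapI hγR ((γ ^ m) x), C.mapX hγR ((γ ^ m) x), C.mapJ hγR ((γ ^ m) x),
        C.mapI hγR ((γ ^ m) w), C.mapX hγR ((γ ^ m) w), C.mapJ hγR ((γ ^ m) w),
        C.mapK_central hγR i6 i7, i1, i2, i3, i4, i5, i6, i7, i8, i9, hIx, hXx, hIe, ← ha, hJw,
        hzK]
      push_cast
      refine ⟨?_, ?_, ?_, ?_, ?_, ?_, ?_, ?_, ?_⟩ <;> ring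
  have hγnA : γ ^ n ∈ A := pow_mem hγA n
  set δ := γ' * (γ ^ n)⁻¹ with hδ
  have hδA : δ ∈ A := mul_mem hγ'A (inv_mem hγnA)
  have hδR := D.hA δ hδA
  have hmat : C.mat δ = 1 := by
    have hm : C.mat γ' = C.mat (γ ^ n) := by
      obtain ⟨i1, i2, i3, i4, -⟩ := hγn n
      ext i j
      fin_cases i <;> fin_cases j <;> simp [Coord.mat, h'x, h'e, i1, i2, i3, i4, hnc]
    rw [hδ, C.mat_mul hγ'R, hm, ← C.mat_mul (D.hA _ hγnA), mul_inv_cancel, C.mat_one]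
  have hδI : C.I (δ e) = 1 ∧ C.I (δ x) = 0 ∧ C.X (δ e) = 0 ∧ C.X (δ x) = 1 :=
    ⟨congrFun (congrFun hmat 0) 0, congrFun (congrFun hmat 0) 1, congrFun (congrFun hmat 1) 0,
      congrFun (congrFun hmat 1) 1⟩
  have hδu : ∀ u, δ ((γ ^ n) u) = γ' u := fun u => by
    simp [hδ, MulAut.mul_apply, MulAut.inv_apply_self]
  have hJ'w : C.J (γ' w) = 1 := by
    refine (C.unip hγ'R (k := kγ) ?_).2.2
    rw [hγ', conj_pow, hkγ, mul_one, mul_inv_cancel]
  have hδw : C.J (δ w) = 1 := by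
    obtain ⟨-, -, -, -, -, i6, i7, i8, -⟩ := hγn n
    have := C.mapJ hδR ((γ ^ n) w)
    rw [hδu, hJ'w, i6, i7, i8] at this
    linear_combination -this
  obtain ⟨kδ, hkδ⟩ : ∃ k : ℕ, δ ^ p ^ k = 1 := by
    have hstep : ∀ (m : ℕ) (u : G), C.I ((δ ^ m) u) = C.I u ∧ C.X ((δ ^ m) u) = C.X u ∧
        C.J ((δ ^ m) u) = C.J u + m * (C.I u * C.J (δ e) + C.X u * C.J (δ x)) := by
      intro m u
      induction m with
      | zero => simp
      | succ m ih =>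
        obtain ⟨i1, i2, i3⟩ := ih
        simp only [pow_succ', MulAut.mul_apply, C.mapI hδR ((δ ^ m) u), C.mapX hδR ((δ ^ m) u),
          C.mapJ hδR ((δ ^ m) u), i1, i2, i3, hδI.1, hδI.2.1, hδI.2.2.1, hδI.2.2.2, hδw]
        push_cast
        refine ⟨?_, ?_, ?_⟩ <;> ring
    obtain ⟨k, hk⟩ := D.hker (δ ^ p) (fun u => by
      obtain ⟨i1, i2, i3⟩ := hstep p u
      obtain ⟨-, j2, j3, j4⟩ := C.inv u
      rw [C.hJ, C.hI, C.hX, j2, j3, j4, i1, i2, i3, ZMod.natCast_self]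
      refine ⟨?_, ?_, ?_⟩ <;> ring)
    exact ⟨k + 1, by rw [pow_succ', pow_mul]; exact hk⟩
  obtain ⟨m₀, hm₀⟩ := D.hinner δ hδA ⟨kδ, hkδ⟩ (fun u hu => by
    rw [C.mapX hδR, hδI.2.2.1, hδI.2.2.2, hu]; ring)
  have hnL : μ ^ 3 * μ ^ 2 ≠ 1 ∧ μ ^ 3 ≠ μ ∧ μ ^ 3 ≠ 1 := by
    refine ⟨fun h => hL5 ?_, fun h => hL2 ?_, fun h => hL3 ?_⟩
    · rwa [← pow_add, hμ, inv_pow, inv_eq_one] at h
    · have : μ ^ 2 = 1 := mul_left_cancel₀ hμ0 (by linear_combination h)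
      rwa [hμ, inv_pow, inv_eq_one] at this
    · rwa [hμ, inv_pow, inv_eq_one] at h
  -- `x` and `w` are fixed modulo `R`
  have hdJ : C.J (γ x) = 0 := by
    obtain ⟨-, -, i3, i4, i5, -⟩ := hγn n
    have h1 := C.mapJ hγ'R (τ x)
    rw [hγ'u, C.mapJ hτR, hIx, hXx, tw2, tx2, tx3, tx4] at h1
    have h2 : C.J (γ' x) = n * C.J (γ x) := by
      rw [← hδu, hm₀, MulAut.conj_apply, (C.conj m₀ _).2.1, i5]
    rw [h2, hnc] at h1
    exact (mul_eq_zero.1 (show (μ ^ 3 * μ ^ 2 - 1) * C.J (γ x) = 0 by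
      linear_combination -h1)).resolve_left (sub_ne_zero.2 hnL.1)
  have hwK : C.K (γ w) = 0 := by
    obtain ⟨-, -, -, -, -, i6, i7, -, i9⟩ := hγn n
    have h1 : C.K (γ' (τ w)) = C.K (γ' w) :=
      (C.map_same hγ'R ⟨tw1.trans C.hw.1.symm, tw2.trans C.hw.2.1.symm, tw3.trans C.hw.2.2.1.symm,
        tw4.trans C.hw.2.2.2.symm⟩).1
    rw [hγ'u, C.mapK_central hτR hwI hwX, ← hδu, hm₀, MulAut.conj_apply, (C.conj m₀ _).1, i6, i7,
      i9, hnc, tz1, tw1] at h1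
    exact (mul_eq_zero.1 (show (μ ^ 3 - μ) * C.K (γ w) = 0 by
      linear_combination -h1)).resolve_left (sub_ne_zero.2 hnL.2.1)
  have sx : C.Same (γ x) x := ⟨hKx.trans C.hx.1.symm, hdJ.trans C.hx.2.1.symm,
    hIx.trans C.hx.2.2.1.symm, hXx.trans C.hx.2.2.2.symm⟩
  have sw : C.Same (γ w) w := ⟨hwK.trans C.hw.1.symm, hJw.trans C.hw.2.1.symm,
    hwI.trans C.hw.2.2.1.symm, hwX.trans C.hw.2.2.2.symm⟩
  have sz : C.Same (γ z) z := ⟨hzK.trans C.hz.1.symm, hzJ.trans C.hz.2.1.symm,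
    hzI.trans C.hz.2.2.1.symm, hzX.trans C.hz.2.2.2.symm⟩
  have hfix : ∀ u, C.I u = 0 → C.Same (γ u) u := by
    intro u hu
    have h1 := C.map_same hγR (C.same_form u)
    obtain ⟨a1, a2, a3, a4⟩ := h1
    obtain ⟨b1, b2, b3, b4⟩ := C.same_form u
    simp only [Coord.form, hu, ZMod.val_zero, pow_zero, mul_one, map_mul, map_pow, C.hK, C.hJ,
      C.hI, C.hX, (C.pow _ _).1, (C.pow _ _).2.1, (C.pow _ _).2.2.1, (C.pow _ _).2.2.2, sx.1,
      sx.2.1, sx.2.2.1, sx.2.2.2, sw.1, sw.2.1, sw.2.2.1, sw.2.2.2, sz.1, sz.2.1, sz.2.2.1,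
      sz.2.2.2] at a1 a2 a3 a4 b1 b2 b3 b4
    exact ⟨a1.symm.trans b1, a2.symm.trans b2, a3.symm.trans (b3.trans hu.symm),
      a4.symm.trans b4⟩
  -- the `p`-th power
  have hn₀fix : γ n₀ = n₀ := hι (by rw [hγ, hn₀]; group)
  have hIn₀ : C.I n₀ = 0 := by
    have := C.mapX hγR n₀
    rw [hn₀fix, hXx] at this
    exact (mul_eq_zero.1 (show C.I n₀ * a = 0 by linear_combination -this)).resolve_right hne
  have hγe : ∀ m : ℕ, C.I ((γ ^ m) e) = 1 ∧ C.K ((γ ^ m) e) = m * C.K (γ e) := by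
    intro m
    induction m with
    | zero => simp [C.he]
    | succ m ih =>
      obtain ⟨-, i2, -⟩ := hγn m
      obtain ⟨i1, i3⟩ := ih
      refine ⟨(hγn (m + 1)).1, ?_⟩
      set y := (γ ^ m) e with hy
      have s1 : C.Same (γ (e⁻¹ * y)) (e⁻¹ * y) := hfix _ (by
        rw [C.hI, (C.inv e).2.2.1, i1, C.he.2.2.1]; ring)
      have hdec : γ y = γ e * γ (e⁻¹ * y) := by rw [← map_mul, mul_inv_cancel_left]
      rw [pow_succ', MulAut.mul_apply, ← hy, hdec, C.hK, s1.1, s1.2.2.1, C.hK, C.hI, (C.inv e).1,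
        (C.inv e).2.2.1, (C.inv e).2.2.2, C.he.1, C.he.2.2.1, C.he.2.2.2, i1, i3]
      push_cast
      ring
  have hXn₀ : C.X n₀ = 0 := by
    have key : ∀ (m : ℕ) (u : G), ι ((γ ^ m) u) = g ^ m * ι u * (g ^ m)⁻¹ := by
      intro m
      induction m with
      | zero => simp
      | succ m ih => intro a; rw [pow_succ' γ, MulAut.mul_apply, hγ, ih, pow_succ']; group
    have h1 : (γ ^ p) e = n₀ * e * n₀⁻¹ := hι (by rw [key, map_mul, map_mul, map_inv, hn₀])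
    have h2 := (hγe p).2
    rw [h1, (C.conj n₀ e).1, ZMod.natCast_self, zero_mul, C.he.1, C.he.2.2.1, C.he.2.2.2, hIn₀]
      at h2
    linear_combination h2
  obtain ⟨c, hc, hcp⟩ := hExt τ D.hτ g γ n₀ hγ hn₀ n ((γ ^ n).symm m₀) (by
    rw [← hγ']
    refine MulEquiv.ext fun u => ?_
    simp only [MulAut.mul_apply, MulAut.conj_apply, map_mul, map_inv, MulEquiv.apply_symm_apply]
    rw [← hδu, hm₀, MulAut.conj_apply])
  have hcI : C.I c = 0 := by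
    have h1 : C.K (γ' x) = 0 := by
      set t := (μ ^ 2).val with ht
      have s1 : C.Same (τ x) (x ^ t) := by
        refine ⟨?_, ?_, ?_, ?_⟩ <;>
          simp only [(C.pow _ _).1, (C.pow _ _).2.1, (C.pow _ _).2.2.1, (C.pow _ _).2.2.2, C.hx.1,
            C.hx.2.1, C.hx.2.2.1, C.hx.2.2.2, tx1, tx2, tx3, tx4, ht, ZMod.natCast_zmod_val,
            mul_zero, mul_one, add_zero, hμ]
      have h2 := (C.map_same hγ'R s1).1
      rw [hγ'u, (C.map_same hτR sx).1, tx1, map_pow, (C.pow _ t).1, h'x.1, mul_zero, mul_zero,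
        add_zero, ht, ZMod.natCast_zmod_val] at h2
      exact (mul_eq_zero.1 h2.symm).resolve_left hμ2
    rw [hγ', hc, MulAut.mul_apply, MulAut.conj_apply] at h1
    have hn' : ∀ (m : ℕ) (u : G), C.I u = 0 → C.Same ((γ ^ m) u) u := by
      intro m u hu
      induction m with
      | zero => exact ⟨rfl, rfl, rfl, rfl⟩
      | succ m ih =>
        rw [pow_succ', MulAut.mul_apply]
        obtain ⟨a1, a2, a3, a4⟩ := C.map_same hγR ih
        obtain ⟨b1, b2, b3, b4⟩ := hfix u hu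
        exact ⟨a1.trans b1, a2.trans b2, a3.trans b3, a4.trans b4⟩
    rw [(hn' n _ (by rw [(C.conj c x).2.2.1, C.hx.2.2.1])).1, (C.conj c x).1, C.hx.1, C.hx.2.2.1,
      C.hx.2.2.2] at h1
    linear_combination -h1
  set Rb := R.map ι with hRb
  haveI : Rb.Normal := by
    rw [← Subgroup.normalizer_eq_top_iff, eq_top_iff, ← hgen]
    have hfin : Finite (Rb : Set M) := inferInstance
    refine sup_le ?_ ((Subgroup.zpowers_le).2 ?_)
    · rintro _ ⟨u, rfl⟩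
      refine Subgroup.mem_normalizer_fintype ?_
      rintro _ ⟨r, hr, rfl⟩
      exact ⟨u * r * u⁻¹, by simpa using D.hA _ (D.hconj u) r hr, by simp⟩
    · refine Subgroup.mem_normalizer_fintype ?_
      rintro _ ⟨r, hr, rfl⟩
      exact ⟨γ r, hγR r hr, hγ r⟩
  set θ := QuotientGroup.mk' Rb with hθ
  have hθs : ∀ {u v : G}, C.Same u v → θ (ι u) = θ (ι v) := fun {u v} h => by
    rw [hθ, QuotientGroup.mk'_apply, QuotientGroup.mk'_apply, QuotientGroup.eq, ← map_inv,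
      ← map_mul]
    exact Subgroup.mem_map_of_mem _ (C.mem_of_same h)
  have hθg : ∀ u, C.I u = 0 → Commute (θ g) (θ (ι u)) := fun u hu => by
    have h1 := hθs (hfix u hu)
    rw [hγ, map_mul, map_mul, map_inv, mul_inv_eq_iff_eq_mul] at h1
    exact h1
  have hgpR : n₀ ∈ R := by
    have hcR : c ^ p ∈ R := by
      obtain ⟨c1, c2, c3, c4⟩ := C.pow c p
      rw [C.hmem, c1, c2, c3, c4, ZMod.natCast_self, hcI]
      simp
    have h2 : C.Same (n₀ ^ n) (τ n₀) := by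
      refine C.same_of_mem ?_
      have h3 : θ (ι (n₀ ^ n)) = θ (ι (τ n₀)) := by
        rw [← hcp, map_pow θ, map_mul θ, map_pow θ g, ((hθg c hcI).pow_left n).mul_pow,
          ← map_pow θ (ι c), ← map_pow ι c, (QuotientGroup.eq_one_iff _).2
            (Subgroup.mem_map_of_mem ι hcR) |> fun h => (h : θ (ι (c ^ p)) = 1),
          mul_one, ← pow_mul, mul_comm, pow_mul, ← map_pow θ g, ← hn₀, map_pow ι, map_pow θ]
      rw [hθ, QuotientGroup.mk'_apply, QuotientGroup.mk'_apply, QuotientGroup.eq, ← map_inv,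
        ← map_mul] at h3
      obtain ⟨r, hr, hre⟩ := h3
      exact hι hre ▸ hr
    obtain ⟨p1, p2, -, -⟩ := C.pow n₀ n
    obtain ⟨s1, s2, -, -⟩ := h2
    rw [p1, C.mapK_central hτR hIn₀ hXn₀, hIn₀, hXn₀, hnc, tz1, tw1] at s1
    rw [p2, C.mapJ hτR, hIn₀, hXn₀, hnc, tw2] at s2
    refine (C.hmem _).2 ⟨?_, ?_, hIn₀, hXn₀⟩
    · exact (mul_eq_zero.1 (show (μ ^ 3 - μ) * C.K n₀ = 0 by
        linear_combination s1)).resolve_left (sub_ne_zero.2 hnL.2.1)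
    · exact (mul_eq_zero.1 (show (μ ^ 3 - 1) * C.J n₀ = 0 by
        linear_combination s2)).resolve_left (sub_ne_zero.2 hnL.2.2)
  -- an elementary section of order `p ^ 4`
  have hθ1 : ∀ {u : M}, θ u = 1 ↔ u ∈ Rb := fun {u} => QuotientGroup.eq_one_iff u
  have hG1 : ∀ u v : G, C.I u = 0 → C.I v = 0 → ⁅ι u, ι v⁆ ∈ Rb := fun u v hu hv => by
    rw [← map_commutatorElement]
    refine Subgroup.mem_map_of_mem _ ((C.hmem _).2 ⟨?_, (C.comm u v).2.1, (C.comm u v).2.2.1,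
      (C.comm u v).2.2.2⟩)
    rw [(C.comm u v).1, hu, hv]; ring
  have hpw : ∀ u : G, C.I u = 0 → (ι u) ^ p ∈ Rb := fun u hu => by
    rw [← map_pow]
    refine Subgroup.mem_map_of_mem _ ?_
    obtain ⟨c1, c2, c3, c4⟩ := C.pow u p
    rw [C.hmem, c1, c2, c3, c4, ZMod.natCast_self, hu]
    simp
  let U : Subgroup G :=
    { carrier := {u | C.I u = 0}
      one_mem' := C.one.2.2.1
      mul_mem' := fun {a b} ha hb => by
        show C.I (a * b) = 0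
        rw [C.hI, (ha : C.I a = 0), (hb : C.I b = 0), add_zero]
      inv_mem' := fun {a} ha => by
        show C.I a⁻¹ = 0
        rw [(C.inv a).2.2.1, (ha : C.I a = 0), neg_zero] }
  have hE1 : ElemOver p (U.map ι) Rb := by
    refine ⟨Subgroup.map_mono fun r hr => ((C.hmem r).1 hr).2.2.1, ?_, ?_⟩
    · rintro _ ⟨u, hu, rfl⟩ _ ⟨v, hv, rfl⟩
      exact hG1 u v hu hv
    · rintro _ ⟨u, hu, rfl⟩
      exact hpw u hu
  have hE2 : ElemOver p (U.map ι ⊔ Subgroup.zpowers g) Rb := by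
    refine elemOver_sup_zpowers hE1 ?_ ?_
    · rintro _ ⟨u, hu, rfl⟩
      rw [← hθ1, map_commutatorElement, commutatorElement_eq_one_iff_mul_comm]
      exact (hθg u hu).eq
    · rw [← hn₀]; exact Subgroup.mem_map_of_mem _ hgpR
  have hle := relIndex_le_of_elemOver hr hE2
  have hz' : ι z ∉ Rb := by
    rintro ⟨r, hr, hrz⟩
    rw [hι hrz] at hr
    exact one_ne_zero (C.hz.1.symm.trans ((C.hmem z).1 hr).1)
  have hw' : ι w ∉ Rb ⊔ Subgroup.zpowers (ι z) := by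
    intro h
    have hle' : Rb ⊔ Subgroup.zpowers (ι z) ≤ (({ carrier := {u | C.J u = 0}
                                                  one_mem' := C.one.2.1
                                                  mul_mem' := fun {a b} ha hb => by
                                                    show C.J (a * b) = 0
                                                    rw [C.hJ, (ha : C.J a = 0), (hb : C.J b = 0),
                                                      add_zero]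
                                                  inv_mem' := fun {a} ha => by
                                                    show C.J a⁻¹ = 0
                                                    rw [(C.inv a).2.1, (ha : C.J a = 0),
                                                      neg_zero] } : Subgroup G)).map ι :=
      sup_le (Subgroup.map_mono fun r hr => ((C.hmem r).1 hr).2.1)
        (Subgroup.zpowers_le.2 ⟨z, C.hz.2.1, rfl⟩)
    obtain ⟨u, hu, huw⟩ := hle' h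
    rw [hι huw] at hu
    exact one_ne_zero (C.hw.2.1.symm.trans hu)
  have hx' : ι x ∉ Rb ⊔ Subgroup.zpowers (ι z) ⊔ Subgroup.zpowers (ι w) := by
    intro h
    have hle' : Rb ⊔ Subgroup.zpowers (ι z) ⊔ Subgroup.zpowers (ι w) ≤
        (({ carrier := {u | C.X u = 0}
            one_mem' := C.one.2.2.2
            mul_mem' := fun {a b} ha hb => by
              show C.X (a * b) = 0
              rw [C.hX, (ha : C.X a = 0), (hb : C.X b = 0), add_zero]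
            inv_mem' := fun {a} ha => by
              show C.X a⁻¹ = 0
              rw [(C.inv a).2.2.2, (ha : C.X a = 0), neg_zero] } : Subgroup G)).map ι :=
      sup_le (sup_le (Subgroup.map_mono fun r hr => ((C.hmem r).1 hr).2.2.2)
        (Subgroup.zpowers_le.2 ⟨z, C.hz.2.2.2, rfl⟩)) (Subgroup.zpowers_le.2 ⟨w, C.hw.2.2.2, rfl⟩)
    obtain ⟨u, hu, hux⟩ := hle' h
    rw [hι hux] at hu
    exact one_ne_zero (C.hx.2.2.2.symm.trans hu)
  have hg' : g ∉ Rb ⊔ Subgroup.zpowers (ι z) ⊔ Subgroup.zpowers (ι w) ⊔ Subgroup.zpowers (ι x) :=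
    fun h => hg (sup_le (sup_le (sup_le (Subgroup.map_le_range ι R)
      (Subgroup.zpowers_le.2 ⟨z, rfl⟩)) (Subgroup.zpowers_le.2 ⟨w, rfl⟩))
      (Subgroup.zpowers_le.2 ⟨x, rfl⟩) h)
  have hsub : Rb ⊔ Subgroup.zpowers (ι z) ⊔ Subgroup.zpowers (ι w) ⊔ Subgroup.zpowers (ι x) ⊔
      Subgroup.zpowers g ≤ U.map ι ⊔ Subgroup.zpowers g :=
    sup_le_sup_right (sup_le (sup_le (sup_le hE1.1
      (Subgroup.zpowers_le.2 ⟨z, C.hz.2.2.1, rfl⟩)) (Subgroup.zpowers_le.2 ⟨w, C.hw.2.2.1, rfl⟩))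
      (Subgroup.zpowers_le.2 ⟨x, C.hx.2.2.1, rfl⟩)) _
  have s1 := relIndex_step hM (D := Rb) le_rfl hz'
  have s2 := relIndex_step hM (D := Rb) le_sup_left hw'
  have s3 := relIndex_step hM (D := Rb) (le_sup_left.trans le_sup_left) hx'
  have s4 := relIndex_step hM (D := Rb) ((le_sup_left.trans le_sup_left).trans le_sup_left) hg'
  rw [Subgroup.relIndex_self, one_mul] at s1
  have h4 : p ^ 4 ≤ p ^ 3 := by
    have h5 : Rb.relIndex (Rb ⊔ Subgroup.zpowers (ι z) ⊔ Subgroup.zpowers (ι w) ⊔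
        Subgroup.zpowers (ι x) ⊔ Subgroup.zpowers g) ≤
        Rb.relIndex (U.map ι ⊔ Subgroup.zpowers g) :=
      Nat.le_of_dvd (Nat.pos_of_ne_zero (Subgroup.FiniteIndex.index_ne_zero
        (H := Rb.subgroupOf (U.map ι ⊔ Subgroup.zpowers g))))
        (Dvd.intro _ (Subgroup.relIndex_mul_relIndex Rb _ _
          (((le_sup_left.trans le_sup_left).trans le_sup_left).trans le_sup_left) hsub))
    calc p ^ 4 = p * p * p * p := by ring
      _ ≤ _ := (Nat.mul_le_mul_right p ((Nat.mul_le_mul_right p ((Nat.mul_le_mul_right p s1).trans s2)).trans s3)).trans s4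
      _ ≤ _ := h5.trans hle
  have := (Nat.pow_le_pow_iff_right hp.out.one_lt).1 h4
  omega

/-- Normalising the first coordinate of the image of `x`. -/
theorem middle_case (D : Move C A τ L) (hp5 : 5 ≤ p) (hM : IsPGroup p M)
    (hr : Cfsg.SectionalPRankLE p 3 M) (ι : G →* M) (hι : Function.Injective ι) (g : M)
    (hg : g ∉ ι.range) (hgen : ι.range ⊔ Subgroup.zpowers g = ⊤) (γ : MulAut G) (hγA : γ ∈ A)
    (hγ : ∀ a, ι (γ a) = g * ι a * g⁻¹) (n₀ : G) (hn₀ : ι n₀ = g ^ p) (hExt : Ext p A ι)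
    (hIx : C.I (γ x) = 0) (hXx : C.X (γ x) = 1) (hIe : C.I (γ e) = 1)
    (hne : C.X (γ e) ≠ 0) : False := by
  have hγR := D.hA γ hγA
  set s := (C.K (γ x)).val with hs
  set γ₁ := γ * MulAut.conj (e ^ s) with hγ₁
  have hγ₁A : γ₁ ∈ A := mul_mem hγA (D.hconj _)
  have hmat : C.mat γ₁ = C.mat γ := by rw [hγ₁, C.mat_mul hγR, C.mat_conj, mul_one]
  have hIx' : C.I (γ₁ x) = 0 := (congrFun (congrFun hmat 0) 1).trans hIx
  have hXx' : C.X (γ₁ x) = 1 := (congrFun (congrFun hmat 1) 1).trans hXx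
  have hIe' : C.I (γ₁ e) = 1 := (congrFun (congrFun hmat 0) 0).trans hIe
  have hne' : C.X (γ₁ e) ≠ 0 := (congrFun (congrFun hmat 1) 0).trans_ne hne
  haveI hn : ι.range.Normal := by
    rw [← Subgroup.normalizer_eq_top_iff, eq_top_iff, ← hgen]
    refine sup_le Subgroup.le_normalizer ((Subgroup.zpowers_le).2 ?_)
    haveI : Finite (ι.range : Set M) := inferInstance
    refine Subgroup.mem_normalizer_fintype ?_
    rintro _ ⟨r, rfl⟩
    exact ⟨γ r, hγ r⟩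
  set g₁ := g * ι (e ^ s) with hg₁
  have hg₁' : g₁ ∉ ι.range := fun h => hg (by
    have := ι.range.mul_mem h (ι.range.inv_mem ⟨e ^ s, rfl⟩)
    rwa [hg₁, mul_inv_cancel_right] at this)
  have hgen' : ι.range ⊔ Subgroup.zpowers g₁ = ⊤ := by
    rw [eq_top_iff, ← hgen]
    refine sup_le le_sup_left (Subgroup.zpowers_le.2 ?_)
    have := Subgroup.mul_mem _ (Subgroup.mem_sup_right (S := ι.range) (Subgroup.mem_zpowers g₁))
      (Subgroup.inv_mem _ (Subgroup.mem_sup_left (T := Subgroup.zpowers g₁) (show ι (e ^ s) ∈ ι.range from ⟨_, rfl⟩)))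
    rwa [hg₁, mul_inv_cancel_right] at this
  obtain ⟨n₁, hn₁⟩ : g₁ ^ p ∈ ι.range := by
    rw [← QuotientGroup.eq_one_iff, ← QuotientGroup.mk'_apply, map_pow, hg₁, map_mul,
      (QuotientGroup.eq_one_iff (ι (e ^ s))).2 ⟨_, rfl⟩ |> fun h =>
        (h : QuotientGroup.mk' ι.range (ι (e ^ s)) = 1), mul_one, ← map_pow, QuotientGroup.mk'_apply,
      QuotientGroup.eq_one_iff]
    exact ⟨n₀, hn₀⟩
  refine final_case D hp5 hM hr ι hι g₁ hg₁' hgen' γ₁ hγ₁A (fun a => ?_) n₁ hn₁ hExt hIx' hXx' hIe'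
    hne' ?_
  · rw [hγ₁, MulAut.mul_apply, hγ, MulAut.conj_apply, map_mul ι, map_mul ι, map_inv, hg₁]
    group
  · obtain ⟨h1, h2⟩ := C.map_z hγR
    rw [hXx, hIe, hIx, mul_one, mul_zero, sub_zero] at h1
    obtain ⟨hzI, hzX⟩ := C.map_central hγR C.hz.2.2.1 C.hz.2.2.2
    set t := (-C.K (γ x)).val with ht
    have s1 : C.Same (e ^ s * x * (e ^ s)⁻¹) (z ^ t * x) := by
      refine ⟨?_, ?_, ?_, ?_⟩ <;>
        simp only [(C.conj _ _).1, (C.conj _ _).2.1, (C.conj _ _).2.2.1, (C.conj _ _).2.2.2, C.hK,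
          C.hJ, C.hI, C.hX, (C.pow _ _).1, (C.pow _ _).2.1, (C.pow _ _).2.2.1, (C.pow _ _).2.2.2,
          C.hx, C.hz, C.he, hs, ht, ZMod.natCast_zmod_val, mul_zero, zero_mul, mul_one, add_zero,
          zero_add, one_mul, zero_sub]
    rw [hγ₁, MulAut.mul_apply, MulAut.conj_apply, (C.map_same hγR s1).1, map_mul, map_pow, C.hK,
      (C.pow _ _).1, (C.pow _ _).2.2.2, h1, hzX, hIx, ht, ZMod.natCast_zmod_val]
    ring

/-- No element above `G` moves `E`. -/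
theorem no_move (D : Move C A τ L) (hp5 : 5 ≤ p) (hM : IsPGroup p M)
    (hr : Cfsg.SectionalPRankLE p 3 M) (ι : G →* M) (hι : Function.Injective ι) (g : M)
    (hg : g ∉ ι.range) (hgen : ι.range ⊔ Subgroup.zpowers g = ⊤) (γ : MulAut G) (hγA : γ ∈ A)
    (hγ : ∀ a, ι (γ a) = g * ι a * g⁻¹) (n₀ : G) (hn₀ : ι n₀ = g ^ p) (hExt : Ext p A ι)
    (hne : C.X (γ e) ≠ 0) : False := by
  obtain ⟨kγ, hkγ⟩ : ∃ k : ℕ, γ ^ p ^ k = 1 := by
    obtain ⟨k, hk⟩ := hM g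
    refine ⟨k, MulEquiv.ext fun a => hι ?_⟩
    have key : ∀ (m : ℕ) (a : G), ι ((γ ^ m) a) = g ^ m * ι a * (g ^ m)⁻¹ := by
      intro m
      induction m with
      | zero => simp
      | succ m ih => intro a; rw [pow_succ' γ, MulAut.mul_apply, hγ, ih, pow_succ']; group
    rw [key, hk, MulAut.one_apply, one_mul, inv_one, mul_one]
  have hγR := D.hA γ hγA
  obtain ⟨htr, hdet, -⟩ := C.unip hγR hkγ
  set a := C.X (γ e) with ha
  set k := (C.I (γ e) - 1) * a⁻¹ with hk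
  have hak : a * k = C.I (γ e) - 1 := by rw [hk]; field_simp
  have hIe : C.I (γ e) = 1 + a * k := by rw [hak]; ring
  have hXx : C.X (γ x) = 1 - a * k := by linear_combination htr + hak
  have hIx : C.I (γ x) = -(a * k ^ 2) := by
    refine mul_left_cancel₀ hne ?_
    linear_combination -hdet + (C.X (γ x) - 1) * (-hak) + a * k * (htr + hak)
  by_cases hk0 : k = 0
  · exact middle_case D hp5 hM hr ι hι g hg hgen γ hγA hγ n₀ hn₀ hExt
      (by rw [hIx, hk0]; ring) (by rw [hXx, hk0]; ring) (by rw [hIe, hk0]; ring) hne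
  have hτR := D.hA τ D.hτ
  obtain ⟨hL0, hL2, hL3, hL5⟩ := D.hL
  set μ := L⁻¹ with hμ
  have hLμ : L * μ = 1 := mul_inv_cancel₀ hL0
  obtain ⟨te1, te2, te3, te4⟩ := D.te
  obtain ⟨tx1, tx2, tx3, tx4⟩ := D.tx
  set γ' := τ * γ * τ⁻¹ with hγ'
  have hγ'A : γ' ∈ A := mul_mem (mul_mem D.hτ hγA) (inv_mem D.hτ)
  have hγ'R := D.hA γ' hγ'A
  have hγ'u : ∀ u, γ' (τ u) = τ (γ u) := fun u => by
    simp [hγ', MulAut.mul_apply, MulAut.inv_apply_self]
  set k' := L ^ 3 * k with hk'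
  set a' := μ ^ 3 * a with ha'
  have hak' : a' * k' = a * k := by
    rw [ha', hk']; linear_combination (a * k * (L ^ 2 * μ ^ 2 + L * μ + 1)) * hLμ
  have h'e : C.I (γ' e) = 1 + a' * k' ∧ C.X (γ' e) = a' := by
    have hi := C.mapI hγ'R (τ e)
    have hx := C.mapX hγ'R (τ e)
    rw [hγ'u, C.mapI hτR, te3, tx3, te4, hIe] at hi
    rw [hγ'u, C.mapX hτR, te3, tx4, te4, hIe] at hx
    refine ⟨mul_left_cancel₀ hL0 ?_, mul_left_cancel₀ hL0 ?_⟩
    · rw [hak']; linear_combination -hi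
    · rw [ha']; linear_combination -hx - μ ^ 2 * a * hLμ
  have h'x : C.I (γ' x) = -(a' * k' ^ 2) ∧ C.X (γ' x) = 1 - a' * k' := by
    have hμ2 : μ ^ 2 ≠ 0 := pow_ne_zero _ (inv_ne_zero hL0)
    have hi := C.mapI hγ'R (τ x)
    have hx := C.mapX hγ'R (τ x)
    rw [hγ'u, C.mapI hτR, te3, tx3, tx4, hIx] at hi
    rw [hγ'u, C.mapX hτR, te4, tx3, tx4, hXx] at hx
    refine ⟨mul_left_cancel₀ hμ2 ?_, mul_left_cancel₀ hμ2 ?_⟩
    · rw [show a' * k' ^ 2 = a' * k' * k' by ring, hak', hk']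
      linear_combination -hi + (a * k ^ 2 * L * (μ * L + 1)) * hLμ
    · rw [hak']; linear_combination -hx
  set m := (-k * (a' * k' * (k - k'))⁻¹).val with hm
  have hpow : ∀ m : ℕ, C.I ((γ' ^ m) e) = 1 + m * a' * k' ∧ C.X ((γ' ^ m) e) = m * a' ∧
      C.I ((γ' ^ m) x) = -(m * a' * k' ^ 2) ∧ C.X ((γ' ^ m) x) = 1 - m * a' * k' := by
    intro m
    induction m with
    | zero => simp [C.he, C.hx]
    | succ m ih =>
      obtain ⟨i1, i2, i3, i4⟩ := ih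
      simp only [pow_succ', MulAut.mul_apply, C.mapI hγ'R ((γ' ^ m) e), C.mapX hγ'R ((γ' ^ m) e),
        C.mapI hγ'R ((γ' ^ m) x), C.mapX hγ'R ((γ' ^ m) x), i1, i2, i3, i4, h'e, h'x]
      push_cast
      refine ⟨?_, ?_, ?_, ?_⟩ <;> ring
  have hψA : γ' ^ m ∈ A := pow_mem hγ'A m
  set ψ := γ' ^ m with hψ
  have hψR := D.hA ψ hψA
  obtain ⟨p1, p2, p3, p4⟩ := hpow m
  rw [← hψ] at p1 p2 p3 p4
  set γ₁ := ψ * γ * ψ⁻¹ with hγ₁
  have hγ₁A : γ₁ ∈ A := mul_mem (mul_mem hψA hγA) (inv_mem hψA)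
  have hγ₁R := D.hA γ₁ hγ₁A
  have hkk : k - k' ≠ 0 := by
    rw [hk', show k - L ^ 3 * k = k * (1 - L ^ 3) by ring]
    exact mul_ne_zero hk0 (sub_ne_zero.2 (Ne.symm hL3))
  have hak0 : a' * k' ≠ 0 := by rw [hak']; exact mul_ne_zero hne hk0
  have hma : (m : ZMod p) * a' * k' * (k - k') = -k := by
    rw [hm, ZMod.natCast_zmod_val, mul_assoc (-k * (a' * k' * (k - k'))⁻¹) a' k',
      mul_assoc, mul_assoc, inv_mul_cancel₀ (mul_ne_zero hak0 hkk), mul_one]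
  -- `ψ` moves the fixed line of `γ` to the line of `x`
  set u := x * e ^ k.val with hu
  have hu3 : C.I u = k ∧ C.X u = 1 := by
    simp only [hu, C.hI, C.hX, (C.pow _ _).2.2.1, (C.pow _ _).2.2.2, C.hx, C.he,
      ZMod.natCast_zmod_val]
    exact ⟨by ring, by ring⟩
  set X₀ := 1 + (m : ZMod p) * a' * (k - k') with hX₀
  have hψu : C.I (ψ u) = 0 ∧ C.X (ψ u) = X₀ := by
    rw [C.mapI hψR u, C.mapX hψR u, hu3.1, hu3.2, p1, p2, p3, p4, hX₀]
    exact ⟨by linear_combination hma, by ring⟩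
  have hX₀0 : X₀ ≠ 0 := by
    intro h
    have h1 : k' * X₀ = k' - k := by rw [hX₀]; linear_combination hma
    rw [h, mul_zero] at h1
    exact hkk (by linear_combination h1)
  have hγu : C.I (γ u) = k ∧ C.X (γ u) = 1 := by
    rw [C.mapI hγR u, C.mapX hγR u, hu3.1, hu3.2, hIe, hIx, hXx]
    exact ⟨by ring, by ring⟩
  have h₁u : C.I (γ₁ (ψ u)) = 0 ∧ C.X (γ₁ (ψ u)) = X₀ := by
    rw [hγ₁, MulAut.mul_apply, MulAut.mul_apply, MulAut.inv_apply_self, C.mapI hψR, C.mapX hψR,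
      hγu.1, hγu.2, ← hψu.1, ← hψu.2, C.mapI hψR u, C.mapX hψR u, hu3.1, hu3.2]
    exact ⟨rfl, rfl⟩
  have hIx₁ : C.I (γ₁ x) = 0 := by
    have h := h₁u.1
    rw [C.mapI hγ₁R, hψu.1, hψu.2, zero_mul, zero_add] at h
    exact (mul_eq_zero.1 h).resolve_left hX₀0
  have hXx₁ : C.X (γ₁ x) = 1 := by
    have h := h₁u.2
    rw [C.mapX hγ₁R, hψu.1, hψu.2, zero_mul, zero_add] at h
    exact mul_left_cancel₀ hX₀0 (h.trans (mul_one _).symm)
  have hIe₁ : C.I (γ₁ e) = 1 := by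
    obtain ⟨h, -, -⟩ := C.unip hγ₁R (k := kγ) (by
      rw [hγ₁, conj_pow, hkγ, mul_one, mul_inv_cancel])
    rw [hXx₁] at h
    linear_combination h
  have hne₁ : C.X (γ₁ e) ≠ 0 := by
    intro h
    refine hne ?_
    have h1 : C.mat γ₁ = 1 := by
      simp [Coord.mat, h, hIx₁, hXx₁, hIe₁, Matrix.one_fin_two]
    have h2 : C.mat γ = 1 := by
      have e1 : γ = ψ⁻¹ * γ₁ * ψ := by rw [hγ₁]; group
      rw [e1, C.mat_mul (D.hA _ (mul_mem (inv_mem hψA) hγ₁A)), C.mat_mul (D.hA _ (inv_mem hψA)),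
        h1, mul_one, ← C.mat_mul (D.hA _ (inv_mem hψA)), inv_mul_cancel, C.mat_one]
    exact congrFun (congrFun h2 1) 0
  -- transport
  have hrange : (ι.comp (ψ⁻¹).toMonoidHom).range = ι.range := by
    ext v
    exact ⟨fun ⟨u, hu⟩ => ⟨_, hu⟩, fun ⟨u, hu⟩ => ⟨ψ u, by simp [hu]⟩⟩
  refine middle_case D hp5 hM hr (ι.comp (ψ⁻¹).toMonoidHom) (hι.comp (ψ⁻¹).injective) g
    (hrange.symm ▸ hg) (hrange.symm ▸ hgen) γ₁ hγ₁A (fun a => ?_) (ψ n₀) ?_ ?_ hIx₁ hXx₁ hIe₁ hne₁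
  · show ι (ψ⁻¹ (γ₁ a)) = g * ι (ψ⁻¹ a) * g⁻¹
    rw [← hγ, hγ₁, MulAut.mul_apply, MulAut.mul_apply, MulAut.inv_apply_self]
  · show ι (ψ⁻¹ (ψ n₀)) = g ^ p
    rw [MulAut.inv_apply_self, hn₀]
  · intro τ' hτ' g₁ δ n₁ hδ hn₁ n c hc
    have hcc : ∀ d : G, ψ⁻¹ * MulAut.conj d * ψ = MulAut.conj (ψ⁻¹ d) := fun d =>
      MulEquiv.ext fun u => by simp [MulAut.mul_apply, MulAut.conj_apply]
    have hconjn : ∀ j : ℕ, (ψ⁻¹ * δ * ψ) ^ j = ψ⁻¹ * δ ^ j * ψ := by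
      intro j
      simpa using (conj_pow (a := ψ⁻¹) (b := δ) (i := j))
    obtain ⟨c', hc', hcp⟩ := hExt (ψ⁻¹ * τ' * ψ) (mul_mem (mul_mem (inv_mem hψA) hτ') hψA) g₁
      (ψ⁻¹ * δ * ψ) (ψ⁻¹ n₁)
      (fun a => by
        rw [MulAut.mul_apply, MulAut.mul_apply]
        have := hδ (ψ a)
        simpa [MulAut.inv_apply_self] using this)
      hn₁ n (ψ⁻¹ c) (by
        rw [hconjn, ← hcc, show ψ⁻¹ * τ' * ψ * (ψ⁻¹ * δ * ψ) * (ψ⁻¹ * τ' * ψ)⁻¹ =
          ψ⁻¹ * (τ' * δ * τ'⁻¹) * ψ by group, hc]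
        group)
    refine ⟨ψ c', ?_, ?_⟩
    · have h1 : ψ * (ψ⁻¹ * τ' * ψ * (ψ⁻¹ * δ * ψ) * (ψ⁻¹ * τ' * ψ)⁻¹) * ψ⁻¹ =
          τ' * δ * τ'⁻¹ := by group
      rw [← h1, hc', hconjn, show MulAut.conj (ψ c') = ψ * MulAut.conj c' * ψ⁻¹ from
        MulEquiv.ext fun u => by simp [MulAut.mul_apply, MulAut.conj_apply]]
      group
    · show (g₁ ^ n * ι (ψ⁻¹ (ψ c'))) ^ p = ι (ψ⁻¹ (τ' n₁))
      rw [MulAut.inv_apply_self, hcp, MulAut.mul_apply, MulAut.mul_apply, MulAut.apply_inv_self]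

end H72.RankThree
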