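/-
General lemmas for the rank three theorem: the Frattini representation, transport, fusion maps.
-/
import Cfsg.Agent.H72.RankThreeAction
import Cfsg.Agent.H72.RankThreeDeep
import Cfsg.Agent.H29.FrattiniBasis
import Cfsg.Agent.H80.Rank
import Cfsg.Agent.H85.Essential
import Cfsg.Agent.H87.Essential

set_option autoImplicit false

namespace H72.RankThree

open Cfsg Cfsg.FusionSystem

section Linear

variable {E : Type*} [Group E] {p : ℕ} [hp : Fact p.Prime]

/-- The linear action of the automorphisms on the Frattini quotient. -/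
theorem exists_rep (φ : E →* Multiplicative (Fin 3 → ZMod p)) (hs : Function.Surjective φ)
    (hk : φ.ker = frattini E) :
    ∃ ρ : MulAut E →* ((Fin 3 → ZMod p) ≃ₗ[ZMod p] (Fin 3 → ZMod p)), ∀ α a,
      ρ α (Multiplicative.toAdd (φ a)) = Multiplicative.toAdd (φ (α a)) := by
  have hfac : ∀ (α : MulAut E) a b, φ a = φ b → φ (α a) = φ (α b) := by
    intro α a b h
    have h1 : a⁻¹ * b ∈ frattini E := by
      rw [← hk, MonoidHom.mem_ker, map_mul, map_inv, h, inv_mul_cancel]
    have h2 : α (a⁻¹ * b) ∈ frattini E := by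
      have := (Subgroup.characteristic_iff_map_eq.1 (inferInstance : (frattini E).Characteristic)) α
      rw [← this]; exact Subgroup.mem_map_of_mem _ h1
    rw [← hk, MonoidHom.mem_ker, map_mul, map_inv, map_mul, map_inv, inv_mul_eq_one] at h2
    exact h2
  choose sec hsec using hs
  let f : MulAut E → ((Fin 3 → ZMod p) →+ (Fin 3 → ZMod p)) := fun α =>
    AddMonoidHom.mk' (fun v => Multiplicative.toAdd (φ (α (sec (Multiplicative.ofAdd v))))) (fun v u => by
      show _ = _ + _
      rw [← toAdd_mul, ← map_mul φ, ← map_mul α]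
      refine congrArg _ (hfac α _ _ ?_)
      rw [hsec, map_mul, hsec, hsec]
      rfl)
  have hf : ∀ α a, f α (Multiplicative.toAdd (φ a)) = Multiplicative.toAdd (φ (α a)) := fun α a => by
    show Multiplicative.toAdd (φ (α (sec _))) = _
    exact congrArg _ (hfac α _ _ (hsec _))
  have hcomp : ∀ α β v, f α (f β v) = f (α * β) v := by
    intro α β v
    obtain ⟨a, ha⟩ : ∃ a, φ a = Multiplicative.ofAdd v := ⟨_, hsec _⟩
    have e : v = Multiplicative.toAdd (φ a) := by rw [ha]; rfl
    rw [e, hf, hf, hf, MulAut.mul_apply]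
  have hone : ∀ v, f 1 v = v := by
    intro v
    obtain ⟨a, ha⟩ : ∃ a, φ a = Multiplicative.ofAdd v := ⟨_, hsec _⟩
    have e : v = Multiplicative.toAdd (φ a) := by rw [ha]; rfl
    rw [e, hf, MulAut.one_apply]
  let g : MulAut E → ((Fin 3 → ZMod p) ≃ₗ[ZMod p] (Fin 3 → ZMod p)) := fun α =>
    { (f α).toZModLinearMap p with
      invFun := f α⁻¹
      left_inv := fun v => by
        show f α⁻¹ (f α v) = v
        rw [hcomp, inv_mul_cancel, hone]
      right_inv := fun v => by
        show f α (f α⁻¹ v) = v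
        rw [hcomp, mul_inv_cancel, hone] }
  refine ⟨MonoidHom.mk' g (fun α β => LinearEquiv.ext fun v => (hcomp α β v).symm), ?_⟩
  exact hf

/-- The kernel of the action is a `p`-group. -/
theorem isPGroup_rep_ker [Finite E] (hE : IsPGroup p E) (φ : E →* Multiplicative (Fin 3 → ZMod p))
    (hk : φ.ker = frattini E) (hr : (frattini E).index = p ^ 3)
    {W : Type*} [Group W] (ρ : MulAut E →* W)
    (h : ∀ α, ρ α = 1 → ∀ a, φ (α a) = φ a) : IsPGroup p ρ.ker := by
  obtain ⟨n, hn⟩ := IsPGroup.iff_card.1 hE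
  have h1 := Cfsg.Agent.H29.card_dvd_of_trivial_mod_frattini hn hr ρ.ker (fun α hα a => by
    rw [← hk, MonoidHom.mem_ker, map_mul, map_inv, h α hα a, mul_inv_cancel])
  obtain ⟨m, -, hm⟩ := (Nat.dvd_prime_pow hp.out).1 h1
  exact IsPGroup.of_card hm

end Linear

/-- An automorphism trivial modulo the Frattini subgroup has `p`-power order. -/
theorem pow_eq_one_of_trivial_mod_frattini {P : Type*} [Group P] [Finite P] {p : ℕ}
    [hp : Fact p.Prime] (hP : IsPGroup p P) (δ : MulAut P)
    (h : ∀ x, x⁻¹ * δ x ∈ frattini P) : ∃ k : ℕ, δ ^ p ^ k = 1 := by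
  obtain ⟨n, hn⟩ := IsPGroup.iff_card.1 hP
  obtain ⟨r, -, hr⟩ := (Nat.dvd_prime_pow hp.out).1 (hn ▸ (frattini P).index_dvd_card)
  let A : Submonoid (MulAut P) :=
    { carrier := {α | ∀ x, α x * x⁻¹ ∈ frattini P}
      one_mem' := fun x => by simp
      mul_mem' := fun {α β} ha hb x => by
        have e : (α * β) x * x⁻¹ = α (β x) * (β x)⁻¹ * (β x * x⁻¹) := by
          rw [MulAut.mul_apply]; group
        rw [e]; exact mul_mem (ha _) (hb _) }
  let B : Subgroup (MulAut P) :=
    { A with
      inv_mem' := fun {α} hα => by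
        rw [inv_eq_of_mul_eq_one_right (b := α ^ (orderOf α - 1)) (by
          rw [← pow_succ', Nat.sub_add_cancel (orderOf_pos α), pow_orderOf_eq_one])]
        exact A.pow_mem hα _ }
  have hδ : δ ∈ B := fun x => by
    have := (inferInstance : (frattini P).Normal).conj_mem _ (h x) x
    rwa [mul_inv_cancel_left] at this
  have h1 := Cfsg.Agent.H29.card_dvd_of_trivial_mod_frattini hn hr B (fun α hα => hα)
  obtain ⟨m, -, hm⟩ := (Nat.dvd_prime_pow hp.out).1 h1
  refine ⟨m, ?_⟩
  have := congrArg Subtype.val (pow_card_eq_one' (x := (⟨δ, hδ⟩ : B)))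
  rwa [hm] at this

theorem stronglyPEmbedded_map_equiv {X Y : Type*} [Group X] [Group Y] [Finite X] {p : ℕ}
    [Fact p.Prime] (e : X ≃* Y) {U : Subgroup X} (hU : IsStronglyPEmbedded p U) :
    IsStronglyPEmbedded p (U.map e.toMonoidHom) := by
  haveI : Finite Y := Finite.of_equiv X e.toEquiv
  obtain ⟨hp, hne, P, hP⟩ := hU
  refine ⟨by rwa [← Nat.card_congr e.toEquiv], fun h => hne ?_, P.mapSurjective (f := e.toMonoidHom) e.surjective, ?_⟩
  · refine eq_top_iff.2 fun x _ => ?_
    obtain ⟨u, hu, hux⟩ : e x ∈ U.map e.toMonoidHom := h ▸ Subgroup.mem_top _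
    exact e.injective hux ▸ hu
  · refine iSup_le fun ⟨Q, hQP, hQr⟩ => ?_
    set Q' := Q.comap e.toMonoidHom with hQ'
    have h1 : Q' ≤ (P : Subgroup X) := by
      intro x hx
      obtain ⟨u, hu, hux⟩ := hQP hx
      exact e.injective hux ▸ hu
    have h2 : ¬ PRankLE p (1 - 1) Q' := fun h => hQr (H80.pRankLE_of_injective
      ((e.symm.toMonoidHom.comp Q.subtype).codRestrict Q' fun y => by
        show e (e.symm (y : Y)) ∈ Q
        rw [MulEquiv.apply_symm_apply]; exact y.2)
      (fun a b hab => Subtype.ext (e.symm.injective (congrArg Subtype.val hab))) h)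
    intro g hg
    refine ⟨e.symm g, hP ?_, by simp⟩
    refine Subgroup.mem_iSup_of_mem (⟨Q', h1, h2⟩ : {R : Subgroup X // _}) ?_
    rw [Subgroup.mem_normalizer_iff]
    intro x
    have := Subgroup.mem_normalizer_iff.1 hg (e x)
    simpa [hQ', Subgroup.mem_comap] using this

theorem sectional_of_injective {G' G : Type*} [Group G'] [Group G] {p k : ℕ} (f : G' →* G)
    (hf : Function.Injective f) (h : SectionalPRankLE p k G) : SectionalPRankLE p k G' := by
  intro H N hN
  set e := H.equivMapOfInjective f hf with he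
  haveI : (N.map e.toMonoidHom).Normal := hN.map _ e.surjective
  exact (H80.pRankLE_equiv (QuotientGroup.congr N (N.map e.toMonoidHom) e rfl)).2
    (h (H.map f) (N.map e.toMonoidHom))

section Transport

variable {G : Type*} [Group G] {p : ℕ} [hp : Fact p.Prime]

theorem fr_map [Finite G] (γ : MulAut G) (K : Subgroup G) :
    fr (K.map γ.toMonoidHom) = (fr K).map γ.toMonoidHom := by
  set e := K.equivMapOfInjective γ.toMonoidHom γ.injective with he
  have h : (frattini K).map e.toMonoidHom = frattini (K.map γ.toMonoidHom) := by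
    refine le_antisymm (Subgroup.map_le_iff_le_comap.2
      (frattini_le_comap_frattini_of_surjective e.surjective)) fun y hy => ?_
    exact ⟨e.symm y, frattini_le_comap_frattini_of_surjective (φ := e.symm.toMonoidHom)
      e.symm.surjective hy, e.apply_symm_apply y⟩
  rw [fr, fr, ← h, Subgroup.map_map, Subgroup.map_map]
  rfl

theorem relIndex_map_aut (γ : MulAut G) (A B : Subgroup G) :
    (A.map γ.toMonoidHom).relIndex (B.map γ.toMonoidHom) = A.relIndex B :=
  Subgroup.relIndex_map_map_of_injective A B γ.injective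

end Transport

section Fusion

variable {Ω : Type*} [Group Ω] {S : Subgroup Ω} {F : FusionSystem S}

theorem mem_autGroup_congr {P Q : Subgroup Ω} {e : P ≃* Q} (he : H85.IsFIso F e) {α : MulAut P}
    (hα : α ∈ F.autGroup P) : MulAut.congr e α ∈ F.autGroup Q :=
  (H85.mem_autGroup he.right_le).2
    (((he.symm.trans ((H85.mem_autGroup he.left_le).1 hα)).trans he).congr fun _ => rfl)

/-- Conjugation by an element of `S` normalising `P`. -/
theorem conjAut_mem_autGroup {P : Subgroup Ω} (hP : P ≤ S) (g : normalizerIn S P) :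
    H85.conjAut S P g ∈ F.autGroup P :=
  H85.autInducedBy_le_autGroup F hP (H85.conjAut_range S P ▸ ⟨g, rfl⟩)

end Fusion

end H72.RankThree
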