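/-
Coordinates from a transvection configuration, and the invariance of the Frattini subgroup.
-/
import Cfsg.Agent.H72.RankThreeMove
import Cfsg.Agent.H72.RankThreeRep

set_option autoImplicit false

namespace H72.RankThree

open scoped commutatorElement

variable {G : Type*} [Group G] [Finite G] {p : ℕ} [hp : Fact p.Prime]
variable {E : Subgroup G} [E.Normal] {x e z w : G}

local notation "q" => QuotientGroup.mk' (fr E)

theorem exists_coord (T : Transv p E x e z w) (hG : IsPGroup p G) (hxp : x ^ p ∈ fr E) :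
    ∃ C : Coord p (fr E) e z w x, ∀ g, C.X g = 0 ↔ g ∈ E := by
  let f : ℕ → ℕ → ℕ → ℕ → G ⧸ fr E := fun k j i n => q z ^ k * q w ^ j * q e ^ i * q x ^ n
  have hXp : q x ^ p = 1 := by
    rw [← map_pow, QuotientGroup.mk'_apply, QuotientGroup.eq_one_iff]; exact hxp
  have hzp := q_pow_p hG T.hz
  have hwp := q_pow_p hG T.hw
  have hep := q_pow_p hG T.he
  have hmul : ∀ k j i n k' j' i' n',
      f k j i n * f k' j' i' n' = f (k + k' + n * i') (j + j') (i + i') (n + n') := by
    intro k j i n k' j' i' n'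
    have c1 : Commute (q x ^ n) (q z ^ k' * q w ^ j') :=
      (T.xz.pow_pow n k').mul_right (T.xw.pow_pow n j')
    have c2 := T.xe_pow (q_comm hG T.he T.hz) n i'
    have c3 : Commute (q z ^ (n * i')) (q e ^ i') := (q_comm hG T.hz T.he).pow_pow _ _
    have e1 : f k j i n * f k' j' i' n' =
        (q z ^ k * q w ^ j * q e ^ i) * ((q z ^ k' * q w ^ j') * (q x ^ n * q e ^ i')) * q x ^ n' := by
      simp only [f]
      rw [mul_assoc (q z ^ k * q w ^ j * q e ^ i), ← mul_assoc (q z ^ k' * q w ^ j'), ← c1.eq]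
      simp only [mul_assoc]
    have e2 : (q z ^ k' * q w ^ j') * (q x ^ n * q e ^ i') =
        (q z ^ (k' + n * i') * q w ^ j' * q e ^ i') * q x ^ n := by
      rw [c2, ← c3.eq, pow_add]
      have c4 : Commute (q z ^ (n * i')) (q w ^ j') := (q_comm hG T.hz T.hw).pow_pow _ _
      calc q z ^ k' * q w ^ j' * (q z ^ (n * i') * q e ^ i' * q x ^ n)
          = q z ^ k' * (q w ^ j' * q z ^ (n * i')) * q e ^ i' * q x ^ n := by group
        _ = q z ^ k' * (q z ^ (n * i') * q w ^ j') * q e ^ i' * q x ^ n := by rw [c4.eq]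
        _ = _ := by group
    rw [e1, e2, ← mul_assoc (q z ^ k * q w ^ j * q e ^ i), T.coord_mul hG]
    simp only [f]
    rw [← add_assoc, pow_add (q x)]
    group
  have hsur : ∀ g, ∃ k j i n : ℕ, q g = f k j i n := by
    intro g
    obtain ⟨a, ha, n, rfl⟩ := T.decompose g
    obtain ⟨k, j, i, h⟩ := T.coord a ha
    exact ⟨k, j, i, n, by rw [map_mul, map_pow, h]⟩
  have hker : ∀ k j i n : ℕ, f k j i n = 1 →
      (k : ZMod p) = 0 ∧ (j : ZMod p) = 0 ∧ (i : ZMod p) = 0 ∧ (n : ZMod p) = 0 := by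
    intro k j i n h
    have hn : (n : ZMod p) = 0 := by
      have h1 : z ^ k * w ^ j * e ^ i * x ^ n ∈ fr E := by
        rw [← QuotientGroup.eq_one_iff, ← QuotientGroup.mk'_apply]
        simpa only [map_mul, map_pow] using h
      have h2 : x ^ n ∈ E := by
        have h3 := E.mul_mem (E.inv_mem (E.mul_mem (E.mul_mem (E.pow_mem T.hz k) (E.pow_mem T.hw j))
          (E.pow_mem T.he i))) (fr_le E h1)
        rwa [inv_mul_cancel_left] at h3
      rw [ZMod.natCast_eq_zero_iff]
      exact_mod_cast dvd_of_zpow_mem (i := (n : ℤ)) T.hx (fr_le E hxp) (by simpa using h2)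
    simp only [f] at h
    rw [pow_congr_cast hXp (a := n) (b := 0) (by simpa using hn), pow_zero, mul_one] at h
    obtain ⟨a, b, c⟩ := T.ind _ _ _ h
    exact ⟨(ZMod.natCast_eq_zero_iff _ _).2 a, (ZMod.natCast_eq_zero_iff _ _).2 b,
      (ZMod.natCast_eq_zero_iff _ _).2 c, hn⟩
  choose k j i n hq using hsur
  have key : ∀ g a b c d, q g = f a b c d →
      (k g : ZMod p) = a ∧ (j g : ZMod p) = b ∧ (i g : ZMod p) = c ∧ (n g : ZMod p) = d := by
    intro g a b c d h
    set d' := (p - 1) * d with hd'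
    set c' := (p - 1) * c with hc'
    set b' := (p - 1) * b with hb'
    set a' := (p - 1) * a + d * c with ha'
    have hc1 : ∀ m : ℕ, (((p - 1) * m : ℕ) : ZMod p) = -(m : ZMod p) := fun m => by
      rw [Nat.cast_mul, Nat.cast_sub hp.out.one_le, ZMod.natCast_self, Nat.cast_one, zero_sub,
        neg_one_mul]
    have hinv : f a b c d * f a' b' c' d' = 1 := by
      rw [hmul]
      simp only [f]
      rw [pow_congr_cast hzp (a := a + a' + d * c') (b := 0), pow_congr_cast hwp (a := b + b') (b := 0),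
        pow_congr_cast hep (a := c + c') (b := 0), pow_congr_cast hXp (a := d + d') (b := 0)]
      · simp
      all_goals (simp only [ha', hb', hc', hd', Nat.cast_add, hc1, Nat.cast_mul, Nat.cast_sub
          hp.out.one_le, ZMod.natCast_self, Nat.cast_one, Nat.cast_zero]; ring)
    have h1 : f (k g + a' + n g * c') (j g + b') (i g + c') (n g + d') = 1 := by
      rw [← hmul, ← hq, h, hinv]
    obtain ⟨h2, h3, h4, h5⟩ := hker _ _ _ _ h1
    simp only [ha', hb', hc', hd', Nat.cast_add, Nat.cast_mul, Nat.cast_sub hp.out.one_le,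
      ZMod.natCast_self, Nat.cast_one] at h2 h3 h4 h5
    refine ⟨?_, by linear_combination h3, by linear_combination h4, by linear_combination h5⟩
    linear_combination h2 + (c : ZMod p) * h5
  have hmul' : ∀ a b : G, q (a * b) =
      f (k a + k b + n a * i b) (j a + j b) (i a + i b) (n a + n b) := fun a b => by
    rw [map_mul, hq, hq, hmul]
  refine ⟨{ K := fun g => (k g : ZMod p), J := fun g => (j g : ZMod p), I := fun g => (i g : ZMod p),
            X := fun g => (n g : ZMod p)
            hK := fun a b => ?_, hJ := fun a b => ?_, hI := fun a b => ?_, hX := fun a b => ?_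
            hmem := fun g => ⟨fun hg => ?_, fun hg => ?_⟩
            he := ?_, hz := ?_, hw := ?_, hx := ?_ }, fun g => ⟨fun hg => ?_, fun hg => ?_⟩⟩
  · rw [(key _ _ _ _ _ (hmul' a b)).1]; push_cast; ring
  · rw [(key _ _ _ _ _ (hmul' a b)).2.1]; push_cast; ring
  · rw [(key _ _ _ _ _ (hmul' a b)).2.2.1]; push_cast; ring
  · rw [(key _ _ _ _ _ (hmul' a b)).2.2.2]; push_cast; ring
  · obtain ⟨h1, h2, h3, h4⟩ := key g 0 0 0 0 (by
      rw [(QuotientGroup.eq_one_iff g).2 hg |> fun h => (h : q g = 1)]; simp [f])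
    exact ⟨by simpa using h1, by simpa using h2, by simpa using h3, by simpa using h4⟩
  · obtain ⟨h1, h2, h3, h4⟩ := hg
    refine (QuotientGroup.eq_one_iff g).1 ?_
    show q g = 1
    rw [hq]
    simp only [f]
    rw [pow_congr_cast hzp (a := k g) (b := 0) (by simpa using h1),
      pow_congr_cast hwp (a := j g) (b := 0) (by simpa using h2),
      pow_congr_cast hep (a := i g) (b := 0) (by simpa using h3),
      pow_congr_cast hXp (a := n g) (b := 0) (by simpa using h4)]
    simp
  · simpa using key e 0 0 1 0 (by simp [f])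
  · simpa using key z 1 0 0 0 (by simp [f])
  · simpa using key w 0 1 0 0 (by simp [f])
  · simpa using key x 0 0 0 1 (by simp [f])
  · have h1 : q g = q z ^ k g * q w ^ j g * q e ^ i g := by
      rw [hq]; simp only [f]
      rw [pow_congr_cast hXp (a := n g) (b := 0) (by simpa using hg), pow_zero, mul_one]
    rw [← map_pow, ← map_pow, ← map_pow, ← map_mul, ← map_mul, eq_comm, q_eq_iff] at h1
    have h2 := E.mul_mem (E.mul_mem (E.mul_mem (E.pow_mem T.hz (k g)) (E.pow_mem T.hw (j g)))
      (E.pow_mem T.he (i g))) (fr_le E h1)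
    rwa [mul_inv_cancel_left] at h2
  · obtain ⟨a, b, c, h⟩ := T.coord g hg
    simpa using (key g a b c 0 (by simp only [f]; rw [h, pow_zero, mul_one])).2.2.2

/-- An odd-order automorphism cannot send `E` to a subgroup with a new Frattini subgroup. -/
theorem fr_invariant {τ : MulAut G} {lam : ℕ} (T : Transv p E x e z w) (S : Torus p E e z w τ lam)
    (hG : IsPGroup p G) (hr : Cfsg.SectionalPRankLE p 3 G) (hp5 : 5 ≤ p)
    (tx : (τ ^ ((p - 1) / 2)) x = x) (tw : (τ ^ ((p - 1) / 2)) w = w)
    (τx : q (τ x) = q x ^ ((lam ^ (p - 2)) ^ 2)) (h : MulAut E)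
    (hh : q ((h ⟨z, T.hz⟩ : E) : G) = (q e)⁻¹) (δ : MulAut G) {k : ℕ} (hk : δ ^ p ^ k = 1) :
    ∀ r ∈ fr E, δ r ∈ fr E := by
  classical
  have hodd : Odd p := hp.out.odd_of_ne_two (by omega)
  intro r hr'
  by_cases hfix : E.map δ.toMonoidHom = E
  · exact aut_fr δ (fun a ha => hfix ▸ Subgroup.mem_map_of_mem _ ha) hr'
  have hδr : δ r ∈ fr (E.map δ.toMonoidHom) := by
    rw [fr_map]; exact Subgroup.mem_map_of_mem _ hr'
  by_contra hnot
  set E1 := E.map δ.toMonoidHom with hE1
  set E2 := E.map (δ⁻¹).toMonoidHom with hE2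
  have hiota : ∀ γ : MulAut G, (E.map γ.toMonoidHom).index = p ∧
      (fr (E.map γ.toMonoidHom)).relIndex (E.map γ.toMonoidHom) = p ^ 3 := fun γ =>
    ⟨(Subgroup.index_map_equiv E γ).trans T.hidx, by rw [fr_map, relIndex_map_aut, T.hfr]⟩
  have h12 : E1 ≠ E2 := by
    intro heq
    refine hfix ?_
    have h2 : E.map (δ ^ 2).toMonoidHom = E := by
      have := congrArg (Subgroup.map δ.toMonoidHom) heq
      rw [hE1, hE2, Subgroup.map_map, Subgroup.map_map] at this
      refine (Eq.trans ?_ this).trans ?_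
      · rfl
      · ext g
        constructor
        · rintro ⟨a, ha, rfl⟩; simpa using ha
        · exact fun hg => ⟨g, hg, by simp⟩
    have hpow : ∀ m : ℕ, E.map ((δ ^ 2) ^ m).toMonoidHom = E := by
      intro m
      induction m with
      | zero => ext g; simp
      | succ m ih =>
        conv_rhs => rw [← h2, ← ih, Subgroup.map_map]
        refine congrArg (fun φ => Subgroup.map φ E) ?_
        rw [pow_succ']; rfl
    obtain ⟨c, hc⟩ : Odd (p ^ k) := hodd.pow
    have := hpow (c + 1)
    rwa [← pow_mul, show 2 * (c + 1) = p ^ k + 1 by omega, pow_succ, hk, one_mul] at this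
  have h1E : E1 ≠ E := hfix
  have h2E : E2 ≠ E := by
    intro heq
    refine hfix ?_
    have := congrArg (Subgroup.map δ.toMonoidHom) heq
    rw [hE2, Subgroup.map_map] at this
    refine this.symm.trans ?_
    ext g
    constructor
    · rintro ⟨a, ha, rfl⟩; simpa using ha
    · exact fun hg => ⟨g, hg, by simp⟩
  have hne1 : fr E1 ≠ fr E := fun h => hnot (h ▸ hδr)
  have hne2 : fr E2 ≠ fr E := by
    intro heq
    rw [hE2, fr_map] at heq
    refine hnot ?_
    rw [← heq] at hr'
    obtain ⟨r', hr'', hrr⟩ := hr'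
    rw [← hrr]
    simpa using hr''
  have key : ∀ γ : MulAut G, E.map γ.toMonoidHom ≠ E → fr (E.map γ.toMonoidHom) ≠ fr E →
      E.map γ.toMonoidHom = fr E ⊔ Subgroup.closure {z, e, x} := by
    intro γ hγ hγf
    obtain ⟨i1, i2⟩ := hiota γ
    obtain ⟨hz1, -, hex⟩ := partner T S hG hr hp5 tx tw τx h hh _ i1 i2 hγ
    obtain ⟨he1, hx1⟩ := hex hγf
    set K := fr E ⊔ Subgroup.closure {z, e, x} with hK
    have hle : K ≤ E.map γ.toMonoidHom :=
      sup_le (fr_le_of_index hG i1 E) ((Subgroup.closure_le _).2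
        (Set.insert_subset hz1 (Set.insert_subset he1 (Set.singleton_subset_iff.2 hx1))))
    refine le_antisymm (fun u hu => ?_) hle
    obtain ⟨a, ha, n, rfl⟩ := T.decompose u
    obtain ⟨k', j, i, hq'⟩ := T.coord a ha
    rw [← map_pow, ← map_pow, ← map_pow, ← map_mul, ← map_mul, eq_comm, q_eq_iff] at hq'
    have mz : z ∈ K := Subgroup.mem_sup_right (Subgroup.subset_closure (by simp))
    have me : e ∈ K := Subgroup.mem_sup_right (Subgroup.subset_closure (by simp))
    have mx : x ∈ K := Subgroup.mem_sup_right (Subgroup.subset_closure (by simp))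
    have hr₀ : (z ^ k' * w ^ j * e ^ i)⁻¹ * a ∈ K := Subgroup.mem_sup_left hq'
    by_cases hj : p ∣ j
    · obtain ⟨c, rfl⟩ := hj
      have hw : w ^ (p * c) ∈ K := by
        rw [pow_mul]
        exact K.pow_mem (Subgroup.mem_sup_left ((elemOver_fr hG E).2.2 w T.hw)) c
      have := K.mul_mem (K.mul_mem (K.mul_mem (K.pow_mem mz k') hw) (K.pow_mem me i)) hr₀
      rw [mul_inv_cancel_left] at this
      exact K.mul_mem this (K.pow_mem mx n)
    · refine absurd ?_ hγ
      have hwE1 : w ∈ E.map γ.toMonoidHom := by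
        set E' := E.map γ.toMonoidHom
        have h1 := E'.mul_mem hu (E'.inv_mem (E'.pow_mem hx1 n))
        rw [mul_inv_cancel_right] at h1
        have h2 := E'.mul_mem h1 (E'.inv_mem (hle hr₀))
        rw [show a * ((z ^ k' * w ^ j * e ^ i)⁻¹ * a)⁻¹ = z ^ k' * w ^ j * e ^ i by group] at h2
        have h3 := E'.mul_mem (E'.mul_mem (E'.inv_mem (E'.pow_mem hz1 k')) h2)
          (E'.inv_mem (E'.pow_mem he1 i))
        rw [show (z ^ k')⁻¹ * (z ^ k' * w ^ j * e ^ i) * (e ^ i)⁻¹ = w ^ j by group] at h3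
        haveI := normal_of_index hG i1
        by_contra hw'
        have h4 := dvd_of_zpow_mem (i := (j : ℤ)) hw' (pow_mem_of_index hG i1 w) (by simpa using h3)
        exact hj (by exact_mod_cast h4)
      refine (Subgroup.eq_of_le_of_card_ge ?_ ?_).symm
      · intro a' ha'
        obtain ⟨k'', j'', i'', hq''⟩ := T.coord a' ha'
        rw [← map_pow, ← map_pow, ← map_pow, ← map_mul, ← map_mul, eq_comm, q_eq_iff] at hq''
        set E' := E.map γ.toMonoidHom
        have h1 := E'.mul_mem (E'.mul_mem (E'.mul_mem (E'.pow_mem hz1 k'') (E'.pow_mem hwE1 j''))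
          (E'.pow_mem he1 i'')) (fr_le_of_index hG i1 E hq'')
        rwa [mul_inv_cancel_left] at h1
      · exact (Subgroup.card_map_of_injective γ.injective).le
  exact h12 ((key δ h1E hne1).trans (key δ⁻¹ h2E hne2).symm)

end H72.RankThree
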