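/-
Automorphisms of the normalizer of an essential subgroup.
-/
import Cfsg.Agent.H72.RankThreeBuild

set_option autoImplicit false

namespace H72.RankThree

open Cfsg Cfsg.FusionSystem

variable {Ω : Type*} [Group Ω] {S : Subgroup Ω} [Finite S] {p : ℕ} [hp : Fact p.Prime]
  {F : FusionSystem S} {E N : Subgroup Ω}

/-- An automorphism fixing a subgroup of index `p` containing its centralizer has `p`-power order. -/
theorem pow_eq_one_of_fixed {G : Type*} [Group G] [Finite G] (hG : IsPGroup p G) {D : Subgroup G}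
    {x : G} (hx : D ⊔ Subgroup.zpowers x = ⊤) [D.Normal]
    (hC : ∀ c : G, (∀ d ∈ D, c * d = d * c) → c ∈ D) (δ : MulAut G) (h : ∀ d ∈ D, δ d = d) :
    ∃ k : ℕ, δ ^ p ^ k = 1 := by
  have hc : x⁻¹ * δ x ∈ D := by
    refine hC _ fun d hd => ?_
    have h1 := h _ ((inferInstance : D.Normal).conj_mem d hd x)
    rw [map_mul, map_mul, map_inv, h d hd] at h1
    calc x⁻¹ * δ x * d = x⁻¹ * (δ x * d * (δ x)⁻¹) * δ x := by group
      _ = x⁻¹ * (x * d * x⁻¹) * δ x := by rw [h1]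
      _ = d * (x⁻¹ * δ x) := by group
  obtain ⟨k, hk⟩ := hG (x⁻¹ * δ x)
  have hpow : ∀ n : ℕ, (δ ^ n) x = x * (x⁻¹ * δ x) ^ n ∧ ∀ d ∈ D, (δ ^ n) d = d := by
    intro n
    induction n with
    | zero => exact ⟨by simp, fun d _ => by simp⟩
    | succ n ih =>
      refine ⟨?_, fun d hd => by rw [pow_succ', MulAut.mul_apply, ih.2 d hd, h d hd]⟩
      rw [pow_succ', MulAut.mul_apply, ih.1, map_mul, map_pow, h _ hc, pow_succ', ← mul_assoc x,
        mul_inv_cancel_left]
  refine ⟨k, ?_⟩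
  obtain ⟨h1, h2⟩ := hpow (p ^ k)
  rw [hk, mul_one] at h1
  have hle : (⊤ : Subgroup G) ≤
      MonoidHom.eqLocus (δ ^ p ^ k).toMonoidHom (MonoidHom.id G) := by
    rw [← hx]
    exact sup_le (fun d hd => h2 d hd) (Subgroup.zpowers_le.2 h1)
  exact MulEquiv.ext fun a => hle (Subgroup.mem_top a)

/-- An automorphism of `N` of `p`-power order fixing a centric subgroup pointwise is inner. -/
theorem inner_of_trivial (hS : IsPGroup p S) (hF : F.IsSaturated p) (hE : F.IsCentric E)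
    (hEN : E ≤ N) (hN : N ≤ S) (δ : MulAut N) (hδ : δ ∈ F.autGroup N) {k : ℕ}
    (hk : δ ^ p ^ k = 1) (h : ∀ a : N, (a : Ω) ∈ E → δ a = a) : ∃ m, δ = MulAut.conj m := by
  obtain ⟨Q, hQ, hQa, -⟩ := hF N hN
  obtain ⟨e1, he1⟩ := H85.isConj_iff.1 hQ
  haveI := H85.finite_of_le hQa.1
  have hKp : IsPGroup p (Subgroup.zpowers (MulAut.congr e1 δ)) := by
    intro ⟨t, ht⟩
    obtain ⟨i, rfl⟩ := Subgroup.mem_zpowers_iff.1 ht
    refine ⟨k, Subtype.ext ?_⟩
    show ((MulAut.congr e1 δ) ^ i) ^ p ^ k = 1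
    rw [← zpow_natCast, ← zpow_mul, mul_comm, zpow_mul, zpow_natCast, ← map_pow, hk, map_one,
      one_zpow]
  obtain ⟨β, hβ, hconj⟩ := H85.fullyAutomized_conj hQa
    (Subgroup.zpowers_le.2 (mem_autGroup_congr he1 hδ)) hKp
  obtain ⟨s, hs, hsy⟩ := H85.mem_autInducedBy.1 (hconj _ (Subgroup.mem_zpowers _))
  have he2 : H85.IsFIso F (e1.trans β) := he1.trans ((H85.mem_autGroup hQa.1).1 hβ)
  have key : ∀ a : N, (((e1.trans β) (δ a) : Q) : Ω) = s * ((e1.trans β) a : Q) * s⁻¹ := by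
    intro a
    rw [← hsy]
    congr 1
    show β (e1 (δ a)) = (β * MulAut.congr e1 δ * β⁻¹) (β (e1 a))
    simp [MulAut.mul_apply, MulAut.inv_apply_self]
  have hle := (hE.2 _ (H85.isConj_img he2 hEN))
  have hsP : s ∈ H85.img (Q.subtype.comp (e1.trans β).toMonoidHom) E := by
    refine hle (H85.mem_centralizerIn.2 ⟨hs, fun y hy => ?_⟩)
    obtain ⟨a, ha, rfl⟩ := H85.mem_img.1 hy
    have := key a
    rw [h a ha] at this
    exact eq_mul_inv_iff_mul_eq.1 this
  obtain ⟨m, -, hm⟩ := H85.mem_img.1 hsP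
  refine ⟨m, MulEquiv.ext fun a => (e1.trans β).injective (Subtype.ext ?_)⟩
  rw [key, ← hm, MulAut.conj_apply, map_mul, map_mul, map_inv]
  rfl

/-- An automorphism of `N_S(E)` of `p`-power order fixing `E` is inner. -/
theorem inner_of_fixing (hS : IsPGroup p S) (hF : F.IsSaturated p) (hE : F.IsEssential p E)
    (hidx : (E.subgroupOf (normalizerIn S E)).index = p)
    (δ : MulAut (normalizerIn S E)) (hδ : δ ∈ F.autGroup (normalizerIn S E)) {k : ℕ}
    (hk : δ ^ p ^ k = 1) (h : ∀ a : normalizerIn S E, (a : Ω) ∈ E → ((δ a : _) : Ω) ∈ E) :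
    ∃ m, δ = MulAut.conj m := by
  have hES := hE.1.1
  have hEN := H85.le_normalizerIn hES
  haveI := H85.finite_of_le hES
  haveI := H85.finite_of_le (H85.normalizerIn_le (S := S) E)
  haveI : Finite (MulAut E) := inferInstance
  let f : E →* E := ((normalizerIn S E).subtype.comp
    (δ.toMonoidHom.comp (Subgroup.inclusion hEN))).codRestrict E fun a => h _ a.2
  let ε : MulAut E := MulEquiv.ofBijective f (Finite.injective_iff_bijective.1 fun a b hab =>
    Subgroup.inclusion_injective hEN (δ.injective (Subtype.ext (congrArg Subtype.val hab :))))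
  have hεδ : ∀ a : E, (ε a : Ω) = ((δ (Subgroup.inclusion hEN a)) : Ω) := fun a => rfl
  have hεF : ε ∈ F.autGroup E := (H85.mem_autGroup hES).2
    (H85.of_extend ((H85.mem_autGroup (H85.normalizerIn_le E)).1 hδ) hEN fun a => rfl)
  have hnorm : ε ∈ Subgroup.normalizer (autInducedBy S E : Set (MulAut E)) := by
    refine Subgroup.mem_normalizer_fintype ?_
    intro c hc
    obtain ⟨g, hg, hgc⟩ := H85.mem_autInducedBy.1 hc
    have hgN : g ∈ normalizerIn S E := ⟨hg, H85.mem_normalizer_of_induced hgc⟩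
    refine H85.mem_autInducedBy.2 ⟨((δ ⟨g, hgN⟩ : _) : Ω), (δ _).2.1, fun a => ?_⟩
    obtain ⟨b, rfl⟩ := ε.surjective a
    rw [MulAut.mul_apply, MulAut.mul_apply, MulAut.inv_apply_self, hεδ, hεδ,
      show Subgroup.inclusion hEN (c b) =
        ⟨g, hgN⟩ * Subgroup.inclusion hEN b * (⟨g, hgN⟩ : normalizerIn S E)⁻¹ from Subtype.ext (hgc b),
      map_mul, map_mul, map_inv]
    rfl
  have hεk : ε ^ p ^ k = 1 := by
    have key : ∀ (n : ℕ) (a : E), Subgroup.inclusion hEN ((ε ^ n) a) =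
        (δ ^ n) (Subgroup.inclusion hEN a) := by
      intro n
      induction n with
      | zero => simp
      | succ n ih =>
        intro a
        rw [pow_succ' ε, pow_succ' δ, MulAut.mul_apply, MulAut.mul_apply, ← ih]
        rfl
    refine MulEquiv.ext fun a => Subgroup.inclusion_injective hEN ?_
    rw [key, hk]; rfl
  have hzp : IsPGroup p (Subgroup.zpowers ε) := by
    intro ⟨t, ht⟩
    obtain ⟨i, rfl⟩ := Subgroup.mem_zpowers_iff.1 ht
    refine ⟨k, Subtype.ext ?_⟩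
    show (ε ^ i) ^ p ^ k = 1
    rw [← zpow_natCast, ← zpow_mul, mul_comm, zpow_mul, zpow_natCast, hεk, one_zpow]
  have hK : IsPGroup p (autInducedBy S E ⊔ Subgroup.zpowers ε : Subgroup (MulAut E)) :=
    IsPGroup.to_sup_of_normal_left' (H85.autInducedBy_isPGroup hS E) hzp
      (Subgroup.zpowers_le.2 hnorm)
  have hfa := H85.fullyAutomized_of_fullyNormalized hS hF hE.2.1
  have heq := ((H85.isFullyAutomized_iff hS).1 hfa).2 _
    (sup_le (H85.autInducedBy_le_autGroup F hES) (Subgroup.zpowers_le.2 hεF)) hK le_sup_left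
  obtain ⟨n, hn, hnε⟩ := H85.mem_autInducedBy.1
    (heq ▸ Subgroup.mem_sup_right (Subgroup.mem_zpowers ε) : ε ∈ autInducedBy S E)
  have hnN : n ∈ normalizerIn S E := ⟨hn, H85.mem_normalizer_of_induced hnε⟩
  set δ' := MulAut.conj (⟨n, hnN⟩ : normalizerIn S E)⁻¹ * δ with hδ'
  have hfix : ∀ a : normalizerIn S E, (a : Ω) ∈ E → δ' a = a := by
    intro a ha
    have h1 : ((δ a : _) : Ω) = n * (a : Ω) * n⁻¹ := hnε ⟨a, ha⟩
    refine Subtype.ext ?_
    simp [hδ', MulAut.mul_apply, MulAut.conj_apply, h1, mul_assoc]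
  haveI : (E.subgroupOf (normalizerIn S E)).Normal :=
    normal_of_index (hS.to_le (H85.normalizerIn_le E)) hidx
  obtain ⟨x, hx⟩ : ∃ x, x ∉ E.subgroupOf (normalizerIn S E) := by
    by_contra! hall
    rw [(eq_top_iff.2 fun a _ => hall a : E.subgroupOf (normalizerIn S E) = ⊤), Subgroup.index_top] at hidx
    exact hp.out.one_lt.ne hidx
  have htop := eq_sup_of_relIndex le_top
    (by rw [Subgroup.relIndex_top_right, hidx]) (Subgroup.mem_top x) hx
  obtain ⟨k', hk'⟩ := pow_eq_one_of_fixed (hS.to_le (H85.normalizerIn_le E)) htop.symm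
    (fun c hc => hE.1.2 E (H85.isConj_refl F hES) (H85.mem_centralizerIn.2 ⟨c.2.1, fun d hd =>
      (congrArg Subtype.val (hc ⟨d, hEN hd⟩ hd)).symm⟩)) δ' (fun d hd => hfix d hd)
  obtain ⟨m, hm⟩ := inner_of_trivial hS hF hE.1 hEN (H85.normalizerIn_le E) δ'
    (mul_mem (H85.inn_le_autGroup F (H85.normalizerIn_le E) ⟨_, rfl⟩) hδ) hk' hfix
  refine ⟨⟨n, hnN⟩ * m, ?_⟩
  rw [map_mul, ← hm, hδ', ← mul_assoc, ← map_mul, mul_inv_cancel, map_one, one_mul]

end H72.RankThree
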