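/-
Essential subgroups of rank three in groups of sectional rank three.
-/
import Cfsg.Agent.H72.RankThreeFusion

set_option autoImplicit false

namespace H72.RankThree

open Cfsg Cfsg.FusionSystem
open scoped commutatorElement

variable {Ω : Type*} [Group Ω] {S : Subgroup Ω} [Finite S] {p : ℕ} [hp : Fact p.Prime]
  {F : FusionSystem S} {E : Subgroup Ω}

local notation "V₃" => Fin 3 → ZMod p

/-- The linear data attached to an essential subgroup. -/
theorem essential_linear (hp5 : 5 ≤ p) (hS : IsPGroup p S) (hE : F.IsEssential p E)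
    (hrk : (frattini E).index = p ^ 3) (hne : E < S) :
    ∃ (φ : E →* Multiplicative V₃) (ρ : MulAut E →* (V₃ ≃ₗ[ZMod p] V₃)),
      Function.Surjective φ ∧ φ.ker = frattini E ∧
      (∀ α a, ρ α (Multiplicative.toAdd (φ a)) = Multiplicative.toAdd (φ (α a))) ∧
      IsPGroup p ρ.ker ∧
      (∀ α ∈ F.autGroup E, ρ α = 1 → α ∈ Cfsg.Inn E) ∧
      Cfsg.pCore p ↥((F.autGroup E).map ρ) = ⊥ ∧
      (∀ T : Subgroup (V₃ ≃ₗ[ZMod p] V₃), IsPGroup p T → T ≤ (F.autGroup E).map ρ →
        Nat.card T ≤ p) ∧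
      (E.subgroupOf (normalizerIn S E)).index = p := by
  have hES := hE.1.1
  haveI := H85.finite_of_le hES
  haveI : Finite (normalizerIn S E) := H85.finite_of_le (H85.normalizerIn_le E)
  have hEp : IsPGroup p E := hS.to_le hES
  obtain ⟨φ, hφs, hφk⟩ := Cfsg.Agent.H29.exists_frattini_coordinates hEp hrk
  obtain ⟨ρ, hρ⟩ := exists_rep φ hφs hφk
  have hker : IsPGroup p ρ.ker := isPGroup_rep_ker hEp φ hφk hrk ρ (fun α h a => by
    have := hρ α a
    rw [h] at this
    exact (Multiplicative.toAdd.injective this).symm)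
  have hinn : ∀ α ∈ F.autGroup E, ρ α = 1 → α ∈ Cfsg.Inn E := fun α hα h =>
    H87.essential_mem_inn hE ρ.ker (hker.to_le inf_le_left)
      (fun a _ b hb _ => (inferInstance : ρ.ker.Normal).conj_mem b hb a) h hα
  have hinn1 : ∀ α ∈ Cfsg.Inn E, ρ α = 1 := by
    rintro _ ⟨c, rfl⟩
    refine LinearEquiv.ext fun v => ?_
    obtain ⟨a, ha⟩ := hφs (Multiplicative.ofAdd v)
    have e' : v = Multiplicative.toAdd (φ a) := by rw [ha]; rfl
    rw [e', hρ]
    show Multiplicative.toAdd (φ (MulAut.conj c a)) = Multiplicative.toAdd (φ a)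
    refine congrArg _ ?_
    rw [MulAut.conj_apply, map_mul, map_mul, mul_comm (φ c), map_inv, mul_inv_cancel_right]
  refine ⟨φ, ρ, hφs, hφk, hρ, hker, hinn, ?_, ?_⟩
  · rw [eq_bot_iff]
    intro h hh
    rw [Subgroup.mem_bot]
    set K := (Cfsg.pCore p ↥((F.autGroup E).map ρ)).map ((F.autGroup E).map ρ).subtype with hK
    have hKp : IsPGroup p K := (H1.isPGroup_pCore p _).map _
    obtain ⟨α, hα, hαh⟩ := h.2
    have hmem : α ∈ K.comap ρ := ⟨h, hh, hαh.symm⟩
    have h1 := H87.essential_mem_inn hE (K.comap ρ)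
      ((hKp.comap_of_ker_isPGroup ρ hker).to_le inf_le_left) (fun a ha b hb hbF => by
        obtain ⟨c, hc, hcb⟩ := hb
        refine ⟨⟨ρ a, Subgroup.mem_map_of_mem _ ha⟩ * c * ⟨ρ a, Subgroup.mem_map_of_mem _ ha⟩⁻¹,
          (H1.pCore_normal' p _).conj_mem c hc _, ?_⟩
        show ρ a * (c : V₃ ≃ₗ[ZMod p] V₃) * (ρ a)⁻¹ = ρ (a * b * a⁻¹)
        rw [map_mul, map_mul, map_inv, show (c : V₃ ≃ₗ[ZMod p] V₃) = ρ b from hcb]) hmem hα
    exact Subtype.ext (hαh.symm.trans (hinn1 α h1))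
  · -- the Sylow subgroups have order `p`
    have hcard : ∀ T : Subgroup (V₃ ≃ₗ[ZMod p] V₃), IsPGroup p T → T ≤ (F.autGroup E).map ρ →
        Nat.card T ≤ p := by
      obtain ⟨hn, Y, hY⟩ := hE.2.2
      haveI := hn
      haveI := H85.finite_autGroup F hES
      let f : F.autGroup E →* ↥((F.autGroup E).map ρ) :=
        (ρ.comp (F.autGroup E).subtype).codRestrict _ fun a => Subgroup.mem_map_of_mem _ a.2
      have hf : Function.Surjective f := by
        rintro ⟨_, a, ha, rfl⟩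
        exact ⟨⟨a, ha⟩, rfl⟩
      have hfk : (Cfsg.Inn E).subgroupOf (F.autGroup E) = f.ker := by
        ext a
        rw [Subgroup.mem_subgroupOf, MonoidHom.mem_ker]
        exact ⟨fun h => Subtype.ext (hinn1 _ h), fun h => hinn a a.2 (congrArg Subtype.val h)⟩
      have hU := stronglyPEmbedded_map_equiv
        ((QuotientGroup.quotientMulEquivOfEq hfk).trans (QuotientGroup.quotientKerEquivOfSurjective f hf)) hY
      have hbot : Cfsg.pCore p ↥((F.autGroup E).map ρ) = ⊥ :=
        haveI := H1.pCore_normal' p ↥((F.autGroup E).map ρ)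
        H87.stronglyPEmbedded_normal_eq_bot hU _ (H1.isPGroup_pCore p _)
      intro T hT hTH
      exact card_le_prime (by rw [Module.finrank_fintype_fun_eq_card]; simp)
        (hp.out.odd_of_ne_two (by omega)) hbot hU hT hTH
    refine ⟨hcard, ?_⟩
    have hNp : IsPGroup p (normalizerIn S E) := hS.to_le (H85.normalizerIn_le E)
    set f := ρ.comp (H85.conjAut S E) with hf
    have hfk : f.ker = E.subgroupOf (normalizerIn S E) := by
      ext n
      rw [MonoidHom.mem_ker, Subgroup.mem_subgroupOf]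
      constructor
      · intro h
        exact H85.mem_of_induces_inner hE.1 n.2.1
          (hinn _ (conjAut_mem_autGroup hES n) h) (fun x => rfl)
      · intro h
        exact hinn1 _ ⟨⟨n, h⟩, MulEquiv.ext fun x => Subtype.ext rfl⟩
    have h1 : (E.subgroupOf (normalizerIn S E)).index ≤ p := by
      rw [← hfk, Subgroup.index_ker]
      refine hcard _ (hNp.of_surjective f.rangeRestrict f.rangeRestrict_surjective) ?_
      rintro _ ⟨n, rfl⟩
      exact Subgroup.mem_map_of_mem _ (conjAut_mem_autGroup hES n)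
    obtain ⟨i, hi⟩ := exists_pow_relIndex hNp (E.subgroupOf (normalizerIn S E)) ⊤
    rw [Subgroup.relIndex_top_right] at hi
    have hi0 : i ≠ 0 := by
      intro h0
      rw [h0, pow_zero, Subgroup.index_eq_one, Subgroup.subgroupOf_eq_top] at hi
      exact not_le_of_gt (H85.lt_normalizerIn hS hne) hi
    rw [hi] at h1 ⊢
    have : i ≤ 1 := by
      by_contra! h2
      exact absurd h1 (not_le_of_gt (lt_of_lt_of_le (by
        have := hp.out.one_lt; nlinarith : p < p ^ 2) (Nat.pow_le_pow_right hp.out.pos h2)))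
    obtain rfl : i = 1 := by omega
    exact pow_one p

/-- The final contradiction in the transvection case. -/
theorem move_false (hp5 : 5 ≤ p) (hS : IsPGroup p S) (hF : F.IsSaturated p)
    (hE : F.IsEssential p E) (hsr : SectionalPRankLE p 3 S)
    (hidx : (E.subgroupOf (normalizerIn S E)).index = p) (hne : normalizerIn S E < S)
    {x e z w : normalizerIn S E} {τ : MulAut (normalizerIn S E)} {lam : ℕ}
    [(E.subgroupOf (normalizerIn S E)).Normal]
    (T : Transv p (E.subgroupOf (normalizerIn S E)) x e z w)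
    (Tor : Torus p (E.subgroupOf (normalizerIn S E)) e z w τ lam)
    (hτF : τ ∈ F.autGroup (normalizerIn S E))
    (tx : (τ ^ ((p - 1) / 2)) x = x) (tw : (τ ^ ((p - 1) / 2)) w = w)
    (τx : QuotientGroup.mk' (fr (E.subgroupOf (normalizerIn S E))) (τ x) =
      QuotientGroup.mk' (fr (E.subgroupOf (normalizerIn S E))) x ^ ((lam ^ (p - 2)) ^ 2))
    (h : MulAut (E.subgroupOf (normalizerIn S E)))
    (hh : QuotientGroup.mk' (fr (E.subgroupOf (normalizerIn S E)))
      ((h ⟨z, T.hz⟩ : E.subgroupOf (normalizerIn S E)) : normalizerIn S E) =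
      (QuotientGroup.mk' (fr (E.subgroupOf (normalizerIn S E))) e)⁻¹) : False := by
  have hES := hE.1.1
  have hEN := H85.le_normalizerIn hES
  have hNS : normalizerIn S E ≤ S := H85.normalizerIn_le E
  haveI : Finite (normalizerIn S E) := H85.finite_of_le hNS
  have hG : IsPGroup p (normalizerIn S E) := hS.to_le hNS
  have hr : SectionalPRankLE p 3 (normalizerIn S E) :=
    sectional_of_injective (Subgroup.inclusion hNS) (Subgroup.inclusion_injective hNS) hsr
  have hodd : Odd p := hp.out.odd_of_ne_two (by omega)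
  obtain ⟨-, wxp, -, -⟩ := weights T Tor hG hp5 tx tw τx h hh
  obtain ⟨C, hCX⟩ := exists_coord T hG (fr2_le_fr hG (E.subgroupOf (normalizerIn S E)) wxp)
  -- the automorphisms stabilising the Frattini subgroup of `E`
  let St : Subgroup (MulAut (normalizerIn S E)) :=
    { carrier := {δ | (fr (E.subgroupOf (normalizerIn S E))).map δ.toMonoidHom = fr (E.subgroupOf (normalizerIn S E))}
      one_mem' := Subgroup.map_id _
      mul_mem' := fun {a b} ha hb => by
        show (fr (E.subgroupOf (normalizerIn S E))).map (a * b).toMonoidHom = fr (E.subgroupOf (normalizerIn S E))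
        conv_rhs => rw [← ha, ← hb, Subgroup.map_map]
        rfl
      inv_mem' := fun {a} ha => by
        show (fr (E.subgroupOf (normalizerIn S E))).map a⁻¹.toMonoidHom = fr (E.subgroupOf (normalizerIn S E))
        conv_lhs => rw [← ha, Subgroup.map_map]
        ext g
        simp }
  have hmemSt : ∀ δ : MulAut (normalizerIn S E), (∀ r ∈ fr (E.subgroupOf (normalizerIn S E)), δ r ∈ fr (E.subgroupOf (normalizerIn S E))) → δ ∈ St := fun δ hδ =>
    Subgroup.eq_of_le_of_card_ge (by rintro _ ⟨r, hr', rfl⟩; exact hδ r hr')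
      (Subgroup.card_map_of_injective δ.injective).ge
  have hpel : ∀ δ : MulAut (normalizerIn S E), ∀ k : ℕ, δ ^ p ^ k = 1 → δ ∈ St := fun δ k hk =>
    hmemSt δ (fr_invariant T Tor hG hr hp5 tx tw τx h hh δ hk)
  set A := F.autGroup (normalizerIn S E) ⊓ St with hA
  have hLμ : ((lam ^ (p - 2) : ℕ) : ZMod p) = (lam : ZMod p)⁻¹ := Tor.mu_eq
  have hval : ∀ (u v : normalizerIn S E) (m : ℕ),
      QuotientGroup.mk' (fr (E.subgroupOf (normalizerIn S E))) u = QuotientGroup.mk' (fr (E.subgroupOf (normalizerIn S E))) v ^ m → C.Same u (v ^ m) := fun u v m h => by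
    refine C.same_of_mem ?_
    rw [← map_pow, q_eq_iff] at h
    exact h
  have D : Move C A τ (lam : ZMod p) :=
    { hA := fun δ hδ r hr' => (hδ.2 : (fr (E.subgroupOf (normalizerIn S E))).map δ.toMonoidHom = fr (E.subgroupOf (normalizerIn S E))) ▸
        Subgroup.mem_map_of_mem _ hr'
      hconj := fun m => ⟨H85.inn_le_autGroup F hNS ⟨m, rfl⟩, hmemSt _ fun r hr' => by
        rw [MulAut.conj_apply]; exact (fr_normal (E.subgroupOf (normalizerIn S E))).conj_mem r hr' m⟩
      hτ := ⟨hτF, hmemSt τ fun r hr' => aut_fr τ Tor.hE hr'⟩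
      te := by
        obtain ⟨h1, h2, h3, h4⟩ := hval _ _ _ Tor.te
        simp [h1, h2, h3, h4, (C.pow _ _).1, (C.pow _ _).2.1, (C.pow _ _).2.2.1, (C.pow _ _).2.2.2,
          C.he]
      tz := by
        obtain ⟨h1, h2, h3, h4⟩ := hval _ _ _ Tor.tz
        simp only [h1, h2, h3, h4, (C.pow _ _).1, (C.pow _ _).2.1, (C.pow _ _).2.2.1,
          (C.pow _ _).2.2.2, C.hz, hLμ]
        simp
      tw := by
        obtain ⟨h1, h2, h3, h4⟩ := hval (τ w) w 1 (by rw [pow_one]; exact Tor.tw)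
        simp [h1, h2, h3, h4, C.hw]
      tx := by
        obtain ⟨h1, h2, h3, h4⟩ := hval _ _ _ τx
        simp only [h1, h2, h3, h4, (C.pow _ _).1, (C.pow _ _).2.1, (C.pow _ _).2.2.1,
          (C.pow _ _).2.2.2, C.hx, Nat.cast_pow _ 2, hLμ]
        simp
      hL := by
        refine ⟨Tor.lam_ne_zero, ?_, ?_, ?_⟩ <;> intro h <;> have h' := (Tor.prim _).1 h
        · have := Nat.le_of_dvd (by norm_num) h'; omega
        · have := Nat.le_of_dvd (by norm_num) h'; omega
        · rcases (Nat.dvd_prime (by norm_num : Nat.Prime 5)).1 h' with h5 | h5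
          · omega
          · have : p = 6 := by omega
            subst this
            exact absurd hp.out (by norm_num)
      hinner := fun δ hδ ⟨k, hk⟩ hfix => inner_of_fixing hS hF hE hidx δ hδ.1 hk fun a ha =>
        (hCX (δ a)).1 (hfix a ((hCX a).2 ha))
      hker := fun δ hδ => by
        refine pow_eq_one_of_trivial_mod_frattini hG δ fun g => ?_
        obtain ⟨hJ, hI, hX⟩ := hδ g
        have hz : z ∈ frattini (normalizerIn S E) := by
          have hs : C.Same ⁅x, e⁆ z := by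
            obtain ⟨c1, c2, c3, c4⟩ := C.comm x e
            refine ⟨?_, ?_, ?_, ?_⟩ <;> simp [c1, c2, c3, c4, C.hx, C.he, C.hz]
          have h1 := C.mem_of_same hs
          have h2 : ⁅x, e⁆ ∈ frattini (normalizerIn S E) := H6.commutator_le_frattini hG
            (Subgroup.commutator_mem_commutator (Subgroup.mem_top x) (Subgroup.mem_top e))
          have hR : fr (E.subgroupOf (normalizerIn S E)) ≤ frattini (normalizerIn S E) := fr_le_of_mem (p := p)
            (fun a _ b _ => H6.commutator_le_frattini hG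
              (Subgroup.commutator_mem_commutator (Subgroup.mem_top a) (Subgroup.mem_top b)))
            (fun a _ => H6.pow_prime_mem_frattini hG a)
          have := mul_mem h2 (hR h1)
          rwa [mul_inv_cancel_left] at this
        have hR : fr (E.subgroupOf (normalizerIn S E)) ≤ frattini (normalizerIn S E) := fr_le_of_mem (p := p)
          (fun a _ b _ => H6.commutator_le_frattini hG
            (Subgroup.commutator_mem_commutator (Subgroup.mem_top a) (Subgroup.mem_top b)))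
          (fun a _ => H6.pow_prime_mem_frattini hG a)
        have hs := C.same_form (g⁻¹ * δ g)
        have h1 := C.mem_of_same hs
        have := mul_mem (pow_mem hz (C.K (g⁻¹ * δ g)).val) (hR h1)
        simpa [Coord.form, hJ, hI, hX] using this }
  -- an element above a receptive conjugate
  obtain ⟨Q, hQ, hQa, hQr⟩ := hF _ hNS
  obtain ⟨e1, he1⟩ := H85.isConj_iff.1 hQ
  have hQlt : Q < S := by
    refine lt_of_le_of_ne hQa.1 fun h => hne.ne ?_
    refine Subgroup.eq_of_le_of_card_ge hNS (le_of_eq ?_)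
    rw [H85.isConj_card hQ]
    exact Nat.card_congr (MulEquiv.subgroupCongr h.symm).toEquiv
  obtain ⟨g0, hg0, hg0N, hg0Q⟩ := H85.exists_normalizing hS le_rfl hQlt
  obtain ⟨g, hgS, hgN, hgQ, hgp⟩ : ∃ g ∈ S, g ∈ Subgroup.normalizer (Q : Set Ω) ∧ g ∉ Q ∧ g ^ p ∈ Q := by
    obtain ⟨k, hk⟩ := hS ⟨g0, hg0⟩
    have hex : ∃ j, g0 ^ p ^ j ∈ Q := ⟨k, by
      rw [show g0 ^ p ^ k = 1 from congrArg Subtype.val hk]; exact one_mem _⟩
    classical
    have hpos : Nat.find hex ≠ 0 := fun h => hg0Q (by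
      have := Nat.find_spec hex; rwa [h, pow_zero, pow_one] at this)
    obtain ⟨m, hm⟩ := Nat.exists_eq_succ_of_ne_zero hpos
    refine ⟨g0 ^ p ^ m, S.pow_mem hg0 _, Subgroup.pow_mem _ hg0N _, Nat.find_min hex (by omega), ?_⟩
    rw [← pow_mul, ← pow_succ]
    have := Nat.find_spec hex
    rwa [hm] at this
  set M := Q ⊔ Subgroup.zpowers g with hMd
  have hMS : M ≤ S := sup_le hQa.1 (Subgroup.zpowers_le.2 hgS)
  haveI : Finite M := H85.finite_of_le hMS
  have hQM : Q ≤ M := le_sup_left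
  let ι : normalizerIn S E →* M := (Subgroup.inclusion hQM).comp e1.toMonoidHom
  have hι : Function.Injective ι := (Subgroup.inclusion_injective hQM).comp e1.injective
  have hιr : ∀ u : M, u ∈ ι.range ↔ (u : Ω) ∈ Q := fun u =>
    ⟨fun ⟨a, ha⟩ => ha ▸ (e1 a).2, fun hu => ⟨e1.symm ⟨u, hu⟩, Subtype.ext (by
      show ((e1 (e1.symm ⟨(u : Ω), hu⟩) : Q) : Ω) = u
      rw [MulEquiv.apply_symm_apply])⟩⟩
  let gM : M := ⟨g, Subgroup.mem_sup_right (Subgroup.mem_zpowers g)⟩
  set γ := MulAut.congr e1.symm (H85.conjAut S Q ⟨g, hgS, hgN⟩) with hγd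
  have hγF : γ ∈ F.autGroup (normalizerIn S E) :=
    mem_autGroup_congr he1.symm (conjAut_mem_autGroup hQa.1 _)
  have hγι : ∀ a, ι (γ a) = gM * ι a * gM⁻¹ := fun a => Subtype.ext (by
    show ((e1 (e1.symm (H85.conjAut S Q ⟨g, hgS, hgN⟩ (e1 a))) : Q) : Ω) = g * (e1 a : Ω) * g⁻¹
    rw [MulEquiv.apply_symm_apply]; rfl)
  obtain ⟨kγ, hkγ⟩ : ∃ k : ℕ, γ ^ p ^ k = 1 := by
    obtain ⟨k, hk⟩ := hS.to_le (H85.normalizerIn_le (S := S) Q) ⟨g, hgS, hgN⟩
    exact ⟨k, by rw [hγd, ← map_pow, ← map_pow, hk, map_one, map_one]⟩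
  have hγA : γ ∈ A := ⟨hγF, hpel γ kγ hkγ⟩
  have hmove : C.X (γ e) ≠ 0 := by
    intro h0
    obtain ⟨-, hwX⟩ := C.map_central (D.hA γ hγA) C.hw.2.2.1 C.hw.2.2.2
    obtain ⟨m, hm⟩ := D.hinner γ hγA ⟨kγ, hkγ⟩ fun a ha => by
      rw [C.mapX (D.hA γ hγA), h0, ha]; ring
    have hcen : ((e1 m : Q) : Ω)⁻¹ * g ∈ centralizerIn S Q := by
      refine H85.mem_centralizerIn.2 ⟨S.mul_mem (S.inv_mem (hQa.1 (e1 m).2)) hgS, fun y hy => ?_⟩
      have h1 := congrArg Subtype.val (hγι (e1.symm ⟨y, hy⟩))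
      rw [hm, MulAut.conj_apply] at h1
      have h2 : ((e1 (m * e1.symm ⟨y, hy⟩ * m⁻¹) : Q) : Ω) = g * y * g⁻¹ := by
        refine h1.trans ?_
        show g * ((e1 (e1.symm ⟨y, hy⟩) : Q) : Ω) * g⁻¹ = _
        rw [MulEquiv.apply_symm_apply]
      rw [map_mul, map_mul, map_inv, MulEquiv.apply_symm_apply] at h2
      simp only [Subgroup.coe_mul, Subgroup.coe_inv] at h2
      calc y * ((((e1 m : Q) : Ω))⁻¹ * g)
          = ((e1 m : Q) : Ω)⁻¹ * (((e1 m : Q) : Ω) * y * ((e1 m : Q) : Ω)⁻¹) * g := by group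
        _ = ((e1 m : Q) : Ω)⁻¹ * g * y := by rw [h2]; group
    have hQc : F.IsCentric Q := H85.centric_of_isConj (H85.centric_mono hE.1 hEN hNS) hQ
    have := Q.mul_mem (e1 m).2 (H85.centric_self hQc hcen)
    rw [mul_inv_cancel_left] at this
    exact hgQ this
  obtain ⟨n₀, hn₀⟩ : gM ^ p ∈ ι.range := (hιr _).2 hgp
  refine no_move D hp5 (hS.to_le hMS)
    (sectional_of_injective (Subgroup.inclusion hMS) (Subgroup.inclusion_injective hMS) hsr)
    ι hι gM (fun h => hgQ ((hιr gM).1 h)) ?_ γ hγA hγι n₀ hn₀ ?_ hmove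
  · refine Subgroup.map_injective M.subtype_injective ?_
    rw [← MonoidHom.range_eq_map M.subtype, Subgroup.range_subtype, Subgroup.map_sup,
      MonoidHom.map_zpowers]
    congr 1
    ext u
    exact ⟨fun ⟨v, hv, hvu⟩ => hvu ▸ (hιr v).1 hv,
      fun hu => ⟨⟨u, Subgroup.mem_sup_left hu⟩, (hιr _).2 hu, rfl⟩⟩
  · intro τ' hτ' g' δ n₁ hδ hn₁ n c hc
    have hε : H85.IsFIso F (MulAut.congr e1 τ') :=
      (H85.mem_autGroup hQa.1).1 (mem_autGroup_congr he1 hτ'.1)
    obtain ⟨ψ, hψ, hψext⟩ := H85.receptive_extend hQr hε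
    let ext := extender S Q (Q.subtype.comp (MulEquiv.toMonoidHom (MulAut.congr e1 τ')))
    have hQext : Q ≤ ext := H85.le_extender hQa.1 fun y => hQa.1 (MulAut.congr e1 τ' y).2
    set hh₀ : Ω := (g' : Ω) ^ n * ((e1 c : Q) : Ω) with hh₀d
    have hδe : ∀ a, ((e1 (δ a) : Q) : Ω) = (g' : Ω) * (e1 a : Ω) * (g' : Ω)⁻¹ := fun a =>
      congrArg Subtype.val (hδ a)
    have hδn : ∀ (m : ℕ) a, ((e1 ((δ ^ m) a) : Q) : Ω) = (g' : Ω) ^ m * (e1 a : Ω) * ((g' : Ω) ^ m)⁻¹ := by
      intro m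
      induction m with
      | zero => simp
      | succ m ih => intro a; rw [pow_succ' δ, MulAut.mul_apply, hδe, ih, pow_succ']; group
    have hg'N : (g' : Ω) ∈ Subgroup.normalizer (Q : Set Ω) := by
      haveI := H85.finite_of_le hQa.1
      refine H85.mem_normalizer_of_conj fun y hy => ?_
      have := hδe (e1.symm ⟨y, hy⟩)
      rw [MulEquiv.apply_symm_apply] at this
      exact this ▸ (e1 _).2
    have hconj : ∀ a, ((e1 ((τ' * δ) a) : Q) : Ω) = hh₀ * (e1 (τ' a) : Ω) * hh₀⁻¹ := by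
      intro a
      have : τ' * δ = δ ^ n * MulAut.conj c * τ' := by rw [← hc]; group
      rw [this, MulAut.mul_apply, MulAut.mul_apply, hδn, MulAut.conj_apply, map_mul, map_mul,
        map_inv, hh₀d]
      simp only [Subgroup.coe_mul, Subgroup.coe_inv]
      group
    have hg'ext : (g' : Ω) ∈ ext := by
      refine H85.mem_extender.2 ⟨hMS g'.2, hg'N, hh₀,
        S.mul_mem (S.pow_mem (hMS g'.2) n) (hQa.1 (e1 c).2), fun y hy => ?_⟩
      have h1 : (⟨(g' : Ω) * (y : Ω) * (g' : Ω)⁻¹, hy⟩ : Q) = e1 (δ (e1.symm y)) := Subtype.ext (by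
        rw [hδe, MulEquiv.apply_symm_apply])
      rw [h1]
      show ((e1 (τ' (e1.symm (e1 (δ (e1.symm y))))) : Q) : Ω) = hh₀ * (e1 (τ' (e1.symm y)) : Ω) * hh₀⁻¹
      rw [MulEquiv.symm_apply_apply, ← hconj]
      rfl
    set h' := ψ ⟨(g' : Ω), hg'ext⟩ with hh'
    have hψe : ∀ y : Q, ψ (Subgroup.inclusion hQext y) = ((MulAut.congr e1 τ' y : Q) : Ω) := fun y =>
      hψext y y.2 _
    have hd : hh₀⁻¹ * h' ∈ centralizerIn S Q := by
      refine H85.mem_centralizerIn.2 ⟨S.mul_mem (S.inv_mem (S.mul_mem (S.pow_mem (hMS g'.2) n)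
        (hQa.1 (e1 c).2))) (H85.map_mem hψ _), fun y hy => ?_⟩
      obtain ⟨a, ha⟩ : ∃ a, e1 (τ' a) = ⟨y, hy⟩ := ⟨τ'⁻¹ (e1.symm ⟨y, hy⟩), by simp⟩
      have hmem : (g' : Ω) * ((e1 a : Q) : Ω) * (g' : Ω)⁻¹ ∈ Q := hδe a ▸ (e1 _).2
      have h1 := H85.extend_conj (e := MulAut.congr e1 τ') hQext hψe (g := ⟨(g' : Ω), hg'ext⟩)
        (x := e1 a) hmem
      have h2 : (⟨_, hmem⟩ : Q) = e1 (δ a) := Subtype.ext (hδe a).symm
      rw [h2] at h1
      have h3 : ∀ b, MulAut.congr e1 τ' (e1 b) = e1 (τ' b) := fun b => by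
        show e1 (τ' (e1.symm (e1 b))) = _
        rw [MulEquiv.symm_apply_apply]
      rw [h3, h3, ← MulAut.mul_apply, hconj, ha, ← hh'] at h1
      calc y * (hh₀⁻¹ * h') = hh₀⁻¹ * (hh₀ * y * hh₀⁻¹) * h' := by group
        _ = hh₀⁻¹ * (h' * y * h'⁻¹) * h' := by rw [h1]
        _ = _ := by group
    have hQc : F.IsCentric Q := H85.centric_of_isConj (H85.centric_mono hE.1 hEN hNS) hQ
    obtain ⟨d, hd'⟩ := e1.surjective ⟨_, H85.centric_self hQc hd⟩
    have hdc : ((e1 d : Q) : Ω) = hh₀⁻¹ * h' := congrArg Subtype.val hd'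
    refine ⟨c * d, ?_, ?_⟩
    · rw [map_mul, show MulAut.conj d = 1 from ?_, mul_one, hc]
      refine MulEquiv.ext fun a => e1.injective (Subtype.ext ?_)
      have h1 := (H85.mem_centralizerIn.1 hd).2 _ (e1 a).2
      simp only [MulAut.conj_apply, MulAut.one_apply, map_mul, map_inv, Subgroup.coe_mul,
        Subgroup.coe_inv, hdc]
      rw [← h1]
      group
    · refine Subtype.ext ?_
      show ((g' : Ω) ^ n * ((e1 (c * d) : Q) : Ω)) ^ p = ((e1 (τ' n₁) : Q) : Ω)
      rw [map_mul, Subgroup.coe_mul, hdc, ← mul_assoc, ← hh₀d, mul_inv_cancel_left, hh',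
        ← map_pow ψ]
      have h4 : (⟨(g' : Ω), hg'ext⟩ : ext) ^ p = Subgroup.inclusion hQext (e1 n₁) := Subtype.ext (by
        have := congrArg Subtype.val hn₁
        show (g' : Ω) ^ p = ((e1 n₁ : Q) : Ω)
        exact this.symm)
      rw [h4, hψe]
      show ((e1 (τ' (e1.symm (e1 n₁))) : Q) : Ω) = _
      rw [MulEquiv.symm_apply_apply]

/-- Essential subgroups with Frattini quotient of order `p ^ 3` are normal. -/
theorem essential_rank_three_normal (hp5 : 5 ≤ p) (hS : IsPGroup p S)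
    (hsr : SectionalPRankLE p 3 S) (hF : F.IsSaturated p) (hE : F.IsEssential p E)
    (hrk : (frattini E).index = p ^ 3) : S ≤ Subgroup.normalizer (E : Set Ω) := by
  classical
  by_contra hcon
  have hES := hE.1.1
  have hEN := H85.le_normalizerIn hES
  have hNS : normalizerIn S E ≤ S := H85.normalizerIn_le E
  haveI := H85.finite_of_le hES
  haveI : Finite (normalizerIn S E) := H85.finite_of_le hNS
  have hEltS : E < S := lt_of_le_of_ne hES fun h => hcon (h ▸ Subgroup.le_normalizer)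
  have hNlt : normalizerIn S E < S := lt_of_le_of_ne hNS fun h => hcon (h ▸ inf_le_right)
  have hodd : Odd p := hp.out.odd_of_ne_two (by omega)
  have hG : IsPGroup p (normalizerIn S E) := hS.to_le hNS
  have hr : SectionalPRankLE p 3 (normalizerIn S E) :=
    sectional_of_injective (Subgroup.inclusion hNS) (Subgroup.inclusion_injective hNS) hsr
  obtain ⟨φ, ρ, hφs, hφk, hρ, hker, hinn, hOp, hcard, hidx⟩ :=
    essential_linear hp5 hS hE hrk hEltS
  set H := (F.autGroup E).map ρ with hH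
  have h3 : Module.finrank (ZMod p) V₃ = 3 := by rw [Module.finrank_fintype_fun_eq_card]; simp
  set EN := E.subgroupOf (normalizerIn S E) with hENd
  haveI hENn : EN.Normal := normal_of_index hG hidx
  let e₀ : EN ≃* E := Subgroup.subgroupOfEquivOfLe hEN
  -- coordinates on `E / Φ(E)`
  let χ : EN → V₃ := fun a => Multiplicative.toAdd (φ (e₀ a))
  have χmul : ∀ a b, χ (a * b) = χ a + χ b := fun a b => by simp only [χ, map_mul, toAdd_mul]
  have χpow : ∀ a (n : ℕ), χ (a ^ n) = (n : ZMod p) • χ a := fun a n => by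
    simp only [χ, map_pow, toAdd_pow, Nat.cast_smul_eq_nsmul]
  have χinv : ∀ a, χ a⁻¹ = -χ a := fun a => by simp only [χ, map_inv, toAdd_inv]
  have χsur : ∀ v, ∃ a, χ a = v := fun v => by
    obtain ⟨a, ha⟩ := hφs (Multiplicative.ofAdd v)
    exact ⟨e₀.symm a, by simp [χ, ha]⟩
  have hfrat : (frattini EN).map e₀.toMonoidHom = frattini E := by
    refine le_antisymm (Subgroup.map_le_iff_le_comap.2
      (frattini_le_comap_frattini_of_surjective e₀.surjective)) fun y hy => ?_
    exact ⟨e₀.symm y, frattini_le_comap_frattini_of_surjective (φ := e₀.symm.toMonoidHom)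
      e₀.symm.surjective hy, e₀.apply_symm_apply y⟩
  have χker : ∀ a : EN, (a : normalizerIn S E) ∈ fr EN ↔ χ a = 0 := fun a => by
    have h1 : χ a = 0 ↔ e₀ a ∈ frattini E := by
      rw [← hφk, MonoidHom.mem_ker]
      exact toAdd_eq_zero
    rw [h1, ← hfrat]
    exact ⟨fun ⟨b, hb, hba⟩ => ⟨b, hb, by rw [Subtype.ext hba]; rfl⟩,
      fun ⟨b, hb, hba⟩ => ⟨b, hb, congrArg Subtype.val (e₀.injective hba)⟩⟩
  have χq : ∀ a b : EN, QuotientGroup.mk' (fr EN) (a : normalizerIn S E) =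
      QuotientGroup.mk' (fr EN) (b : normalizerIn S E) ↔ χ a = χ b := fun a b => by
    rw [q_eq_iff]
    show ((a⁻¹ * b : EN) : normalizerIn S E) ∈ fr EN ↔ _
    rw [χker, χmul, χinv, neg_add_eq_zero]
  have χconj : ∀ (g : normalizerIn S E) (a : EN),
      χ ⟨g * a * g⁻¹, hENn.conj_mem a a.2 g⟩ = ρ (H85.conjAut S E g) (χ a) := fun g a => by
    show _ = ρ _ (Multiplicative.toAdd (φ (e₀ a)))
    rw [hρ]
    exact congrArg (fun t => Multiplicative.toAdd (φ t)) (Subtype.ext rfl)
  have χcomm : ∀ (g : normalizerIn S E) (a : EN) (h : ⁅g, (a : normalizerIn S E)⁆ ∈ EN),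
      χ ⟨⁅g, (a : normalizerIn S E)⁆, h⟩ = ρ (H85.conjAut S E g) (χ a) - χ a := fun g a h => by
    rw [← χconj, sub_eq_add_neg, ← χinv, ← χmul]
    exact congrArg χ (Subtype.ext rfl)
  have hHmem : ∀ n, ρ (H85.conjAut S E n) ∈ H := fun n =>
    Subgroup.mem_map_of_mem _ (conjAut_mem_autGroup hES n)
  have hfrE : (fr EN).relIndex EN = p ^ 3 := by
    rw [relIndex_fr, ← hrk, ← hfrat]
    exact (Subgroup.index_map_equiv (frattini EN) e₀).symm
  -- a conjugate of `E` inside the normalizer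
  obtain ⟨g, hgS, hgN, hgnot⟩ := H85.exists_normalizing hS le_rfl hNlt
  let γ : MulAut (normalizerIn S E) := (normalizerIn S E).normalizerMonoidHom ⟨g, hgN⟩
  have hfix : ∀ m : ℕ, g ^ m ∉ normalizerIn S E → EN.map (γ ^ m).toMonoidHom ≠ EN := by
    intro m hm heq
    refine hm ⟨S.pow_mem hgS m, ?_⟩
    have key : ∀ (m : ℕ) a, (((γ ^ m) a : normalizerIn S E) : Ω) = g ^ m * a * (g ^ m)⁻¹ := by
      intro m
      induction m with
      | zero => simp
      | succ m ih =>
        intro a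
        rw [pow_succ' γ, MulAut.mul_apply]
        show g * ((((γ ^ m) a : normalizerIn S E)) : Ω) * g⁻¹ = _
        rw [ih, pow_succ']; group
    refine H85.mem_normalizer_of_conj fun y hy => ?_
    have h1 : (γ ^ m) ⟨y, hEN hy⟩ ∈ EN.map (γ ^ m).toMonoidHom :=
      Subgroup.mem_map_of_mem _ (show (⟨y, hEN hy⟩ : normalizerIn S E) ∈ EN from hy)
    rw [heq] at h1
    have h2 : (((γ ^ m) ⟨y, hEN hy⟩ : normalizerIn S E) : Ω) ∈ E := h1
    rwa [key] at h2
  have hg2 : g ^ 2 ∉ normalizerIn S E := by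
    intro h
    obtain ⟨k, hk⟩ := hS ⟨g, hgS⟩
    obtain ⟨c, hc⟩ : Odd (p ^ k) := hodd.pow
    refine hgnot ?_
    have h1 := Subgroup.pow_mem _ h (c + 1)
    rwa [← pow_mul, show 2 * (c + 1) = p ^ k + 1 by omega, pow_succ,
      show g ^ p ^ k = 1 from congrArg Subtype.val hk, one_mul] at h1
  have hne1 := hfix 1 (by rwa [pow_one])
  have hne2 := hfix 2 hg2
  have hne12 : EN.map (γ ^ 2).toMonoidHom ≠ EN.map (γ ^ 1).toMonoidHom := by
    intro h
    refine hne1 ?_
    have := congrArg (Subgroup.map (γ⁻¹).toMonoidHom) h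
    rw [Subgroup.map_map, Subgroup.map_map] at this
    refine (Eq.trans ?_ this).trans ?_
    · congr 1
      ext a
      simp [pow_two, MulAut.mul_apply]
    · ext a
      simp [pow_one]
  have hmapdata : ∀ δ : MulAut (normalizerIn S E), (EN.map δ.toMonoidHom).index = p ∧
      (fr (EN.map δ.toMonoidHom)).relIndex (EN.map δ.toMonoidHom) = p ^ 3 := fun δ =>
    ⟨(Subgroup.index_map_equiv EN δ).trans hidx, by rw [fr_map, relIndex_map_aut, hfrE]⟩
  by_cases hsq : ∃ x : normalizerIn S E, x ∉ EN ∧ ∀ v, ρ (H85.conjAut S E x)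
      (ρ (H85.conjAut S E x) v - v) = ρ (H85.conjAut S E x) v - v
  swap
  · -- no transvection
    push Not at hsq
    obtain ⟨x, hx⟩ : ∃ x, x ∉ EN := by
      by_contra! hall
      rw [(eq_top_iff.2 fun a _ => hall a : EN = ⊤), Subgroup.index_top] at hidx
      exact hp.out.one_lt.ne hidx
    refine jordan_false hp5 hG hr EN hidx hfrE (fun x hx => ?_)
      {α : MulAut EN | MulAut.congr e₀ α ∈ F.autGroup E} ?_
      _ _ (hmapdata (γ ^ 1)).1 (hmapdata (γ ^ 2)).1 (hmapdata (γ ^ 1)).2 (hmapdata (γ ^ 2)).2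
      hne1 hne2 hne12
    · obtain ⟨v, hv⟩ := hsq x hx
      obtain ⟨a, ha⟩ := χsur v
      refine ⟨a, a.2, fun h => hv ?_⟩
      have hb : ⁅x, (a : normalizerIn S E)⁆ ∈ EN := commutator_mem_of_index hG hidx _ _
      have h2 := χcomm x ⟨_, hb⟩ (commutator_mem_of_index hG hidx _ _)
      rw [(χker ⟨_, _⟩).1 h, χcomm x a hb, ha] at h2
      exact sub_eq_zero.1 h2.symm
    · intro U hRU hUE hinv
      let U₀ : AddSubgroup V₃ :=
        { carrier := {v | ∃ a : EN, (a : normalizerIn S E) ∈ U ∧ χ a = v}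
          zero_mem' := ⟨1, U.one_mem, by simp [χ]⟩
          add_mem' := fun {u v} ⟨a, ha, hau⟩ ⟨b, hb, hbv⟩ =>
            ⟨a * b, U.mul_mem ha hb, by rw [χmul, hau, hbv]⟩
          neg_mem' := fun {u} ⟨a, ha, hau⟩ => ⟨a⁻¹, U.inv_mem ha, by rw [χinv, hau]⟩ }
      by_cases hU0 : AddSubgroup.toZModSubmodule p U₀ = ⊥
      · left
        refine le_antisymm (fun a ha => ?_) hRU
        have h1 : χ ⟨a, hUE ha⟩ ∈ AddSubgroup.toZModSubmodule p U₀ := ⟨_, ha, rfl⟩
        rw [hU0, Submodule.mem_bot] at h1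
        exact (χker ⟨a, hUE ha⟩).2 h1
      · right
        obtain ⟨k, hk⟩ := hG x
        have htop := no_invariant h3 hodd hOp (hHmem x) (x := ρ (H85.conjAut S E x)) (by
          intro ⟨t, ht⟩
          obtain ⟨i, rfl⟩ := Subgroup.mem_zpowers_iff.1 ht
          refine ⟨k, Subtype.ext ?_⟩
          show (ρ (H85.conjAut S E x) ^ i) ^ p ^ k = 1
          rw [← zpow_natCast, ← zpow_mul, mul_comm, zpow_mul, zpow_natCast, ← map_pow, ← map_pow,
            hk, map_one, map_one, one_zpow]) (hsq x hx) _ (fun h hh v hv => ?_) hU0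
        · refine le_antisymm hUE fun a ha => ?_
          obtain ⟨b, hb, hab⟩ : χ ⟨a, ha⟩ ∈ AddSubgroup.toZModSubmodule p U₀ :=
            htop ▸ Submodule.mem_top
          have h1 := (q_eq_iff).1 ((χq b ⟨a, ha⟩).2 hab)
          have h2 := U.mul_mem hb (hRU h1)
          rwa [mul_inv_cancel_left] at h2
        · obtain ⟨α, hα, rfl⟩ := hh
          obtain ⟨a, ha, rfl⟩ := hv
          refine ⟨MulAut.congr e₀.symm α a, hinv _ ?_ a ha, ?_⟩
          · show MulAut.congr e₀ (MulAut.congr e₀.symm α) ∈ F.autGroup E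
            have e' : MulAut.congr e₀ (MulAut.congr e₀.symm α) = α := MulEquiv.ext fun y => by simp
            rw [e']; exact hα
          · show Multiplicative.toAdd (φ (e₀ (e₀.symm (α (e₀ a))))) = _
            rw [MulEquiv.apply_symm_apply]
            exact (hρ α (e₀ a)).symm
  -- a transvection
  obtain ⟨x, hx, hxsq⟩ := hsq
  set X := ρ (H85.conjAut S E x) with hX
  have hX1 : X ≠ 1 := fun h => hx (H85.mem_of_induces_inner hE.1 x.2.1
    (hinn _ (conjAut_mem_autGroup hES x) h) fun y => rfl)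
  have hxp : x ^ p ∈ EN := pow_mem_of_index hG hidx x
  have hρE : ∀ a : normalizerIn S E, a ∈ EN → ρ (H85.conjAut S E a) = 1 := fun a ha => by
    refine LinearEquiv.ext fun v => ?_
    obtain ⟨b, rfl⟩ := χsur v
    rw [← χconj]
    show χ ((⟨a, ha⟩ : EN) * b * ⟨a, ha⟩⁻¹) = _
    rw [χmul, χmul, χinv]
    show _ = χ b
    abel
  have hXp : orderOf X = p := orderOf_eq_prime (by
    rw [hX, ← map_pow, ← map_pow, hρE _ hxp]) hX1
  have hU := uniq_of_card (H := H) h3 hodd hcard
  obtain ⟨v, ψ, hψ0, hP, hXt⟩ := exists_pair_of_sq h3 (hHmem x) hXp hxsq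
  obtain ⟨u, hu⟩ := IsCyclic.exists_generator (α := (ZMod p)ˣ)
  have hu' : orderOf u = p - 1 := by
    rw [orderOf_eq_card_of_forall_mem_zpowers hu, Nat.card_eq_fintype_card, ZMod.card_units]
  set lam := (u : ZMod p).val with hlam
  have hlamc : (lam : ZMod p) = (u : ZMod p) := ZMod.natCast_zmod_val _
  have hlam0 : (lam : ZMod p) ≠ 0 := hlamc ▸ u.ne_zero
  have hprim : ∀ n : ℕ, (lam : ZMod p) ^ n = 1 ↔ (p - 1) ∣ n := fun n => by
    rw [hlamc, ← hu', orderOf_dvd_iff_pow_eq_one, ← Units.val_pow_eq_pow_val, Units.val_eq_one]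
  obtain ⟨ve, vz, vw, tl, htl, hl, hhl, hLI, t1, t2, t3, t4, t5, t6, t7⟩ :=
    exists_torus h3 hodd hOp hU hP (lam : ZMod p) hlam0
  rw [← hXt] at t1 t2 t3
  obtain ⟨⟨a, hae⟩, ⟨b, hbz⟩, ⟨c, hcw⟩⟩ := And.intro (χsur ve) (And.intro (χsur vz) (χsur vw))
  let bb := basisOfLinearIndependentOfCardEqFinrank hLI (by simp [h3])
  have hbb : ⇑bb = ![ve, vz, vw] := coe_basisOfLinearIndependentOfCardEqFinrank _ _
  have hlin : ∀ L L' : V₃ ≃ₗ[ZMod p] V₃, L ve = L' ve → L vz = L' vz → L vw = L' vw → L = L' :=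
    fun L L' h1 h2 h3' => bb.ext' fun i => by
      rw [hbb]; fin_cases i
      exacts [h1, h2, h3']
  have χform : ∀ k j i : ℕ, χ (b ^ k * c ^ j * a ^ i) =
      (k : ZMod p) • vz + (j : ZMod p) • vw + (i : ZMod p) • ve := fun k j i => by
    rw [χmul, χmul, χpow, χpow, χpow, hae, hbz, hcw]
  have T : Transv p EN x (a : normalizerIn S E) b c :=
    { hidx := hidx, hfr := hfrE, hx := hx, he := a.2, hz := b.2, hw := c.2
      coord := fun g hg => by
        set v := χ ⟨g, hg⟩ with hv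
        refine ⟨(bb.repr v 1).val, (bb.repr v 2).val, (bb.repr v 0).val, ?_⟩
        rw [← map_pow, ← map_pow, ← map_pow, ← map_mul, ← map_mul]
        refine (χq ⟨g, hg⟩ (b ^ _ * c ^ _ * a ^ _)).2 ?_
        rw [χform]
        simp only [ZMod.natCast_zmod_val]
        conv_lhs => rw [← hv, ← bb.sum_repr v, Fin.sum_univ_three, hbb]
        simp only [Matrix.cons_val_zero, Matrix.cons_val_one, Matrix.cons_val_two,
          Matrix.head_cons, Matrix.tail_cons]
        abel
      ind := fun k j i hq => by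
        have h1 : χ (b ^ k * c ^ j * a ^ i) = 0 := by
          rw [← χker]
          refine (QuotientGroup.eq_one_iff _).1 ?_
          show QuotientGroup.mk' (fr EN) ((b ^ k * c ^ j * a ^ i : EN) : normalizerIn S E) = 1
          simpa only [map_mul, map_pow, SubmonoidClass.coe_pow, Subgroup.coe_mul] using hq
        rw [χform] at h1
        have h2 := Fintype.linearIndependent_iff.1 hLI ![(i : ZMod p), (k : ZMod p), (j : ZMod p)] (by
          rw [Fin.sum_univ_three]
          simp only [Matrix.cons_val_zero, Matrix.cons_val_one, Matrix.cons_val_two,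
            Matrix.head_cons, Matrix.tail_cons]
          rw [← h1]; abel)
        exact ⟨(ZMod.natCast_eq_zero_iff _ _).1 (by simpa using h2 1),
          (ZMod.natCast_eq_zero_iff _ _).1 (by simpa using h2 2),
          (ZMod.natCast_eq_zero_iff _ _).1 (by simpa using h2 0)⟩
      xe := by
        have h1 : QuotientGroup.mk' (fr EN) (x * (a : normalizerIn S E) * x⁻¹) =
            QuotientGroup.mk' (fr EN) ((a : normalizerIn S E) * b) :=
          (χq ⟨_, hENn.conj_mem _ a.2 x⟩ (a * b)).2 (by rw [χconj, χmul, hae, hbz]; exact t1)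
        simp only [map_mul, map_inv] at h1
        exact mul_inv_eq_iff_eq_mul.1 h1
      xz := by
        have h1 : QuotientGroup.mk' (fr EN) (x * (b : normalizerIn S E) * x⁻¹) =
            QuotientGroup.mk' (fr EN) (b : normalizerIn S E) :=
          (χq ⟨_, hENn.conj_mem _ b.2 x⟩ b).2 (by rw [χconj, hbz]; exact t2)
        simp only [map_mul, map_inv] at h1
        exact mul_inv_eq_iff_eq_mul.1 h1
      xw := by
        have h1 : QuotientGroup.mk' (fr EN) (x * (c : normalizerIn S E) * x⁻¹) =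
            QuotientGroup.mk' (fr EN) (c : normalizerIn S E) :=
          (χq ⟨_, hENn.conj_mem _ c.2 x⟩ c).2 (by rw [χconj, hcw]; exact t3)
        simp only [map_mul, map_inv] at h1
        exact mul_inv_eq_iff_eq_mul.1 h1 }
  -- the torus extends to the normalizer
  obtain ⟨α, hαF, hαt⟩ := htl
  obtain ⟨β, hβF, hβh⟩ := hhl
  set μ := (lam : ZMod p)⁻¹ with hμd
  set m := (μ ^ 2).val with hm
  have hXm : ∀ (n : ℕ), (X ^ n) ve = ve + (n : ZMod p) • vz ∧ (X ^ n) vz = vz ∧ (X ^ n) vw = vw := by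
    intro n
    induction n with
    | zero => simp
    | succ n ih =>
      obtain ⟨i1, i2, i3⟩ := ih
      simp only [pow_succ', LinearEquiv.mul_apply, i1, i2, i3, map_add, map_smul, Nat.cast_succ,
        add_smul, one_smul]
      rw [show X ve = ve + vz from t1, show X vz = vz from t2, show X vw = vw from t3]
      exact ⟨by abel, rfl, rfl⟩
  have s1 : X ve = ve + vz := t1
  have s2 : X vz = vz := t2
  have s3 : X vw = vw := t3
  have hconjX : tl * X * tl⁻¹ = X ^ m := by
    rw [mul_inv_eq_iff_eq_mul]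
    obtain ⟨i1, i2, i3⟩ := hXm m
    refine hlin _ _ ?_ ?_ ?_ <;>
      simp only [LinearEquiv.mul_apply, map_add, map_smul, s1, s2, s3, t4, t5, t6, i1, i2, i3]
    · have e' : (lam : ZMod p) * ((μ ^ 2).val : ZMod p) = μ := by
        rw [ZMod.natCast_zmod_val (μ ^ 2), hμd]; field_simp
      rw [smul_add, smul_smul, hm, e']
  have hρN : ∀ n : normalizerIn S E, ∃ i : ℕ, ρ (H85.conjAut S E n) = X ^ i := fun n => by
    obtain ⟨a', ha', i, rfl⟩ := T.decompose n
    exact ⟨i, by rw [map_mul, map_pow, map_mul, map_pow, hρE a' ha', one_mul]⟩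
  have hnorm : ∀ n : normalizerIn S E, α * H85.conjAut S E n * α⁻¹ ∈ autInducedBy S E := fun n => by
    obtain ⟨i, hi⟩ := hρN n
    set c' := H85.conjAut S E (x ^ (m * i)) with hc'
    have h1 : α * H85.conjAut S E n * α⁻¹ * c'⁻¹ ∈ Cfsg.Inn E := by
      refine hinn _ (mul_mem (mul_mem (mul_mem hαF (conjAut_mem_autGroup hES n)) (inv_mem hαF))
        (inv_mem (conjAut_mem_autGroup hES _))) ?_
      rw [map_mul, map_mul, map_mul, map_inv, map_inv, hc', map_pow, map_pow, hαt, hi, ← hX,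
        ← conj_pow, hconjX, ← pow_mul, mul_inv_cancel]
    have hc'' : c' ∈ autInducedBy S E := by rw [← H85.conjAut_range]; exact ⟨_, rfl⟩
    have h2 := mul_mem (H85.inn_le_autInducedBy hES h1) hc''
    rwa [inv_mul_cancel_right] at h2
  have hαiso := (H85.mem_autGroup hES).1 hαF
  obtain ⟨ψe, hψe, hψext⟩ := H85.receptive_extend
    (H85.receptive_of_fullyNormalized hS hF hE.2.1) hαiso
  have hNext : normalizerIn S E ≤ extender S E (E.subtype.comp α.toMonoidHom) := fun n hn => by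
    obtain ⟨h', hh', hk⟩ := H85.mem_autInducedBy.1 (hnorm ⟨n, hn⟩)
    refine H85.mem_extender.2 ⟨hn.1, hn.2, h', hh', fun y hy => ?_⟩
    have h1 := hk (α y)
    rw [MulAut.mul_apply, MulAut.mul_apply, MulAut.inv_apply_self,
      show H85.conjAut S E ⟨n, hn⟩ y = ⟨_, hy⟩ from Subtype.ext rfl] at h1
    exact h1
  let f : normalizerIn S E →* normalizerIn S E :=
    (ψe.comp (Subgroup.inclusion hNext)).codRestrict _ fun n =>
      ⟨H85.map_mem hψe _, H85.extend_maps_normalizer (e := α) (hEN.trans hNext)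
        (fun y => hψext y y.2 _) n.2.2⟩
  let τ₀ : MulAut (normalizerIn S E) := MulEquiv.ofBijective f
    (Finite.injective_iff_bijective.1 fun s t hst => Subgroup.inclusion_injective hNext
      (F.injective_of_mem hψe (congrArg Subtype.val hst :)))
  have hτ₀F : τ₀ ∈ F.autGroup (normalizerIn S E) :=
    (H85.mem_autGroup hNS).2 (H85.of_extend hψe hNext fun n => rfl)
  have hτ₀E : ∀ (n : ℕ) (y : EN), (τ₀ ^ n) (y : normalizerIn S E) =
      ((e₀.symm ((α ^ n) (e₀ y)) : EN) : normalizerIn S E) := by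
    intro n
    induction n with
    | zero => intro y; simp
    | succ n ih =>
      intro y
      rw [pow_succ' τ₀, pow_succ' α, MulAut.mul_apply, MulAut.mul_apply, ih]
      refine Subtype.ext ?_
      show ψe (Subgroup.inclusion hNext _) = _
      exact hψext _ ((α ^ n) (e₀ y)).2 _
  have htl1 : tl ^ (p - 1) = 1 := by
    have key : ∀ n : ℕ, (tl ^ n) ve = (lam : ZMod p) ^ n • ve ∧ (tl ^ n) vz = μ ^ n • vz ∧
        (tl ^ n) vw = vw := by
      intro n
      induction n with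
      | zero => simp
      | succ n ih =>
        obtain ⟨i1, i2, i3⟩ := ih
        simp only [pow_succ', LinearEquiv.mul_apply, i1, i2, i3, map_smul, t4, t5, t6, smul_smul,
          hμd, true_and]
        simp [pow_succ', mul_comm]
    obtain ⟨i1, i2, i3⟩ := key (p - 1)
    refine hlin _ _ ?_ ?_ ?_
    · rw [i1, (hprim _).2 dvd_rfl, one_smul]; rfl
    · rw [i2, hμd, inv_pow, (hprim _).2 dvd_rfl, inv_one, one_smul]; rfl
    · rw [i3]; rfl
  obtain ⟨i₁, hi₁⟩ := hker ⟨α ^ (p - 1), by rw [MonoidHom.mem_ker, map_pow, hαt, htl1]⟩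
  have hi₁' : α ^ ((p - 1) * p ^ i₁) = 1 := by rw [pow_mul]; exact congrArg Subtype.val hi₁
  haveI : EN.Normal := hENn
  obtain ⟨i₂, hi₂⟩ := pow_eq_one_of_fixed hG (D := EN) (x := x)
    (eq_sup_of_relIndex le_top (by rw [Subgroup.relIndex_top_right, hidx]) (Subgroup.mem_top x)
      hx).symm
    (fun s hs => hE.1.2 E (H85.isConj_refl F hES) (H85.mem_centralizerIn.2 ⟨s.2.1, fun d hd =>
      (congrArg Subtype.val (hs ⟨d, hEN hd⟩ hd)).symm⟩))
    (τ₀ ^ ((p - 1) * p ^ i₁)) (fun d hd => by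
      refine (hτ₀E _ ⟨d, hd⟩).trans ?_
      rw [hi₁', MulAut.one_apply, MulEquiv.symm_apply_apply])
  set P := p ^ (i₁ + i₂) with hP'
  have hlamP : ∀ r : ZMod p, r ^ P = r := fun r => by rw [hP', ZMod.pow_card_pow]
  have hτv : ∀ (y : EN) (hy : (τ₀ ^ P) (y : normalizerIn S E) ∈ EN),
      χ ⟨(τ₀ ^ P) y, hy⟩ = (tl ^ P) (χ y) := fun y hy => by
    rw [show (⟨(τ₀ ^ P) y, hy⟩ : EN) = e₀.symm ((α ^ P) (e₀ y)) from Subtype.ext (hτ₀E P y)]
    show Multiplicative.toAdd (φ (e₀ (e₀.symm _))) = _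
    rw [MulEquiv.apply_symm_apply, ← hρ, map_pow, hαt]
  have key : ∀ n : ℕ, (tl ^ n) ve = (lam : ZMod p) ^ n • ve ∧ (tl ^ n) vz = μ ^ n • vz ∧
      (tl ^ n) vw = vw := by
    intro n
    induction n with
    | zero => simp
    | succ n ih =>
      obtain ⟨i1, i2, i3⟩ := ih
      simp only [pow_succ', LinearEquiv.mul_apply, i1, i2, i3, map_smul, t4, t5, t6, smul_smul,
        hμd, true_and]
      simp [pow_succ', mul_comm]
  obtain ⟨k1, k2, k3⟩ := key P
  rw [hlamP] at k1 k2
  have hτE : ∀ y ∈ EN, (τ₀ ^ P) y ∈ EN := fun y hy => by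
    rw [hτ₀E P ⟨y, hy⟩]; exact (e₀.symm _).2
  have Tor : Torus p EN (a : normalizerIn S E) b c (τ₀ ^ P) lam :=
    { hpow := by
        rw [← pow_mul, hP', mul_comm, pow_add, ← mul_assoc, pow_mul]
        exact hi₂
      hE := hτE
      prim := hprim
      te := by
        rw [← map_pow]
        refine (χq ⟨_, hτE _ a.2⟩ (a ^ lam)).2 ?_
        rw [hτv, χpow, hae, k1]
      tz := by
        rw [← map_pow]
        refine (χq ⟨_, hτE _ b.2⟩ (b ^ (lam ^ (p - 2)))).2 ?_
        rw [hτv, χpow, hbz, k2, hμd, Nat.cast_pow]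
        congr 1
        refine inv_eq_of_mul_eq_one_right ?_
        rw [← pow_succ', show p - 2 + 1 = p - 1 by omega]
        exact (hprim _).2 dvd_rfl
      tw := (χq ⟨_, hτE _ c.2⟩ c).2 (by rw [hτv, hcw, k3]) }
  obtain ⟨x', w', T', Tor', -, tx, tw, τx⟩ := exists_good T Tor hG hp5
  refine move_false hp5 hS hF hE hsr hidx hNlt T' Tor' (pow_mem hτ₀F P) tx tw τx
    (MulAut.congr e₀.symm β) ?_
  rw [← map_inv]
  refine (χq (MulAut.congr e₀.symm β ⟨b, T'.hz⟩) a⁻¹).2 ?_
  rw [χinv, hae, ← t7, ← hβh]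
  show Multiplicative.toAdd (φ (e₀ (e₀.symm (β (e₀ b))))) = _
  rw [MulEquiv.apply_symm_apply, ← hρ]
  exact congrArg _ hbz

end H72.RankThree
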