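/-
In an `S₄`-free group with Sylow 2-subgroups of class at most two and `C(O₂) ≤ O₂`,
the Thompson subgroup is normal.
-/
import Mathlib
import Cfsg.Prelude.Def_LocalEven
import Cfsg.Agent.CompBasic
import Cfsg.Agent.H1.Cores
import Cfsg.Agent.H1.ThompsonTools
import Cfsg.Agent.H11.MaxFam
import Cfsg.Agent.H74.S4Section
import Cfsg.Agent.H72.QuadOffender

set_option autoImplicit false
set_option linter.style.haveILetI false

namespace H72

open Subgroup
open scoped commutatorElement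

/-- A four-group with two transvections on it gives a section isomorphic to `S₄`. -/
theorem involves_of_four {G : Type*} [Group G] [Finite G] (a b v w : G)
    (hv2 : v * v = 1) (hw2 : w * w = 1) (hvw : v * w = w * v)
    (hv : v ≠ 1) (hw : w ≠ 1) (hne : v ≠ w)
    (hbv : b * v * b⁻¹ = v) (haw : a * w * a⁻¹ = w)
    (hav : a * v * a⁻¹ = w * v) (hbw : b * w * b⁻¹ = v * w) :
    Cfsg.Involves (Equiv.Perm (Fin 4)) G := by
  classical
  haveI : Fact (Nat.Prime 3) := ⟨Nat.prime_three⟩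
  set E : Subgroup G := zpowers v ⊔ zpowers w with hE
  have hwin : ∀ n : ℕ, w ^ n = 1 ∨ w ^ n = w := fun n => by
    induction n with
    | zero => exact Or.inl (pow_zero w)
    | succ n ih =>
      rcases ih with h | h
      · exact Or.inr (by rw [pow_succ, h, one_mul])
      · exact Or.inl (by rw [pow_succ, h, hw2])
  have hEmem : ∀ x ∈ E, x = 1 ∨ x = v ∨ x = w ∨ x = v * w := by
    let S : Subgroup G :=
      { carrier := {x | x = 1 ∨ x = v ∨ x = w ∨ x = v * w}
        one_mem' := Or.inl rfl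
        mul_mem' := by
          have h1 : w * v = v * w := hvw.symm
          have h2 : v * (v * w) = w := by rw [← mul_assoc, hv2, one_mul]
          have h3 : w * (v * w) = v := by rw [← mul_assoc, h1, mul_assoc, hw2, mul_one]
          have h4 : v * w * v = w := by rw [mul_assoc, h1, h2]
          have h5 : v * w * w = v := by rw [mul_assoc, hw2, mul_one]
          have h6 : v * w * (v * w) = 1 := by rw [← mul_assoc, h4, hw2]
          rintro x y (rfl | rfl | rfl | rfl) (rfl | rfl | rfl | rfl) <;>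
            simp only [Set.mem_setOf_eq, one_mul, mul_one, hv2, hw2, h1, h2, h3, h4, h5, h6, true_or, or_true]
        inv_mem' := by
          rintro x (rfl | rfl | rfl | rfl)
          · exact Or.inl inv_one
          · exact Or.inr (Or.inl (inv_eq_of_mul_eq_one_right hv2))
          · exact Or.inr (Or.inr (Or.inl (inv_eq_of_mul_eq_one_right hw2)))
          · refine Or.inr (Or.inr (Or.inr ?_))
            rw [mul_inv_rev, inv_eq_of_mul_eq_one_right hv2, inv_eq_of_mul_eq_one_right hw2, hvw] }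
    exact fun x hx => (sup_le (zpowers_le.mpr (Or.inr (Or.inl rfl)))
      (zpowers_le.mpr (Or.inr (Or.inr (Or.inl rfl)))) : E ≤ S) hx
  have hvE : v ∈ E := mem_sup_left (mem_zpowers v)
  have hwE : w ∈ E := mem_sup_right (mem_zpowers w)
  have hvwne : v * w ≠ 1 := fun h => hne (by rw [eq_inv_of_mul_eq_one_left h, inv_eq_of_mul_eq_one_right hw2])
  have hvvw : v ≠ v * w := fun h => hw (mul_left_cancel (a := v) ((mul_one v).trans h)).symm
  have hwvw : w ≠ v * w := fun h => hv (mul_right_cancel (b := w) ((one_mul w).trans h)).symm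
  set H := normalizer (E : Set G) with hH
  have hgenH : ∀ c : G, c * v * c⁻¹ ∈ E → c * w * c⁻¹ ∈ E → c ∈ H := by
    intro c h1 h2
    refine mem_normalizer_iff_map_conj_eq.mpr (eq_of_le_of_card_ge ?_
      (card_map_of_injective (MulAut.conj c).injective).ge)
    rw [map_le_iff_le_comap]
    exact sup_le (zpowers_le.mpr h1) (zpowers_le.mpr h2)
  have haH : a ∈ H := hgenH a (by rw [hav]; exact mul_mem hwE hvE) (by rw [haw]; exact hwE)
  have hbH : b ∈ H := hgenH b (by rw [hbv]; exact hvE) (by rw [hbw]; exact mul_mem hvE hwE)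
  let X := {e : G // e ∈ E ∧ e ≠ 1}
  letI : MulAction H X :=
    { smul := fun c e => ⟨c * e.1 * (c : G)⁻¹, (mem_normalizer_iff.mp c.2 e.1).mp e.2.1,
        fun h => e.2.2 (conj_eq_one_iff.mp h)⟩
      one_smul := fun e => Subtype.ext (show (1 : G) * e.1 * (1 : G)⁻¹ = e.1 by group)
      mul_smul := fun c d e => Subtype.ext (show (c : G) * (d : G) * e.1 * ((c : G) * (d : G))⁻¹ =
        (c : G) * ((d : G) * e.1 * (d : G)⁻¹) * (c : G)⁻¹ by group) }
  let f : H →* Equiv.Perm X := MulAction.toPermHom H X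
  have hfval : ∀ (c : H) (e : X), ((f c e : X) : G) = c * e.1 * (c : G)⁻¹ := fun _ _ => rfl
  let ev : X := ⟨v, hvE, hv⟩
  let ew : X := ⟨w, hwE, hw⟩
  let evw : X := ⟨v * w, mul_mem hvE hwE, hvwne⟩
  have hall : ∀ e : X, e = ev ∨ e = ew ∨ e = evw := by
    rintro ⟨e, he, he1⟩
    rcases hEmem e he with rfl | rfl | rfl | rfl
    · exact absurd rfl he1
    · exact Or.inl rfl
    · exact Or.inr (Or.inl rfl)
    · exact Or.inr (Or.inr rfl)
  haveI : Fintype X := Fintype.ofFinite X
  have hX : Fintype.card X = 3 := by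
    have : (Finset.univ : Finset X) = {ev, ew, evw} := by
      ext e
      simp only [Finset.mem_univ, Finset.mem_insert, Finset.mem_singleton, true_iff]
      exact hall e
    rw [← Finset.card_univ, this]
    exact Finset.card_eq_three.mpr ⟨ev, ew, evw, fun h => hne (congrArg Subtype.val h),
      fun h => hvvw (congrArg Subtype.val h), fun h => hwvw (congrArg Subtype.val h), rfl⟩
  set fa := f ⟨a, haH⟩ with hfa
  set fb := f ⟨b, hbH⟩ with hfb
  have ha1 : fa ev = evw := Subtype.ext (by rw [hfval]; show a * v * a⁻¹ = v * w; rw [hav, hvw])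
  have ha2 : fa ew = ew := Subtype.ext (by rw [hfval]; exact haw)
  have hb1 : fb ev = ev := Subtype.ext (by rw [hfval]; exact hbv)
  have hb2 : fb ew = evw := Subtype.ext (by rw [hfval]; exact hbw)
  have ha3 : fa evw = ev := Subtype.ext (by
    rw [hfval]; show a * (v * w) * a⁻¹ = v
    rw [show a * (v * w) * a⁻¹ = (a * v * a⁻¹) * (a * w * a⁻¹) by group, hav, haw, ← hvw, mul_assoc, hw2, mul_one])
  have hb3 : fb evw = ew := Subtype.ext (by
    rw [hfval]; show b * (v * w) * b⁻¹ = w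
    rw [show b * (v * w) * b⁻¹ = (b * v * b⁻¹) * (b * w * b⁻¹) by group, hbv, hbw, ← mul_assoc, hv2, one_mul])
  have hodd : Equiv.Perm.sign fa = -1 := by
    rw [show fa = Equiv.swap ev evw from Equiv.ext fun e => by
      rcases hall e with rfl | rfl | rfl
      · rw [ha1, Equiv.swap_apply_left]
      · rw [ha2, Equiv.swap_apply_of_ne_of_ne (fun h => hne (congrArg Subtype.val h).symm)
          (fun h => hwvw (congrArg Subtype.val h))]
      · rw [ha3, Equiv.swap_apply_right]]
    exact Equiv.Perm.sign_swap (fun h => hvvw (congrArg Subtype.val h))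
  have hsurj : Function.Surjective f := by
    rw [← MonoidHom.range_eq_top]
    refine eq_top_of_card_eq _ ?_
    have h2 : 2 ∣ Nat.card f.range := by
      have ho : orderOf fa = 2 := orderOf_eq_prime (Equiv.ext fun e => by
        rw [pow_two, Equiv.Perm.mul_apply, Equiv.Perm.one_apply]
        rcases hall e with rfl | rfl | rfl
        · rw [ha1, ha3]
        · rw [ha2, ha2]
        · rw [ha3, ha1]) (fun h => hvvw (congrArg Subtype.val (show ev = evw by
          rw [← ha1, h]; rfl)))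
      exact ho ▸ Subgroup.orderOf_dvd_natCard f.range ⟨_, rfl⟩
    have h3 : 3 ∣ Nat.card f.range := by
      have ho : orderOf (fa * fb) = 3 := orderOf_eq_prime (Equiv.ext fun e => by
        rw [pow_succ, pow_two]
        simp only [Equiv.Perm.mul_apply, Equiv.Perm.one_apply]
        rcases hall e with rfl | rfl | rfl
        · rw [hb1, ha1, hb3, ha2, hb2, ha3]
        · rw [hb2, ha3, hb1, ha1, hb3, ha2]
        · rw [hb3, ha2, hb2, ha3, hb1, ha1]) (fun h => hvvw (congrArg Subtype.val (show ev = evw by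
          have : (fa * fb) ev = ev := by rw [h]; rfl
          rw [Equiv.Perm.mul_apply, hb1, ha1] at this
          exact this.symm)))
      exact ho ▸ Subgroup.orderOf_dvd_natCard f.range (mul_mem (⟨_, rfl⟩ : fa ∈ f.range) ⟨_, rfl⟩)
    have h6 : 6 ∣ Nat.card f.range := (show Nat.Coprime 2 3 by decide).mul_dvd_of_dvd_of_dvd h2 h3
    have hle := Subgroup.card_le_card_group f.range
    have hp : Nat.card (Equiv.Perm X) = 6 := by
      rw [Nat.card_perm, Nat.card_eq_fintype_card, hX]; rfl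
    rw [hp] at hle ⊢
    exact le_antisymm hle (Nat.le_of_dvd Nat.card_pos h6)
  -- a complement to `E`
  set D := (Equiv.Perm.sign.comp f).ker with hD
  obtain ⟨Q⟩ := (inferInstance : Nonempty (Sylow 3 D))
  set Q' := (Q : Subgroup D).map D.subtype with hQ'
  set L := normalizer (Q' : Set H) with hL
  have hfQ : ∀ x ∈ D, ∃ q ∈ Q', f q = f x := by
    intro x hx
    have hs : Function.Surjective (f.subgroupMap D) := f.subgroupMap_surjective D
    have hpD : IsPGroup 3 (D.map f) := by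
      refine IsPGroup.of_card (n := 1) ?_
      have hmap : D.map f = (Equiv.Perm.sign : Equiv.Perm X →* ℤˣ).ker := by
        rw [hD, ← MonoidHom.comap_ker, map_comap_eq_self_of_surjective hsurj]
      have hss : Function.Surjective (Equiv.Perm.sign : Equiv.Perm X →* ℤˣ) := by
        intro u
        rcases Int.units_eq_one_or u with rfl | rfl
        · exact ⟨1, map_one _⟩
        · exact ⟨fa, hodd⟩
      have h1 := (Equiv.Perm.sign : Equiv.Perm X →* ℤˣ).ker.card_eq_card_quotient_mul_card_subgroup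
      rw [Nat.card_perm, Nat.card_eq_fintype_card, hX,
        Nat.card_congr (QuotientGroup.quotientKerEquivOfSurjective _ hss).toEquiv, Nat.card_eq_fintype_card,
        Fintype.card_units_int] at h1
      rw [hmap, pow_one]
      have h3 : Nat.factorial 3 = 6 := rfl
      omega
    have htop : ((Q.mapSurjective hs) : Subgroup (D.map f)) = ⊤ :=
      ((Q.mapSurjective hs).is_maximal' (hpD.to_subgroup ⊤) le_top).symm
    rw [Sylow.coe_mapSurjective] at htop
    obtain ⟨q, hq, hqe⟩ := htop.ge (mem_top (⟨f x, x, hx, rfl⟩ : D.map f))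
    exact ⟨q, ⟨q, hq, rfl⟩, congrArg Subtype.val hqe⟩
  have hfL : ∀ y, ∃ l ∈ L, f l = y := by
    intro y
    obtain ⟨x, rfl⟩ := hsurj y
    have hfr := Sylow.normalizer_sup_eq_top Q
    have h1 : x ∈ (↑(L ⊔ D) : Set H) := by
      rw [SetLike.mem_coe]; exact (hfr.ge (mem_top x) : x ∈ L ⊔ D)
    rw [Subgroup.mul_normal] at h1
    obtain ⟨l, hl, d, hd, rfl⟩ := h1
    obtain ⟨q, hq, hqd⟩ := hfQ d hd
    exact ⟨l * q, L.mul_mem hl (le_normalizer hq), by rw [map_mul, map_mul, hqd]⟩
  set E' := E.subgroupOf H with hE'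
  haveI : E'.Normal := normal_in_normalizer
  have hEker : ∀ e ∈ E', f e = 1 := by
    intro e he
    refine Equiv.ext fun x => Subtype.ext ?_
    rw [hfval]
    show (e : G) * x.1 * (e : G)⁻¹ = x.1
    have hab : ∀ p ∈ E, ∀ q ∈ E, p * q = q * p := by
      intro p hp q hq
      rcases hEmem p hp with rfl | rfl | rfl | rfl <;> rcases hEmem q hq with rfl | rfl | rfl | rfl <;>
        first
          | rfl
          | rw [one_mul, mul_one]
          | rw [mul_one, one_mul]
          | exact hvw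
          | exact hvw.symm
          | rw [hvw, mul_assoc, hvw]
          | rw [mul_assoc, ← hvw]
          | rw [← mul_assoc, hvw]
    rw [hab (e : G) (mem_subgroupOf.mp he) _ x.2.1, mul_inv_cancel_right]
  have hLE : ∀ e ∈ E', e ∈ L → e = 1 := by
    intro e he heL
    by_contra hne1
    have he1 : (e : G) ≠ 1 := fun h => hne1 (Subtype.ext h)
    -- a 3-cycle centralizing `e`
    obtain ⟨q, hq, hqe⟩ := hfQ (⟨a, haH⟩ * ⟨b, hbH⟩) (by
      rw [hD, MonoidHom.mem_ker, MonoidHom.comp_apply, map_mul, map_mul, ← hfa, hodd, ← hfb]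
      have : Equiv.Perm.sign fb = -1 := by
        rw [show fb = Equiv.swap ew evw from Equiv.ext fun e => by
          rcases hall e with rfl | rfl | rfl
          · rw [hb1, Equiv.swap_apply_of_ne_of_ne (fun h => hne (congrArg Subtype.val h))
              (fun h => hvvw (congrArg Subtype.val h))]
          · rw [hb2, Equiv.swap_apply_left]
          · rw [hb3, Equiv.swap_apply_right]]
        exact Equiv.Perm.sign_swap (fun h => hwvw (congrArg Subtype.val h))
      rw [this]; rfl)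
    have h1 : q * e * q⁻¹ * e⁻¹ ∈ E' := E'.mul_mem (Subgroup.Normal.conj_mem inferInstance e he q) (E'.inv_mem he)
    have h2 : q * e * q⁻¹ * e⁻¹ ∈ Q' := by
      rw [show q * e * q⁻¹ * e⁻¹ = q * (e * q⁻¹ * e⁻¹) by group]
      exact Q'.mul_mem hq ((mem_normalizer_iff.mp heL _).mp (Q'.inv_mem hq))
    have h3 : q * e * q⁻¹ * e⁻¹ = 1 := by
      obtain ⟨j, hj⟩ := (Q.isPGroup'.map D.subtype) ⟨_, h2⟩
      have h4 : ((q * e * q⁻¹ * e⁻¹ : H) : G) ^ 2 = 1 := by
        rw [pow_two]
        rcases hEmem _ (mem_subgroupOf.mp h1) with h | h | h | h <;> rw [h]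
        · exact one_mul 1
        · exact hv2
        · exact hw2
        · rw [hvw, mul_assoc, ← mul_assoc v w v, hvw, mul_assoc w v v, hv2, mul_one, hw2]
      have h5 : (q * e * q⁻¹ * e⁻¹) ^ 2 = 1 := Subtype.ext h4
      have h6 : (q * e * q⁻¹ * e⁻¹) ^ 3 ^ j = 1 := congrArg Subtype.val hj
      exact orderOf_eq_one_iff.mp (Nat.eq_one_of_dvd_coprimes (Nat.Coprime.pow_right j (by decide))
        (orderOf_dvd_of_pow_eq_one h5) (orderOf_dvd_of_pow_eq_one h6))
    have h7 : f q ⟨e, mem_subgroupOf.mp he, he1⟩ = ⟨e, mem_subgroupOf.mp he, he1⟩ :=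
      Subtype.ext (by rw [hfval]; exact congrArg Subtype.val (mul_inv_eq_one.mp h3))
    rw [hqe, map_mul, ← hfa, ← hfb, Equiv.Perm.mul_apply] at h7
    rcases hall ⟨e, mem_subgroupOf.mp he, he1⟩ with h | h | h <;> rw [h] at h7
    · rw [hb1, ha1] at h7; exact hvvw (congrArg Subtype.val h7).symm
    · rw [hb2, ha3] at h7; exact hne (congrArg Subtype.val h7)
    · rw [hb3, ha2] at h7; exact hwvw (congrArg Subtype.val h7)
  -- the action on the cosets of `L` in `E' L`
  set M := E' ⊔ L with hM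
  let g : M →* Equiv.Perm (M ⧸ L.subgroupOf M) := MulAction.toPermHom M _
  have hLM : ∀ l ∈ L, l ∈ M := fun l hl => mem_sup_right hl
  have hcard : Nat.card (M ⧸ L.subgroupOf M) = 4 := by
    let φ : E' → M ⧸ L.subgroupOf M := fun e => ((⟨e.1, mem_sup_left e.2⟩ : M) : M ⧸ L.subgroupOf M)
    have hφ : Function.Bijective φ := by
      refine ⟨fun e₁ e₂ h => ?_, fun z => ?_⟩
      · have h1 := mem_subgroupOf.mp (QuotientGroup.eq.mp h)
        exact Subtype.ext (inv_mul_eq_one.mp (hLE _ (E'.mul_mem (E'.inv_mem e₁.2) e₂.2) h1))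
      · obtain ⟨⟨m, hm⟩, rfl⟩ := QuotientGroup.mk_surjective z
        have hm' := hm
        rw [hM, ← SetLike.mem_coe, Subgroup.normal_mul] at hm'
        obtain ⟨e, he, l, hl, hel⟩ := hm'
        refine ⟨⟨e, he⟩, QuotientGroup.eq.mpr (mem_subgroupOf.mpr ?_)⟩
        show e⁻¹ * m ∈ L
        rw [← hel, inv_mul_cancel_left]; exact hl
    rw [← Nat.card_congr (Equiv.ofBijective φ hφ), Nat.card_congr (subgroupOfEquivOfLe le_normalizer).toEquiv]
    haveI : Fintype E := Fintype.ofFinite E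
    rw [Nat.card_eq_fintype_card]
    have hu : (Finset.univ : Finset E) = {1, ⟨v, hvE⟩, ⟨w, hwE⟩, ⟨v * w, mul_mem hvE hwE⟩} := by
      ext e
      simp only [Finset.mem_univ, Finset.mem_insert, Finset.mem_singleton, true_iff]
      rcases hEmem e e.2 with h | h | h | h
      · exact Or.inl (Subtype.ext h)
      · exact Or.inr (Or.inl (Subtype.ext h))
      · exact Or.inr (Or.inr (Or.inl (Subtype.ext h)))
      · exact Or.inr (Or.inr (Or.inr (Subtype.ext h)))
    rw [← Finset.card_univ, hu]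
    rw [Finset.card_insert_of_notMem, Finset.card_insert_of_notMem, Finset.card_insert_of_notMem,
      Finset.card_singleton]
    · simp only [Finset.mem_singleton]; exact fun h => hwvw (congrArg Subtype.val h)
    · simp only [Finset.mem_insert, Finset.mem_singleton, not_or]
      exact ⟨fun h => hne (congrArg Subtype.val h), fun h => hvvw (congrArg Subtype.val h)⟩
    · simp only [Finset.mem_insert, Finset.mem_singleton, not_or]
      exact ⟨fun h => hv (congrArg Subtype.val h).symm, fun h => hw (congrArg Subtype.val h).symm,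
        fun h => hvwne (congrArg Subtype.val h).symm⟩
  haveI : Finite (M ⧸ L.subgroupOf M) := Nat.finite_of_card_ne_zero (by omega)
  -- the kernel centralizes `E`
  have hker : ∀ x : M, g x = 1 → f (x : H) = 1 := by
    intro x hx
    have hmem : ∀ m : M, ((m⁻¹ * x * m : M) : H) ∈ L := by
      intro m
      have h1 : ((x * m : M) : M ⧸ L.subgroupOf M) = (m : M) :=
        (DFunLike.congr_fun hx ((m : M ⧸ L.subgroupOf M)) : _)
      have h2 := mem_subgroupOf.mp (QuotientGroup.eq.mp h1.symm)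
      rw [mul_assoc]; exact h2
    have hxL : (x : H) ∈ L := by simpa using hmem 1
    refine Equiv.ext fun e => Subtype.ext ?_
    rw [hfval]
    set ε : H := ⟨e.1, le_normalizer e.2.1⟩
    have hεE : ε ∈ E' := e.2.1
    have h1 : ε⁻¹ * (x : H) * ε ∈ L := hmem ⟨ε, mem_sup_left hεE⟩
    have h2 : (x : H)⁻¹ * ε⁻¹ * (x : H) * ε ∈ L := by
      simpa [mul_assoc] using L.mul_mem (L.inv_mem hxL) h1
    have h3 : (x : H)⁻¹ * ε⁻¹ * (x : H) * ε ∈ E' := by
      have := Subgroup.Normal.conj_mem (inferInstance : E'.Normal) _ (E'.inv_mem hεE) (x : H)⁻¹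
      rw [inv_inv] at this
      exact E'.mul_mem this hεE
    have h4 := congrArg Subtype.val (hLE _ h3 h2)
    simp only [Subgroup.coe_mul, InvMemClass.coe_inv, OneMemClass.coe_one] at h4
    show ((x : H) : G) * e.1 * ((x : H) : G)⁻¹ = e.1
    have h5 : ((x : H) : G) * e.1 = e.1 * ((x : H) : G) := by
      calc ((x : H) : G) * e.1 = ((x : H) : G) * e.1 *
            ((((x : H) : G))⁻¹ * (e.1)⁻¹ * ((x : H) : G) * e.1)⁻¹⁻¹ * (1 : G) := by rw [inv_inv, h4]; group
        _ = _ := by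
          rw [inv_inv]
          have h6 : ((x : H) : G)⁻¹ * (e.1)⁻¹ * ((x : H) : G) * e.1 = 1 := h4
          have h7 : (e.1)⁻¹ * ((x : H) : G) * e.1 = ((x : H) : G) := by
            have := congrArg (((x : H) : G) * ·) h6
            simpa [mul_assoc] using this
          rw [h6, mul_one, mul_one]
          nth_rewrite 2 [← h7]
          group
    rw [h5, mul_inv_cancel_right]
  have hgs : Function.Surjective g := by
    rw [← MonoidHom.range_eq_top]
    refine eq_top_of_le_card _ ?_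
    rw [Nat.card_perm, hcard, ← index_ker]
    -- `g` has kernel inside `L` and inside the centralizer of `E`
    set C := f.ker.subgroupOf M ⊓ L.subgroupOf M with hC
    have hle : g.ker ≤ C := fun x hx => ⟨mem_subgroupOf.mpr (hker x hx), by
      have h1 : ((x * 1 : M) : M ⧸ L.subgroupOf M) = ((1 : M) : M ⧸ L.subgroupOf M) :=
        (DFunLike.congr_fun hx (((1 : M) : M ⧸ L.subgroupOf M)) : _)
      have h2 := QuotientGroup.eq.mp h1.symm
      simpa using h2⟩
    refine le_trans ?_ (Nat.le_of_dvd (Nat.pos_of_ne_zero index_ne_zero_of_finite) (index_dvd_of_le hle))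
    have h1 : (L.subgroupOf M).index = 4 := hcard
    have h2 : C.relIndex (L.subgroupOf M) = 6 := by
      rw [hC, inf_relIndex_right, show f.ker.subgroupOf M = (f.comp M.subtype).ker from rfl]
      rw [relIndex, show ((f.comp M.subtype).ker).subgroupOf (L.subgroupOf M) =
        ((f.comp M.subtype).comp (L.subgroupOf M).subtype).ker from rfl, index_ker,
        MonoidHom.range_eq_top.mpr (fun y => by
          obtain ⟨l, hl, hly⟩ := hfL y
          exact ⟨⟨⟨l, hLM l hl⟩, hl⟩, hly⟩), Subgroup.card_top, Nat.card_perm, Nat.card_eq_fintype_card, hX]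
      rfl
    have h3 := relIndex_mul_index (inf_le_right : C ≤ L.subgroupOf M)
    rw [h1, h2] at h3
    rw [← h3]
    rfl
  let e : M ⧸ L.subgroupOf M ≃ Fin 4 := (Finite.equivFin _).trans (finCongr hcard)
  exact H74.S4Section.involves_of_surjective (M := M.map H.subtype)
    (((Equiv.permCongrHom e).toMonoidHom.comp g).comp
      (M.equivMapOfInjective H.subtype H.subtype_injective).symm.toMonoidHom)
    (((Equiv.permCongrHom e).surjective.comp hgs).comp
      (M.equivMapOfInjective H.subtype H.subtype_injective).symm.surjective)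

variable {G : Type*} [Group G] [Finite G]

theorem maxFam_le_pCore (hS4 : ¬ Cfsg.Involves (Equiv.Perm (Fin 4)) G)
    (hcs : centralizer (Cfsg.pCore 2 G : Set G) ≤ Cfsg.pCore 2 G) (S : Sylow 2 G)
    (hcl : ∀ a ∈ (S : Subgroup G), ∀ b ∈ (S : Subgroup G), ∀ c ∈ (S : Subgroup G), ⁅⁅a, b⁆, c⁆ = 1)
    (A : Subgroup G) (hA : A ∈ H11.maxFam (fun A : Subgroup G => Cfsg.IsElementaryAbelian 2 A) (S : Subgroup G)) :
    A ≤ Cfsg.pCore 2 G := by
  classical
  haveI : Fact (Nat.Prime 2) := ⟨Nat.prime_two⟩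
  haveI := H1.pCore_normal' 2 G
  set Q := Cfsg.pCore 2 G with hQ
  have hQS : Q ≤ (S : Subgroup G) := H1.pCore_le_sylow S
  have hQp : IsPGroup 2 Q := H1.isPGroup_pCore 2 G
  set ZQ := Q ⊓ centralizer (Q : Set G) with hZQ
  haveI : (centralizer (Q : Set G)).Normal := inferInstanceAs (Subgroup.centralizer _).Normal
  haveI hZQn : ZQ.Normal := inferInstance
  have hZQc : ∀ x ∈ ZQ, ∀ y ∈ ZQ, x * y = y * x := fun x hx y hy =>
    mem_centralizer_iff.mp hy.2 x hx.1
  let Z : Subgroup G :=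
    { carrier := {x | x ∈ ZQ ∧ x * x = 1}
      one_mem' := ⟨one_mem _, one_mul 1⟩
      mul_mem' := fun {x y} hx hy => ⟨mul_mem hx.1 hy.1, by
        rw [mul_assoc, ← mul_assoc y x y, hZQc y hy.1 x hx.1, mul_assoc x y y, hy.2, mul_one, hx.2]⟩
      inv_mem' := fun {x} hx => ⟨inv_mem hx.1, by rw [← mul_inv_rev, hx.2, inv_one]⟩ }
  haveI hZn : Z.Normal := ⟨fun x hx c => ⟨hZQn.conj_mem x hx.1 c, by rw [conj_mul, hx.2]; group⟩⟩
  have hZS : ∀ x ∈ Z, x ∈ (S : Subgroup G) := fun x hx => hQS hx.1.1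
  let Nn : Subgroup G :=
    { carrier := {c | ∀ q ∈ Q, c * q * c⁻¹ * q⁻¹ ∈ ZQ}
      one_mem' := fun q _ => by simp [one_mem]
      mul_mem' := fun {c d} hc hd q hq => by
        rw [show c * d * q * (c * d)⁻¹ * q⁻¹ = c * (d * q * d⁻¹ * q⁻¹) * c⁻¹ * (c * q * c⁻¹ * q⁻¹) by group]
        exact mul_mem (hZQn.conj_mem _ (hd q hq) c) (hc q hq)
      inv_mem' := fun {c} hc q hq => by
        rw [show c⁻¹ * q * c⁻¹⁻¹ * q⁻¹ = c⁻¹ * (c * q * c⁻¹ * q⁻¹)⁻¹ * c⁻¹⁻¹ by group]
        exact hZQn.conj_mem _ (inv_mem (hc q hq)) c⁻¹ }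
  have hSN : (S : Subgroup G) ≤ Nn := by
    intro s hs q hq
    refine ⟨Q.mul_mem ((H1.pCore_normal' 2 G).conj_mem q hq s) (Q.inv_mem hq), mem_centralizer_iff.mpr fun r hr => ?_⟩
    have := hcl s hs q (hQS hq) r (hQS hr)
    rw [commutatorElement_eq_one_iff_mul_comm, commutatorElement_def] at this
    exact this.symm
  haveI : Nn.Normal := ⟨fun c hc d q hq => by
    have h1 := hZQn.conj_mem _ (hc (d⁻¹ * q * d) (by simpa using (H1.pCore_normal' 2 G).conj_mem q hq d⁻¹)) d
    rw [show d * c * d⁻¹ * q * (d * c * d⁻¹)⁻¹ * q⁻¹ = d * (c * (d⁻¹ * q * d) * c⁻¹ * (d⁻¹ * q * d)⁻¹) * d⁻¹ by group]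
    exact h1⟩
  letI : CommGroup Z :=
    { (inferInstance : Group Z) with mul_comm := fun x y => Subtype.ext (hZQc x.1 x.2.1 y.1 y.2.1) }
  let ψ : Nn →* MulAut Z :=
    { toFun := fun c =>
        { toFun := fun x => ⟨(c : G) * x * (c : G)⁻¹, hZn.conj_mem x.1 x.2 c⟩
          invFun := fun x => ⟨(c : G)⁻¹ * x * (c : G), by simpa using hZn.conj_mem x.1 x.2 (c : G)⁻¹⟩
          left_inv := fun x => Subtype.ext (show (c : G)⁻¹ * ((c : G) * x * (c : G)⁻¹) * (c : G) = x by group)
          right_inv := fun x => Subtype.ext (show (c : G) * ((c : G)⁻¹ * x * (c : G)) * (c : G)⁻¹ = x by group)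
          map_mul' := fun x y => Subtype.ext (show (c : G) * ((x : G) * y) * (c : G)⁻¹ =
            ((c : G) * x * (c : G)⁻¹) * ((c : G) * y * (c : G)⁻¹) by group) }
      map_one' := MulEquiv.ext fun x => Subtype.ext (show (1 : G) * x * (1 : G)⁻¹ = x by group)
      map_mul' := fun c d => MulEquiv.ext fun x => Subtype.ext (show (c : G) * d * x * ((c : G) * d)⁻¹ =
        (c : G) * ((d : G) * x * (d : G)⁻¹) * (c : G)⁻¹ by group) }
  have hψ : ∀ (c : Nn) (x : Z), (ψ c x : G) = c * x * (c : G)⁻¹ := fun _ _ => rfl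
  have hdd : ∀ (c : Nn) (x : Z), ((dd ψ c x : Z) : G) = c * x * (c : G)⁻¹ * (x : G)⁻¹ := by
    intro c x
    rw [dd, div_eq_mul_inv, Subgroup.coe_mul, InvMemClass.coe_inv, hψ]
  have h2 : ∀ x : Z, x * x = 1 := fun x => Subtype.ext x.2.2
  have hquad : ∀ T : Subgroup Nn, IsPGroup 2 (T.map ψ) → ∀ a ∈ T, ∀ b ∈ T, ∀ x, dd ψ a (dd ψ b x) = 1 := by
    intro T hT a ha b hb x
    obtain ⟨R⟩ := (inferInstance : Nonempty (Sylow 2 T))
    have hs := ψ.subgroupMap_surjective T
    have htop : ((R.mapSurjective hs) : Subgroup (T.map ψ)) = ⊤ :=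
      ((R.mapSurjective hs).is_maximal' (hT.to_subgroup ⊤) le_top).symm
    rw [Sylow.coe_mapSurjective] at htop
    have hlift : ∀ c ∈ T, ∃ r : T, r ∈ (R : Subgroup T) ∧ ψ (r : Nn) = ψ c := fun c hc => by
      obtain ⟨r, hr, hre⟩ := htop.ge (mem_top (⟨ψ c, c, hc, rfl⟩ : T.map ψ))
      exact ⟨r, hr, congrArg Subtype.val hre⟩
    obtain ⟨ra, hra, hrae⟩ := hlift a ha
    obtain ⟨rb, hrb, hrbe⟩ := hlift b hb
    obtain ⟨R', hR'⟩ := ((R.isPGroup'.map T.subtype).map Nn.subtype).exists_le_sylow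
    obtain ⟨d, hd⟩ := MulAction.exists_smul_eq G R' S
    have hmem : ∀ r : T, r ∈ (R : Subgroup T) → d * ((r : Nn) : G) * d⁻¹ ∈ (S : Subgroup G) := by
      intro r hr
      rw [← hd, Sylow.coe_subgroup_smul, mem_pointwise_smul_iff_inv_smul_mem]
      simpa [mul_assoc] using hR' ⟨_, ⟨r, hr, rfl⟩, rfl⟩
    have e : dd ψ a (dd ψ b x) = dd ψ (ra : Nn) (dd ψ (rb : Nn) x) := by
      simp only [dd, hrae, hrbe]
    rw [e]
    set sa := d * ((ra : Nn) : G) * d⁻¹
    set sb := d * ((rb : Nn) : G) * d⁻¹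
    set z := d * (x : G) * d⁻¹
    have hzS : z ∈ (S : Subgroup G) := hZS _ (hZn.conj_mem x.1 x.2 d)
    have hk := hcl sb (hmem rb hrb) z hzS sa (hmem ra hra)
    apply Subtype.ext
    rw [hdd, hdd, OneMemClass.coe_one]
    rw [commutatorElement_eq_one_iff_mul_comm] at hk
    have hk' : sa * ⁅sb, z⁆ * sa⁻¹ * ⁅sb, z⁆⁻¹ = 1 := by rw [← hk]; group
    rw [commutatorElement_def] at hk'
    have e2 : d * (((ra : Nn) : G) * (((rb : Nn) : G) * x * ((rb : Nn) : G)⁻¹ * (x : G)⁻¹) * ((ra : Nn) : G)⁻¹ *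
        (((rb : Nn) : G) * x * ((rb : Nn) : G)⁻¹ * (x : G)⁻¹)⁻¹) * d⁻¹ =
        sa * (sb * z * sb⁻¹ * z⁻¹) * sa⁻¹ * (sb * z * sb⁻¹ * z⁻¹)⁻¹ := by
      simp only [sa, sb, z]; group
    rw [hk'] at e2
    exact conj_eq_one_iff.mp e2
  have hnat : ¬ HasNaturalGL22 ψ := by
    rintro ⟨a, b, v, w, hv, hw, hne, hbv, haw, hav, hbw⟩
    exact hS4 (involves_of_four (a : G) b (v : G) w v.2.2 w.2.2 (hZQc _ v.2.1 _ w.2.1)
      (fun h => hv (Subtype.ext h)) (fun h => hw (Subtype.ext h)) (fun h => hne (Subtype.ext h))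
      (congrArg Subtype.val hbv) (congrArg Subtype.val haw) (congrArg Subtype.val hav)
      (congrArg Subtype.val hbw))
  set A' := A.subgroupOf Nn with hA'
  have hAN : A ≤ Nn := hA.1.trans hSN
  have hA2 : IsPGroup 2 (A'.map ψ) :=
    ((S.isPGroup'.to_le hA.1).comap_of_injective Nn.subtype Nn.subtype_injective).map ψ
  have hbest : ∀ B : Subgroup Nn, B ≤ A' →
      Nat.card B * Nat.card (fixG ψ B) ≤ Nat.card A' * Nat.card (fixG ψ A') := by
    intro B hB
    set B₀ := B.map Nn.subtype with hB₀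
    have hB₀A : B₀ ≤ A := by
      rintro _ ⟨b, hb, rfl⟩; exact hB hb
    set F := (fixG ψ B).map Z.subtype with hF
    have hFZ : ∀ x ∈ F, x ∈ Z := by rintro _ ⟨x, -, rfl⟩; exact x.2
    have hcomm : ∀ b ∈ B₀, ∀ x ∈ F, b * x = x * b := by
      rintro _ ⟨b, hb, rfl⟩ _ ⟨x, hx, rfl⟩
      exact mul_inv_eq_iff_eq_mul.mp (congrArg Subtype.val (hx b hb))
    have hsupA : Cfsg.IsElementaryAbelian 2 (B₀ ⊔ F : Subgroup G) := by
      have hFc : ∀ x ∈ F, ∀ y ∈ F, x * y = y * x := fun x hx y hy => hZQc _ (hFZ x hx).1 _ (hFZ y hy).1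
      have hab : IsMulCommutative (B₀ ⊔ F : Subgroup G) :=
        H11.isMulCommutative_sup (H11.isMulCommutative_of_le hA.2.1.1 hB₀A)
          (H11.isMulCommutative_of_commute hFc) hcomm
      refine ⟨hab, fun y hy => ?_⟩
      have hnorm : B₀ ≤ normalizer (F : Set G) := fun b hb =>
        centralizer_le_normalizer _ (mem_centralizer_iff.mpr fun x hx => (hcomm b hb x hx).symm)
      rw [← SetLike.mem_coe, coe_mul_of_left_le_normalizer_right B₀ F hnorm] at hy
      obtain ⟨b, hb, x, hx, rfl⟩ := hy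
      rw [(show Commute b x from hcomm b hb x hx).mul_pow, hA.2.1.2 b (hB₀A hb), pow_two, (hFZ x hx).2, mul_one]
    have hle := hA.2.2 (B₀ ⊔ F) (sup_le (hB₀A.trans hA.1) fun x hx => hZS x (hFZ x hx)) hsupA
    have hfixA : ∀ x : Z, x ∈ fixG ψ A' ↔ (x : G) ∈ A := by
      intro x
      refine ⟨fun hx => H11.mem_of_commute_maxFam_elem hA (hZS x x.2) (by rw [pow_two]; exact x.2.2)
        fun a ha => mul_inv_eq_iff_eq_mul.mp (congrArg Subtype.val (hx ⟨a, hAN ha⟩ ha)), fun hx c hc => ?_⟩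
      refine Subtype.ext ?_
      rw [hψ, (H11.comm_of_mulCommutative hA.2.1.1 (mem_subgroupOf.mp hc) hx).eq, mul_inv_cancel_right]
    have hinf : Nat.card ↥(B₀ ⊓ F) ≤ Nat.card (fixG ψ A') := by
      refine Nat.card_le_card_of_injective
        (fun x : ↥(B₀ ⊓ F) => (⟨⟨x.1, hFZ _ x.2.2⟩, (hfixA _).mpr (hB₀A x.2.1)⟩ : fixG ψ A')) ?_
      intro x y hxy
      exact Subtype.ext (congrArg (fun t : fixG ψ A' => ((t : Z) : G)) hxy)
    have hmul : Nat.card B₀ * Nat.card F = Nat.card ↥(B₀ ⊔ F) * Nat.card ↥(B₀ ⊓ F) := by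
      have h1 := relIndex_mul_relIndex ⊥ (B₀ ⊓ F) B₀ bot_le inf_le_left
      have h2 := relIndex_mul_relIndex ⊥ F (B₀ ⊔ F) bot_le le_sup_right
      have hnorm : B₀ ≤ normalizer (F : Set G) := fun b hb =>
        centralizer_le_normalizer _ (mem_centralizer_iff.mpr fun x hx => (hcomm b hb x hx).symm)
      rw [relIndex_bot_left, relIndex_bot_left, inf_relIndex_left] at h1
      haveI : (F.subgroupOf (B₀ ⊔ F)).Normal := normal_subgroupOf_of_le_normalizer (sup_le hnorm le_normalizer)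
      have e1 : F.relIndex (B₀ ⊔ F) = F.relIndex B₀ := by
        rw [← relIndex_subgroupOf (H := F) (le_refl (B₀ ⊔ F)), ← relIndex_subgroupOf (H := F) (le_sup_left : B₀ ≤ B₀ ⊔ F),
          subgroupOf_sup le_sup_left le_sup_right, relIndex_sup_right]
      rw [relIndex_bot_left, relIndex_bot_left, e1] at h2
      rw [← h1, ← h2]; ring
    calc Nat.card B * Nat.card (fixG ψ B) = Nat.card B₀ * Nat.card F := by
          rw [hB₀, hF, card_map_of_injective Nn.subtype_injective, card_map_of_injective Z.subtype_injective]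
      _ = Nat.card ↥(B₀ ⊔ F) * Nat.card ↥(B₀ ⊓ F) := hmul
      _ ≤ Nat.card A * Nat.card (fixG ψ A') := Nat.mul_le_mul hle hinf
      _ = Nat.card A' * Nat.card (fixG ψ A') := by rw [Nat.card_congr (subgroupOfEquivOfLe hAN).toEquiv]
  have hmain := best_offender h2 (Nat.card Nn) Nn le_rfl ψ hquad hnat A' hA2 hbest
  -- the kernel is a 2-group
  have hker : ∀ c : Nn, ¬ 2 ∣ orderOf c → ψ c = 1 → c = 1 := by
    intro c hc hc1
    have hco : ¬ 2 ∣ orderOf (c : G) := by rwa [Subgroup.orderOf_coe]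
    have hZfix : ∀ x ∈ Z, (c : G) * x = x * c := fun x hx => mul_inv_eq_iff_eq_mul.mp
      (congrArg (fun t : MulAut Z => ((t ⟨x, hx⟩ : Z) : G)) hc1)
    have hZQfix : ∀ j, ∀ x ∈ ZQ, x ^ 2 ^ j = 1 → (c : G) * x = x * c := by
      intro j
      induction j with
      | zero => intro x _ hx; rw [pow_zero, pow_one] at hx; rw [hx, one_mul, mul_one]
      | succ j ihj =>
        intro x hx hxp
        set δ := (c : G) * x * (c : G)⁻¹ * x⁻¹ with hδ
        have hxc : (c : G) * x * (c : G)⁻¹ ∈ ZQ := hZQn.conj_mem x hx c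
        have hδZ : δ ∈ Z := by
          refine ⟨mul_mem hxc (inv_mem hx), ?_⟩
          have h1 := ihj (x * x) (mul_mem hx hx) (by rw [← pow_two, ← pow_mul, ← pow_succ']; exact hxp)
          have h2 : (c : G) * x * (c : G)⁻¹ * ((c : G) * x * (c : G)⁻¹) = x * x := by
            rw [show (c : G) * x * (c : G)⁻¹ * ((c : G) * x * (c : G)⁻¹) = (c : G) * (x * x) * (c : G)⁻¹ by group,
              h1, mul_inv_cancel_right]
          have hcomm : Commute ((c : G) * x * (c : G)⁻¹) x⁻¹ := hZQc _ hxc _ (inv_mem hx)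
          have h3 := hcomm.mul_pow 2
          rw [pow_two, pow_two, pow_two, h2, ← mul_inv_rev, mul_inv_cancel] at h3
          exact h3
        exact Cfsg.Comp.commute_of_commutator_commute hQp hco hδZ.1.1 (hZfix δ hδZ)
    have hcQ : (c : G) ∈ centralizer (Q : Set G) := by
      refine mem_centralizer_iff.mpr fun q hq => ?_
      obtain ⟨j, hj⟩ := hQp ⟨_, (c.2 q hq).1⟩
      have h1 := hZQfix j _ (c.2 q hq) (congrArg Subtype.val hj)
      exact (Cfsg.Comp.commute_of_commutator_commute hQp hco (c.2 q hq).1 h1).symm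
    have hcQ' := hcs hcQ
    obtain ⟨j, hj⟩ := hQp ⟨c, hcQ'⟩
    refine Subtype.ext (orderOf_eq_one_iff.mp (Nat.eq_one_of_dvd_coprimes ?_
      (orderOf_dvd_of_pow_eq_one (congrArg Subtype.val hj)) dvd_rfl))
    exact ((Nat.prime_two.coprime_iff_not_dvd).mpr hco).pow_left j
  haveI := H1.pCore_normal' 2 ψ.range
  set P0 := (Cfsg.pCore 2 ψ.range).comap ψ.rangeRestrict with hP0
  haveI : P0.Normal := Subgroup.Normal.comap inferInstance _
  have hP0p : IsPGroup 2 P0 := by
    refine (H1.isPGroup_pCore 2 _).comap_of_ker_isPGroup ψ.rangeRestrict ?_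
    intro c
    refine ⟨(orderOf (c : Nn)).factorization 2, Subtype.ext ?_⟩
    rw [SubmonoidClass.coe_pow]
    refine hker _ ?_ ?_
    · rw [orderOf_pow_of_dvd (pow_ne_zero _ two_ne_zero) (Nat.ordProj_dvd _ _)]
      exact Nat.not_dvd_ordCompl Nat.prime_two (orderOf_pos _).ne'
    · rw [map_pow, show ψ (c : Nn) = 1 from congrArg Subtype.val c.2, one_pow]
  intro a ha
  have h1 : (⟨a, hAN ha⟩ : Nn) ∈ P0 := hmain ⟨_, ha, rfl⟩
  have h2 : (Nn.subtype ⟨a, hAN ha⟩) ∈ (Cfsg.pCore 2 Nn).map Nn.subtype :=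
    mem_map_of_mem _ (H1.le_pCore hP0p h1)
  rw [H1.pCore_subgroup_map_eq] at h2
  exact h2.1

theorem thompson_normal (hS4 : ¬ Cfsg.Involves (Equiv.Perm (Fin 4)) G)
    (hcs : centralizer (Cfsg.pCore 2 G : Set G) ≤ Cfsg.pCore 2 G) (S : Sylow 2 G)
    (hcl : ∀ a ∈ (S : Subgroup G), ∀ b ∈ (S : Subgroup G), ∀ c ∈ (S : Subgroup G), ⁅⁅a, b⁆, c⁆ = 1) :
    normalizer (Cfsg.thompsonSubgroupOf 2 (S : Subgroup G) : Set G) = ⊤ := by
  haveI : Fact (Nat.Prime 2) := ⟨Nat.prime_two⟩
  have hQS : Cfsg.pCore 2 G ≤ (S : Subgroup G) := H1.pCore_le_sylow S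
  have hsub := maxFam_le_pCore hS4 hcs S hcl
  obtain ⟨A, hA⟩ := H11.maxFam_nonempty (P := fun A : Subgroup G => Cfsg.IsElementaryAbelian 2 A)
    ⟨H11.isMulCommutative_bot, fun a ha => by rw [mem_bot.mp ha, one_pow]⟩ (S : Subgroup G)
  have heq : H11.maxFam (fun A : Subgroup G => Cfsg.IsElementaryAbelian 2 A) (S : Subgroup G) =
      H11.maxFam (fun A : Subgroup G => Cfsg.IsElementaryAbelian 2 A) (Cfsg.pCore 2 G) := by
    refine Set.Subset.antisymm (fun B hB => H11.mem_maxFam_of_mem hQS hB (hsub B hB)) ?_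
    exact H11.maxFam_subset_of_mem hQS hA (hsub A hA)
  rw [H11.thompsonSubgroupOf_eq, heq, ← H11.thompsonSubgroupOf_eq, eq_top_iff]
  haveI := H1.pCore_normal' 2 G
  refine le_trans (le_of_eq ?_) (H1.normalizer_le_normalizer_thompsonSubgroupOf 2 (Cfsg.pCore 2 G))
  exact (normalizer_eq_top _).symm

end H72
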