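import Cfsg.Agent.H72.StableQuotientOdd
import Cfsg.Agent.H72.ClassCore

/-!
Normalizer `p`-stable groups form a stable class for every odd prime.
-/

set_option autoImplicit false
open Cfsg

namespace H72

universe u

theorem stableClass_normalizerPStable (p : ℕ) [Fact p.Prime] (hp : p ≠ 2) :
    StableClass.{u} p (fun H [Group H] => Cfsg.IsNormalizerPStable p H) where
  stable := fun _ _ _ h => h
  inj := fun {H K} _ _ _ f hf h => stable_of_injective f hf h
  quot := fun _ _ _ h Z _ hZc hZp => isNormalizerPStable_quotient_central_odd hp h Z hZc hZp

end H72
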