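/-
For `p` odd, normalizer `p`-stability passes to quotients by central `p`-subgroups.
-/
import Mathlib
import Cfsg.Prelude.Def_LocalEven
import Cfsg.Agent.CompBasic
import Cfsg.Agent.H65.BaerSuzuki
import Cfsg.Agent.H76.Basic
import Cfsg.Agent.H88.GroupPStable
import Cfsg.Agent.H72.QuadPairOdd

set_option autoImplicit false
open Cfsg
open scoped commutatorElement

namespace H72

variable {G : Type*} [Group G] [Finite G] {p : ℕ} [Fact p.Prime]

theorem stable_pair_false_odd (hp : p ≠ 2) (hst : Cfsg.IsNormalizerPStable p G) (Z : Subgroup G)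
    (hZc : Z ≤ Subgroup.center G) (P : Subgroup G) (hP : IsPGroup p P) (x y : G)
    (hxN : x ∈ Subgroup.normalizer (P : Set G)) (hyN : y ∈ Subgroup.normalizer (P : Set G))
    (hx : ∀ u ∈ P, ⁅x, ⁅x, u⁆⁆ ∈ Z) (hy : ∀ u ∈ P, ⁅y, ⁅y, u⁆⁆ ∈ Z)
    (h : ∃ l ∈ Subgroup.closure ({x, y} : Set G), ¬ p ∣ orderOf l ∧ l ∉ Subgroup.centralizer (P : Set G)) :
    False := by
  classical
  have hp' := (Fact.out : p.Prime)
  have hpodd : Odd p := hp'.odd_of_ne_two hp
  set L := Subgroup.closure ({x, y} : Set G) with hL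
  set GK : Set G := {g | g ∈ L ∧ ¬ p ∣ orderOf g} with hGK
  have hLP : L ≤ Subgroup.normalizer (P : Set G) := by
    rw [hL, Subgroup.closure_le]
    rintro g (rfl | rfl)
    · exact hxN
    · exact hyN
  let Fam : Set (Subgroup G) :=
    {U | U ≤ P ∧ L ≤ Subgroup.normalizer (U : Set G) ∧ ∃ l ∈ GK, l ∉ Subgroup.centralizer (U : Set G)}
  obtain ⟨N0, ⟨hN0P, hLN0, k0, hk0, hk0c⟩, hmin⟩ := (Set.toFinite Fam).exists_minimal (by
    obtain ⟨l, hl, hlo, hlc⟩ := h
    exact ⟨P, le_rfl, hLP, l, ⟨hl, hlo⟩, hlc⟩)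
  have hN0p : IsPGroup p N0 := hP.to_le hN0P
  have hsmall : ∀ U : Subgroup G, U ≤ N0 → U ≠ N0 → L ≤ Subgroup.normalizer (U : Set G) →
      ∀ l ∈ GK, l ∈ Subgroup.centralizer (U : Set G) := by
    intro U hU hne hLU l hl
    by_contra hc
    exact hne (le_antisymm hU (hmin ⟨hU.trans hN0P, hLU, l, hl, hc⟩ hU))
  have hnormconj : ∀ U : Subgroup G, ∀ g ∈ Subgroup.normalizer (U : Set G),
      U.map ((MulAut.conj g : G ≃* G) : G →* G) = U := fun U g hg => Subgroup.mem_normalizer_iff_map_conj_eq.mp hg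
  set M := sSup {U : Subgroup G | U ≤ N0 ∧ U ≠ N0 ∧ L ≤ Subgroup.normalizer (U : Set G)} with hM
  have hleM : ∀ U : Subgroup G, U ≤ N0 → U ≠ N0 → L ≤ Subgroup.normalizer (U : Set G) → U ≤ M :=
    fun U h1 h2 h3 => le_sSup ⟨h1, h2, h3⟩
  have hMN0 : M ≤ N0 := sSup_le fun U hU => hU.1
  have hMfix : ∀ l ∈ GK, ∀ m ∈ M, m * l = l * m := by
    intro l hl m hm
    have hle : M ≤ Subgroup.centralizer ({l} : Set G) := sSup_le fun U hU u hu =>
      Subgroup.mem_centralizer_singleton_iff.mpr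
        (Subgroup.mem_centralizer_iff.mp (hsmall U hU.1 hU.2.1 hU.2.2 l hl) u hu)
    exact Subgroup.mem_centralizer_singleton_iff.mp (hle hm)
  have hMne : M ≠ N0 := fun e =>
    hk0c (Subgroup.mem_centralizer_iff.mpr fun u hu => hMfix k0 hk0 u (e.symm ▸ hu))
  have hLM : L ≤ Subgroup.normalizer (M : Set G) := by
    intro g hg
    refine Subgroup.mem_normalizer_iff_map_conj_eq.mpr (Subgroup.eq_of_le_of_card_ge ?_
      (Subgroup.card_map_of_injective (MulAut.conj g).injective).ge)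
    rw [Subgroup.map_le_iff_le_comap]
    refine sSup_le fun U hU => ?_
    rw [← Subgroup.map_le_iff_le_comap]
    refine hleM _ ?_ ?_ ?_
    · rw [hnormconj U g (hU.2.2 hg)]; exact hU.1
    · rw [hnormconj U g (hU.2.2 hg)]; exact hU.2.1
    · rw [hnormconj U g (hU.2.2 hg)]; exact hU.2.2
  have hN0bot : N0 ≠ ⊥ := fun e => hk0c (by
    rw [e, Subgroup.mem_centralizer_iff]
    intro u hu
    rw [Subgroup.mem_bot.mp hu, one_mul, mul_one])
  have hcommM : ⁅N0, N0⁆ ≤ M := by
    refine hleM _ (Subgroup.commutator_le_self N0) ?_ fun g hg => ?_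
    · intro e
      haveI : Nontrivial N0 := (Subgroup.nontrivial_iff_ne_bot N0).mpr hN0bot
      haveI : Group.IsNilpotent N0 := hN0p.isNilpotent
      have h1 := Group.IsSolvable.commutator_lt_top_of_nontrivial (G := N0)
      have h2 := (Subgroup.map_lt_map_iff_of_injective N0.subtype_injective).mpr h1
      rw [commutator_def, Subgroup.map_commutator, ← MonoidHom.range_eq_map, Subgroup.range_subtype, e] at h2
      exact lt_irrefl _ h2
    · refine Subgroup.mem_normalizer_iff_map_conj_eq.mpr ?_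
      rw [Subgroup.map_commutator, hnormconj N0 g (hLN0 hg)]
  have hN0M : N0 ≤ Subgroup.normalizer (M : Set G) := by
    intro n hn
    refine Subgroup.mem_normalizer_iff.mpr fun m => ⟨fun hm => ?_, fun hm => ?_⟩
    · rw [show n * m * n⁻¹ = ⁅n, m⁆ * m by rw [commutatorElement_def]; group]
      exact mul_mem (hcommM (Subgroup.commutator_mem_commutator hn (hMN0 hm))) hm
    · have hm0 : m ∈ N0 := by
        have := hMN0 hm
        rw [show m = n⁻¹ * (n * m * n⁻¹) * n by group]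
        exact mul_mem (mul_mem (inv_mem hn) this) hn
      rw [show m = ⁅n, m⁆⁻¹ * (n * m * n⁻¹) by rw [commutatorElement_def]; group]
      exact mul_mem (inv_mem (hcommM (Subgroup.commutator_mem_commutator hn hm0))) hm
  set K := Subgroup.closure GK with hK
  have hLK : L ≤ Subgroup.normalizer (K : Set G) := by
    intro g hg
    refine Subgroup.mem_normalizer_iff_map_conj_eq.mpr (Subgroup.eq_of_le_of_card_ge ?_
      (Subgroup.card_map_of_injective (MulAut.conj g).injective).ge)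
    rw [hK, MonoidHom.map_closure, Subgroup.closure_le]
    rintro _ ⟨l, hl, rfl⟩
    refine Subgroup.subset_closure ⟨mul_mem (mul_mem hg hl.1) (inv_mem hg), ?_⟩
    show ¬ p ∣ orderOf ((MulAut.conj g).toMonoidHom l)
    rw [orderOf_injective _ (MulAut.conj g).injective]
    exact hl.2
  have hKL : K ≤ L := (Subgroup.closure_le L).mpr fun g hg => hg.1
  have hKM : ⁅K, M⁆ = ⊥ := by
    rw [Subgroup.commutator_eq_bot_iff_le_centralizer, hK, Subgroup.closure_le]
    exact fun l hl => Subgroup.mem_centralizer_iff.mpr fun m hm => hMfix l hl m hm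
  have hNK : ⁅N0, K⁆ = N0 := by
    have hle : ⁅N0, K⁆ ≤ N0 := Subgroup.le_normalizer_iff_commutator_le_left.mp (hKL.trans hLN0)
    by_contra hne
    have h1 := hleM _ hle hne fun g hg => Subgroup.mem_normalizer_iff_map_conj_eq.mpr (by
      rw [Subgroup.map_commutator, hnormconj N0 g (hLN0 hg), hnormconj K g (hLK hg)])
    refine hk0c (Subgroup.mem_centralizer_iff.mpr fun u hu => ?_)
    have h2 : k0 * u * k0⁻¹ * u⁻¹ ∈ ⁅N0, K⁆ := by
      rw [Subgroup.commutator_comm, ← commutatorElement_def]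
      exact Subgroup.commutator_mem_commutator (Subgroup.subset_closure hk0) hu
    exact (Cfsg.Comp.commute_of_commutator_commute (hN0p.to_le hle) hk0.2 h2
      (hMfix k0 hk0 _ (h1 h2)).symm).symm
  have hMcent : M ≤ Subgroup.centralizer (N0 : Set G) := by
    have h1 : ⁅⁅K, M⁆, N0⁆ = ⊥ := by rw [hKM, Subgroup.commutator_bot_left]
    have h2 : ⁅⁅M, N0⁆, K⁆ = ⊥ := by
      rw [eq_bot_iff, ← hKM, Subgroup.commutator_comm K M]
      exact Subgroup.commutator_mono (Subgroup.le_normalizer_iff_commutator_le_left.mp hN0M) le_rfl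
    have h3 := Subgroup.commutator_commutator_eq_bot_of_rotate h1 h2
    rw [hNK] at h3
    rw [← Subgroup.commutator_eq_bot_iff_le_centralizer, Subgroup.commutator_comm]
    exact h3
  have hZM : Z ⊓ N0 ≤ M := by
    refine hleM _ inf_le_right (fun e => hk0c ?_) fun g _ => ?_
    · refine Subgroup.mem_centralizer_iff.mpr fun u hu => ?_
      exact (Subgroup.mem_center_iff.mp (hZc ((e.symm ▸ hu : u ∈ Z ⊓ N0).1)) k0).symm
    · refine Subgroup.centralizer_le_normalizer _ (Subgroup.mem_centralizer_iff.mpr fun u hu => ?_)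
      exact (Subgroup.mem_center_iff.mp (hZc hu.1) g).symm
  -- inside `N0`
  let χ : L →* MulAut N0 := (Subgroup.normalizerMonoidHom N0).comp (Subgroup.inclusion hLN0)
  have hχ : ∀ (l : L) (n : N0), ((χ l n : N0) : G) = (l : G) * n * (l : G)⁻¹ := fun _ _ => rfl
  set M0 : Subgroup N0 := M.subgroupOf N0 with hM0
  have hM0c : ∀ m ∈ M0, ∀ n : N0, n * m = m * n := fun m hm n =>
    Subtype.ext (Subgroup.mem_centralizer_iff.mp (hMcent (Subgroup.mem_subgroupOf.mp hm)) (n : G) n.2)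
  haveI : M0.Normal := ⟨fun m hm n => by rw [hM0c m hm n, mul_inv_cancel_right]; exact hm⟩
  have hM0map : ∀ l : L, M0.map (χ l).toMonoidHom = M0 := by
    intro l
    refine Subgroup.eq_of_le_of_card_ge ?_ (Subgroup.card_map_of_injective (χ l).injective).ge
    rintro _ ⟨m, hm, rfl⟩
    show ((χ l m : N0) : G) ∈ M
    rw [hχ]
    exact (Subgroup.mem_normalizer_iff.mp (hLM l.2) _).mp hm
  letI : CommGroup (N0 ⧸ M0) :=
    { (inferInstance : Group (N0 ⧸ M0)) with
      mul_comm := by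
        intro a b
        induction a using QuotientGroup.induction_on
        rename_i a
        induction b using QuotientGroup.induction_on
        rename_i b
        rw [← QuotientGroup.mk_mul, ← QuotientGroup.mk_mul, QuotientGroup.eq]
        show (((a * b)⁻¹ * (b * a) : N0) : G) ∈ M
        rw [show (((a * b)⁻¹ * (b * a) : N0) : G) = ⁅((b⁻¹ : N0) : G), ((a⁻¹ : N0) : G)⁆ by
          simp [commutatorElement_def, mul_assoc]]
        exact hcommM (Subgroup.commutator_mem_commutator (b⁻¹ : N0).2 (a⁻¹ : N0).2) }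
  let σ : L →* MulAut (N0 ⧸ M0) :=
    { toFun := fun l => QuotientGroup.congr M0 M0 (χ l) (hM0map l)
      map_one' := by
        ext v; induction v using QuotientGroup.induction_on
        rename_i n
        show ((χ 1 n : N0) : N0 ⧸ M0) = _
        rw [map_one]; rfl
      map_mul' := fun l l' => by
        ext v; induction v using QuotientGroup.induction_on
        rename_i n
        show ((χ (l * l') n : N0) : N0 ⧸ M0) = _
        rw [map_mul]; rfl }
  have hσ : ∀ (l : L) (n : N0), σ l (n : N0 ⧸ M0) = ((χ l n : N0) : N0 ⧸ M0) := fun _ _ => rfl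
  let ρ : L →* AddMonoid.End (Additive (N0 ⧸ M0)) :=
    { toFun := fun l => MonoidHom.toAdditive (σ l).toMonoidHom
      map_one' := by rw [map_one]; rfl
      map_mul' := fun l l' => by rw [map_mul]; rfl }
  have hρ : ∀ (l : L) (v : Additive (N0 ⧸ M0)), ρ l v = Additive.ofMul (σ l (Additive.toMul v)) := fun _ _ => rfl
  have hρ1 : ∀ l : L, (∀ n : N0, (χ l n)⁻¹ * n ∈ M0) → ρ l = 1 := by
    intro l hl
    refine AddMonoidHom.ext fun v => ?_
    obtain ⟨n, hn⟩ := QuotientGroup.mk_surjective (Additive.toMul v)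
    refine (hρ l v).trans ?_
    rw [← hn, hσ, (QuotientGroup.eq.mpr (hl n) : ((χ l n : N0) : N0 ⧸ M0) = n), hn]
    rfl
  have hρ1' : ∀ l : L, ρ l = 1 → ∀ n : N0, (χ l n)⁻¹ * n ∈ M0 := by
    intro l hl n
    refine QuotientGroup.eq.mp ?_
    exact Additive.ofMul.injective (DFunLike.congr_fun hl (Additive.ofMul (n : N0 ⧸ M0)))
  set Lx : L := ⟨x, Subgroup.subset_closure (Set.mem_insert _ _)⟩
  set Ly : L := ⟨y, Subgroup.subset_closure (Set.mem_insert_of_mem _ rfl)⟩
  have hgen : Subgroup.closure ({Lx, Ly} : Set L) = ⊤ := by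
    apply Subgroup.map_injective L.subtype_injective
    rw [MonoidHom.map_closure, Set.image_pair, ← MonoidHom.range_eq_map, Subgroup.range_subtype]
    exact hL.symm
  have hquad : ∀ l : L, (∀ u ∈ P, ⁅(l : G), ⁅(l : G), u⁆⁆ ∈ Z) → (ρ l - 1) * (ρ l - 1) = 0 := by
    intro l hl
    refine AddMonoidHom.ext fun v => ?_
    obtain ⟨n, hn⟩ := QuotientGroup.mk_surjective (Additive.toMul v)
    set d : N0 := χ l n * n⁻¹ with hd
    have h1 : ((χ l d * d⁻¹ : N0) : G) = ⁅(l : G), ⁅(l : G), (n : G)⁆⁆ := by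
      simp only [hd, Subgroup.coe_mul, Subgroup.coe_inv, hχ, commutatorElement_def]
    have h2 : χ l d * d⁻¹ ∈ M0 := by
      show ((χ l d * d⁻¹ : N0) : G) ∈ M
      exact hZM ⟨h1 ▸ hl (n : G) (hN0P n.2), (χ l d * d⁻¹).2⟩
    show Additive.ofMul (σ l (σ l (Additive.toMul v) / Additive.toMul v) /
      (σ l (Additive.toMul v) / Additive.toMul v)) = Additive.ofMul 1
    rw [← hn, hσ]
    have h3 : ((χ l n : N0) : N0 ⧸ M0) / (n : N0 ⧸ M0) = (d : N0 ⧸ M0) := by
      rw [div_eq_mul_inv]; rfl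
    rw [h3, hσ, div_eq_mul_inv, ← QuotientGroup.mk_inv, ← QuotientGroup.mk_mul,
      (QuotientGroup.eq_one_iff _).mpr h2]
  have hV : ∀ v : Additive (N0 ⧸ M0), p • v = 0 := by
    intro v
    obtain ⟨n, hn⟩ := QuotientGroup.mk_surjective (Additive.toMul v)
    apply Additive.toMul.injective
    rw [toMul_nsmul, toMul_zero, ← hn, ← QuotientGroup.mk_pow, QuotientGroup.eq_one_iff]
    set U : Subgroup N0 := M0 ⊔ Subgroup.closure (Set.range fun m : N0 => m ^ p) with hU
    have hUle : U.map N0.subtype ≤ M := by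
      refine hleM _ (Subgroup.map_subtype_le U) ?_ ?_
      · intro e
        apply hMne
        have hUtop : U = ⊤ := Subgroup.map_injective N0.subtype_injective
          (by rw [e, ← MonoidHom.range_eq_map, Subgroup.range_subtype])
        have hle : U ≤ M0 ⊔ frattini N0 := by
          refine sup_le le_sup_left ((Subgroup.closure_le _).mpr ?_)
          rintro _ ⟨m, rfl⟩
          exact Subgroup.mem_sup_right (H76.pow_mem_frattini hN0p m)
        have h0 : M0 = ⊤ := frattini_nongenerating (eq_top_iff.mpr (hUtop.ge.trans hle))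
        exact le_antisymm hMN0 (Subgroup.subgroupOf_eq_top.mp h0)
      · intro g hg
        refine Subgroup.mem_normalizer_iff_map_conj_eq.mpr (Subgroup.eq_of_le_of_card_ge ?_
          (Subgroup.card_map_of_injective (MulAut.conj g).injective).ge)
        rw [Subgroup.map_map, Subgroup.map_le_iff_le_comap, hU]
        refine sup_le (fun m hm => ?_) ((Subgroup.closure_le _).mpr ?_)
        · exact ⟨χ ⟨g, hg⟩ m, Subgroup.mem_sup_left ((hM0map ⟨g, hg⟩).le ⟨m, hm, rfl⟩), rfl⟩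
        · rintro _ ⟨m, rfl⟩
          exact ⟨χ ⟨g, hg⟩ (m ^ p),
            Subgroup.mem_sup_right (Subgroup.subset_closure ⟨χ ⟨g, hg⟩ m, (map_pow _ _ _).symm⟩), rfl⟩
    exact hUle ⟨n ^ p, Subgroup.mem_sup_right (Subgroup.subset_closure ⟨n, rfl⟩), rfl⟩
  have hirr : ∀ U : AddSubgroup (Additive (N0 ⧸ M0)), (∀ l : L, ∀ u ∈ U, ρ l u ∈ U) → U = ⊥ ∨ U = ⊤ := by
    intro U hU
    let S0 : Subgroup N0 := (AddSubgroup.toSubgroup' U).comap (QuotientGroup.mk' M0)
    by_cases hS : S0.map N0.subtype = N0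
    · refine Or.inr (eq_top_iff.mpr fun v _ => ?_)
      obtain ⟨n, hn⟩ := QuotientGroup.mk_surjective (Additive.toMul v)
      obtain ⟨m, hm, hmn⟩ := hS.ge n.2
      rw [Subtype.ext hmn] at hm
      have h1 : Additive.ofMul (n : N0 ⧸ M0) ∈ U := hm
      rwa [hn] at h1
    · refine Or.inl ((AddSubgroup.eq_bot_iff_forall U).mpr fun v hv => ?_)
      obtain ⟨n, hn⟩ := QuotientGroup.mk_surjective (Additive.toMul v)
      have hle := hleM _ (Subgroup.map_subtype_le S0) hS fun g hg => by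
        refine Subgroup.mem_normalizer_iff_map_conj_eq.mpr (Subgroup.eq_of_le_of_card_ge ?_
          (Subgroup.card_map_of_injective (MulAut.conj g).injective).ge)
        rintro _ ⟨_, ⟨m, hm, rfl⟩, rfl⟩
        exact ⟨χ ⟨g, hg⟩ m, hU ⟨g, hg⟩ _ hm, rfl⟩
      have hvn : n ∈ S0 := by
        show Additive.ofMul (n : N0 ⧸ M0) ∈ U
        rw [hn]; exact hv
      apply Additive.toMul.injective
      rw [← hn]
      exact (QuotientGroup.eq_one_iff n).mpr (hle ⟨n, hvn, rfl⟩)
  have hnp : ∃ l : L, ¬ p ∣ orderOf l ∧ ρ l ≠ 1 := by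
    refine ⟨⟨k0, hk0.1⟩, by rw [← Subgroup.orderOf_coe]; exact hk0.2, fun he => ?_⟩
    refine hk0c (Subgroup.mem_centralizer_iff.mpr fun u hu => ?_)
    have h1 : k0 * u * k0⁻¹ * u⁻¹ ∈ M := by
      have h := hρ1' _ he ⟨u, hu⟩
      have h' : (k0 * u * k0⁻¹)⁻¹ * u ∈ M := h
      rw [show k0 * u * k0⁻¹ * u⁻¹ = (k0 * u * k0⁻¹) * ((k0 * u * k0⁻¹)⁻¹ * u)⁻¹ * (k0 * u * k0⁻¹)⁻¹ by group]
      exact (Subgroup.mem_normalizer_iff.mp
        (hN0M ((Subgroup.mem_normalizer_iff.mp (hLN0 hk0.1) u).mp hu)) _).mp (inv_mem h')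
    exact (Cfsg.Comp.commute_of_commutator_commute (hN0p.to_le hMN0) hk0.2 h1 (hMfix k0 hk0 _ h1).symm).symm
  obtain ⟨⟨t₀, ht₀⟩, hcase₀⟩ := irred_quad_pair_odd hp hV ρ hgen (hquad Lx hx) (hquad Ly hy) hirr hnp
  obtain ⟨c, hc1, hcq, hcase⟩ : ∃ c : L, ρ c ≠ 1 ∧ (ρ c - 1) * (ρ c - 1) = 0 ∧
      (c ∈ Subgroup.closure {h : L | ¬ p ∣ orderOf h} ∨
        ∃ v : Additive (N0 ⧸ M0), ∀ w, ∃ k : ℕ, ρ c w - w = k • v) := by
    rcases hcase₀ with ⟨c, h1, h2, h3⟩ | ⟨h2, h4⟩
    · exact ⟨c, h2, h3, Or.inl h1⟩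
    · exact ⟨Lx, h2, hquad Lx hx, Or.inr h4⟩
  set e₀ := (orderOf t₀).factorization p
  set t := t₀ ^ p ^ e₀ with htdef
  have htp : ¬ p ∣ orderOf t := by
    rw [htdef, orderOf_pow_of_dvd (pow_ne_zero _ hp'.ne_zero) (Nat.ordProj_dvd _ _)]
    exact Nat.not_dvd_ordCompl hp' (orderOf_pos _).ne'
  have hnn : ∀ f : AddMonoid.End (Additive (N0 ⧸ M0)), -1 * f = -f := fun f =>
    AddMonoidHom.ext fun _ => rfl
  have hnn' : ∀ f : AddMonoid.End (Additive (N0 ⧸ M0)), f * -1 = -f := fun f =>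
    AddMonoidHom.ext fun v => map_neg f v
  have hneg2 : ∀ f : AddMonoid.End (Additive (N0 ⧸ M0)), - -f = f := fun f =>
    AddMonoidHom.ext fun v => neg_neg (f v)
  have hnpow : ∀ k : ℕ, (-1 : AddMonoid.End (Additive (N0 ⧸ M0))) ^ (2 * k + 1) = -1 := by
    intro k
    induction k with
    | zero => exact pow_one _
    | succ k ih =>
      rw [show 2 * (k + 1) + 1 = 2 * k + 1 + 1 + 1 by ring, pow_succ, pow_succ, ih, hnn', hnn, hneg2]
  have htρ : ρ t = -1 := by
    obtain ⟨k, hk⟩ := hpodd.pow (n := e₀)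
    rw [htdef, map_pow, ht₀, hk]; exact hnpow k
  have hKfix : ∀ l ∈ Subgroup.closure {l : L | ¬ p ∣ orderOf l}, ∀ m ∈ M0, χ l m = m := by
    intro l hl m hm
    induction hl using Subgroup.closure_induction with
    | mem l hl =>
      apply Subtype.ext
      rw [hχ, ← hMfix (l : G) ⟨l.2, by rw [Subgroup.orderOf_coe]; exact hl⟩ (m : G) hm, mul_inv_cancel_right]
    | one => rw [map_one]; rfl
    | mul l l' _ _ h1 h2 => rw [map_mul, MulAut.mul_apply, h2, h1]
    | inv l _ h1 =>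
      rw [map_inv]
      show (χ l).symm m = m
      exact (χ l).symm_apply_eq.mpr h1.symm
  have htK : t ∈ Subgroup.closure {l : L | ¬ p ∣ orderOf l} := Subgroup.subset_closure htp
  set rr := t * c * t⁻¹ * c⁻¹ with hrr
  have hrρ : ρ rr = 1 := by
    have h1 : ρ t⁻¹ = -1 := by
      have h2 : ρ t * ρ t⁻¹ = 1 := by rw [← map_mul, mul_inv_cancel, map_one]
      rw [htρ] at h2
      rw [hnn] at h2
      exact (hneg2 _).symm.trans (congrArg Neg.neg h2)
    have h3 : -1 * ρ c * -1 = ρ c := by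
      rw [hnn, hnn', hneg2]
    rw [hrr, map_mul, map_mul, map_mul, htρ, h1, h3, ← map_mul, mul_inv_cancel, map_one]
  have hrK : rr ∈ Subgroup.closure {l : L | ¬ p ∣ orderOf l} :=
    by
      rw [hrr, show t * c * t⁻¹ * c⁻¹ = t * (c * t⁻¹ * c⁻¹) by group]
      refine mul_mem htK (Subgroup.subset_closure ?_)
      show ¬ p ∣ orderOf (c * t⁻¹ * c⁻¹)
      rw [show c * t⁻¹ * c⁻¹ = (MulAut.conj c).toMonoidHom t⁻¹ from rfl,
        orderOf_injective _ (MulAut.conj c).injective, orderOf_inv]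
      exact htp
  have hM0odd : Odd (Nat.card M0) := by
    obtain ⟨k, hk⟩ := (hN0p.to_subgroup M0).exists_card_eq
    rw [hk]; exact hpodd.pow
  obtain ⟨m, hm⟩ := hM0odd
  set e := Nat.card M0 with he
  have hMexp : ∀ z ∈ M0, z ^ e = 1 := fun z hz => by
    have := pow_card_eq_one' (x := (⟨z, hz⟩ : M0))
    have h := congrArg Subtype.val this
    rw [SubmonoidClass.coe_pow] at h
    exact h
  set T := χ t with hT
  have hTM : ∀ z ∈ M0, T z = z := hKfix t htK
  have hTinv : ∀ n : N0, T n * n ∈ M0 := by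
    intro n
    have h1 := DFunLike.congr_fun htρ (Additive.ofMul (n : N0 ⧸ M0))
    have h2 : ((χ t n : N0) : N0 ⧸ M0) = ((n : N0 ⧸ M0))⁻¹ := Additive.ofMul.injective h1
    rw [← QuotientGroup.eq_one_iff, QuotientGroup.mk_mul, h2, inv_mul_cancel]
  have hTT : ∀ n : N0, T (T n) = n := by
    intro n
    have h1 : χ (t * t) n * n⁻¹ ∈ M0 := by
      have e1 : ρ (t * t) = 1 := by
        rw [map_mul, htρ]
        rw [hnn, hneg2]
      have h2 := hρ1' _ e1 n
      have h3 := inv_mem h2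
      rw [mul_inv_rev, inv_inv] at h3
      rw [show χ (t * t) n * n⁻¹ = n * (n⁻¹ * χ (t * t) n) * n⁻¹ by group, hM0c _ h3 n, mul_inv_cancel_right]
      exact h3
    have hord : ¬ p ∣ orderOf ((t * t : L) : G) := by
      rw [Subgroup.orderOf_coe, ← pow_two]
      exact fun hd => htp (hd.trans (orderOf_pow_dvd 2))
    have h4 := Cfsg.Comp.commute_of_commutator_commute (hN0p.to_le hMN0) hord
      (y := ((t * t : L) : G)) (q := (n : G)) h1
      (hMfix _ ⟨(t * t : L).2, hord⟩ _ h1).symm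
    apply Subtype.ext
    show (t : G) * ((t : G) * n * (t : G)⁻¹) * (t : G)⁻¹ = n
    rw [show (t : G) * ((t : G) * n * (t : G)⁻¹) * (t : G)⁻¹ = ((t * t : L) : G) * n * ((t * t : L) : G)⁻¹ by
      simp only [Subgroup.coe_mul]; group, h4, mul_inv_cancel_right]
  have hTself : T⁻¹ = T := inv_eq_of_mul_eq_one_right (MulEquiv.ext hTT)
  set Rr := χ rr with hRr
  have hRpow : Rr ^ e = 1 := by
    refine MulEquiv.ext fun n => ?_
    set δ := n⁻¹ * Rr n with hδ
    have hδM : δ ∈ M0 := by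
      have := inv_mem (hρ1' rr hrρ n)
      rwa [mul_inv_rev, inv_inv] at this
    have hi : ∀ i : ℕ, (Rr ^ i) n = n * δ ^ i := by
      intro i
      induction i with
      | zero => simp
      | succ i ih =>
        rw [pow_succ', MulAut.mul_apply, ih, map_mul, map_pow, hKfix rr hrK δ hδM,
          show Rr n = n * δ by rw [hδ, mul_inv_cancel_left], mul_assoc, ← pow_succ']
    rw [hi, hMexp δ hδM, mul_one]; rfl
  set c' := rr ^ (m + 1) * c with hc'
  set C' := χ c' with hC'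
  have hcomm : T * C' = C' * T := by
    have hC : C' = Rr ^ (m + 1) * χ c := by rw [hC', hc', map_mul, map_pow]
    have hRdef : Rr = T * χ c * T⁻¹ * (χ c)⁻¹ := by rw [hRr, hrr, map_mul, map_mul, map_mul, map_inv, map_inv]
    have h1 : T * Rr * T⁻¹ = Rr⁻¹ := by
      have hTT' : T * T = 1 := MulEquiv.ext hTT
      rw [hRdef, mul_inv_rev, mul_inv_rev, mul_inv_rev, inv_inv, inv_inv, hTself,
        show T * (T * χ c * T * (χ c)⁻¹) * T = (T * T) * (χ c * T * (χ c)⁻¹ * T) by group, hTT', one_mul,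
        ← mul_assoc, ← mul_assoc]
    have h2 : Rr ^ (m + 1) * Rr ^ (m + 1) = Rr := by
      rw [← pow_add, show m + 1 + (m + 1) = e + 1 by omega, pow_succ, hRpow, one_mul]
    have h3 : T * C' * T⁻¹ = C' := by
      calc T * C' * T⁻¹ = (T * Rr * T⁻¹) ^ (m + 1) * (T * χ c * T⁻¹) := by rw [hC, conj_pow]; group
        _ = (Rr ^ (m + 1))⁻¹ * (Rr * χ c) := by
          rw [h1, inv_pow, hRdef]; group
        _ = (Rr ^ (m + 1))⁻¹ * (Rr ^ (m + 1) * Rr ^ (m + 1) * χ c) := by rw [h2]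
        _ = C' := by rw [hC]; group
    exact mul_inv_eq_iff_eq_mul.mp h3
  have hcT : ∀ n, T (C' n) = C' (T n) := fun n => DFunLike.congr_fun hcomm n
  have hrho : ρ c' = ρ c := by rw [hc', map_mul, map_pow, hrρ, one_pow, one_mul]
  have hlift : ∀ n : N0, ∃ μ ∈ M0, T (n * μ) = (n * μ)⁻¹ := by
    intro n
    set ν := n * T n with hν
    have hνM : ν ∈ M0 := by
      rw [hν, show n * T n = n * (T n * n) * n⁻¹ by group, hM0c _ (hTinv n) n, mul_inv_cancel_right]
      exact hTinv n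
    refine ⟨(ν⁻¹) ^ (m + 1), pow_mem (inv_mem hνM) _, ?_⟩
    set μ := (ν⁻¹) ^ (m + 1) with hμ
    have hμM : μ ∈ M0 := pow_mem (inv_mem hνM) _
    have hsq : μ * μ = ν⁻¹ := by
      rw [hμ, ← pow_add, show m + 1 + (m + 1) = e + 1 by omega, pow_succ, hMexp _ (inv_mem hνM), one_mul]
    rw [map_mul, hTM μ hμM, mul_inv_rev, show T n = n⁻¹ * ν by rw [hν, inv_mul_cancel_left],
      ← hM0c _ (inv_mem hμM) n⁻¹]
    rw [mul_assoc]
    congr 1
    rw [eq_inv_iff_mul_eq_one, mul_assoc, hsq, mul_inv_cancel]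
  -- the subgroup generated by the elements inverted by `T`
  set I : Set N0 := {n | T n = n⁻¹} with hI
  set Uc := Subgroup.closure I with hUc
  have hUcM : ∀ n : N0, ∃ μ ∈ M0, n * μ ∈ Uc := fun n => by
    obtain ⟨μ, hμ, h⟩ := hlift n
    exact ⟨μ, hμ, Subgroup.subset_closure h⟩
  have hqU : ∀ u ∈ Uc, C' (u⁻¹ * C' u) = u⁻¹ * C' u := by
    rcases hcase with hc | ⟨v, hv⟩
    · have hc'K : c' ∈ Subgroup.closure {l : L | ¬ p ∣ orderOf l} := mul_mem (pow_mem hrK _) hc
      have hC'M : ∀ z ∈ M0, C' z = z := hKfix c' hc'K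
      have hq2 : ∀ n : N0, C' (n⁻¹ * C' n) = n⁻¹ * C' n := by
        intro n
        set d := n⁻¹ * C' n with hd
        obtain ⟨μ, hμ, hw⟩ := hlift d
        set w := d * μ with hwdef
        have h1 : w⁻¹ * C' w ∈ M0 := by
          have hcv := DFunLike.congr_fun hcq (Additive.ofMul (n : N0 ⧸ M0))
          rw [← hrho] at hcv
          have hcv' : σ c' (σ c' (n : N0 ⧸ M0) / (n : N0 ⧸ M0)) / (σ c' (n : N0 ⧸ M0) / (n : N0 ⧸ M0)) = 1 :=
            Additive.ofMul.injective hcv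
          have hdd : σ c' (n : N0 ⧸ M0) / (n : N0 ⧸ M0) = (d : N0 ⧸ M0) := by
            rw [hd, QuotientGroup.mk_mul, QuotientGroup.mk_inv, div_eq_mul_inv, mul_comm]; rfl
          rw [hdd] at hcv'
          have h3 : ((C' d : N0) : N0 ⧸ M0) = (d : N0 ⧸ M0) := div_eq_one.mp hcv'
          refine QuotientGroup.eq.mp ?_
          show ((d * μ : N0) : N0 ⧸ M0) = ((C' (d * μ) : N0) : N0 ⧸ M0)
          rw [map_mul, hC'M μ hμ]
          exact congrArg (· * (μ : N0 ⧸ M0)) h3.symm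
        clear_value w
        set μ1 := w⁻¹ * C' w with hμ1
        have hCw : C' w = w * μ1 := by rw [hμ1, mul_inv_cancel_left]
        have hTC : T (C' w) = (C' w)⁻¹ := by rw [hcT, hw, map_inv]
        rw [hCw, map_mul, hw, hTM μ1 h1, mul_inv_rev, ← hM0c _ (inv_mem h1) w⁻¹] at hTC
        have hsq : μ1 * μ1 = 1 := mul_eq_one_iff_eq_inv.mpr (mul_left_cancel hTC)
        have hμ11 : μ1 = 1 := by
          have h4 := hMexp μ1 h1
          rwa [hm, pow_succ, pow_mul, pow_two, hsq, one_pow, one_mul] at h4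
        have hwfix : C' w = w := by rw [hCw, hμ11, mul_one]
        rw [hwdef, map_mul, hC'M μ hμ] at hwfix
        exact mul_right_cancel hwfix
      exact fun u _ => hq2 u
    · obtain ⟨v₀, hv₀⟩ := QuotientGroup.mk_surjective (Additive.toMul v)
      -- all displacements lie in `M0` times one cyclic group
      have hline : ∀ n : N0, ∃ k : ℕ, ∃ μ ∈ M0, n⁻¹ * C' n = v₀ ^ k * μ := by
        intro n
        obtain ⟨k, hk⟩ := hv (Additive.ofMul (n : N0 ⧸ M0))
        rw [← hrho] at hk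
        have hk' : σ c' (n : N0 ⧸ M0) / (n : N0 ⧸ M0) = Additive.toMul v ^ k := Additive.ofMul.injective hk
        refine ⟨k, (v₀ ^ k)⁻¹ * (n⁻¹ * C' n), ?_, (mul_inv_cancel_left _ _).symm⟩
        refine QuotientGroup.eq.mp ?_
        rw [QuotientGroup.mk_pow, hv₀, ← hk', QuotientGroup.mk_mul, QuotientGroup.mk_inv,
          div_eq_mul_inv, mul_comm]
        rfl
      have hgen0 : ∀ n ∈ I, C' (n⁻¹ * C' n) = n⁻¹ * C' n := by
        intro n hn
        set d := n⁻¹ * C' n with hd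
        obtain ⟨μ, hμ, hw⟩ := hlift d
        set w := d * μ with hwdef
        have hC'M0 : C' μ ∈ M0 := (hM0map c').le ⟨μ, hμ, rfl⟩
        have h1 : w⁻¹ * C' w ∈ M0 := by
          have hcv := DFunLike.congr_fun hcq (Additive.ofMul (n : N0 ⧸ M0))
          rw [← hrho] at hcv
          have hcv' : σ c' (σ c' (n : N0 ⧸ M0) / (n : N0 ⧸ M0)) / (σ c' (n : N0 ⧸ M0) / (n : N0 ⧸ M0)) = 1 :=
            Additive.ofMul.injective hcv
          have hdd : σ c' (n : N0 ⧸ M0) / (n : N0 ⧸ M0) = (d : N0 ⧸ M0) := by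
            rw [hd, QuotientGroup.mk_mul, QuotientGroup.mk_inv, div_eq_mul_inv, mul_comm]; rfl
          rw [hdd] at hcv'
          have h3 : ((C' d : N0) : N0 ⧸ M0) = (d : N0 ⧸ M0) := div_eq_one.mp hcv'
          refine QuotientGroup.eq.mp ?_
          show ((d * μ : N0) : N0 ⧸ M0) = ((C' (d * μ) : N0) : N0 ⧸ M0)
          rw [map_mul]
          exact congrArg₂ (· * ·) h3.symm
            (((QuotientGroup.eq_one_iff μ).mpr hμ).trans ((QuotientGroup.eq_one_iff (C' μ)).mpr hC'M0).symm)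
        have hTC : T (C' w) = (C' w)⁻¹ := by rw [hcT, hw, map_inv]
        clear_value w
        set μ1 := w⁻¹ * C' w with hμ1
        have hCw : C' w = w * μ1 := by rw [hμ1, mul_inv_cancel_left]
        rw [hCw, map_mul, hw, hTM μ1 h1, mul_inv_rev, ← hM0c _ (inv_mem h1) w⁻¹] at hTC
        have hsq : μ1 * μ1 = 1 := mul_eq_one_iff_eq_inv.mpr (mul_left_cancel hTC)
        have hμ11 : μ1 = 1 := by
          have h4 := hMexp μ1 h1
          rwa [hm, pow_succ, pow_mul, pow_two, hsq, one_pow, one_mul] at h4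
        have hwfix : C' w = w := by rw [hCw, hμ11, mul_one]
        -- `μ ^ 2` is a commutator of inverted elements
        have hdw : d = w * μ⁻¹ := by rw [hwdef, mul_inv_cancel_right]
        have hCn : C' n = n * (w * μ⁻¹) := by rw [← hdw, hd, mul_inv_cancel_left]
        have hTCn : T (C' n) = (C' n)⁻¹ := by rw [hcT, show T n = n⁻¹ from hn, map_inv]
        have hcomμ : (μ⁻¹ * μ⁻¹ : N0) = w * n * w⁻¹ * n⁻¹ := by
          rw [hCn, map_mul, map_mul, show T n = n⁻¹ from hn, hw, hTM μ⁻¹ (inv_mem hμ), mul_inv_rev,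
            mul_inv_rev, inv_inv] at hTCn
          have e1 : μ * w⁻¹ * n⁻¹ = w⁻¹ * n⁻¹ * μ := (mul_assoc _ _ _).trans (hM0c μ hμ (w⁻¹ * n⁻¹)).symm
          rw [e1, ← mul_assoc] at hTCn
          have e2 : μ⁻¹ * μ⁻¹ = (n⁻¹ * w⁻¹)⁻¹ * (w⁻¹ * n⁻¹) := by
            rw [eq_inv_mul_iff_mul_eq, ← mul_assoc, hTCn, mul_inv_cancel_right]
          rw [e2]; group
        have hfix2 : C' (μ⁻¹ * μ⁻¹) = μ⁻¹ * μ⁻¹ := by
          have hcc : ∀ x y : N0, μ⁻¹ * x * y = x * (μ⁻¹ * y) := fun x y => by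
            rw [← hM0c _ (inv_mem hμ) x, mul_assoc]
          rw [hcomμ, map_mul, map_mul, map_mul, map_inv, map_inv, hwfix, hCn]
          rw [show w * (n * (w * μ⁻¹)) * w⁻¹ * (n * (w * μ⁻¹))⁻¹ =
            w * n * w * (μ⁻¹ * w⁻¹) * μ * w⁻¹ * n⁻¹ by group, ← hM0c _ (inv_mem hμ) w⁻¹]
          group
        have hfixμ : C' μ = μ := by
          have h2 : C' ((μ⁻¹ * μ⁻¹) ^ (m + 1)) = (μ⁻¹ * μ⁻¹) ^ (m + 1) := by rw [map_pow, hfix2]
          have hμe : (μ⁻¹ * μ⁻¹) ^ (m + 1) = μ⁻¹ := by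
            rw [← pow_two, ← pow_mul, show 2 * (m + 1) = e + 1 by omega, pow_succ, hMexp _ (inv_mem hμ), one_mul]
          rw [hμe, map_inv] at h2
          exact inv_injective h2
        rw [hdw, map_mul, map_inv, hwfix, hfixμ]
      intro u hu
      have hmon : u ∈ (Subgroup.closure I).toSubmonoid := hu
      rw [Subgroup.closure_toSubmonoid_of_finite] at hmon
      clear hu
      induction hmon using Submonoid.closure_induction with
      | mem x hx => exact hgen0 x hx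
      | one => simp
      | mul x y _ _ hx hy =>
        set dx := x⁻¹ * C' x with hdx
        set dy := y⁻¹ * C' y with hdy
        have hexp : (x * y)⁻¹ * C' (x * y) = y⁻¹ * dx * y * dy := by
          rw [hdx, hdy, map_mul]; group
        have hCy : C' y = y * dy := by rw [hdy, mul_inv_cancel_left]
        -- `dx` conjugated by `y` commutes with `dy`
        obtain ⟨i, μx, hμx, hx'⟩ := hline x
        obtain ⟨j, μy, hμy, hy'⟩ := hline y
        rw [← hdx] at hx'
        rw [← hdy] at hy'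
        obtain ⟨μc, hμc, hconjv⟩ : ∃ μc ∈ M0, y⁻¹ * dx * y = dx * μc := by
          refine ⟨dx⁻¹ * (y⁻¹ * dx * y), ?_, (mul_inv_cancel_left _ _).symm⟩
          rw [← QuotientGroup.eq_one_iff, QuotientGroup.mk_mul, QuotientGroup.mk_mul, QuotientGroup.mk_mul,
            QuotientGroup.mk_inv, QuotientGroup.mk_inv, mul_comm ((y : N0 ⧸ M0))⁻¹ _, inv_mul_cancel_right,
            inv_mul_cancel]
        have hcomd : Commute (y⁻¹ * dx * y) dy := by
          have hMc : ∀ μ ∈ M0, ∀ z : N0, Commute μ z := fun μ hμ z => (hM0c μ hμ z).symm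
          rw [hconjv, hx', hy']
          exact (((Commute.pow_pow_self v₀ i j).mul_right ((hMc μy hμy _).symm)).mul_left
            (hMc μx hμx _)).mul_left (hMc μc hμc _)
        rw [hexp, map_mul, map_mul, map_mul, map_inv, hx, hy, hCy, mul_inv_rev,
          show dy⁻¹ * y⁻¹ * dx * (y * dy) * dy = dy⁻¹ * ((y⁻¹ * dx * y) * dy) * dy by group, hcomd.eq,
          inv_mul_cancel_left]
        exact hcomd.eq
  set UG := Uc.map N0.subtype with hUG
  have hUGp : IsPGroup p UG := (hN0p.to_subgroup Uc).map N0.subtype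
  -- the elements commuting with `T` normalize `UG`
  let L' : Subgroup L := (Subgroup.centralizer ({T} : Set (MulAut N0))).comap χ
  have hL'T : ∀ l ∈ L', T * χ l = χ l * T := fun l hl =>
    (Subgroup.mem_centralizer_singleton_iff.mp hl).symm
  have hL'I : ∀ l ∈ L', ∀ u ∈ Uc, χ l u ∈ Uc := by
    intro l hl u hu
    have hmap : Uc.map (χ l).toMonoidHom ≤ Uc := by
      rw [hUc, MonoidHom.map_closure]
      refine Subgroup.closure_mono ?_
      rintro _ ⟨n, hn, rfl⟩
      show T (χ l n) = (χ l n)⁻¹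
      rw [← MulAut.mul_apply, hL'T l hl, MulAut.mul_apply, show T n = n⁻¹ from hn, map_inv]
    exact hmap ⟨u, hu, rfl⟩
  set N := Subgroup.normalizer (UG : Set G) with hN
  have hL'N : ∀ l ∈ L', (l : G) ∈ N := by
    intro l hl
    refine Subgroup.mem_normalizer_iff_map_conj_eq.mpr (Subgroup.eq_of_le_of_card_ge ?_
      (Subgroup.card_map_of_injective (MulAut.conj (l : G)).injective).ge)
    rintro _ ⟨_, ⟨u, hu, rfl⟩, rfl⟩
    exact ⟨χ l u, hL'I l hl u hu, rfl⟩
  have hc'L' : c' ∈ L' := Subgroup.mem_centralizer_singleton_iff.mpr hcomm.symm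
  have hmem : (c' : G) ∈ N := hL'N c' hc'L'
  have hquad0 : ⁅⁅UG, Subgroup.zpowers (c' : G)⁆, Subgroup.zpowers (c' : G)⁆ = ⊥ := by
    refine (H88.quad_normalizerMonoidHom_iff ⟨(c' : G), hmem⟩).mpr (H88.quad_iff.mpr ?_)
    rintro ⟨_, u, hu, rfl⟩
    have h := congrArg Subtype.val (hqU u hu)
    rw [hC'] at h
    simp only [Subgroup.coe_mul, hχ, InvMemClass.coe_inv] at h
    apply Subtype.ext
    exact h
  have hcore := hst UG hUGp (c' : G) hmem hquad0
  set CN := (Subgroup.centralizer (UG : Set G)).subgroupOf N with hCN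
  haveI : CN.Normal := inferInstance
  let f : L' →* N ⧸ CN := (QuotientGroup.mk' CN).comp
    { toFun := fun l => (⟨((l : L) : G), hL'N l l.2⟩ : N)
      map_one' := rfl
      map_mul' := fun _ _ => rfl }
  set P1 := (Cfsg.pCore p (N ⧸ CN)).comap f with hP1
  haveI := H1.pCore_normal' p (N ⧸ CN)
  have hP1n : P1.Normal := Subgroup.Normal.comap inferInstance f
  have hc'P1 : (⟨c', hc'L'⟩ : L') ∈ P1 := hcore
  have hCNσ : ∀ g : L', f g = 1 → σ (g : L) = 1 := by
    intro g hg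
    have h2 : ((g : L) : G) ∈ Subgroup.centralizer (UG : Set G) :=
      Subgroup.mem_subgroupOf.mp ((QuotientGroup.eq_one_iff (N := CN) _).mp hg)
    refine MulEquiv.ext fun v => ?_
    induction v using QuotientGroup.induction_on
    rename_i n
    rw [hσ]
    obtain ⟨μ, hμ, hnμ⟩ := hUcM n
    have h3 : χ (g : L) (n * μ) = n * μ := by
      apply Subtype.ext
      rw [hχ, ← Subgroup.mem_centralizer_iff.mp h2 ((n * μ : N0) : G) ⟨_, hnμ, rfl⟩, mul_inv_cancel_right]
    show ((χ (g : L) n : N0) : N0 ⧸ M0) = (n : N0 ⧸ M0)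
    have h4 := congrArg (fun z : N0 => (z : N0 ⧸ M0)) h3
    simp only [map_mul, QuotientGroup.mk_mul] at h4
    rwa [(QuotientGroup.eq_one_iff μ).mpr hμ,
      (QuotientGroup.eq_one_iff (χ (g : L) μ)).mpr ((hM0map (g : L)).le ⟨μ, hμ, rfl⟩), mul_one, mul_one] at h4
  set P2 := P1.map (σ.comp L'.subtype) with hP2
  have hP2p : IsPGroup p P2 := by
    clear_value f
    rintro ⟨y, hy⟩
    obtain ⟨g, hg, hgy⟩ := Subgroup.mem_map.mp hy
    have hg' : f g ∈ Cfsg.pCore p (N ⧸ CN) := Subgroup.mem_comap.mp hg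
    obtain ⟨k, hk⟩ := H1.isPGroup_pCore p (N ⧸ CN) ⟨f g, hg'⟩
    have hk' : (f g) ^ p ^ k = 1 := congrArg Subtype.val hk
    have h1 : σ ((g ^ p ^ k : L') : L) = 1 := hCNσ _ (by rw [map_pow]; exact hk')
    refine ⟨k, Subtype.ext ?_⟩
    show y ^ p ^ k = 1
    rw [← hgy, ← map_pow]
    exact h1
  -- `L'` realizes all of `σ`
  have hsurj : ∀ l : L, ∃ l' ∈ L', σ l' = σ l := by
    intro l
    set r := t * l * t⁻¹ * l⁻¹ with hr
    have hrK' : r ∈ Subgroup.closure {l : L | ¬ p ∣ orderOf l} := by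
      rw [hr, show t * l * t⁻¹ * l⁻¹ = t * (l * t⁻¹ * l⁻¹) by group]
      refine mul_mem htK (Subgroup.subset_closure ?_)
      show ¬ p ∣ orderOf (l * t⁻¹ * l⁻¹)
      rw [show l * t⁻¹ * l⁻¹ = (MulAut.conj l).toMonoidHom t⁻¹ from rfl,
        orderOf_injective _ (MulAut.conj l).injective, orderOf_inv]
      exact htp
    have hσt : ∀ g : L, σ (t * g * t⁻¹) = σ g := by
      intro g
      have h1 : ∀ v, σ t v = v⁻¹ := fun v => Additive.ofMul.injective (DFunLike.congr_fun htρ (Additive.ofMul v))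
      have h2 : σ t * σ g = σ g * σ t := MulEquiv.ext fun v => by
        rw [MulAut.mul_apply, MulAut.mul_apply, h1, h1, map_inv]
      rw [map_mul, map_mul, map_inv, h2, mul_inv_cancel_right]
    have hrσ : σ r = 1 := by rw [hr, map_mul, hσt, map_inv, mul_inv_cancel]
    have hRpow' : (χ r) ^ e = 1 := by
      refine MulEquiv.ext fun n => ?_
      set δ := n⁻¹ * χ r n with hδ
      have hδM : δ ∈ M0 := by
        have h := DFunLike.congr_fun hrσ (n : N0 ⧸ M0)
        rw [hσ] at h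
        exact QuotientGroup.eq.mp (show ((n : N0) : N0 ⧸ M0) = ((χ r n : N0) : N0 ⧸ M0) from h.symm)
      have hi : ∀ i : ℕ, ((χ r) ^ i) n = n * δ ^ i := by
        intro i
        induction i with
        | zero => simp
        | succ i ih =>
          rw [pow_succ', MulAut.mul_apply, ih, map_mul, map_pow, hKfix r hrK' δ hδM,
            show χ r n = n * δ by rw [hδ, mul_inv_cancel_left], mul_assoc, ← pow_succ']
      rw [hi, hMexp δ hδM, mul_one]; rfl
    refine ⟨r ^ (m + 1) * l, Subgroup.mem_centralizer_singleton_iff.mpr ?_, ?_⟩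
    · have hRdef : χ r = T * χ l * T⁻¹ * (χ l)⁻¹ := by rw [hr, map_mul, map_mul, map_mul, map_inv, map_inv]
      have hTT' : T * T = 1 := MulEquiv.ext hTT
      have h1 : T * χ r * T⁻¹ = (χ r)⁻¹ := by
        rw [hRdef, mul_inv_rev, mul_inv_rev, mul_inv_rev, inv_inv, inv_inv, hTself,
          show T * (T * χ l * T * (χ l)⁻¹) * T = (T * T) * (χ l * T * (χ l)⁻¹ * T) by group, hTT', one_mul,
          ← mul_assoc, ← mul_assoc]
      have h2 : (χ r) ^ (m + 1) * (χ r) ^ (m + 1) = χ r := by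
        rw [← pow_add, show m + 1 + (m + 1) = e + 1 by omega, pow_succ, hRpow', one_mul]
      have h3 : T * χ (r ^ (m + 1) * l) * T⁻¹ = χ (r ^ (m + 1) * l) := by
        rw [map_mul, map_pow]
        calc T * ((χ r) ^ (m + 1) * χ l) * T⁻¹ = (T * χ r * T⁻¹) ^ (m + 1) * (T * χ l * T⁻¹) := by
              rw [conj_pow]; group
          _ = ((χ r) ^ (m + 1))⁻¹ * (χ r * χ l) := by rw [h1, inv_pow, hRdef]; group
          _ = ((χ r) ^ (m + 1))⁻¹ * ((χ r) ^ (m + 1) * (χ r) ^ (m + 1) * χ l) := by rw [h2]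
          _ = _ := by group
      exact (mul_inv_eq_iff_eq_mul.mp h3).symm
    · rw [map_mul, map_pow, hrσ, one_pow, one_mul]
  have hcardV : p ∣ Nat.card (N0 ⧸ M0) := by
    obtain ⟨k, hk⟩ := IsPGroup.iff_card.mp (hN0p.to_quotient M0)
    rcases Nat.eq_zero_or_pos k with h0 | h0
    · exfalso
      rw [h0, pow_zero, ← Subgroup.index_eq_card, Subgroup.index_eq_one, Subgroup.subgroupOf_eq_top] at hk
      exact hMne (le_antisymm hMN0 hk)
    · rw [hk]; exact dvd_pow_self p h0.ne'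
  have h1fix : (1 : N0 ⧸ M0) ∈ MulAction.fixedPoints P2 (N0 ⧸ M0) := fun g => map_one (g : MulAut (N0 ⧸ M0))
  obtain ⟨v, hv, hv1⟩ := hP2p.exists_fixed_point_of_prime_dvd_card_of_fixed_point (N0 ⧸ M0) hcardV h1fix
  let U : AddSubgroup (Additive (N0 ⧸ M0)) :=
    { carrier := {u | ∀ g ∈ P1, σ (g : L) (Additive.toMul u) = Additive.toMul u}
      zero_mem' := fun g _ => map_one (σ (g : L))
      add_mem' := fun {a b} ha hb g hg => by rw [toMul_add, map_mul, ha g hg, hb g hg]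
      neg_mem' := fun {a} ha g hg => by rw [toMul_neg, map_inv, ha g hg] }
  rcases hirr U (fun l u hu g hg => by
    obtain ⟨l', hl', hσl⟩ := hsurj l
    have h1 := hu _ (hP1n.conj_mem g hg (⟨l', hl'⟩ : L')⁻¹)
    rw [inv_inv, Subgroup.coe_mul, Subgroup.coe_mul, Subgroup.coe_inv, map_mul, map_mul, map_inv,
      MulAut.mul_apply, MulAut.mul_apply, hσl] at h1
    show σ (g : L) (σ l (Additive.toMul u)) = σ l (Additive.toMul u)
    have h2 := congrArg (σ l) h1
    rwa [MulAut.apply_inv_self] at h2) with hb | ht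
  · have : Additive.ofMul v ∈ U := fun g hg => hv ⟨σ (g : L), g, hg, rfl⟩
    rw [hb, AddSubgroup.mem_bot] at this
    exact hv1 (Additive.ofMul.injective this).symm
  · refine hc1 (hrho ▸ ?_)
    refine AddMonoidHom.ext fun u => ?_
    have h1 : u ∈ U := ht.symm ▸ AddSubgroup.mem_top u
    refine (hρ c' u).trans ?_
    rw [show σ c' (Additive.toMul u) = Additive.toMul u from h1 ⟨c', hc'L'⟩ hc'P1]; rfl

/-- For `p` odd, normalizer `p`-stability is inherited by the quotient by a central `p`-subgroup. -/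
theorem isNormalizerPStable_quotient_central_odd (hp : p ≠ 2) (hst : Cfsg.IsNormalizerPStable p G)
    (Z : Subgroup G) [Z.Normal] (hZc : Z ≤ Subgroup.center G) (hZp : IsPGroup p Z) :
    Cfsg.IsNormalizerPStable p (G ⧸ Z) := by
  classical
  have hp' := (Fact.out : p.Prime)
  intro Pb hPb xb hxb hq
  set π := QuotientGroup.mk' Z with hπ
  have hπs : Function.Surjective π := QuotientGroup.mk'_surjective Z
  set P := Pb.comap π with hPdef
  have hP : IsPGroup p P := hPb.comap_of_ker_isPGroup π (by rw [hπ, QuotientGroup.ker_mk']; exact hZp)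
  have hPmap : P.map π = Pb := Subgroup.map_comap_eq_self_of_surjective hπs Pb
  set N := Subgroup.normalizer (P : Set G) with hN
  set Nb := Subgroup.normalizer (Pb : Set (G ⧸ Z)) with hNb
  have hNmap : ∀ g ∈ N, π g ∈ Nb := by
    intro g hg
    have := Subgroup.le_normalizer_map π ⟨g, hg, rfl⟩
    rwa [hPmap] at this
  have hNlift : ∀ g : G, π g ∈ Nb → g ∈ N := by
    intro g hg
    refine Subgroup.mem_normalizer_iff.mpr fun u => ?_
    rw [hPdef, Subgroup.mem_comap, Subgroup.mem_comap, map_mul, map_mul, map_inv]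
    exact Subgroup.mem_normalizer_iff.mp hg (π u)
  set CN := (Subgroup.centralizer (Pb : Set (G ⧸ Z))).subgroupOf Nb with hCN
  haveI : CN.Normal := inferInstance
  let F : N →* Nb ⧸ CN := (QuotientGroup.mk' CN).comp
    ((π.comp N.subtype).codRestrict Nb fun g => hNmap g g.2)
  have hFs : Function.Surjective F := by
    intro q
    obtain ⟨⟨nb, hnb⟩, rfl⟩ := QuotientGroup.mk_surjective q
    obtain ⟨n, rfl⟩ := hπs nb
    exact ⟨⟨n, hNlift n hnb⟩, rfl⟩
  obtain ⟨x, rfl⟩ := hπs xb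
  have hxN : x ∈ N := hNlift x hxb
  show F ⟨x, hxN⟩ ∈ Cfsg.pCore p (Nb ⧸ CN)
  have hquadx : ∀ u ∈ P, ⁅x, ⁅x, u⁆⁆ ∈ Z := by
    intro u hu
    rw [← QuotientGroup.eq_one_iff]
    show π ⁅x, ⁅x, u⁆⁆ = 1
    rw [map_commutatorElement, map_commutatorElement]
    have h1 : ⁅π x, π u⁆ ∈ ⁅Pb, Subgroup.zpowers (π x)⁆ := by
      rw [Subgroup.commutator_comm]
      exact Subgroup.commutator_mem_commutator (Subgroup.mem_zpowers _) (hu : π u ∈ Pb)
    have h2 : ⁅π x, ⁅π x, π u⁆⁆ ∈ ⁅⁅Pb, Subgroup.zpowers (π x)⁆, Subgroup.zpowers (π x)⁆ := by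
      rw [Subgroup.commutator_comm ⁅Pb, Subgroup.zpowers (π x)⁆]
      exact Subgroup.commutator_mem_commutator (Subgroup.mem_zpowers _) h1
    rwa [hq, Subgroup.mem_bot] at h2
  refine H65.mem_pCore_of_pairs fun q => ?_
  obtain ⟨⟨g, hg⟩, rfl⟩ := hFs q
  set y := g * x * g⁻¹ with hy
  have hyN : y ∈ N := N.mul_mem (N.mul_mem hg hxN) (N.inv_mem hg)
  have hquady : ∀ u ∈ P, ⁅y, ⁅y, u⁆⁆ ∈ Z := by
    intro u hu
    have hu' : g⁻¹ * u * g ∈ P := by
      have := (Subgroup.mem_normalizer_iff.mp (N.inv_mem hg) u).mp hu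
      simpa using this
    have h1 : ⁅y, ⁅y, u⁆⁆ = g * ⁅x, ⁅x, g⁻¹ * u * g⁆⁆ * g⁻¹ := by
      simp only [hy, commutatorElement_def]; group
    rw [h1]
    exact ‹Z.Normal›.conj_mem _ (hquadx _ hu') g
  have hFy : F ⟨g, hg⟩ * F ⟨x, hxN⟩ * (F ⟨g, hg⟩)⁻¹ = F ⟨y, hyN⟩ := by
    rw [← map_inv, ← map_mul, ← map_mul]; rfl
  rw [hFy, ← Set.image_pair, ← MonoidHom.map_closure]
  rintro ⟨_, l, hl, rfl⟩
  set e := (orderOf l).factorization p
  refine ⟨e, Subtype.ext ?_⟩
  rw [SubmonoidClass.coe_pow, ← map_pow, OneMemClass.coe_one]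
  have hlo : ¬ p ∣ orderOf (l ^ p ^ e) := by
    rw [orderOf_pow_of_dvd (pow_ne_zero _ hp'.ne_zero) (Nat.ordProj_dvd _ _)]
    exact Nat.not_dvd_ordCompl hp' (orderOf_pos _).ne'
  have hlc : ((l ^ p ^ e : N) : G) ∈ Subgroup.centralizer (P : Set G) := by
    by_contra hne
    refine stable_pair_false_odd hp hst Z hZc P hP x y hxN hyN hquadx hquady ⟨_, ?_, ?_, hne⟩
    · have hmap : ((l ^ p ^ e : N) : G) ∈
          (Subgroup.closure ({⟨x, hxN⟩, ⟨y, hyN⟩} : Set N)).map N.subtype := ⟨_, pow_mem hl _, rfl⟩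
      rw [MonoidHom.map_closure, Set.image_pair] at hmap
      exact hmap
    · rw [Subgroup.orderOf_coe]; exact hlo
  refine (QuotientGroup.eq_one_iff _).mpr ?_
  refine Subgroup.mem_centralizer_iff.mpr fun u hu => ?_
  rw [SetLike.mem_coe, ← hPmap] at hu
  obtain ⟨v, hv, rfl⟩ := hu
  show π v * π ((l ^ p ^ e : N) : G) = π ((l ^ p ^ e : N) : G) * π v
  rw [← map_mul, ← map_mul, Subgroup.mem_centralizer_iff.mp hlc v hv]

end H72
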