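/-
A 2-subgroup of a conjugate of a tightly embedded subgroup `Q` acting on `Q`.
-/
import Cfsg.Prelude.Def_Local
import Cfsg.Agent.H72.ConjBasics
import Mathlib

set_option autoImplicit false
open Cfsg

namespace H72

variable {G : Type*} [Group G]

/-- Conjugate subgroup. -/
abbrev conjSub (g : G) (A : Subgroup G) : Subgroup G := A.map (MulAut.conj g).toMonoidHom

theorem conjSub_mul (g h : G) (A : Subgroup G) : conjSub (g * h) A = conjSub g (conjSub h A) := by
  rw [conjSub, conjSub, conjSub, Subgroup.map_map]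
  congr 1
  ext x
  simp [mul_assoc]

theorem conjSub_one (A : Subgroup G) : conjSub (1 : G) A = A := by ext; simp

theorem card_conjSub (g : G) (A : Subgroup G) : Nat.card (conjSub g A) = Nat.card A :=
  Subgroup.card_map_of_injective (MulAut.conj g).injective

theorem conjSub_inf (g : G) (A B : Subgroup G) : conjSub g (A ⊓ B) = conjSub g A ⊓ conjSub g B :=
  Subgroup.map_inf _ _ _ (MulAut.conj g).injective

theorem mem_conjSub {g x : G} {A : Subgroup G} : x ∈ conjSub g A ↔ g⁻¹ * x * g ∈ A := by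
  constructor
  · rintro ⟨a, ha, rfl⟩; simpa [mul_assoc] using ha
  · intro h; exact ⟨_, h, by simp [mul_assoc]⟩

/-- Two conjugates of a tightly embedded subgroup meeting in even order are equal. -/
theorem conjSub_eq_of_even {Q : Subgroup G} (hQ : Cfsg.IsTightlyEmbedded Q) (a b : G)
    (h : Even (Nat.card ↥(conjSub a Q ⊓ conjSub b Q))) : conjSub a Q = conjSub b Q := by
  by_contra hne
  have hn : a⁻¹ * b ∉ Subgroup.normalizer (Q : Set G) := fun hm => hne (by
    conv_lhs => rw [← mem_normalizer_of_map_eq.mpr hm]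
    show conjSub a (conjSub (a⁻¹ * b) Q) = _
    rw [← conjSub_mul, mul_inv_cancel_left])
  have h2 := hQ.2 _ hn
  rw [← card_conjSub a, conjSub_inf, show Q.map (MulAut.conj (a⁻¹ * b)).toMonoidHom = conjSub (a⁻¹ * b) Q from rfl,
    ← conjSub_mul, mul_inv_cancel_left] at h2
  exact (Nat.not_even_iff_odd.mpr h2) h

theorem eq_one_of_mem_odd {A : Subgroup G} (hA : Odd (Nat.card A)) {T : Subgroup G} (hT : IsPGroup 2 T)
    {x : G} (hxA : x ∈ A) (hxT : x ∈ T) : x = 1 := by
  obtain ⟨k, hk⟩ := IsPGroup.iff_orderOf.mp hT ⟨x, hxT⟩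
  rw [← Subgroup.orderOf_coe] at hk
  have h1 : orderOf x ∣ Nat.card A := Subgroup.orderOf_dvd_natCard A hxA
  rw [hk] at h1
  rcases k with _ | k
  · exact orderOf_eq_one_iff.mp (by simpa using hk)
  · exact absurd ((dvd_pow_self 2 k.succ_ne_zero).trans h1) (by rw [← even_iff_two_dvd, Nat.not_even_iff_odd]; exact hA)

variable [Finite G]

theorem odd_inf_of_ne {Q : Subgroup G} (hQ : Cfsg.IsTightlyEmbedded Q) {a b : G}
    (h : conjSub a Q ≠ conjSub b Q) : Odd (Nat.card ↥(conjSub a Q ⊓ conjSub b Q)) :=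
  Nat.not_even_iff_odd.mp fun he => h (conjSub_eq_of_even hQ a b he)

/-- Elements normalising a non-trivial 2-subgroup of a conjugate normalise that conjugate. -/
theorem normalizer_le_normalizer {Q : Subgroup G} (hQ : Cfsg.IsTightlyEmbedded Q) {a : G} {T : Subgroup G}
    (hT1 : T ≠ ⊥) (hT2 : IsPGroup 2 T) (hTQ : T ≤ conjSub a Q) :
    Subgroup.normalizer (T : Set G) ≤ Subgroup.normalizer (conjSub a Q : Set G) := by
  intro x hx
  rw [← mem_normalizer_of_map_eq]
  show conjSub x (conjSub a Q) = _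
  rw [← conjSub_mul]
  by_contra hne
  obtain ⟨t, htT, ht⟩ := (Subgroup.ne_bot_iff_exists_ne_one).mp hT1 |> fun ⟨⟨t, h⟩, h'⟩ =>
    (⟨t, h, fun e => h' (Subtype.ext e)⟩ : ∃ t, t ∈ T ∧ t ≠ 1)
  refine ht (eq_one_of_mem_odd (odd_inf_of_ne hQ hne) hT2 (Subgroup.mem_inf.mpr ⟨?_, hTQ htT⟩) htT)
  rw [conjSub_mul, mem_conjSub]
  refine hTQ ?_
  have := (Subgroup.mem_normalizer_iff.mp ((Subgroup.normalizer (T : Set G)).inv_mem hx) t).mp htT
  simpa using this

/-- Main computation. -/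
theorem tight_step {Q : Subgroup G} (hQ : Cfsg.IsTightlyEmbedded Q) (a b : G)
    (hab : conjSub a Q ≠ conjSub b Q) (T : Subgroup G) (hT1 : T ≠ ⊥) (hT2 : IsPGroup 2 T)
    (hTb : T ≤ conjSub b Q) (hTn : T ≤ Subgroup.normalizer (conjSub a Q : Set G))
    (S : Subgroup G) (hTS : T ≤ S) (hS : S ≤ conjSub a Q ⊔ T) (hS2 : IsPGroup 2 S)
    (hSsyl : ¬ 2 ∣ S.relIndex (conjSub a Q ⊔ T)) :
    let R := S ⊓ Subgroup.normalizer (T : Set G) ⊓ conjSub a Q
    (∀ t ∈ T, ∀ r ∈ R, t * r = r * t) ∧ T ⊔ R = S ⊓ Subgroup.normalizer (T : Set G) ∧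
      T ⊓ conjSub a Q = ⊥ ∧ R ≤ Subgroup.normalizer (conjSub b Q : Set G) ∧
      Nat.card T ≤ Nat.card R ∧ (Nat.card R = Nat.card T → Nonempty (R ≃* T)) := by
  intro R
  set A := conjSub a Q with hA
  set B := conjSub b Q with hB
  have hodd : Odd (Nat.card ↥(A ⊓ B)) := odd_inf_of_ne hQ hab
  have hTA : ∀ x, x ∈ T → x ∈ A → x = 1 := fun x hx hxA => eq_one_of_mem_odd hodd hT2 ⟨hxA, hTb hx⟩ hx
  have hdec : ∀ x ∈ S, ∃ q ∈ S ⊓ A, ∃ t ∈ T, q * t = x := by
    intro x hx
    have h := hS hx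
    rw [← SetLike.mem_coe, Subgroup.coe_mul_of_right_le_normalizer_left A T hTn] at h
    obtain ⟨q, hq, t, ht, rfl⟩ := h
    exact ⟨q, ⟨by simpa using S.mul_mem hx (S.inv_mem (hTS ht)), hq⟩, t, ht, rfl⟩
  have hcomm : ∀ t ∈ T, ∀ r ∈ R, t * r = r * t := by
    intro t ht r hr
    have h1 : t * r * t⁻¹ * r⁻¹ ∈ A :=
      A.mul_mem ((Subgroup.mem_normalizer_iff.mp (hTn ht) r).mp hr.2) (A.inv_mem hr.2)
    have h2 : t * r * t⁻¹ * r⁻¹ ∈ T := by
      rw [show t * r * t⁻¹ * r⁻¹ = t * (r * t⁻¹ * r⁻¹) by group]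
      exact T.mul_mem ht ((Subgroup.mem_normalizer_iff.mp hr.1.2 t⁻¹).mp (T.inv_mem ht))
    have h3 := hTA _ h2 h1
    rw [mul_inv_eq_one, mul_inv_eq_iff_eq_mul] at h3
    exact h3
  have hsup : T ⊔ R = S ⊓ Subgroup.normalizer (T : Set G) := by
    refine le_antisymm (sup_le (le_inf hTS Subgroup.le_normalizer) inf_le_left) fun x hx => ?_
    obtain ⟨q, hq, t, ht, rfl⟩ := hdec x hx.1
    refine Subgroup.mul_mem _ (Subgroup.mem_sup_right ⟨⟨hq.1, ?_⟩, hq.2⟩) (Subgroup.mem_sup_left ht)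
    have h5 := (Subgroup.normalizer (T : Set G)).mul_mem hx.2
      ((Subgroup.normalizer (T : Set G)).inv_mem (Subgroup.le_normalizer ht))
    simpa using h5
  have hdis : T ⊓ A = ⊥ := (Subgroup.eq_bot_iff_forall _).mpr fun x hx => hTA x hx.1 hx.2
  have hRB : R ≤ Subgroup.normalizer (B : Set G) :=
    (inf_le_left.trans inf_le_right).trans (normalizer_le_normalizer hQ hT1 hT2 hTb)
  refine ⟨hcomm, hsup, hdis, hRB, ?_⟩
  by_cases hnorm : S ≤ Subgroup.normalizer (T : Set G)
  · have hR : R = S ⊓ A := by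
      simp only [R, inf_eq_left.mpr hnorm, hA]
    have hcS : Nat.card (S : Subgroup G) = Nat.card ↥(S ⊓ A) * Nat.card T := by
      rw [← Nat.card_prod]
      refine (Nat.card_eq_of_bijective (fun z : ↥(S ⊓ A) × T =>
        (⟨(z.1 : G) * z.2, S.mul_mem z.1.2.1 (hTS z.2.2)⟩ : S)) ⟨?_, ?_⟩).symm
      · intro z w hzw
        have h' : (z.1 : G) * z.2 = w.1 * w.2 := congrArg Subtype.val hzw
        have h'' : ((w.1 : G))⁻¹ * z.1 = w.2 * (z.2 : G)⁻¹ := by
          rw [eq_mul_inv_iff_mul_eq, mul_assoc, h', inv_mul_cancel_left]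
        have h3 := hTA _ (h'' ▸ T.mul_mem w.2.2 (T.inv_mem z.2.2)) (A.mul_mem (A.inv_mem w.1.2.2) z.1.2.2)
        have h4 : (z.1 : G) = w.1 := (inv_mul_eq_one.mp h3).symm
        rw [h4, mul_right_inj] at h'
        exact Prod.ext (Subtype.ext h4) (Subtype.ext h')
      · rintro ⟨x, hx⟩
        obtain ⟨q, hq, t, ht, rfl⟩ := hdec x hx
        exact ⟨(⟨q, hq⟩, ⟨t, ht⟩), rfl⟩
    have hcQT : Nat.card ↥(A ⊔ T) = Nat.card A * Nat.card T := by
      rw [← Nat.card_prod]
      refine (Nat.card_eq_of_bijective (fun z : A × T =>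
        (⟨(z.1 : G) * z.2, Subgroup.mul_mem _ (Subgroup.mem_sup_left z.1.2) (Subgroup.mem_sup_right z.2.2)⟩ :
          ↥(A ⊔ T))) ⟨?_, ?_⟩).symm
      · intro z w hzw
        have h' : (z.1 : G) * z.2 = w.1 * w.2 := congrArg Subtype.val hzw
        have h'' : ((w.1 : G))⁻¹ * z.1 = w.2 * (z.2 : G)⁻¹ := by
          rw [eq_mul_inv_iff_mul_eq, mul_assoc, h', inv_mul_cancel_left]
        have h3 := hTA _ (h'' ▸ T.mul_mem w.2.2 (T.inv_mem z.2.2)) (A.mul_mem (A.inv_mem w.1.2) z.1.2)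
        have h4 : (z.1 : G) = w.1 := (inv_mul_eq_one.mp h3).symm
        rw [h4, mul_right_inj] at h'
        exact Prod.ext (Subtype.ext h4) (Subtype.ext h')
      · rintro ⟨x, hx⟩
        rw [← SetLike.mem_coe, Subgroup.coe_mul_of_right_le_normalizer_left A T hTn] at hx
        obtain ⟨q, hq, t, ht, rfl⟩ := hx
        exact ⟨(⟨q, hq⟩, ⟨t, ht⟩), rfl⟩
    have hidx : (S ⊓ A).relIndex A = S.relIndex (A ⊔ T) := by
      have h1 := Subgroup.relIndex_mul_relIndex ⊥ S (A ⊔ T) bot_le hS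
      have h2 := Subgroup.relIndex_mul_relIndex ⊥ (S ⊓ A) A bot_le inf_le_right
      rw [Subgroup.relIndex_bot_left, Subgroup.relIndex_bot_left] at h1 h2
      rw [hcS, hcQT, ← h2] at h1
      have h3 : 0 < Nat.card ↥(S ⊓ A) * Nat.card T := Nat.mul_pos Nat.card_pos Nat.card_pos
      exact (Nat.eq_of_mul_eq_mul_left h3 (by rw [h1]; ring)).symm
    -- pull both back into `Q`
    have hRs : IsPGroup 2 ((conjSub a⁻¹ R).subgroupOf Q) := by
      refine IsPGroup.of_equiv ((hS2.to_le (inf_le_left.trans inf_le_left)).map _)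
        (Subgroup.subgroupOfEquivOfLe ?_).symm
      rintro _ ⟨x, hx, rfl⟩
      have := (mem_conjSub.mp hx.2)
      simpa using this
    have hRQ : conjSub a⁻¹ R ≤ Q := by
      rintro _ ⟨x, hx, rfl⟩
      have := (mem_conjSub.mp hx.2)
      simpa using this
    have hTQ : conjSub b⁻¹ T ≤ Q := by
      rintro _ ⟨x, hx, rfl⟩
      have := (mem_conjSub.mp (hTb hx))
      simpa using this
    have hRidx : ¬ 2 ∣ ((conjSub a⁻¹ R).subgroupOf Q).index := by
      show ¬ 2 ∣ (conjSub a⁻¹ R).relIndex Q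
      have h : (conjSub a⁻¹ R).relIndex (conjSub a⁻¹ A) = R.relIndex A :=
        Subgroup.relIndex_map_map_of_injective _ _ (MulAut.conj a⁻¹).injective
      rw [show conjSub a⁻¹ A = Q by rw [hA, ← conjSub_mul, inv_mul_cancel, conjSub_one]] at h
      rw [h, hR, hidx]; exact hSsyl
    let P₁ : Sylow 2 Q := hRs.toSylow hRidx
    have hTs : IsPGroup 2 ((conjSub b⁻¹ T).subgroupOf Q) :=
      IsPGroup.of_equiv (hT2.map _) (Subgroup.subgroupOfEquivOfLe hTQ).symm
    obtain ⟨P₂, hP₂⟩ := hTs.exists_le_sylow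
    have e1 : Nat.card (P₁ : Subgroup Q) = Nat.card R := by
      show Nat.card ↥((conjSub a⁻¹ R).subgroupOf Q) = _
      rw [Nat.card_congr (Subgroup.subgroupOfEquivOfLe hRQ).toEquiv, card_conjSub]
    have e2 : Nat.card ((conjSub b⁻¹ T).subgroupOf Q) = Nat.card T := by
      rw [Nat.card_congr (Subgroup.subgroupOfEquivOfLe hTQ).toEquiv, card_conjSub]
    have e3 : Nat.card (P₂ : Subgroup Q) = Nat.card (P₁ : Subgroup Q) := by
      rw [P₂.card_eq_multiplicity, P₁.card_eq_multiplicity]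
    refine ⟨by rw [← e1, ← e3, ← e2]; exact Subgroup.card_le_of_le hP₂, fun hcard => ?_⟩
    have heq : (conjSub b⁻¹ T).subgroupOf Q = (P₂ : Subgroup Q) :=
      Subgroup.eq_of_le_of_card_ge hP₂ (by rw [e3, e1, e2, hcard])
    exact ⟨(((R.equivMapOfInjective _ (MulAut.conj a⁻¹).injective).trans
      ((Subgroup.subgroupOfEquivOfLe hRQ).symm)).trans
      (((Sylow.equiv P₁ P₂).trans (MulEquiv.subgroupCongr heq.symm)).trans
      (Subgroup.subgroupOfEquivOfLe hTQ))).trans (T.equivMapOfInjective _ (MulAut.conj b⁻¹).injective).symm⟩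
  · set M := S ⊓ Subgroup.normalizer (T : Set G) with hM
    have hlt : M.subgroupOf S < ⊤ := lt_top_iff_ne_top.mpr fun h =>
      hnorm ((Subgroup.subgroupOf_eq_top.mp h).trans inf_le_right)
    have hnil : Group.IsNilpotent S := hS2.isNilpotent
    obtain ⟨y, hyn, hyM⟩ := SetLike.exists_of_lt (normalizerCondition_of_isNilpotent (M.subgroupOf S) hlt)
    obtain ⟨q, hq, t, ht, hqt⟩ := hdec y y.2
    have htM : t ∈ M := ⟨hTS ht, Subgroup.le_normalizer ht⟩
    have hqn : ∀ m ∈ M, q * m * q⁻¹ ∈ M := by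
      intro m hm
      have h1 : t⁻¹ * m * t ∈ M := M.mul_mem (M.mul_mem (M.inv_mem htM) hm) htM
      have h2 := (Subgroup.mem_normalizer_iff.mp hyn ⟨t⁻¹ * m * t, h1.1⟩).mp h1
      rw [Subgroup.mem_subgroupOf] at h2
      simp only [Subgroup.coe_mul, InvMemClass.coe_inv] at h2
      rw [← hqt] at h2
      convert h2 using 1
      group
    have hqT : q ∉ Subgroup.normalizer (T : Set G) := fun h => hyM (by
      rw [Subgroup.mem_subgroupOf, ← hqt]
      exact ⟨S.mul_mem hq.1 (hTS ht), (Subgroup.normalizer (T : Set G)).mul_mem h (Subgroup.le_normalizer ht)⟩)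
    have hqB : q ∉ Subgroup.normalizer (B : Set G) := by
      intro h
      refine hqT (mem_normalizer_of_map_le ?_)
      rintro _ ⟨x, hx, rfl⟩
      have h1 : q * x * q⁻¹ ∈ M := hqn x ⟨hTS hx, Subgroup.le_normalizer hx⟩
      obtain ⟨r, hr, t', ht', he⟩ := hdec _ h1.1
      have hrB : r ∈ B := by
        have : r = q * x * q⁻¹ * t'⁻¹ := by rw [← he, mul_inv_cancel_right]
        rw [this]
        exact B.mul_mem ((Subgroup.mem_normalizer_iff.mp h x).mp (hTb hx)) (B.inv_mem (hTb ht'))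
      have hr1 : r = 1 := eq_one_of_mem_odd hodd hS2 ⟨hr.2, hrB⟩ hr.1
      rw [hr1, one_mul] at he
      simp only [MulEquiv.coe_toMonoidHom, MulAut.conj_apply]
      rwa [← he]
    have hne : conjSub (q * b) Q ≠ conjSub b Q := fun h => hqB (by
      rw [← mem_normalizer_of_map_eq]
      show conjSub q B = B
      rw [hB, ← conjSub_mul]; exact h)
    have hodd' := odd_inf_of_ne hQ hne
    let ι : R × T →* G := MonoidHom.noncommCoprod R.subtype T.subtype fun r t => (hcomm t t.2 r r.2).symm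
    have hιinj : Function.Injective ι := by
      rw [injective_iff_map_eq_one]
      rintro ⟨r, t⟩ h
      have h' : (r : G) * t = 1 := h
      have ht1 : (t : G) = 1 := hTA t t.2 (by
        rw [← inv_eq_of_mul_eq_one_right h']; exact A.inv_mem r.2.2)
      rw [ht1, mul_one] at h'
      exact Prod.ext (Subtype.ext h') (Subtype.ext ht1)
    have hrange : ι.range = M := by
      show (MonoidHom.noncommCoprod R.subtype T.subtype fun r t => (hcomm t t.2 r r.2).symm).range = M
      erw [MonoidHom.noncommCoprod_range, Subgroup.subtype_range, Subgroup.subtype_range, sup_comm, hsup]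
    let e := (MonoidHom.ofInjective hιinj).trans (MulEquiv.subgroupCongr hrange)
    let c : T →* M :=
      { toFun := fun x => ⟨q * x * q⁻¹, hqn x ⟨hTS x.2, Subgroup.le_normalizer x.2⟩⟩
        map_one' := Subtype.ext (by simp)
        map_mul' := fun x y => Subtype.ext (by simp [mul_assoc]) }
    let f : T →* R := (MonoidHom.fst R T).comp (e.symm.toMonoidHom.comp c)
    have hf : Function.Injective f := by
      rw [injective_iff_map_eq_one]
      intro x hx
      have h1 : (e.symm (c x)).1 = 1 := hx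
      have h2 : ι (e.symm (c x)) = q * (x : G) * q⁻¹ := by
        have := congrArg Subtype.val (e.apply_symm_apply (c x))
        exact this
      have h3 : q * (x : G) * q⁻¹ ∈ T := by
        rw [← h2]
        show ((e.symm (c x)).1 : G) * ((e.symm (c x)).2 : G) ∈ T
        rw [h1, OneMemClass.coe_one, one_mul]; exact (e.symm (c x)).2.2
      have h4 : q * (x : G) * q⁻¹ = 1 := eq_one_of_mem_odd hodd' hT2 (Subgroup.mem_inf.mpr ⟨by
        rw [conjSub_mul, mem_conjSub]
        rw [show q⁻¹ * (q * (x : G) * q⁻¹) * q = (x : G) by group]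
        exact hTb x.2, hTb h3⟩) h3
      refine Subtype.ext ?_
      simpa using h4
    refine ⟨Nat.card_le_card_of_injective f hf, fun hcard => ?_⟩
    exact ⟨(MulEquiv.ofBijective f ((Nat.bijective_iff_injective_and_card f).mpr ⟨hf, hcard.symm⟩)).symm⟩

end H72
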