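import Cfsg.Agent.H72.ZJFusion

/-!
The fusion theorem for `Z(J(S))` in a class of `p`-stable groups closed under subgroups and central
`p`-quotients.
-/

set_option autoImplicit false
set_option linter.style.haveILetI false
open Cfsg

namespace H72

universe u

/-- A class of `p`-stable groups closed under subgroups and quotients by central `p`-subgroups. -/
structure StableClass (p : ℕ) (Φ : ∀ (H : Type u) [Group H], Prop) : Prop where
  stable : ∀ (H : Type u) [Group H] [Finite H], Φ H → Cfsg.IsNormalizerPStable p H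
  inj : ∀ {H K : Type u} [Group H] [Group K] [Finite K] (f : H →* K), Function.Injective f → Φ K → Φ H
  quot : ∀ (H : Type u) [Group H] [Finite H], Φ H → ∀ (Z : Subgroup H) [Z.Normal],
    Z ≤ Subgroup.center H → IsPGroup p Z → Φ (H ⧸ Z)

variable {G : Type u} [Group G] [Finite G] {p : ℕ} [Fact p.Prime] {Φ : ∀ (H : Type u) [Group H], Prop}

/-- Stability passes to the quotient by a normal `p`-subgroup whose centralizer, with a Sylow
subgroup, generates the group. -/
theorem class_quotient_of_centralizer_sup (hΦ : StableClass p Φ) :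
    ∀ (n : ℕ) (G : Type u) [Group G] [Finite G], Nat.card G ≤ n → Φ G →
      ∀ (S : Sylow p G) (Q : Subgroup G) [Q.Normal], Q ≤ (S : Subgroup G) →
      Subgroup.centralizer (Q : Set G) ⊔ (S : Subgroup G) = ⊤ → Φ (G ⧸ Q) := by
  intro n
  induction n with
  | zero => intro G _ _ hn; exact absurd (Nat.card_pos (α := G)) (by omega)
  | succ n ih =>
  intro G _ _ hn hst S Q _ hQS htop
  by_cases hQ : Q = ⊥
  · exact hΦ.inj
      ((QuotientGroup.quotientBot (G := G)).toMonoidHom.comp (QuotientGroup.quotientMulEquivOfEq hQ).toMonoidHom)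
      (((QuotientGroup.quotientBot (G := G)).injective).comp (QuotientGroup.quotientMulEquivOfEq hQ).injective) hst
  have hne : Q.subgroupOf (S : Subgroup G) ≠ ⊥ := by
    intro h
    rw [Subgroup.subgroupOf_eq_bot, disjoint_iff, inf_of_le_left hQS] at h
    exact hQ h
  haveI : (Q.subgroupOf (S : Subgroup G)).Normal := inferInstance
  obtain ⟨z, hzQ, hzc, hzp⟩ := H6.exists_mem_center_orderOf S.isPGroup' hne
  have hzcen : (z : G) ∈ Subgroup.center G := by
    have h1 : Subgroup.centralizer (Q : Set G) ⊔ (S : Subgroup G) ≤ Subgroup.centralizer ({(z : G)} : Set G) := by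
      refine sup_le ?_ ?_
      · intro c hc
        exact Subgroup.mem_centralizer_singleton_iff.mpr
          (Subgroup.mem_centralizer_iff.mp hc _ (Subgroup.mem_subgroupOf.mp hzQ)).symm
      · intro s hs
        exact Subgroup.mem_centralizer_singleton_iff.mpr
          (congrArg Subtype.val (Subgroup.mem_center_iff.mp hzc ⟨s, hs⟩))
    rw [htop] at h1
    exact Subgroup.mem_center_iff.mpr fun g =>
      (Subgroup.mem_centralizer_singleton_iff.mp (h1 (Subgroup.mem_top g)))
  set Z := Subgroup.zpowers (z : G) with hZ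
  have hZc : Z ≤ Subgroup.center G := Subgroup.zpowers_le.mpr hzcen
  have hZQ : Z ≤ Q := Subgroup.zpowers_le.mpr (Subgroup.mem_subgroupOf.mp hzQ)
  haveI hZn : Z.Normal := ⟨fun a ha g => by
    rw [Subgroup.mem_center_iff.mp (hZc ha) g, mul_inv_cancel_right]; exact ha⟩
  have hZp : IsPGroup p Z := S.isPGroup'.to_le (hZQ.trans hQS)
  have hZne : Z ≠ ⊥ := by
    intro h
    rw [hZ, Subgroup.zpowers_eq_bot] at h
    rw [show z = 1 from Subtype.ext h, orderOf_one] at hzp
    exact (Fact.out : p.Prime).ne_one hzp.symm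
  have hst1 := hΦ.quot G hst Z hZc hZp
  set π := QuotientGroup.mk' Z with hπ
  have hπs : Function.Surjective π := QuotientGroup.mk'_surjective Z
  haveI : (Q.map π).Normal := Subgroup.Normal.map inferInstance π hπs
  have hcard : Nat.card (G ⧸ Z) ≤ n := by
    have := H10.card_quotient_lt Z hZne
    omega
  have htop1 : Subgroup.centralizer ((Q.map π : Subgroup (G ⧸ Z)) : Set (G ⧸ Z)) ⊔
      ((S.mapSurjective hπs : Sylow p (G ⧸ Z)) : Subgroup (G ⧸ Z)) = ⊤ := by
    rw [eq_top_iff, ← Subgroup.map_top_of_surjective π hπs, ← htop, Subgroup.map_sup]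
    refine sup_le_sup ?_ (le_of_eq (Sylow.coe_mapSurjective _ _).symm)
    rintro _ ⟨c, hc, rfl⟩
    refine Subgroup.mem_centralizer_iff.mpr ?_
    rintro _ ⟨q, hq, rfl⟩
    rw [← map_mul, ← map_mul, Subgroup.mem_centralizer_iff.mp hc q hq]
  have h2 := ih (G ⧸ Z) hcard hst1 (S.mapSurjective hπs) (Q.map π)
    (by rw [Sylow.coe_mapSurjective]; exact Subgroup.map_mono hQS) htop1
  exact hΦ.inj (QuotientGroup.quotientQuotientEquivQuotient Z Q hZQ).symm.toMonoidHom
    (QuotientGroup.quotientQuotientEquivQuotient Z Q hZQ).symm.injective h2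

/-- Fusion control in a proper subgroup, obtained by induction. -/
theorem class_lower_of_ih (hΦ : StableClass p Φ) (hst : Φ G) {n : ℕ}
    (ih : ∀ (H : Type u) [Group H] [Finite H], Nat.card H ≤ n → Φ H →
      ∀ (R : Sylow p H) (U : Subgroup H), U ≤ (R : Subgroup H) → ∀ g : H,
        (∀ u ∈ U, g * u * g⁻¹ ∈ (R : Subgroup H)) → H79.Induced (H79.ZJ p true (R : Subgroup H)) U g)
    (hn : Nat.card G ≤ n + 1) (H : Subgroup G) (hH : H ≠ ⊤) (R : Subgroup G) (hRH : R ≤ H)
    (hR : IsPGroup p R) (hmax : ∀ T : Subgroup G, IsPGroup p T → T ≤ H → Nat.card T ≤ Nat.card R)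
    (U : Subgroup G) (hU : U ≤ R) (g : G) (hg : g ∈ H) (hgU : ∀ u ∈ U, g * u * g⁻¹ ∈ R) :
    ∃ m ∈ H ⊓ Subgroup.normalizer ((H79.ZJ p true R : Subgroup G) : Set G),
      ∀ u ∈ U, g * u * g⁻¹ = m * u * m⁻¹ := by
  have hcard : Nat.card H ≤ n := by
    have := lt_of_le_of_ne (Subgroup.card_le_card_group H) fun e => hH (Subgroup.eq_top_of_card_eq H e)
    omega
  obtain ⟨S, hS⟩ := (hR.comap_of_injective H.subtype H.subtype_injective :
    IsPGroup p (R.subgroupOf H)).exists_le_sylow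
  have hSeq : (S : Subgroup H) = R.subgroupOf H := by
    refine (Subgroup.eq_of_le_of_card_ge hS ?_).symm
    show Nat.card (S : Subgroup H) ≤ Nat.card (R.subgroupOf H)
    rw [Nat.card_congr (Subgroup.subgroupOfEquivOfLe hRH).toEquiv,
      ← Subgroup.card_map_of_injective H.subtype_injective]
    exact hmax _ (S.isPGroup'.map _) (Subgroup.map_subtype_le _)
  obtain ⟨m, hm, hm'⟩ := ih H hcard (hΦ.inj H.subtype H.subtype_injective hst) S (U.subgroupOf H)
    (hSeq ▸ Subgroup.comap_mono hU) ⟨g, hg⟩ (fun u hu => by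
      rw [hSeq, Subgroup.mem_subgroupOf]
      exact hgU u hu)
  refine ⟨(m : G), ⟨m.2, ?_⟩, fun u hu =>
    congrArg Subtype.val (hm' ⟨u, hRH (hU hu)⟩ hu)⟩
  have hmap : (H79.ZJ p true (S : Subgroup H)).map H.subtype = H79.ZJ p true R := by
    rw [H79.ZJ_map (fun x _ hx => H.subtype_injective (hx.trans (map_one _).symm)), hSeq,
      Subgroup.map_subgroupOf_eq_of_le hRH]
  rw [← hmap]
  exact Subgroup.le_normalizer_map _ ⟨m, hm, rfl⟩

/-- The fusion theorem, by induction on the order. -/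
theorem zj_induced_class (hp : p ≠ 2) (hΦ : StableClass p Φ) :
    ∀ (n : ℕ) (G : Type u) [Group G] [Finite G], Nat.card G ≤ n → Φ G →
      ∀ (S : Sylow p G) (U : Subgroup G), U ≤ (S : Subgroup G) → ∀ g : G,
        (∀ u ∈ U, g * u * g⁻¹ ∈ (S : Subgroup G)) → H79.Induced (H79.ZJ p true (S : Subgroup G)) U g := by
  classical
  intro n
  induction n with
  | zero => intro G _ _ hn; exact absurd (Nat.card_pos (α := G)) (by omega)
  | succ n ih =>
  intro G _ _ hn hst S U hU g hg
  haveI := H1.pCore_normal' p G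
  set Q := Cfsg.pCore p G with hQ
  have hQS : Q ≤ (S : Subgroup G) := H1.pCore_le_sylow S
  have hlower := fun H hH R hRH hR hmax => class_lower_of_ih (G := G) hΦ hst ih hn H hH R hRH hR hmax
  by_cases hQ1 : Q = ⊥
  · refine H79.induced_of_local S (fun T => H79.ZJ p true T) (fun T _ => H79.ZJ_le T)
      (fun T _ => H79.ZJ_normalizer_le T) ?_ ?_ U hU g hg
    · intro T hT hT1 _
      refine H79.ZJ_ne_bot (S.isPGroup'.to_inf_left) fun h => hT1 (le_bot_iff.mp ?_)
      rw [← h]
      exact le_inf hT Subgroup.le_normalizer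
    · intro T hT hT1 hfull m hm V hV hmV
      have hne : Subgroup.normalizer (T : Set G) ≠ ⊤ := fun e => by
        haveI : T.Normal := Subgroup.normalizer_eq_top_iff.mp e
        exact hT1 (le_bot_iff.mp (hQ1 ▸ H1.le_pCore (S.isPGroup'.to_le hT)))
      exact hlower _ hne _ inf_le_right S.isPGroup'.to_inf_left (fun A hA hAN => hfull A hA hAN) V hV m hm hmV
  -- the subgroup `U` may be assumed to contain `Q`
  suffices hmain : ∀ U : Subgroup G, U ≤ (S : Subgroup G) → Q ≤ U → ∀ g : G,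
      (∀ u ∈ U, g * u * g⁻¹ ∈ (S : Subgroup G)) → H79.Induced (H79.ZJ p true (S : Subgroup G)) U g by
    obtain ⟨x, hx, hx'⟩ := hmain (U ⊔ Q) (sup_le hU hQS) le_sup_right g (by
      intro v hv
      rw [← SetLike.mem_coe, Subgroup.mul_normal] at hv
      obtain ⟨u, hu, q, hq, rfl⟩ := hv
      rw [show g * (u * q) * g⁻¹ = (g * u * g⁻¹) * (g * q * g⁻¹) by group]
      exact mul_mem (hg u hu) (hQS ((H1.pCore_normal' p G).conj_mem q hq g)))
    exact ⟨x, hx, fun u hu => hx' u (Subgroup.mem_sup_left hu)⟩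
  clear hU hg U g
  intro U hU hQU g hg
  have hsub : ∀ H : Subgroup G, H ≠ ⊤ → (S : Subgroup G) ≤ H → ∀ V ≤ (S : Subgroup G), ∀ a ∈ H,
      (∀ v ∈ V, a * v * a⁻¹ ∈ (S : Subgroup G)) →
      ∃ m ∈ H ⊓ Subgroup.normalizer ((H79.ZJ p true (S : Subgroup G) : Subgroup G) : Set G),
        ∀ v ∈ V, a * v * a⁻¹ = m * v * m⁻¹ :=
    fun H hH hSH V hV a ha haV =>
      hlower H hH _ hSH S.isPGroup' (fun A hA _ => card_le_sylow S A hA) V hV a ha haV
  by_cases hcon : (S : Subgroup G) ⊓ Subgroup.centralizer (Q : Set G) ≤ Q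
  · obtain ⟨m, hm, hm'⟩ := H79.constrained_factor hp (hΦ.stable G hst) (isPConstrained_of_inf_le S hcon) true S
      (S : Subgroup G) ⟨le_rfl, fun _ _ _ h => h⟩ g U hU hg
    exact ⟨m, hm, hm'⟩
  haveI : (Subgroup.centralizer (Q : Set G)).Normal := inferInstanceAs (Subgroup.centralizer _).Normal
  set T := (S : Subgroup G) ⊓ (Subgroup.centralizer (Q : Set G) ⊔ Q) with hT
  have hNT : Subgroup.normalizer (T : Set G) ≠ ⊤ := fun e => hcon (by
    haveI : T.Normal := Subgroup.normalizer_eq_top_iff.mp e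
    have hTp : IsPGroup p T := S.isPGroup'.to_inf_left
    exact le_trans (inf_le_inf_left _ le_sup_left) (H1.le_pCore hTp))
  have hSNT : (S : Subgroup G) ≤ Subgroup.normalizer (T : Set G) :=
    H79.le_normalizer_of_conj_mem fun s hs y hy =>
      ⟨(S : Subgroup G).mul_mem ((S : Subgroup G).mul_mem hs hy.1) ((S : Subgroup G).inv_mem hs),
        (inferInstance : (Subgroup.centralizer (Q : Set G) ⊔ Q).Normal).conj_mem y hy.2 s⟩
  by_cases htop : Subgroup.centralizer (Q : Set G) ⊔ (S : Subgroup G) = ⊤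
  · set π := QuotientGroup.mk' Q with hπ
    have hπs : Function.Surjective π := QuotientGroup.mk'_surjective Q
    have hcard : Nat.card (G ⧸ Q) ≤ n := by
      have := H10.card_quotient_lt Q hQ1
      omega
    have hbar := ih (G ⧸ Q) hcard
      (class_quotient_of_centralizer_sup hΦ (Nat.card G) G le_rfl hst S Q hQS htop)
    obtain ⟨m, hm, hm'⟩ := fusion_mem_normalizer_preimage S Q hQS htop hbar U hU hQU g hg
    set Wb := H79.ZJ p true ((S : Subgroup G).map π) with hWb
    set N := (Subgroup.normalizer (Wb : Set (G ⧸ Q))).comap π with hN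
    have hne : N ≠ ⊤ := by
      intro e
      have e1 : Subgroup.normalizer (Wb : Set (G ⧸ Q)) = ⊤ := eq_top_iff.mpr fun y _ => by
        obtain ⟨x, rfl⟩ := hπs y
        exact (e.ge (Subgroup.mem_top x) : x ∈ N)
      haveI : Wb.Normal := Subgroup.normalizer_eq_top_iff.mp e1
      have hSbp : IsPGroup p ((S : Subgroup G).map π) := S.isPGroup'.map π
      refine H79.ZJ_ne_bot (p := p) (b := true) hSbp (fun h0 => hcon ?_)
        (le_bot_iff.mp ((H10.pCore_quotient_pCore (p := p) (G := G)) ▸ H1.le_pCore (hSbp.to_le (H79.ZJ_le _))))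
      rw [Subgroup.map_eq_bot_iff, hπ, QuotientGroup.ker_mk'] at h0
      exact inf_le_left.trans h0
    obtain ⟨k, hk, hk'⟩ := hsub N hne (fun s hs => H79.ZJ_normalizer_le _ (Subgroup.le_normalizer ⟨s, hs, rfl⟩))
      U hU m hm (fun u hu => hm' u hu ▸ hg u hu)
    exact ⟨k, hk.2, fun u hu => (hm' u hu).trans (hk' u hu)⟩
  · obtain ⟨a, b, ha, hb, hbU, hab⟩ := fusion_factor S Q hQS U hU g hg
    obtain ⟨m₁, hm₁, hm₁'⟩ := hsub _ htop le_sup_right U hU b hb hbU
    obtain ⟨m₂, hm₂, hm₂'⟩ := hsub _ hNT hSNT (U.map (MulAut.conj b).toMonoidHom)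
      (by rintro _ ⟨u, hu, rfl⟩; exact hbU u hu) a ha
      (by
        rintro _ ⟨u, hu, rfl⟩
        show a * (b * u * b⁻¹) * a⁻¹ ∈ _
        rw [show a * (b * u * b⁻¹) * a⁻¹ = g * u * g⁻¹ by rw [hab]; group]
        exact hg u hu)
    refine ⟨m₂ * m₁, mul_mem hm₂.2 hm₁.2, fun u hu => ?_⟩
    have h2 : a * (b * u * b⁻¹) * a⁻¹ = m₂ * (b * u * b⁻¹) * m₂⁻¹ := hm₂' _ ⟨u, hu, rfl⟩
    calc g * u * g⁻¹ = a * (b * u * b⁻¹) * a⁻¹ := by rw [hab]; group
      _ = m₂ * m₁ * u * (m₂ * m₁)⁻¹ := by rw [h2, hm₁' u hu]; group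

end H72
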